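import Groth.Agent.Lib.DivisorExt
import Groth.Agent.S8914
import Groth.Agent.H28.CechAug
import Groth.Agent.QCoh.TensorSections
import Groth.Agent.PPSheaf.Gr
import Groth.Agent.H23.PicInv
import Groth.Prelude.Def_FGA

/-!
# Classes of ideal sheaves of effective Cartier divisors
-/

set_option autoImplicit false
set_option linter.style.haveILetI false
set_option backward.isDefEq.respectTransparency false
set_option backward.isDefEq.respectTransparency.types false
set_option maxHeartbeats 1000000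

universe u

open CategoryTheory CategoryTheory.Limits AlgebraicGeometry TopologicalSpace Opposite
open Groth.Agent.H23
open scoped Groth.Agent.H23.PicMul

noncomputable section

namespace Groth.Agent.H26.IdealCl

variable {X : Scheme.{u}}

/-- A monomorphism into `O` whose image on affine opens is the ideal identifies the source with the ideal. -/
theorem exists_iso_of_range {P : X.Modules} (φ : P ⟶ Coh.structureModule X) [Mono φ] (I : X.IdealSheafData)
    (h : ∀ U : X.affineOpens, Set.range (fun s : Γ(P, U.1) => OmegaSh.fnSect X U.1 (φ.app U.1 s)) =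
      ↑(I.ideal U)) : ∃ e : P ≅ ClSub.idealMod I, e.hom ≫ ClSub.idealModι I = φ := by
  have hz : φ ≫ ClSub.toSubscheme I = 0 := by
    apply Scheme.Modules.hom_ext
    intro W
    ext s
    refine AModX.eq_of_locally (M := ClSub.quotMod I) _ _ fun p hp => ?_
    obtain ⟨_, ⟨A, hA, rfl⟩, hpA, hAW⟩ :=
      X.isBasis_affineOpens.exists_subset_of_mem_open (show p ∈ (W : X.Opens) from hp) W.2
    refine ⟨A, hAW, hpA, ?_⟩
    rw [show AModX.res (ClSub.quotMod I) hAW ((0 : P ⟶ ClSub.quotMod I).app W s) = 0 from map_zero _,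
      ← AModX.app_res]
    have hm : OmegaSh.fnSect X A (φ.app A (AModX.res P hAW s)) ∈ I.ideal ⟨A, hA⟩ :=
      (h ⟨A, hA⟩).le ⟨_, rfl⟩
    rw [← I.ker_subschemeι_app, RingHom.mem_ker] at hm
    exact hm
  let ψ : P ⟶ ClSub.idealMod I := kernel.lift _ φ hz
  have hψ : ψ ≫ ClSub.idealModι I = φ := kernel.lift_ι _ _ _
  haveI : Mono ψ := by
    haveI : Mono (ψ ≫ ClSub.idealModι I) := by rw [hψ]; infer_instance
    exact mono_of_mono ψ (ClSub.idealModι I)
  have key : ∀ (U : X.Opens) (s : Γ(P, U)),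
      OmegaSh.idealSect I U (ψ.app U s) = OmegaSh.fnSect X U (φ.app U s) := fun U s => by
    rw [OmegaSh.idealSect_apply, ← hψ]; rfl
  haveI : IsIso ψ := H28.CechAug.isIso_of_affine ψ fun A hA => by
    constructor
    · intro a b hab
      have hinj := QCoh.app_injective φ A
      exact hinj (by rw [← hψ]; exact congrArg ((ClSub.idealModι I).app A) hab)
    · intro t
      obtain ⟨s, hs⟩ := (h ⟨A, hA⟩).ge (OmegaLib.idealSect_mem I ⟨A, hA⟩ t)
      exact ⟨s, OmegaLib.idealSect_injective I A ((key A s).trans hs)⟩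
  exact ⟨asIso ψ, hψ⟩

theorem nonempty_iso_of_range {P : X.Modules} (φ : P ⟶ Coh.structureModule X) [Mono φ] (I : X.IdealSheafData)
    (h : ∀ U : X.affineOpens, Set.range (fun s : Γ(P, U.1) => OmegaSh.fnSect X U.1 (φ.app U.1 s)) =
      ↑(I.ideal U)) : Nonempty (P ≅ ClSub.idealMod I) := ⟨(exists_iso_of_range φ I h).choose⟩

theorem isEquivalence_tensor {A : X.Modules} (hA : PicF.IsInvertible A) :
    (DCoh.tensorBi.obj A).IsEquivalence := by
  obtain ⟨A', -, ⟨e⟩⟩ := PicInv.exists_inverse hA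
  obtain ⟨c⟩ := PicMul.comm A' A
  let e' : (DCoh.tensorBi.obj A').obj A ≅ Coh.structureModule X := c ≪≫ e
  exact (CategoryTheory.Equivalence.mk (DCoh.tensorBi.obj A) (DCoh.tensorBi.obj A')
    (CurveRR.cancelIso (A := A') (B := A) e').symm (CurveRR.cancelIso e)).isEquivalence_functor

theorem isInvertible_idealMod {I : X.IdealSheafData} (hI : BlowUp.IsEffCartierIdeal I) :
    PicF.IsInvertible (ClSub.idealMod I) := (S8914.result I).2 hI

/-- Multiplicativity. -/
theorem nonempty_tensor_iso (I J : X.IdealSheafData) (hJ : BlowUp.IsEffCartierIdeal J) :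
    Nonempty (CohB1.tensorMod (ClSub.idealMod J) (ClSub.idealMod I) ≅ ClSub.idealMod (J * I)) := by
  haveI := isEquivalence_tensor (isInvertible_idealMod hJ)
  haveI : Mono (ClSub.idealModι I) := inferInstanceAs (Mono (kernel.ι _))
  haveI : Mono (ClSub.idealModι J) := inferInstanceAs (Mono (kernel.ι _))
  haveI : Mono (DivisorExt.mulIdeal I (ClSub.idealMod J)) := by
    haveI : Mono ((DCoh.tensorBi.obj (ClSub.idealMod J)).map (ClSub.idealModι I)) := inferInstance
    exact mono_comp _ _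
  let φ : (DCoh.tensorBi.obj (ClSub.idealMod J)).obj (ClSub.idealMod I) ⟶ Coh.structureModule X :=
    DivisorExt.mulIdeal I (ClSub.idealMod J) ≫ ClSub.idealModι J
  haveI : Mono φ := mono_comp (DivisorExt.mulIdeal I (ClSub.idealMod J)) (ClSub.idealModι J)
  refine nonempty_iso_of_range φ (J * I) fun U => ?_
  have key : ∀ a b, OmegaSh.fnSect X U.1 (φ.app U.1 (QCoh.tmS _ _ a b)) =
      OmegaSh.idealSect J U.1 a * OmegaSh.idealSect I U.1 b := by
    intro a b
    show OmegaSh.fnSect X U.1 ((ClSub.idealModι J).app U.1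
      ((DivisorExt.mulIdeal I (ClSub.idealMod J)).app U.1 (QCoh.tmS _ _ a b))) = _
    rw [DivisorExt.mulIdeal_tmS, ← OmegaSh.idealSect_apply, OmegaLib.idealSect_smul, mul_comm]
  let F : Γ((DCoh.tensorBi.obj (ClSub.idealMod J)).obj (ClSub.idealMod I), U.1) →+ Γ(X, U.1) :=
    (OmegaSh.fnSect X U.1).comp (φ.app U.1).hom
  ext x
  constructor
  · rintro ⟨s, rfl⟩
    obtain ⟨t, rfl⟩ := (QCoh.bijective_tmLin (M := ClSub.idealMod J) (N := ClSub.idealMod I)
      (PPSheaf.isQCoh_idealMod J) (PPSheaf.isQCoh_idealMod I) U.2).2 s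
    induction t using TensorProduct.induction_on with
    | zero => show F _ ∈ (J * I).ideal U; rw [map_zero, map_zero]; exact zero_mem _
    | tmul a b =>
      show OmegaSh.fnSect X U.1 (φ.app U.1 (QCoh.tmLin _ _ U.1 (a ⊗ₜ b))) ∈ (J * I).ideal U
      rw [QCoh.tmLin_tmul, key]
      exact Ideal.mul_mem_mul (OmegaLib.idealSect_mem J U a) (OmegaLib.idealSect_mem I U b)
    | add p q hp hq => show F _ ∈ (J * I).ideal U; rw [map_add, map_add]; exact add_mem hp hq
  · intro hx
    have hx' : x ∈ J.ideal U * I.ideal U := hx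
    refine Submodule.mul_induction_on hx' (fun a ha b hb => ?_) fun a b ha hb => ?_
    · obtain ⟨a', rfl⟩ := OmegaLib.exists_of_mem J U a ha
      obtain ⟨b', rfl⟩ := OmegaLib.exists_of_mem I U b hb
      exact ⟨_, key a' b'⟩
    · obtain ⟨p, rfl⟩ := ha
      obtain ⟨q, rfl⟩ := hb
      exact ⟨p + q, map_add F p q⟩

theorem isEffCartier_mul {I J : X.IdealSheafData} (hI : BlowUp.IsEffCartierIdeal I)
    (hJ : BlowUp.IsEffCartierIdeal J) : BlowUp.IsEffCartierIdeal (J * I) := by
  obtain ⟨e⟩ := nonempty_tensor_iso I J hJ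
  exact (S8914.result (J * I)).1 (PicMul.isInvertible_of_iso e
    (PicMul.isInvertible_tensor (isInvertible_idealMod hJ) (isInvertible_idealMod hI)))

/-- An ideal sheaf generated by one regular global function. -/
theorem cl_principal (I : X.IdealSheafData) (t : ∀ U : X.Opens, Γ(X, U))
    (hres : ∀ {U V : X.Opens} (h : V ≤ U), X.presheaf.map (homOfLE h).op (t U) = t V)
    (hnzd : ∀ U : X.affineOpens, t U.1 ∈ nonZeroDivisors Γ(X, U.1))
    (hI : ∀ U : X.affineOpens, I.ideal U = Ideal.span {t U.1}) : PicF.cl (ClSub.idealMod I) = 1 := by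
  let φ : Coh.structureModule X ⟶ Coh.structureModule X :=
    QCoh.homOfTop (P := Coh.structureModule X) (OmegaSh.strSect X ⊤ (t ⊤))
  have happ : ∀ (U : X.Opens) (s : Γ(Coh.structureModule X, U)),
      OmegaSh.fnSect X U (φ.app U s) = OmegaSh.fnSect X U s * t U := by
    intro U s
    show OmegaSh.fnSect X U ((QCoh.homOfTop (P := Coh.structureModule X) (OmegaSh.strSect X ⊤ (t ⊤))).app U
      (OmegaSh.fnSect X U s)) = _
    rw [QCoh.homOfTop_app]
    exact congrArg (OmegaSh.fnSect X U s * ·) (hres (le_top : U ≤ ⊤))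
  haveI : Mono φ := by
    have hinj : ∀ U : X.Opens, Function.Injective (φ.app U) := fun U => by
      refine (injective_iff_map_eq_zero _).2 fun s hs => AModX.eq_of_locally (M := Coh.structureModule X) _ _ fun p hp => ?_
      obtain ⟨_, ⟨A, hA, rfl⟩, hpA, hAU⟩ :=
        X.isBasis_affineOpens.exists_subset_of_mem_open (show p ∈ (U : X.Opens) from hp) U.2
      refine ⟨A, hAU, hpA, ?_⟩
      have h1 := congrArg (OmegaSh.fnSect X A) (AModX.app_res φ hAU s)
      rw [hs, map_zero, map_zero, happ] at h1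
      rw [map_zero]
      exact (mem_nonZeroDivisors_iff_right.1 (hnzd ⟨A, hA⟩) _ h1)
    exact ⟨fun g h w => by
      apply Scheme.Modules.hom_ext
      intro W
      ext a
      exact hinj W (congrArg (fun ψ => Scheme.Modules.Hom.app ψ W a) w)⟩
  obtain ⟨e⟩ := nonempty_iso_of_range φ I fun U => by
    rw [hI U]
    ext x
    refine ⟨?_, fun hx => ?_⟩
    · rintro ⟨s, rfl⟩
      exact Ideal.mem_span_singleton'.2 ⟨_, (happ U.1 s).symm⟩
    · obtain ⟨a, rfl⟩ := Ideal.mem_span_singleton'.1 hx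
      exact ⟨OmegaSh.strSect X U.1 a, happ U.1 _⟩
  exact (PicMul.cl_eq_iff.2 ⟨e⟩).symm

theorem isEffCartier_top : BlowUp.IsEffCartierIdeal (⊤ : X.IdealSheafData) := fun x => by
  obtain ⟨U, hU, hxU, -⟩ := exists_isAffineOpen_mem_and_subset (x := x) (U := ⊤) trivial
  exact ⟨⟨U, hU⟩, hxU, 1, one_mem _, by simp⟩

theorem cl_one : PicF.cl (ClSub.idealMod (1 : X.IdealSheafData)) = 1 :=
  cl_principal _ (fun _ => 1) (fun _ => map_one _) (fun _ => one_mem _) fun U => by simp

theorem cl_mul (I J : X.IdealSheafData) (hJ : BlowUp.IsEffCartierIdeal J) :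
    PicF.cl (ClSub.idealMod (J * I)) = PicF.cl (ClSub.idealMod J) * PicF.cl (ClSub.idealMod I) := by
  obtain ⟨e⟩ := nonempty_tensor_iso I J hJ
  rw [← PicMul.cl_tensor]
  exact (PicMul.cl_eq_iff.2 ⟨e⟩).symm

theorem eff_and_cl_prod {ι : Type*} (s : Finset ι) (I : ι → X.IdealSheafData)
    (hI : ∀ i, BlowUp.IsEffCartierIdeal (I i)) (a : ι → ℕ) :
    BlowUp.IsEffCartierIdeal (∏ i ∈ s, I i ^ a i) ∧
      PicF.cl (ClSub.idealMod (∏ i ∈ s, I i ^ a i)) = ∏ i ∈ s, PicF.cl (ClSub.idealMod (I i)) ^ a i := by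
  classical
  have hpow : ∀ (J : X.IdealSheafData), BlowUp.IsEffCartierIdeal J → ∀ n : ℕ, BlowUp.IsEffCartierIdeal (J ^ n) ∧
      PicF.cl (ClSub.idealMod (J ^ n)) = PicF.cl (ClSub.idealMod J) ^ n := by
    intro J hJ n
    induction n with
    | zero => exact ⟨by rw [pow_zero]; simpa using isEffCartier_top (X := X), by rw [pow_zero, pow_zero]; exact cl_one⟩
    | succ n ih =>
      rw [pow_succ']
      exact ⟨isEffCartier_mul ih.1 hJ, by rw [cl_mul _ _ hJ, ih.2, pow_succ']⟩
  induction s using Finset.induction with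
  | empty => exact ⟨by simpa using isEffCartier_top (X := X), by simpa using cl_one⟩
  | insert i s hi ih =>
    rw [Finset.prod_insert hi, Finset.prod_insert hi]
    obtain ⟨h1, h2⟩ := hpow (I i) (hI i) (a i)
    exact ⟨isEffCartier_mul ih.1 h1, by rw [cl_mul _ _ h1, h2, ih.2]⟩

theorem cl_tensorList : ∀ l : List X.Modules, PicF.cl (FGA.tensorList l) = (l.map PicF.cl).prod
  | [] => rfl
  | M :: l => by
    show PicF.cl (CohB1.tensorMod M (FGA.tensorList l)) = _
    rw [PicMul.cl_tensor, cl_tensorList l, List.map_cons, List.prod_cons]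

theorem cl_multiTwist {n : ℕ} (L : Fin n → X.Modules) (a : Fin n → ℕ) :
    PicF.cl (FGA.multiTwist L a) = ∏ i, PicF.cl (L i) ^ a i := by
  rw [FGA.multiTwist, cl_tensorList, List.map_map]
  simp only [Function.comp_def, PicMul.cl_tensorPow]
  exact (Fin.prod_univ_def _).symm

end Groth.Agent.H26.IdealCl
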