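import Groth.Agent.H26.ArInter
import Groth.Agent.ModPairLib.Basic
import Groth.Agent.DivX.MeroMod
import Groth.Agent.PPSheaf.Unit
import Groth.Agent.S1604
import Groth.Agent.S8862

/-!
# The intersection number of a vertical curve with an effective divisor not containing it

It is the length of the intersection scheme.
-/

set_option autoImplicit false
set_option linter.style.haveILetI false
set_option backward.isDefEq.respectTransparency false
set_option backward.isDefEq.respectTransparency.types false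
set_option maxHeartbeats 1000000

universe u

open CategoryTheory CategoryTheory.Limits AlgebraicGeometry TopologicalSpace Opposite
open Groth.Agent.H23
open scoped Groth.Agent.H23.PicMul

noncomputable section

namespace Groth.Agent.H26.InterDiv

theorem map_pullElt {X Y : Scheme.{u}} (r : X ⟶ Y) {L M : Y.Modules} (v : L ⟶ M) {U : Y.Opens} (e : Γ(L, U)) :
    ((Scheme.Modules.pullback r).map v).app (r ⁻¹ᵁ U) (InvX.pullElt r e) = InvX.pullElt r (v.app U e) :=
  (congrArg (fun φ => φ.app U e) ((Scheme.Modules.pullbackPushforwardAdjunction r).unit.naturality v)).symm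

/-- The inverse image of the ideal of an effective Cartier divisor. -/
theorem nonempty_pullback_idealMod {C X : Scheme.{u}} (f : C ⟶ X) (I : X.IdealSheafData)
    (hI : BlowUp.IsEffCartierIdeal I) (hI' : BlowUp.IsEffCartierIdeal (I.comap f)) :
    Nonempty ((Scheme.Modules.pullback f).obj (ClSub.idealMod I) ≅ ClSub.idealMod (I.comap f)) := by
  let φ : (Scheme.Modules.pullback f).obj (ClSub.idealMod I) ⟶ Coh.structureModule C :=
    (Scheme.Modules.pullback f).map (ClSub.idealModι I) ≫ PPSheaf.pullUnit f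
  -- frames
  have key : ∀ x : C, ∃ (V : C.affineOpens) (_ : x ∈ V.1)
      (e : Γ((Scheme.Modules.pullback f).obj (ClSub.idealMod I), V.1)) (s : Γ(C, V.1)),
      InvX.IsFrame e ∧ φ.app V.1 e = OmegaSh.strSect C V.1 s ∧ (I.comap f).ideal V = Ideal.span {s} := by
    intro x
    obtain ⟨U₀, hx₀, e₀, he₀⟩ := InvX.exists_frame (IdealCl.isInvertible_idealMod hI) (f x)
    obtain ⟨U, hU, hxU, hUU⟩ := exists_isAffineOpen_mem_and_subset hx₀
    let e := AModX.res (ClSub.idealMod I) hUU e₀
    have he : InvX.IsFrame e := he₀.res _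
    have hspan : I.ideal ⟨U, hU⟩ = Ideal.span {OmegaSh.idealSect I U e} := by
      refine le_antisymm (fun g hg => ?_) ?_
      · obtain ⟨k, hk⟩ := OmegaLib.exists_of_mem I ⟨U, hU⟩ g hg
        obtain ⟨r, hr⟩ := he.exists_coord le_rfl k
        rw [AModX.res_self] at hr
        rw [← hk, hr, OmegaLib.idealSect_smul]
        exact Ideal.mul_mem_left _ r (Ideal.mem_span_singleton_self _)
      · rw [Ideal.span_singleton_le_iff_mem]
        exact OmegaLib.idealSect_mem I ⟨U, hU⟩ e
    obtain ⟨V, hV, hxV, hVU⟩ := exists_isAffineOpen_mem_and_subset (show x ∈ f ⁻¹ᵁ U from hxU)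
    refine ⟨⟨V, hV⟩, hxV, AModX.res _ hVU (InvX.pullElt f e),
      f.appLE U V hVU (OmegaSh.idealSect I U e), (InvX.isFrame_pullElt f he).res _, ?_, ?_⟩
    · have h1 : φ.app (f ⁻¹ᵁ U) (InvX.pullElt f e) =
          OmegaSh.strSect C (f ⁻¹ᵁ U) (f.app U (OmegaSh.idealSect I U e)) := by
        show (PPSheaf.pullUnit f).app _ (((Scheme.Modules.pullback f).map (ClSub.idealModι I)).app _ _) = _
        rw [map_pullElt]
        exact PPSheaf.pullUnit_pullSect f U (OmegaSh.idealSect I U e)
      rw [AModX.app_res, h1]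
      rfl
    · rw [ModPairLib.ideal_comap I f ⟨U, hU⟩ ⟨V, hV⟩ hVU, hspan, Ideal.map_span, Set.image_singleton]
  have hz : φ ≫ ClSub.toSubscheme (I.comap f) = 0 := by
    choose V hxV e s he hφ hs using key
    refine InvX.hom_ext_of_frames (fun x => (V x).1) (fun x => ⟨x, hxV x⟩) e he fun x => ?_
    show (ClSub.toSubscheme (I.comap f)).app (V x).1 (φ.app (V x).1 (e x)) = 0
    rw [hφ, OmegaSh.toSubscheme_app_strSect]
    have : s x ∈ (I.comap f).ideal (V x) := hs x ▸ Ideal.mem_span_singleton_self _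
    rwa [← (I.comap f).ker_subschemeι_app, RingHom.mem_ker] at this
  let ψ : (Scheme.Modules.pullback f).obj (ClSub.idealMod I) ⟶ ClSub.idealMod (I.comap f) :=
    kernel.lift _ φ hz
  have hψ : ψ ≫ ClSub.idealModι (I.comap f) = φ := kernel.lift_ι _ _ _
  suffices IsIso ψ from ⟨asIso ψ⟩
  refine DivX.isIso_of_frames ψ fun x => ?_
  obtain ⟨V, hxV, e, s, he, hφ, hs⟩ := key x
  obtain ⟨W₀, hxW₀, k₀, hk₀⟩ := InvX.exists_frame (IdealCl.isInvertible_idealMod hI') x
  obtain ⟨W, hW, hxW, hWle⟩ := exists_isAffineOpen_mem_and_subset (show x ∈ V.1 ⊓ W₀ from ⟨hxV, hxW₀⟩)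
  have hWV : W ≤ V.1 := hWle.trans inf_le_left
  let k := AModX.res (ClSub.idealMod (I.comap f)) (hWle.trans inf_le_right) k₀
  have hk : InvX.IsFrame k := hk₀.res _
  refine ⟨W, hxW, AModX.res _ hWV e, he.res _, ?_⟩
  let k' := ψ.app W (AModX.res _ hWV e)
  show InvX.IsFrame k'
  have hk' : OmegaSh.idealSect (I.comap f) W k' = C.presheaf.map (homOfLE hWV).op s := by
    rw [OmegaSh.idealSect_apply]
    show OmegaSh.fnSect C W ((ψ ≫ ClSub.idealModι (I.comap f)).app W (AModX.res _ hWV e)) = _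
    rw [hψ, AModX.app_res, hφ]
    rfl
  have hspan : (I.comap f).ideal ⟨W, hW⟩ = Ideal.span {C.presheaf.map (homOfLE hWV).op s} := by
    rw [← (I.comap f).map_ideal (U := ⟨W, hW⟩) (V := V) hWV, hs, Ideal.map_span, Set.image_singleton]
    rfl
  obtain ⟨b, hb⟩ := hk.exists_coord le_rfl k'
  rw [AModX.res_self] at hb
  obtain ⟨a, ha⟩ := Ideal.mem_span_singleton'.1 (hspan ▸ OmegaLib.idealSect_mem (I.comap f) ⟨W, hW⟩ k)
  have hak : k = a • k' := OmegaLib.idealSect_injective (I.comap f) W (by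
    rw [OmegaLib.idealSect_smul, hk', ha])
  have hab : a * b = 1 := by
    have h1 : (1 : Γ(C, W)) • k = (a * b) • k := by rw [one_smul, mul_smul, ← hb, ← hak]
    refine (hk.coord_unique (le_refl W) ?_).symm
    rwa [AModX.res_self]
  rw [hb]
  exact hk.isUnit_smul (IsUnit.of_mul_eq_one_right a hab)

section Degree

variable {R : Type u} [CommRing R] [IsDomain R] [IsDiscreteValuationRing R]
  {X : Over (Spec (CommRingCat.of R))} (Γc : ArSurf.VertComp R X)

/-- The inverse image of an effective divisor not containing the curve. -/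
theorem isEffCartier_comap {I : X.left.IdealSheafData} (hI : BlowUp.IsEffCartierIdeal I)
    (hΓ : Γc.ι.base (genericPoint Γc.curve.left) ∉ (I.support : Set X.left)) :
    BlowUp.IsEffCartierIdeal (I.comap Γc.ι) := by
  refine Groth.Agent.S8862.result Γc.ι I hI fun ξ hξ => ?_
  rw [← hξ _ (genericPoint_specializes ξ)]
  exact hΓ

/-- The intersection number is the length of the intersection scheme. -/
theorem inter_eq_finrank [IsProper X.hom] {I : X.left.IdealSheafData} (hI : BlowUp.IsEffCartierIdeal I)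
    (hΓ : Γc.ι.base (genericPoint Γc.curve.left) ∉ (I.support : Set X.left))
    {L : X.left.Modules} (hL : ClSub.IsInverseOf L (ClSub.idealMod I)) :
    ArSurf.inter R X L Γc = (Module.finrank (IsLocalRing.ResidueField R)
      (Coh.HH Γc.curve.left (ClSub.quotMod (I.comap Γc.ι)) 0) : ℤ) := by
  haveI := ArInter.isProper_curve Γc
  have hI' := isEffCartier_comap Γc hI hΓ
  have hLi := ArInter.isInvertible_of_inverse (IdealCl.isInvertible_idealMod hI) hL
  have hpL := PicClLib.isInvertible_pullback Γc.ι hLi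
  obtain ⟨e1⟩ := nonempty_pullback_idealMod Γc.ι I hI hI'
  obtain ⟨e2⟩ := PicMul.pull Γc.ι L (ClSub.idealMod I)
  obtain ⟨e3⟩ := PicClLib.nonempty_pullback_structureModule Γc.ι
  obtain ⟨e4⟩ := hL
  have hinv : ClSub.IsInverseOf ((Scheme.Modules.pullback Γc.ι).obj L) (ClSub.idealMod (I.comap Γc.ι)) := by
    refine PicMul.cl_eq_iff.1 ?_
    rw [PicMul.cl_tensor, ← PicMul.cl_eq_iff.2 ⟨e1⟩, ← PicMul.cl_tensor,
      ← PicMul.cl_eq_iff.2 ⟨e2⟩]
    exact PicMul.cl_eq_iff.2 ⟨(Scheme.Modules.pullback Γc.ι).mapIso e4 ≪≫ e3⟩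
  have hO := InvEnd.isFinLocFreeOfRank_one (ArInter.isInvertible_structure Γc.curve.left)
  have h := (Groth.Agent.S1604.result (IsLocalRing.ResidueField R) Γc.curve.left Γc.dim_eq.le
    (I.comap Γc.ι) hI' _ hpL hinv 1 (Coh.structureModule Γc.curve.left) hO).2
  obtain ⟨e5⟩ : Nonempty (CohB1.tensorMod (Coh.structureModule Γc.curve.left)
      ((Scheme.Modules.pullback Γc.ι).obj L) ≅ (Scheme.Modules.pullback Γc.ι).obj L) := by
    refine PicMul.cl_eq_iff.1 ?_
    rw [PicMul.cl_tensor, ← PicMul.one_def, one_mul]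
  unfold ArSurf.inter
  rw [ArInter.curveDeg_eq Γc hpL, ← CurveRR.deg_congr _ e5, h]
  simp [Curv2.deg]

/-- The global functions on a closed subscheme of a proper scheme vanish only if it is empty. -/
theorem finrank_quotMod_eq_zero_iff (k : Type u) [Field k] (Y : Scheme.{u}) [Y.Over (Spec (CommRingCat.of k))]
    [IsProper (Y ↘ Spec (CommRingCat.of k))] (D : Y.IdealSheafData) :
    Module.finrank k (Coh.HH Y (ClSub.quotMod D) 0) = 0 ↔ (D.support : Set Y) = ∅ := by
  haveI := CurveCohLib.isNoetherian_of_proper (k := k) (X := Y)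
  haveI := CurveCohLib.finite_HH (k := k) (X := Y) (ParShLib.isCoh_quotMod D) 0
  rw [Module.finrank_zero_iff]
  let e : Coh.HH Y (ClSub.quotMod D) 0 ≃ Γ(D.subscheme, D.subschemeι ⁻¹ᵁ ⊤) :=
    (Sheaf.H.equiv₀ (Coh.toAb (ClSub.quotMod D)) isTerminalTop).toEquiv
  constructor
  · intro h
    by_contra hne
    obtain ⟨y, hy⟩ := Set.nonempty_iff_ne_empty.2 hne
    rw [← D.range_subschemeι] at hy
    obtain ⟨z, -⟩ := hy
    haveI : Subsingleton Γ(D.subscheme, D.subschemeι ⁻¹ᵁ ⊤) := e.symm.subsingleton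
    haveI : Nonempty (D.subschemeι ⁻¹ᵁ (⊤ : Y.Opens) : D.subscheme.Opens) := ⟨⟨z, trivial⟩⟩
    exact one_ne_zero (Subsingleton.elim (1 : Γ(D.subscheme, D.subschemeι ⁻¹ᵁ ⊤)) 0)
  · intro h
    haveI : IsEmpty D.subscheme := by
      refine ⟨fun z => ?_⟩
      have : D.subschemeι z ∈ (D.support : Set Y) := D.range_subschemeι ▸ Set.mem_range_self z
      rw [h] at this
      exact this
    exact e.subsingleton

theorem inter_nonneg_and_eq_zero_iff [IsProper X.hom] {I : X.left.IdealSheafData}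
    (hI : BlowUp.IsEffCartierIdeal I)
    (hΓ : Γc.ι.base (genericPoint Γc.curve.left) ∉ (I.support : Set X.left))
    {L : X.left.Modules} (hL : ClSub.IsInverseOf L (ClSub.idealMod I)) :
    0 ≤ ArSurf.inter R X L Γc ∧
      (ArSurf.inter R X L Γc = 0 ↔ Disjoint (Set.range Γc.ι.base) (I.support : Set X.left)) := by
  haveI := ArInter.isProper_curve Γc
  rw [inter_eq_finrank Γc hI hΓ hL]
  refine ⟨Int.natCast_nonneg _, ?_⟩
  rw [Int.natCast_eq_zero, finrank_quotMod_eq_zero_iff, Scheme.IdealSheafData.support_comap]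
  rw [Set.disjoint_left]
  constructor
  · rintro h _ ⟨c, rfl⟩ hc
    exact (Set.eq_empty_iff_forall_notMem.1 h c) hc
  · intro h
    exact Set.eq_empty_iff_forall_notMem.2 fun c hc => h ⟨c, rfl⟩ hc

end Degree

end Groth.Agent.H26.InterDiv
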