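import Groth.Agent.S4464
import Groth.Agent.BrnchLib.SmoothUnib

/-!
# Fibres of a proper birational morphism onto a normal scheme are connected
-/

set_option autoImplicit false
set_option linter.style.haveILetI false
set_option backward.isDefEq.respectTransparency false
set_option backward.isDefEq.respectTransparency.types false

universe u

open CategoryTheory AlgebraicGeometry

noncomputable section

namespace Groth.Agent.H26.BiratFibre

variable {X Y : Scheme.{u}} [IsIntegral X] [IsIntegral Y] (f : X ⟶ Y) {U : Y.Opens} (hU : (U : Set Y).Nonempty)
  [IsIso (f ∣_ U)]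

include hU in
theorem apply_genericPoint_eq : f (genericPoint X) = genericPoint Y := by
  obtain ⟨x, hx⟩ := (ConcreteCategory.bijective_of_isIso (f ∣_ U).base).2
    ⟨genericPoint Y, ((genericPoint_spec Y).mem_open_set_iff U.2).2 (by simpa using hU)⟩
  have e : f x.1 = genericPoint Y := (morphismRestrict_base_coe f U x).symm.trans (congrArg Subtype.val hx)
  exact (((genericPoint_specializes x.1).map f.continuous).trans (specializes_of_eq e)).antisymm
    (genericPoint_specializes _) |>.eq

include hU in
theorem surjective [IsProper f] : Function.Surjective f := by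
  intro y
  have hcl : IsClosed (Set.range f) := f.isClosedMap.isClosed_range
  exact (genericPoint_specializes y).mem_closed hcl ⟨_, apply_genericPoint_eq f hU⟩

include hU in
theorem isConnected_preimage [IsLocallyNoetherian X] [IsLocallyNoetherian Y] [IsProper f] (y : Y)
    [IsIntegrallyClosed (Y.presheaf.stalk y)] : _root_.IsConnected (f ⁻¹' {y}) := by
  have hgen := apply_genericPoint_eq f hU
  have hdom : f (genericPoint X) ⤳ genericPoint Y := specializes_of_eq hgen
  have hxU : genericPoint X ∈ f ⁻¹ᵁ U := by
    show f (genericPoint X) ∈ U
    rw [hgen]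
    exact ((genericPoint_spec Y).mem_open_set_iff U.2).2 (by simpa using hU)
  haveI : IsIso (f.stalkMap (genericPoint X)) :=
    (MorphismProperty.isomorphisms CommRingCat).arrow_mk_iso_iff
      (morphismRestrictStalkMap f U ⟨genericPoint X, hxU⟩) |>.1 (inferInstanceAs (IsIso _))
  have hsurj : Function.Surjective (CohIII.stalkToFunctionField f (genericPoint Y) hdom) := by
    show Function.Surjective ((f.stalkMap (genericPoint X)).hom ∘ (Y.presheaf.stalkSpecializes hdom).hom)
    refine (ConcreteCategory.bijective_of_isIso (f.stalkMap (genericPoint X))).2.comp fun b => ?_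
    refine ⟨(Y.presheaf.stalkSpecializes (specializes_of_eq hgen.symm)).hom b, ?_⟩
    rw [← CommRingCat.comp_apply, TopCat.Presheaf.stalkSpecializes_comp, TopCat.Presheaf.stalkSpecializes_refl]
    rfl
  haveI := Groth.Agent.S4464.result f hdom (fun x _ => ⟨0, by
    rw [pow_zero, pow_one]
    exact hsurj x⟩) y
    (Groth.Agent.BrnchLib.isUnibranch_of_integral_normal (Y.presheaf.stalk y) (Y.presheaf.stalk y)
      Function.injective_id)
  rw [← Scheme.Hom.range_fiberι]
  exact isConnected_range (f.fiberι y).continuous

end Groth.Agent.H26.BiratFibre
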