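import Mathlib
import Groth.Agent.DivX.CodimOne

/-!
# A principal ideal in a locally factorial ring is the product of the minimal primes over it
-/

set_option autoImplicit false

universe u

namespace Groth.Agent.H26.IdealFactor

theorem exists_eq_unit_mul_prod {B : Type u} [CommRing B] [IsDomain B] [UniqueFactorizationMonoid B]
    {ι : Type*} [Fintype ι] [DecidableEq ι] (q : ι → B) (a : B) (ha : a ≠ 0)
    (h : ∀ r, Prime r → r ∣ a → ∃ i, Associated r (q i)) :
    ∃ (n : ι → ℕ), Associated a (∏ i, q i ^ n i) := by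
  induction a using UniqueFactorizationMonoid.induction_on_prime with
  | h₁ => exact absurd rfl ha
  | h₂ x hx => exact ⟨0, by simpa using associated_one_iff_isUnit.2 hx⟩
  | h₃ b r hb hr ih =>
    obtain ⟨n, hn⟩ := ih hb fun s hs hsb => h s hs (dvd_mul_of_dvd_right hsb _)
    obtain ⟨i, hi⟩ := h r hr (dvd_mul_right _ _)
    refine ⟨n + Pi.single i 1, ?_⟩
    have e : ∏ j, q j ^ (n + Pi.single i 1 : ι → ℕ) j = q i * ∏ j, q j ^ n j := by
      simp only [Pi.add_apply, pow_add, Finset.prod_mul_distrib, mul_comm (q i)]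
      congr 1
      rw [Finset.prod_eq_single i (fun j _ hj => by rw [Pi.single_eq_of_ne hj, pow_zero])
        (fun hh => absurd (Finset.mem_univ i) hh), Pi.single_eq_same, pow_one]
    rw [e]
    exact hi.mul_mul hn

/-- In a local domain with principal maximal ideal, the length of the quotient by a power. -/
theorem length_quotient_pow {C : Type u} [CommRing C] [IsDomain C] [IsLocalRing C] {q : C} (hq0 : q ≠ 0)
    (hq : IsLocalRing.maximalIdeal C = Ideal.span {q}) (n : ℕ) :
    Module.length C (C ⧸ Ideal.span {q ^ n}) = n := by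
  have h1 : Ring.ord C q = 1 := by
    show Module.length C (C ⧸ Ideal.span {q}) = 1
    rw [← hq, Module.length_eq_one_iff, isSimpleModule_iff_isCoatom]
    exact (IsLocalRing.maximalIdeal.isMaximal C).out
  show Ring.ord C (q ^ n) = n
  rw [Ring.ord_pow (mem_nonZeroDivisors_of_ne_zero hq0), h1, nsmul_one]

theorem span_eq_prod {A : Type u} [CommRing A] [IsNoetherianRing A]
    (hA : ∀ (m : Ideal A) [m.IsMaximal], IsDomain (Localization.AtPrime m) ∧
      UniqueFactorizationMonoid (Localization.AtPrime m))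
    (π : A) (hπ : π ∈ nonZeroDivisors A) {ι : Type*} [Fintype ι] (P : ι → Ideal A)
    (hP : ∀ i, P i = ⊤ ∨ P i ∈ (Ideal.span {π}).minimalPrimes)
    (hinj : ∀ i j, P i = P j → P i ≠ ⊤ → i = j)
    (hcov : ∀ Q ∈ (Ideal.span {π}).minimalPrimes, ∃ i, P i = Q) (e : ι → ℕ)
    (he : ∀ i [(P i).IsPrime], ∃ (C : Type u) (_ : CommRing C) (_ : Algebra A C)
      (_ : IsLocalization.AtPrime C (P i)), Module.length C (C ⧸ Ideal.span {algebraMap A C π}) = e i) :
    Ideal.span {π} = ∏ i, P i ^ e i := by
  classical
  refine Ideal.eq_of_localization_maximal fun m _ => ?_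
  obtain ⟨hd, hu⟩ := hA m
  let B := Localization.AtPrime m
  let φ : A →+* B := algebraMap A B
  rw [Ideal.map_span, Set.image_singleton, ← Ideal.mapHom_apply φ, map_prod]
  simp only [map_pow, Ideal.mapHom_apply]
  have hπB : φ π ≠ 0 := fun h => by
    obtain ⟨c, hc⟩ := (IsLocalization.map_eq_zero_iff m.primeCompl B π).1 h
    exact c.2 ((mem_nonZeroDivisors_iff_right.1 hπ _ hc).symm ▸ m.zero_mem)
  -- the primes inside `m` become principal
  have key : ∀ i, ∃ q : B, (P i).map φ = Ideal.span {q} ∧ (P i ≤ m → Prime q) ∧ (¬ P i ≤ m → IsUnit q) := by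
    intro i
    by_cases him : P i ≤ m
    · have hmin : P i ∈ (Ideal.span {π}).minimalPrimes :=
        (hP i).resolve_left fun h => (Ideal.IsPrime.ne_top (I := m) inferInstance) (top_le_iff.1 (h ▸ him))
      haveI := hmin.1.1
      have hdis : Disjoint (m.primeCompl : Set A) (P i) := Set.disjoint_left.2 fun x hx hxP => hx (him hxP)
      haveI : ((P i).map φ).IsPrime := IsLocalization.isPrime_of_isPrime_disjoint m.primeCompl B _ inferInstance hdis
      have hle : ((P i).map φ).height ≤ 1 := by
        rw [IsLocalization.height_map_of_disjoint m.primeCompl _ hdis]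
        exact Ideal.height_le_one_of_isPrincipal_of_mem_minimalPrimes (Ideal.span {π}) (P i) hmin
      have hne : (P i).map φ ≠ ⊥ := fun h => hπB (by
        rw [← Ideal.mem_bot, ← h]
        exact Ideal.mem_map_of_mem _ (hmin.1.2 (Ideal.mem_span_singleton_self π)))
      have h1 : ((P i).map φ).height = 1 := by
        refine le_antisymm hle (Order.one_le_iff_pos.2 (pos_iff_ne_zero.2 fun h0 => hne ?_))
        rw [Ideal.height_eq_zero_iff, IsDomain.minimalPrimes_eq_singleton_bot] at h0
        exact h0
      obtain ⟨q, hq, hqP⟩ := DivX.exists_prime_span_of_height_one ((P i).map φ) h1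
      exact ⟨q, hqP, fun _ => hq, fun h => absurd him h⟩
    · refine ⟨1, ?_, fun h => absurd h him, fun _ => isUnit_one⟩
      obtain ⟨x, hxP, hxm⟩ := SetLike.not_le_iff_exists.1 him
      rw [Ideal.span_singleton_one]
      exact Ideal.eq_top_of_isUnit_mem _ (Ideal.mem_map_of_mem φ hxP) (IsLocalization.map_units B (⟨x, hxm⟩ : m.primeCompl))
  choose q hq hqp hqu using key
  simp only [hq, Ideal.span_singleton_pow]
  rw [Ideal.prod_span_singleton]
  rw [Ideal.span_singleton_eq_span_singleton]
  let ι' := {i : ι // P i ≤ m}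
  obtain ⟨n, hn⟩ := exists_eq_unit_mul_prod (fun i : ι' => q i.1) (φ π) hπB fun r hr hrπ => by
    haveI : (Ideal.span {r}).IsPrime := (Ideal.span_singleton_prime hr.ne_zero).2 hr
    have hπr : Ideal.span {π} ≤ (Ideal.span {r}).comap φ :=
      (Ideal.span_singleton_le_iff_mem _).2 (Ideal.mem_span_singleton.2 hrπ)
    obtain ⟨Q, hQ, hQr⟩ := Ideal.exists_minimalPrimes_le hπr
    obtain ⟨i, rfl⟩ := hcov Q hQ
    have him : P i ≤ m := hQr.trans fun x hx => by
      by_contra hxm
      exact hr.not_unit (isUnit_of_dvd_unit (Ideal.mem_span_singleton.1 hx)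
        (IsLocalization.map_units B (⟨x, hxm⟩ : m.primeCompl)))
    refine ⟨⟨i, him⟩, ?_⟩
    have hdvd : r ∣ q i := Ideal.mem_span_singleton.1 (by
      have : (P i).map φ ≤ Ideal.span {r} := Ideal.map_le_iff_le_comap.2 hQr
      rw [hq] at this
      exact this (Ideal.mem_span_singleton_self _))
    exact hr.associated_of_dvd (hqp i him) hdvd
  -- the exponents are the lengths
  have hne : ∀ i : ι', e i.1 = n i := by
    rintro ⟨i, him⟩
    have hmin : P i ∈ (Ideal.span {π}).minimalPrimes :=
      (hP i).resolve_left fun h => (Ideal.IsPrime.ne_top (I := m) inferInstance) (top_le_iff.1 (h ▸ him))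
    haveI := hmin.1.1
    obtain ⟨C, _, _, _, hlen⟩ := he i
    haveI : IsLocalRing C := IsLocalization.AtPrime.isLocalRing C (P i)
    have hP0 : ∀ x : m.primeCompl, IsUnit (algebraMap A C x) := fun x =>
      IsLocalization.map_units C (⟨x.1, fun h => x.2 (him h)⟩ : (P i).primeCompl)
    letI : Algebra B C := (IsLocalization.lift hP0).toAlgebra
    haveI : IsScalarTower A B C := .of_algebraMap_eq fun a => by
      rw [RingHom.algebraMap_toAlgebra, IsLocalization.lift_eq]
    have hsub : m.primeCompl ≤ (P i).primeCompl := fun x hx h => hx (him h)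
    haveI : IsLocalization ((P i).primeCompl.map φ) C :=
      IsLocalization.isLocalization_of_submonoid_le B C m.primeCompl (P i).primeCompl hsub
    haveI : IsDomain C := IsLocalization.isDomain_of_le_nonZeroDivisors C (M := (P i).primeCompl.map φ) (by
      rintro _ ⟨x, hx, rfl⟩
      refine mem_nonZeroDivisors_of_ne_zero fun h => ?_
      obtain ⟨c, hc⟩ := (IsLocalization.map_eq_zero_iff m.primeCompl B x).1 h
      rcases hmin.1.1.mem_or_mem (hc ▸ (P i).zero_mem : c.1 * x ∈ P i) with h' | h'
      · exact c.2 (him h')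
      · exact hx h')
    have hmax : IsLocalRing.maximalIdeal C = Ideal.span {algebraMap B C (q i)} := by
      rw [← IsLocalization.AtPrime.map_eq_maximalIdeal (P i) C, IsScalarTower.algebraMap_eq A B C, ← Ideal.map_map,
        hq, Ideal.map_span, Set.image_singleton]
    have hq0 : algebraMap B C (q i) ≠ 0 := by
      intro h
      obtain ⟨c, hc⟩ := (IsLocalization.map_eq_zero_iff ((P i).primeCompl.map φ) C (q i)).1 h
      obtain ⟨x, hx, hxc⟩ := c.2
      rcases mul_eq_zero.1 hc with h' | h'
      · obtain ⟨d, hd'⟩ := (IsLocalization.map_eq_zero_iff m.primeCompl B x).1 (hxc.trans h')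
        rcases hmin.1.1.mem_or_mem (hd' ▸ (P i).zero_mem : d.1 * x ∈ P i) with h'' | h''
        · exact d.2 (him h'')
        · exact hx h''
      · exact (hqp i him).ne_zero h'
    have hunit : ∀ j : ι', j ≠ ⟨i, him⟩ → IsUnit (algebraMap B C (q j.1)) := fun j hj => by
      have hnle : ¬ P j.1 ≤ P i := fun hle => by
        have hminj : P j.1 ∈ (Ideal.span {π}).minimalPrimes :=
          (hP j.1).resolve_left fun h => (Ideal.IsPrime.ne_top (I := m) inferInstance) (top_le_iff.1 (h ▸ j.2))
        exact hj (Subtype.ext (hinj j.1 i (le_antisymm hle (hmin.2 hminj.1 hle))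
          hminj.1.1.ne_top))
      obtain ⟨x, hxj, hxi⟩ := SetLike.not_le_iff_exists.1 hnle
      have : (φ x) ∈ Ideal.span {q j.1} := hq j.1 ▸ Ideal.mem_map_of_mem φ hxj
      refine isUnit_of_dvd_unit (map_dvd (algebraMap B C) (Ideal.mem_span_singleton.1 this)) ?_
      rw [← IsScalarTower.algebraMap_apply]
      exact IsLocalization.map_units C (⟨x, hxi⟩ : (P i).primeCompl)
    have hassoc : Associated (algebraMap A C π) (algebraMap B C (q i) ^ n ⟨i, him⟩) := by
      rw [IsScalarTower.algebraMap_apply A B C]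
      refine (hn.map (algebraMap B C)).trans ?_
      rw [map_prod, ← Finset.mul_prod_erase _ _ (Finset.mem_univ (⟨i, him⟩ : ι'))]
      simp only [map_pow]
      refine associated_mul_unit_left _ _ ?_
      exact IsUnit.prod_iff.2 fun j hj => (hunit j (Finset.ne_of_mem_erase hj)).pow _
    have h := hlen
    rw [Ideal.span_singleton_eq_span_singleton.2 hassoc, length_quotient_pow hq0 hmax] at h
    exact_mod_cast h.symm
  refine hn.trans ?_
  have hsplit : ∏ i, q i ^ e i = (∏ i : ι', q i.1 ^ n i) * ∏ i : {i : ι // ¬ P i ≤ m}, q i.1 ^ e i.1 := by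
    rw [← Fintype.prod_subtype_mul_prod_subtype (fun i => P i ≤ m)]
    simp only [hne]
    rfl
  rw [hsplit]
  exact (associated_mul_unit_left _ _ (IsUnit.prod_iff.2 fun j _ => (hqu j.1 j.2).pow _)).symm

end Groth.Agent.H26.IdealFactor
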