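import Mathlib
import Groth.Prelude.Def_Models
import Groth.Prelude.Def_ModelsG
import Groth.Prelude.Def_CurvBase
import Groth.Agent.H26.IdealFactorPrimes
import Groth.Agent.ModPairLib.Basic
import Groth.Agent.NQF.FibreComp
import Groth.Agent.RegUFD.Basic

/-!
# The closed fibre of a regular flat scheme over a DVR as a sum of its components
-/

set_option autoImplicit false

universe u

open AlgebraicGeometry CategoryTheory TopologicalSpace

namespace Groth.Agent.H26.FibreIdeal

/-- The kernel of a closed immersion of an integral scheme, on an affine open. -/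
theorem ker_ideal_cases {Z X : Scheme.{u}} [IsIntegral Z] (ι : Z ⟶ X) [IsClosedImmersion ι] (U : X.affineOpens) :
    (ι (genericPoint Z) ∉ U.1 ∧ ι.ker.ideal U = ⊤) ∨
      ∃ h : ι (genericPoint Z) ∈ U.1, ι.ker.ideal U = (U.2.primeIdealOf ⟨_, h⟩).asIdeal := by
  rw [Scheme.Hom.ker_apply]
  by_cases h : ι (genericPoint Z) ∈ U.1
  · refine Or.inr ⟨h, ?_⟩
    set y := ι (genericPoint Z)
    haveI : Nonempty ↥(ι ⁻¹ᵁ U.1) := ⟨⟨genericPoint Z, h⟩⟩
    haveI : IsDomain Γ(Z, ι ⁻¹ᵁ U.1) := @IsIntegral.component_integral _ _ (ι ⁻¹ᵁ U.1) ‹_›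
    have key : ∀ a, y ∈ X.basicOpen a ↔ a ∉ (U.2.primeIdealOf ⟨y, h⟩).asIdeal :=
      QCoh.mem_basicOpen_iff_notMem U.2 h
    ext a
    rw [← not_iff_not, ← key, RingHom.mem_ker]
    have e : y ∈ X.basicOpen a ↔ genericPoint Z ∈ Z.basicOpen ((ι.app U.1).hom a) := by
      rw [← Scheme.preimage_basicOpen]; rfl
    rw [e]
    refine ⟨fun hne => ?_, fun hm h0 => ?_⟩
    · refine ((genericPoint_spec Z).mem_open_set_iff (Z.basicOpen _).isOpen).2 ?_
      simp only [Set.univ_inter]
      by_contra hne'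
      exact hne ((basicOpen_eq_bot_iff (X := Z) _).1 (SetLike.coe_injective (Set.not_nonempty_iff_eq_empty.1 hne')))
    · rw [h0, Scheme.basicOpen_zero] at hm
      exact hm
  · refine Or.inl ⟨h, (RingHom.ker _).eq_top_iff_one.2 ?_⟩
    have hE : ι ⁻¹ᵁ U.1 = ⊥ := by
      refine SetLike.coe_injective (Set.eq_empty_iff_forall_notMem.2 fun z hz => h ?_)
      exact ((genericPoint_specializes z).map ι.continuous).mem_open U.1.2 hz
    haveI : Subsingleton Γ(Z, ι ⁻¹ᵁ U.1) := by rw [hE]; infer_instance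
    exact Subsingleton.elim _ _

variable {R : Type u} [CommRing R] [IsDomain R] [IsDiscreteValuationRing R] (X : Over (Spec (CommRingCat.of R)))

/-- The uniformizer on an affine open. -/
noncomputable def unifOn (ϖ : R) (U : X.left.Opens) : Γ(X.left, U) :=
  X.left.presheaf.map (homOfLE (le_top : U ≤ ⊤)).op (Coh.toGlobal X.hom ϖ)

theorem specialFibreIdeal_ideal {ϖ : R} (hϖ : IsLocalRing.maximalIdeal R = Ideal.span {ϖ}) (U : X.left.affineOpens) :
    (Models.specialFibreIdeal R X).ideal U = Ideal.span {unifOn X ϖ U.1} := by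
  rw [Models.specialFibreIdeal, ModPairLib.ideal_comap _ X.hom ⟨⊤, isAffineOpen_top _⟩ U (by simp)]
  simp only [Curv2.idealSheaf, Scheme.IdealSheafData.ofIdealTop_ideal, hϖ, Ideal.map_span, Set.image_singleton]
  congr 2

theorem mem_fibre_iff {ϖ : R} (hϖ : IsLocalRing.maximalIdeal R = Ideal.span {ϖ}) {U : X.left.Opens}
    (hU : IsAffineOpen U) (x : X.left) (hx : x ∈ U) :
    x ∈ Models.specialFibreSet R X ↔ unifOn X ϖ U ∈ (hU.primeIdealOf ⟨x, hx⟩).asIdeal := by
  have e0 : X.hom x ∈ (Spec (CommRingCat.of R)).basicOpen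
      ((Scheme.ΓSpecIso (CommRingCat.of R)).inv ϖ) ↔ ϖ ∉ (X.hom x).asIdeal := by
    rw [basicOpen_eq_of_affine]
    rfl
  have e2 : X.left.basicOpen (unifOn X ϖ U) = U ⊓ X.left.basicOpen (Coh.toGlobal X.hom ϖ) :=
    X.left.basicOpen_res _ _
  have key : x ∈ X.left.basicOpen (unifOn X ϖ U) ↔ unifOn X ϖ U ∉ (hU.primeIdealOf ⟨x, hx⟩).asIdeal :=
    QCoh.mem_basicOpen_iff_notMem hU hx _
  have e3 : x ∈ X.left.basicOpen (Coh.toGlobal X.hom ϖ) ↔ X.hom x ∈ (Spec (CommRingCat.of R)).basicOpen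
      ((Scheme.ΓSpecIso (CommRingCat.of R)).inv ϖ) := by
    show x ∈ X.left.basicOpen (X.hom.appTop ((Scheme.ΓSpecIso (CommRingCat.of R)).inv ϖ)) ↔ _
    rw [← Scheme.preimage_basicOpen_top]
    rfl
  have e4 : x ∈ Models.specialFibreSet R X ↔ ϖ ∈ (X.hom x).asIdeal := by
    show X.hom x = IsLocalRing.closedPoint R ↔ _
    refine ⟨fun h => ?_, fun h => PrimeSpectrum.ext ?_⟩
    · rw [h]; exact hϖ.ge (Ideal.mem_span_singleton_self ϖ)
    · refine ((IsLocalRing.maximalIdeal.isMaximal R).eq_of_le (X.hom x).isPrime.ne_top ?_).symm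
      rw [hϖ, Ideal.span_singleton_le_iff_mem]; exact h
  rw [e4, ← not_iff_not, ← key, e2, ← e0, ← e3]
  exact ⟨fun h => ⟨hx, h⟩, fun h => h.2⟩

theorem unifOn_mem_nonZeroDivisors [Flat X.hom] {ϖ : R} (hϖ0 : ϖ ≠ 0) {U : X.left.Opens} (hU : IsAffineOpen U) :
    unifOn X ϖ U ∈ nonZeroDivisors Γ(X.left, U) := by
  let φ : R →+* Γ(X.left, U) :=
    (X.left.presheaf.map (homOfLE (le_top : U ≤ ⊤)).op).hom.comp (Coh.toGlobal X.hom)
  have hflat : φ.Flat := by
    have h := (HasRingHomProperty.appLE @Flat X.hom ‹_› ⟨⊤, isAffineOpen_top _⟩ ⟨U, hU⟩ (by simp))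
    have e : φ = (X.hom.appLE ⊤ U (by simp)).hom.comp (Scheme.ΓSpecIso (CommRingCat.of R)).inv.hom := by
      simp [φ, Coh.toGlobal, Scheme.Hom.appLE, RingHom.comp_assoc]
    rw [e]
    exact RingHom.Flat.comp (RingHom.Flat.of_bijective
      (Scheme.ΓSpecIso (CommRingCat.of R)).symm.commRingCatIsoToRingEquiv.bijective) h
  letI := φ.toAlgebra
  haveI : Module.Flat R Γ(X.left, U) := hflat
  refine mem_nonZeroDivisors_iff_right.2 fun z hz => ?_
  refine Module.Flat.isSMulRegular_of_nonZeroDivisors (mem_nonZeroDivisors_of_ne_zero hϖ0) (show ϖ • z = ϖ • (0 : Γ(X.left, U)) from ?_)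
  rw [smul_zero, Algebra.smul_def, mul_comm]
  exact hz

variable {n : ℕ} (Γc : Fin n → ArSurf.VertComp R X) (hΓ : Models.IsComponentList R X Γc)

include hΓ in
theorem range_eq_closure (i : Fin n) :
    Set.range (Γc i).ι.base = closure {Models.genPtOf R X (Γc i)} := by
  have h := (genericPoint_spec (Γc i).curve.left).image (Γc i).ι.continuous
  rw [Set.image_univ, (Γc i).ι.isClosedEmbedding.isClosed_range.closure_eq] at h
  exact h.def.symm

include hΓ in
theorem genPt_mem (i : Fin n) : Models.genPtOf R X (Γc i) ∈ Models.specialFibreSet R X := by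
  have h : Set.range (Γc i).ι.base ∈ Models.fibreComponents R X := hΓ.2 ▸ ⟨i, rfl⟩
  exact h.1.2 ⟨_, rfl⟩

include hΓ in
theorem genPt_maximal (i : Fin n) {z : X.left} (hz : z ⤳ Models.genPtOf R X (Γc i))
    (hzs : z ∈ Models.specialFibreSet R X) : z = Models.genPtOf R X (Γc i) := by
  have h : Set.range (Γc i).ι.base ∈ Models.fibreComponents R X := hΓ.2 ▸ ⟨i, rfl⟩
  have h2 : closure {z} ⊆ Set.range (Γc i).ι.base := h.2
    ⟨isIrreducible_singleton.closure, closure_minimal (Set.singleton_subset_iff.2 hzs) (Models.isClosed_specialFibreSet R X)⟩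
    (by rw [range_eq_closure X Γc hΓ i]; exact hz.closure_subset)
  rw [range_eq_closure X Γc hΓ i] at h2
  exact (hz.antisymm (specializes_iff_mem_closure.2 (h2 (subset_closure rfl)))).eq

include hΓ in
theorem exists_component_of_maximal {z : X.left} (hzs : z ∈ Models.specialFibreSet R X)
    (hmax : ∀ w, w ⤳ z → w ∈ Models.specialFibreSet R X → w = z) : ∃ i, Models.genPtOf R X (Γc i) = z := by
  have hmem : closure {z} ∈ Models.fibreComponents R X := by
    refine ⟨⟨isIrreducible_singleton.closure,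
      closure_minimal (Set.singleton_subset_iff.2 hzs) (Models.isClosed_specialFibreSet R X)⟩, fun S hS hle => ?_⟩
    have hcl : closure S ⊆ Models.specialFibreSet R X := closure_minimal hS.2 (Models.isClosed_specialFibreSet R X)
    have hg := hS.1.closure.isGenericPoint_genericPoint isClosed_closure
    have hgz := hmax _ (hg.specializes (subset_closure (hle (subset_closure rfl)))) (hcl hg.mem)
    rw [hgz] at hg
    exact subset_closure.trans hg.def.ge
  obtain ⟨i, hi⟩ := hΓ.2.symm ▸ hmem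
  have h := (genericPoint_spec (Γc i).curve.left).image (Γc i).ι.continuous
  rw [Set.image_univ, (Γc i).ι.isClosedEmbedding.isClosed_range.closure_eq] at h
  exact ⟨i, h.eq (show IsGenericPoint z (Set.range (Γc i).ι.base) from hi.symm)⟩

include hΓ in
theorem genPt_injective {i j : Fin n} (h : Models.genPtOf R X (Γc i) = Models.genPtOf R X (Γc j)) : i = j :=
  hΓ.1 (by show Set.range (Γc i).ι.base = Set.range (Γc j).ι.base
           rw [range_eq_closure X Γc hΓ i, range_eq_closure X Γc hΓ j, h])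

include hΓ in
theorem mem_minimalPrimes {ϖ : R} (hϖ : IsLocalRing.maximalIdeal R = Ideal.span {ϖ}) {U : X.left.Opens}
    (hU : IsAffineOpen U) (i : Fin n) (h : Models.genPtOf R X (Γc i) ∈ U) :
    (hU.primeIdealOf ⟨_, h⟩).asIdeal ∈ (Ideal.span {unifOn X ϖ U}).minimalPrimes := by
  refine ⟨⟨inferInstance, (Ideal.span_singleton_le_iff_mem _).2
    ((mem_fibre_iff X hϖ hU _ h).1 (genPt_mem X Γc hΓ i))⟩, fun Q hQ hQle => ?_⟩
  let q : PrimeSpectrum Γ(X.left, U) := ⟨Q, hQ.1⟩
  have hqU : hU.fromSpec q ∈ U := by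
    have : hU.fromSpec q ∈ Set.range hU.fromSpec := ⟨q, rfl⟩
    rwa [hU.range_fromSpec] at this
  have hq : hU.primeIdealOf ⟨hU.fromSpec q, hqU⟩ = q :=
    hU.fromSpec.isOpenEmbedding.injective (hU.fromSpec_primeIdealOf ⟨_, hqU⟩)
  have hsp : hU.fromSpec q ⤳ Models.genPtOf R X (Γc i) := by
    have h2 := ((PrimeSpectrum.le_iff_specializes q (hU.primeIdealOf ⟨_, h⟩)).1 hQle).map hU.fromSpec.continuous
    rw [hU.fromSpec_primeIdealOf] at h2
    exact h2
  have heq := genPt_maximal X Γc hΓ i hsp ((mem_fibre_iff X hϖ hU _ hqU).2 (by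
    rw [hq]; exact hQ.2 (Ideal.mem_span_singleton_self _)))
  have : hU.primeIdealOf ⟨_, h⟩ = q := by
    rw [← hq]
    exact congrArg _ (Subtype.ext heq.symm)
  rw [this]

theorem length_congr {C : Type u} [CommRing C] {I J : Ideal C} (h : I = J) :
    Module.length C (C ⧸ I) = Module.length C (C ⧸ J) := by rw [h]

include hΓ in
theorem result [Flat X.hom] [LocallyOfFiniteType X.hom]
    (hreg : ∀ x : X.left, IsRegularLocalRing (X.left.presheaf.stalk x)) :
    (∀ i, BlowUp.IsEffCartierIdeal (Γc i).ι.ker) ∧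
      Models.specialFibreIdeal R X = ∏ i, (Γc i).ι.ker ^ Models.mult R X (Γc i) := by
  haveI : IsLocallyNoetherian X.left := LocallyOfFiniteType.isLocallyNoetherian X.hom
  obtain ⟨ϖ, hirr⟩ := IsDiscreteValuationRing.exists_irreducible R
  have hϖ := hirr.maximalIdeal_eq
  have hcodim : ∀ i, ringKrullDim (X.left.presheaf.stalk (Models.genPtOf R X (Γc i))) = 1 := by
    intro i
    set x := Models.genPtOf R X (Γc i)
    obtain ⟨U, hU, hxU, -⟩ := exists_isAffineOpen_mem_and_subset (x := x) (U := ⊤) trivial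
    haveI : IsNoetherianRing Γ(X.left, U) := IsLocallyNoetherian.component_noetherian ⟨U, hU⟩
    letI := TopCat.Presheaf.algebra_section_stalk X.left.presheaf (⟨x, hxU⟩ : U)
    haveI := hU.isLocalization_stalk ⟨x, hxU⟩
    rw [IsLocalization.AtPrime.ringKrullDim_eq_height (hU.primeIdealOf ⟨x, hxU⟩).asIdeal (X.left.presheaf.stalk x)]
    have hmin := mem_minimalPrimes X Γc hΓ hϖ hU i hxU
    refine congrArg _ (le_antisymm (Ideal.height_le_one_of_isPrincipal_of_mem_minimalPrimes _ _ hmin) ?_)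
    refine Order.one_le_iff_pos.2 (pos_iff_ne_zero.2 fun h0 => ?_)
    rw [Ideal.height_eq_zero_iff] at h0
    exact notMem_nonZeroDivisors_of_mem_mem_minimalPrimes (hmin.1.2 (Ideal.mem_span_singleton_self _)) h0
      (unifOn_mem_nonZeroDivisors X hirr.ne_zero hU)
  refine ⟨fun i => ?_, ?_⟩
  · haveI : IsIntegral (Γc i).ι.ker.subscheme := by
      haveI : Nonempty ↥((Γc i).ι.ker.subscheme : Scheme.{u}) := ⟨(Γc i).ι.toImage (genericPoint _)⟩
      exact isIntegral_of_isOpenImmersion (inv (Γc i).ι.toImage)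
    refine DivX.isEffCartier_of_codim_one _ ?_ fun x _ => @RegUFD.ufd (X.left.presheaf.stalk x) _ (hreg x)
    have hgen : (Γc i).ι.ker.subschemeι (genericPoint (Γc i).ι.ker.subscheme) = Models.genPtOf R X (Γc i) := by
      have h := (genericPoint_spec (Γc i).ι.ker.subscheme).image (Γc i).ι.ker.subschemeι.continuous
      rw [Set.image_univ, Scheme.IdealSheafData.range_subschemeι, Scheme.Hom.support_ker] at h
      rw [closure_closure, (Γc i).ι.isClosedEmbedding.isClosed_range.closure_eq] at h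
      exact h.eq (range_eq_closure X Γc hΓ i).symm
    rw [hgen]; exact hcodim i
  · refine Scheme.IdealSheafData.ext (funext fun U => ?_)
    haveI : IsNoetherianRing Γ(X.left, U.1) := IsLocallyNoetherian.component_noetherian U
    rw [specialFibreIdeal_ideal X hϖ U]
    have hprod : (∏ i, (Γc i).ι.ker ^ Models.mult R X (Γc i)).ideal U =
        ∏ i, (Γc i).ι.ker.ideal U ^ Models.mult R X (Γc i) := by
      let F : X.left.IdealSheafData →* Ideal Γ(X.left, U.1) :=
        { toFun := fun I => I.ideal U, map_one' := by simp, map_mul' := fun I J => rfl }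
      show F _ = _
      rw [map_prod]
      simp only [map_pow]
      rfl
    rw [hprod]
    refine IdealFactor.span_eq_prod (fun m _ => ?_) _ (unifOn_mem_nonZeroDivisors X hirr.ne_zero U.2)
      (fun i => (Γc i).ι.ker.ideal U) (fun i => ?_) (fun i j hij hne => ?_) (fun Q hQ => ?_) _ fun i _ => ?_
    · let q : PrimeSpectrum Γ(X.left, U.1) := ⟨m, inferInstance⟩
      have hqU : U.2.fromSpec q ∈ U.1 := by
        have : U.2.fromSpec q ∈ Set.range U.2.fromSpec := ⟨q, rfl⟩
        rwa [U.2.range_fromSpec] at this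
      letI := TopCat.Presheaf.algebra_section_stalk X.left.presheaf (⟨U.2.fromSpec q, hqU⟩ : U.1)
      haveI := U.2.isLocalization_stalk ⟨U.2.fromSpec q, hqU⟩
      have hq : U.2.primeIdealOf ⟨U.2.fromSpec q, hqU⟩ = q :=
        U.2.fromSpec.isOpenEmbedding.injective (U.2.fromSpec_primeIdealOf ⟨_, hqU⟩)
      haveI : IsLocalization.AtPrime (X.left.presheaf.stalk (U.2.fromSpec q)) m := by
        have := U.2.isLocalization_stalk ⟨U.2.fromSpec q, hqU⟩
        simp only [hq] at this
        exact this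
      let e := (IsLocalization.algEquiv m.primeCompl (X.left.presheaf.stalk (U.2.fromSpec q)) (Localization.AtPrime m)).toRingEquiv
      haveI := hreg (U.2.fromSpec q)
      obtain ⟨hd, hu⟩ := RegUFD.ufd (X.left.presheaf.stalk (U.2.fromSpec q))
      exact ⟨e.symm.toMulEquiv.isDomain _, e.toMulEquiv.uniqueFactorizationMonoid hu⟩
    · rcases ker_ideal_cases (Γc i).ι U with ⟨-, h⟩ | ⟨h, e⟩
      · exact Or.inl h
      · exact Or.inr (e ▸ mem_minimalPrimes X Γc hΓ hϖ U.2 i h)
    · rcases ker_ideal_cases (Γc i).ι U with ⟨-, h⟩ | ⟨h, e⟩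
      · exact absurd h hne
      rcases ker_ideal_cases (Γc j).ι U with ⟨-, h'⟩ | ⟨h', e'⟩
      · exact absurd (hij.trans h') hne
      have : U.2.primeIdealOf ⟨_, h⟩ = U.2.primeIdealOf ⟨_, h'⟩ := PrimeSpectrum.ext (e.symm.trans (hij.trans e'))
      have h2 := congrArg U.2.fromSpec this
      rw [U.2.fromSpec_primeIdealOf, U.2.fromSpec_primeIdealOf] at h2
      exact genPt_injective X Γc hΓ h2
    · let q : PrimeSpectrum Γ(X.left, U.1) := ⟨Q, hQ.1.1⟩
      have hqU : U.2.fromSpec q ∈ U.1 := by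
        have : U.2.fromSpec q ∈ Set.range U.2.fromSpec := ⟨q, rfl⟩
        rwa [U.2.range_fromSpec] at this
      have hq : U.2.primeIdealOf ⟨U.2.fromSpec q, hqU⟩ = q :=
        U.2.fromSpec.isOpenEmbedding.injective (U.2.fromSpec_primeIdealOf ⟨_, hqU⟩)
      have hqs : U.2.fromSpec q ∈ Models.specialFibreSet R X :=
        (mem_fibre_iff X hϖ U.2 _ hqU).2 (by rw [hq]; exact hQ.1.2 (Ideal.mem_span_singleton_self _))
      obtain ⟨i, hi⟩ := exists_component_of_maximal X Γc hΓ hqs fun w hw hws => by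
        have hwU : w ∈ U.1 := hw.mem_open U.1.2 hqU
        have hle : (U.2.primeIdealOf ⟨w, hwU⟩).asIdeal ≤ Q := by
          refine (PrimeSpectrum.le_iff_specializes _ q).2 (U.2.fromSpec.isOpenEmbedding.isInducing.specializes_iff.1 ?_)
          exact (U.2.fromSpec_primeIdealOf ⟨w, hwU⟩).symm ▸ hw
        have h2 := hQ.2 ⟨inferInstance, (Ideal.span_singleton_le_iff_mem _).2 ((mem_fibre_iff X hϖ U.2 _ hwU).1 hws)⟩ hle
        have h3 : U.2.primeIdealOf ⟨w, hwU⟩ = q := PrimeSpectrum.ext (le_antisymm hle h2)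
        exact (U.2.fromSpec_primeIdealOf ⟨w, hwU⟩).symm.trans (congrArg _ h3)
      refine ⟨i, ?_⟩
      rcases ker_ideal_cases (Γc i).ι U with ⟨h, -⟩ | ⟨h, e⟩
      · exact absurd (show Models.genPtOf R X (Γc i) ∈ U.1 from hi ▸ hqU) h
      · rw [e]
        have : U.2.primeIdealOf ⟨Models.genPtOf R X (Γc i), h⟩ = q := by
          rw [← hq]; exact congrArg _ (Subtype.ext hi)
        exact congrArg PrimeSpectrum.asIdeal this
    · rcases ker_ideal_cases (Γc i).ι U with ⟨-, h⟩ | ⟨h, e⟩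
      · exact absurd h (Ideal.IsPrime.ne_top inferInstance)
      set x := Models.genPtOf R X (Γc i)
      letI := TopCat.Presheaf.algebra_section_stalk X.left.presheaf (⟨x, h⟩ : U.1)
      haveI := U.2.isLocalization_stalk ⟨x, h⟩
      refine ⟨X.left.presheaf.stalk x, inferInstance, inferInstance, ?_, ?_⟩
      · simp only [e]; exact U.2.isLocalization_stalk ⟨x, h⟩
      have e2 : Ideal.map (Models.stalkHom R X x) (IsLocalRing.maximalIdeal R) =
          Ideal.span {algebraMap Γ(X.left, U.1) (X.left.presheaf.stalk x) (unifOn X ϖ U.1)} := by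
        rw [hϖ, Ideal.map_span, Set.image_singleton]
        congr 2
        exact (X.left.presheaf.germ_res_apply (homOfLE (le_top : U.1 ≤ ⊤)) x h _).symm
      rw [← length_congr e2, Models.mult, ENat.natCast_toNat]
      -- finiteness of the length
      haveI : IsDomain (X.left.presheaf.stalk x) := (@RegUFD.ufd _ _ (hreg x)).1
      haveI : Ring.KrullDimLE 1 (X.left.presheaf.stalk x) := Ring.krullDimLE_iff.2 (hcodim i).le
      rw [length_congr e2]
      refine Module.length_ne_top_iff.2 (isFiniteLength_quotient_span_singleton _ ?_)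
      refine mem_nonZeroDivisors_of_ne_zero fun h0 => ?_
      obtain ⟨c, hc⟩ := (IsLocalization.map_eq_zero_iff (U.2.primeIdealOf ⟨x, h⟩).asIdeal.primeCompl _ _).1 h0
      exact c.2 ((mem_nonZeroDivisors_iff_right.1 (unifOn_mem_nonZeroDivisors X hirr.ne_zero U.2) _ hc).symm ▸
        Ideal.zero_mem _)

end Groth.Agent.H26.FibreIdeal
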