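import Groth.Agent.H26.IdealCl
import Groth.Agent.Lib.CurveRR
import Groth.Agent.PicClLib.Basic
import Groth.Agent.CurveCohLib.SmoothCurve
import Groth.Agent.H26.FibreIdeal
import Groth.Prelude.Def_ArSurf

/-!
# Linearity of the intersection number with a vertical curve, and the class of the closed fibre
-/

set_option autoImplicit false
set_option linter.style.haveILetI false

universe u

open CategoryTheory CategoryTheory.Limits AlgebraicGeometry TopologicalSpace
open Groth.Agent.H23
open scoped Groth.Agent.H23.PicMul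

noncomputable section

namespace Groth.Agent.H26.ArInter

variable {R : Type u} [CommRing R] [IsDomain R] [IsDiscreteValuationRing R]
  {X : Over (Spec (CommRingCat.of R))} (Γ : ArSurf.VertComp R X)

theorem isProper_curve [IsProper X.hom] :
    IsProper (Γ.curve.left ↘ Spec (CommRingCat.of (IsLocalRing.ResidueField R))) := by
  haveI : IsProper (Γ.curve.hom ≫ Spec.map (CommRingCat.ofHom (IsLocalRing.residue R))) := by
    rw [← Γ.w]; infer_instance
  show IsProper Γ.curve.hom
  exact IsProper.of_comp Γ.curve.hom (Spec.map (CommRingCat.ofHom (IsLocalRing.residue R)))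

theorem curveDeg_eq [IsProper X.hom] {M : Γ.curve.left.Modules} (hM : PicF.IsInvertible M) :
    ArSurf.curveDeg (IsLocalRing.ResidueField R) Γ.curve.left M =
      Curv2.deg (IsLocalRing.ResidueField R) Γ.curve.left M 1 := by
  haveI := isProper_curve Γ
  haveI := CurveCohLib.isNoetherian_of_proper (k := IsLocalRing.ResidueField R) (X := Γ.curve.left)
  have key : ∀ {N : Γ.curve.left.Modules}, Coh.IsQCoh N →
      FGA.eulerCharLE (IsLocalRing.ResidueField R) Γ.curve.left N 1 = Curv2.euler (IsLocalRing.ResidueField R) Γ.curve.left N := by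
    intro N hN
    rw [CurveRR.euler_eq_h0_sub_h1 _ Γ.dim_eq.le hN, FGA.eulerCharLE, Finset.sum_range_succ, Finset.sum_range_one]
    simp
    ring
  unfold ArSurf.curveDeg Curv2.deg
  rw [key (CurveDeg.isCoh_of_isInvertible hM).1, key QCoh.isQCoh_structureModule]
  simp

theorem inter_congr {L M : X.left.Modules} (hL : PicF.IsInvertible L) [IsProper X.hom]
    (h : PicF.cl L = PicF.cl M) : ArSurf.inter R X L Γ = ArSurf.inter R X M Γ := by
  obtain ⟨e⟩ := PicMul.cl_eq_iff.1 h
  haveI := isProper_curve Γ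
  have hM : PicF.IsInvertible M := PicMul.isInvertible_of_iso e hL
  unfold ArSurf.inter
  rw [curveDeg_eq Γ (PicClLib.isInvertible_pullback Γ.ι hL), curveDeg_eq Γ (PicClLib.isInvertible_pullback Γ.ι hM),
    CurveRR.deg_congr _ ((Scheme.Modules.pullback Γ.ι).mapIso e)]

theorem inter_tensor [IsProper X.hom] {L M : X.left.Modules} (hL : PicF.IsInvertible L) (hM : PicF.IsInvertible M) :
    ArSurf.inter R X (CohB1.tensorMod L M) Γ = ArSurf.inter R X L Γ + ArSurf.inter R X M Γ := by
  haveI := isProper_curve Γ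
  obtain ⟨e⟩ := PicMul.pull Γ.ι L M
  have h1 := PicClLib.isInvertible_pullback Γ.ι hL
  have h2 := PicClLib.isInvertible_pullback Γ.ι hM
  unfold ArSurf.inter
  rw [curveDeg_eq Γ h1, curveDeg_eq Γ h2,
    curveDeg_eq Γ (PicClLib.isInvertible_pullback Γ.ι (PicMul.isInvertible_tensor hL hM)),
    CurveRR.deg_congr _ e]
  exact CurveRR.deg_tensor _ Γ.dim_eq h1 h2

theorem inter_structure [IsProper X.hom] :
    ArSurf.inter R X (Coh.structureModule X.left) Γ = 0 := by
  haveI := isProper_curve Γ
  obtain ⟨e⟩ := PicClLib.nonempty_pullback_structureModule Γ.ι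
  unfold ArSurf.inter
  rw [curveDeg_eq Γ (PicClLib.isInvertible_pullback Γ.ι InvX.isInvertible_structureModule),
    CurveRR.deg_congr _ e]
  unfold Curv2.deg
  simp

theorem isInvertible_structure (Y : Scheme.{u}) : PicF.IsInvertible (Coh.structureModule Y) :=
  InvX.isInvertible_structureModule


theorem inter_tensorPow [IsProper X.hom] {L : X.left.Modules} (hL : PicF.IsInvertible L) : ∀ m : ℕ,
    ArSurf.inter R X (CohB1.tensorPow L m) Γ = m * ArSurf.inter R X L Γ
  | 0 => by show ArSurf.inter R X (Coh.structureModule X.left) Γ = _; rw [inter_structure]; simp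
  | m + 1 => by
    show ArSurf.inter R X (CohB1.tensorMod (CohB1.tensorPow L m) L) Γ = _
    rw [inter_tensor Γ (PicMul.isInvertible_tensorPow hL m) hL, inter_tensorPow hL m]
    push_cast
    ring

theorem isInvertible_tensorList {Y : Scheme.{u}} : ∀ l : List Y.Modules, (∀ M ∈ l, PicF.IsInvertible M) →
    PicF.IsInvertible (FGA.tensorList l)
  | [], _ => isInvertible_structure Y
  | M :: l, h => PicMul.isInvertible_tensor (h M (by simp))
      (isInvertible_tensorList l fun N hN => h N (by simp [hN]))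

theorem isInvertible_multiTwist {Y : Scheme.{u}} {n : ℕ} {L : Fin n → Y.Modules}
    (hL : ∀ i, PicF.IsInvertible (L i)) (a : Fin n → ℕ) : PicF.IsInvertible (FGA.multiTwist L a) := by
  refine isInvertible_tensorList _ fun M hM => ?_
  obtain ⟨i, -, rfl⟩ := List.mem_map.1 hM
  exact PicMul.isInvertible_tensorPow (hL i) (a i)

theorem inter_tensorList [IsProper X.hom] : ∀ l : List X.left.Modules, (∀ M ∈ l, PicF.IsInvertible M) →
    ArSurf.inter R X (FGA.tensorList l) Γ = (l.map fun M => ArSurf.inter R X M Γ).sum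
  | [], _ => inter_structure Γ
  | M :: l, h => by
    show ArSurf.inter R X (CohB1.tensorMod M (FGA.tensorList l)) Γ = _
    rw [inter_tensor Γ (h M (by simp)) (isInvertible_tensorList l fun N hN => h N (by simp [hN])),
      inter_tensorList l fun N hN => h N (by simp [hN]), List.map_cons, List.sum_cons]

theorem inter_multiTwist [IsProper X.hom] {n : ℕ} {L : Fin n → X.left.Modules}
    (hL : ∀ i, PicF.IsInvertible (L i)) (a : Fin n → ℕ) :
    ArSurf.inter R X (FGA.multiTwist L a) Γ = ∑ i, (a i : ℤ) * ArSurf.inter R X (L i) Γ := by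
  have h : ∀ M ∈ (List.finRange n).map (fun i => CohB1.tensorPow (L i) (a i)), PicF.IsInvertible M := fun M hM => by
    obtain ⟨i, -, rfl⟩ := List.mem_map.1 hM
    exact PicMul.isInvertible_tensorPow (hL i) (a i)
  rw [FGA.multiTwist, inter_tensorList Γ _ h, List.map_map]
  simp only [Function.comp_def, fun i => inter_tensorPow Γ (hL i) (a i)]
  exact (Fin.sum_univ_def _).symm

theorem isInvertible_of_inverse {Y : Scheme.{u}} {L I : Y.Modules} (hI : PicF.IsInvertible I)
    (h : ClSub.IsInverseOf L I) : PicF.IsInvertible L := by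
  obtain ⟨I', hI', ⟨e⟩⟩ := PicInv.exists_inverse hI
  refine PicMul.isInvertible_of_iso (PicMul.cl_eq_iff.1 ?_).some hI'
  have h1 : PicF.cl L * PicF.cl I = 1 := by rw [← PicMul.cl_tensor]; exact PicMul.cl_eq_iff.2 h
  have h2 : PicF.cl I * PicF.cl I' = 1 := by
    rw [← PicMul.cl_tensor]
    obtain ⟨c⟩ := PicMul.comm I I'
    first
      | exact PicMul.cl_eq_iff.2 ⟨e⟩
      | exact PicMul.cl_eq_iff.2 ⟨c ≪≫ e⟩
  calc PicF.cl I' = (PicF.cl L * PicF.cl I) * PicF.cl I' := by rw [h1, one_mul]
    _ = PicF.cl L := by rw [mul_assoc, h2, mul_one]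

section Fibre

variable (X) {n : ℕ} (Γc : Fin n → ArSurf.VertComp R X)

/-- The closed fibre has trivial class. -/
theorem cl_specialFibreIdeal [Flat X.hom] : PicF.cl (ClSub.idealMod (Models.specialFibreIdeal R X)) = 1 := by
  obtain ⟨ϖ, hirr⟩ := IsDiscreteValuationRing.exists_irreducible R
  refine IdealCl.cl_principal _ (fun U => FibreIdeal.unifOn X ϖ U) (fun {U V} h => ?_)
    (fun U => FibreIdeal.unifOn_mem_nonZeroDivisors X hirr.ne_zero U.2)
    fun U => FibreIdeal.specialFibreIdeal_ideal X hirr.maximalIdeal_eq U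
  unfold FibreIdeal.unifOn
  rw [← CommRingCat.comp_apply, ← Functor.map_comp]
  rfl

theorem multiTwist_mult [Flat X.hom] [LocallyOfFiniteType X.hom]
    (hreg : ∀ x : X.left, IsRegularLocalRing (X.left.presheaf.stalk x)) (hΓ : Models.IsComponentList R X Γc)
    (L : Fin n → X.left.Modules) (hL : ∀ i, ClSub.IsInverseOf (L i) (ClSub.idealMod (Γc i).ι.ker)) :
    (∀ i, PicF.IsInvertible (L i)) ∧ ∏ i, PicF.cl (L i) ^ Models.mult R X (Γc i) = 1 := by
  obtain ⟨heff, hprod⟩ := FibreIdeal.result X Γc hΓ hreg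
  refine ⟨fun i => isInvertible_of_inverse (IdealCl.isInvertible_idealMod (heff i)) (hL i), ?_⟩
  have h1 : ∀ i, PicF.cl (L i) * PicF.cl (ClSub.idealMod (Γc i).ι.ker) = 1 := fun i => by
    rw [← PicMul.cl_tensor]; exact PicMul.cl_eq_iff.2 (hL i)
  have h2 := cl_specialFibreIdeal X
  rw [hprod, (IdealCl.eff_and_cl_prod Finset.univ _ heff _).2] at h2
  calc ∏ i, PicF.cl (L i) ^ Models.mult R X (Γc i)
      = (∏ i, PicF.cl (L i) ^ Models.mult R X (Γc i)) *
        ∏ i, PicF.cl (ClSub.idealMod (Γc i).ι.ker) ^ Models.mult R X (Γc i) := by rw [h2, mul_one]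
    _ = 1 := by rw [← Finset.prod_mul_distrib]; simp only [← mul_pow, h1, one_pow, Finset.prod_const_one]

theorem sum_mult_mul_inter [Flat X.hom] [IsProper X.hom]
    (hreg : ∀ x : X.left, IsRegularLocalRing (X.left.presheaf.stalk x)) (hΓ : Models.IsComponentList R X Γc)
    (L : Fin n → X.left.Modules) (hL : ∀ i, ClSub.IsInverseOf (L i) (ClSub.idealMod (Γc i).ι.ker))
    (i : Fin n) : ∑ j, (Models.mult R X (Γc j) : ℤ) * ArSurf.inter R X (L j) (Γc i) = 0 := by
  obtain ⟨hinv, hone⟩ := multiTwist_mult X Γc hreg hΓ L hL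
  rw [← inter_multiTwist (Γc i) hinv, inter_congr (Γc i) (isInvertible_multiTwist hinv _)
    (M := Coh.structureModule X.left) (by rw [IdealCl.cl_multiTwist, hone]; rfl)]
  exact inter_structure _

end Fibre

end Groth.Agent.H26.ArInter
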