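import Groth.Agent.H26.EulerFibre
import Groth.Agent.H26.ArInter
import Groth.Agent.GeomField.GlobalFunctions
import Groth.Agent.Lib.CurveDeg
import Groth.Agent.CurveCohLib.Proper

/-!
# Computation sequences: global functions of vertical divisors
-/

set_option autoImplicit false
set_option linter.style.haveILetI false
set_option linter.unusedSectionVars false
set_option backward.isDefEq.respectTransparency false
set_option backward.isDefEq.respectTransparency.types false
set_option maxHeartbeats 1000000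

universe u

open CategoryTheory CategoryTheory.Limits AlgebraicGeometry TopologicalSpace Opposite
open Groth.Agent.H23
open Groth.Agent.PnCoh.Finite (mapLin deltaLin)
open scoped Groth.Agent.H23.PicMul

noncomputable section

namespace Groth.Agent.H26.Chain

variable {R : Type u} [CommRing R] [IsDomain R] [IsDiscreteValuationRing R] {X : Over (Spec (CommRingCat.of R))}

/-- Restriction between two closed subschemes, as a map of modules. -/
def quotMap {I J : X.left.IdealSheafData} (h : I ≤ J) : ClSub.quotMod I ⟶ ClSub.quotMod J :=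
  (Scheme.Modules.pushforward I.subschemeι).map (ClSub.unitToPush (Scheme.IdealSheafData.inclusion h)) ≫
    (Scheme.Modules.pushforwardComp (Scheme.IdealSheafData.inclusion h) I.subschemeι).hom.app _ ≫
    (Scheme.Modules.pushforwardCongr (Scheme.IdealSheafData.inclusion_subschemeι h)).hom.app _

theorem toSubscheme_quotMap {I J : X.left.IdealSheafData} (h : I ≤ J) :
    ClSub.toSubscheme I ≫ quotMap h = ClSub.toSubscheme J := by
  apply Scheme.Modules.hom_ext
  intro U
  ext s
  exact (ConcreteCategory.congr_hom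
    (Scheme.Hom.congr_app (Scheme.IdealSheafData.inclusion_subschemeι h).symm U) s).symm

/-- The constants. -/
def rho (X : Over (Spec (CommRingCat.of R))) (J : X.left.IdealSheafData) : R →+* Γ(J.subscheme, ⊤) :=
  (J.subschemeι ≫ X.hom).appTop.hom.comp (Scheme.ΓSpecIso (CommRingCat.of R)).inv.hom

/-- Global functions form a field, finite over `R`. -/
def Fld (J : X.left.IdealSheafData) : Prop :=
  IsField Γ(J.subscheme, ⊤) ∧ (rho X J).Finite

theorem rho_inclusion {I J : X.left.IdealSheafData} (h : I ≤ J) (r : R) :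
    (Scheme.IdealSheafData.inclusion h).appTop (rho X I r) = rho X J r := by
  show (I.subschemeι ≫ X.hom).appTop.hom.comp _ |> fun (φ : R →+* _) =>
    (Scheme.IdealSheafData.inclusion h).appTop (φ r) = _
  unfold rho
  rw [← Scheme.IdealSheafData.inclusion_subschemeι h]
  rfl

theorem fld_of_injective {I J : X.left.IdealSheafData} (h : I ≤ J)
    (hinj : Function.Injective (Scheme.IdealSheafData.inclusion h).appTop) (hJ : Fld J) : Fld I := by
  obtain ⟨hf, hfin⟩ := hJ
  letI : Field Γ(J.subscheme, ⊤) := hf.toField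
  haveI : IsDomain Γ(I.subscheme, ⊤) := Function.Injective.isDomain
    (Scheme.IdealSheafData.inclusion h).appTop.hom hinj
  letI : Algebra R Γ(I.subscheme, ⊤) := (rho X I).toAlgebra
  letI : Algebra R Γ(J.subscheme, ⊤) := (rho X J).toAlgebra
  let φ : Γ(I.subscheme, ⊤) →ₐ[R] Γ(J.subscheme, ⊤) :=
    { (Scheme.IdealSheafData.inclusion h).appTop.hom with commutes' := rho_inclusion h }
  haveI : Module.Finite R Γ(J.subscheme, ⊤) := hfin
  haveI hfI : Module.Finite R Γ(I.subscheme, ⊤) :=
    haveI := isNoetherian_of_isNoetherianRing_of_finite R Γ(J.subscheme, ⊤)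
    Module.Finite.of_injective φ.toLinearMap hinj
  refine ⟨?_, hfI⟩
  haveI : Algebra.IsIntegral R Γ(I.subscheme, ⊤) := Algebra.IsIntegral.of_finite R _
  haveI : Algebra.IsIntegral R Γ(J.subscheme, ⊤) := Algebra.IsIntegral.of_finite R _
  haveI : (⊥ : Ideal Γ(I.subscheme, ⊤)).IsPrime := Ideal.isPrime_bot
  have hcomap : (⊥ : Ideal Γ(I.subscheme, ⊤)).comap (algebraMap R _) =
      (⊥ : Ideal Γ(J.subscheme, ⊤)).comap (algebraMap R _) := by
    ext r
    show rho X I r = 0 ↔ rho X J r = 0
    rw [← rho_inclusion h r]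
    exact (map_eq_zero_iff _ hinj).symm
  have hmax : ((⊥ : Ideal Γ(J.subscheme, ⊤)).comap (algebraMap R _)).IsMaximal :=
    haveI : (⊥ : Ideal Γ(J.subscheme, ⊤)).IsMaximal := Ideal.bot_isMaximal
    Ideal.isMaximal_comap_of_isIntegral_of_isMaximal (R := R) _
  exact MulEquiv.isField ((Ideal.Quotient.maximal_ideal_iff_isField_quotient _).1
    (Ideal.isMaximal_of_isIntegral_of_isMaximal_comap (R := R) (⊥ : Ideal Γ(I.subscheme, ⊤)) (hcomap ▸ hmax)))
    (RingEquiv.quotientBot _).symm.toMulEquiv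

variable [IsProper X.hom]

theorem subsingleton_app_top {M : X.left.Modules} (h : Subsingleton (Coh.HH X.left M 0)) :
    Subsingleton Γ(M, ⊤) :=
  (Sheaf.H.equiv₀ (Coh.toAb M) isTerminalTop).symm.toEquiv.subsingleton

/-- Injectivity of restriction along one step. -/
theorem injective_inclusion (Γc : ArSurf.VertComp R X) {J : X.left.IdealSheafData}
    (hJ : BlowUp.IsEffCartierIdeal J)
    (h0 : Subsingleton (Coh.HH Γc.curve.left ((Scheme.Modules.pullback Γc.ι).obj (ClSub.idealMod J)) 0))
    (hle : J * Γc.ι.ker ≤ J) : Function.Injective (Scheme.IdealSheafData.inclusion hle).appTop := by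
  haveI : IsLocallyNoetherian X.left := LocallyOfFiniteType.isLocallyNoetherian X.hom
  have hA := IdealCl.isInvertible_idealMod hJ
  let A := ClSub.idealMod J
  let K := Γc.ι.ker
  haveI := IdealCl.isEquivalence_tensor hA
  haveI : Mono (ClSub.idealModι K) := inferInstanceAs (Mono (kernel.ι _))
  haveI : Mono (ClSub.idealModι J) := inferInstanceAs (Mono (kernel.ι _))
  haveI : Mono (DivisorExt.mulIdeal K A) := by
    haveI : Mono ((DCoh.tensorBi.obj A).map (ClSub.idealModι K)) := inferInstance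
    exact mono_comp _ _
  let f := DivisorExt.mulIdeal K A
  let g : A ⟶ Coh.structureModule X.left := ClSub.idealModι J
  let T : ShortComplex X.left.Modules :=
    ShortComplex.mk (cokernel.map f (f ≫ g) (𝟙 _) g (by simp)) (cokernel.map (f ≫ g) g f (𝟙 _) (by simp))
      ((kernelCokernelCompSequence_exact f g).toIsComplex.zero' 3 4 5)
  have hT : T.ShortExact := by
    have h1 : T.Exact := (kernelCokernelCompSequence_exact f g).exact' 3 4 5
    haveI : Mono T.f := ((kernelCokernelCompSequence_exact f g).exact' 2 3 4).mono_g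
      ((isZero_kernel_of_mono g).eq_of_src _ _)
    haveI : Epi T.g := inferInstanceAs (Epi ((kernelCokernelCompSequence f g).map' 4 5))
    exact ShortComplex.ShortExact.mk h1
  obtain ⟨e₁⟩ := DivisorExt.nonempty_cokernel_mulIdeal K A
  obtain ⟨e₂⟩ := EulerFibre.nonempty_tensor_quotMod_iso Γc hA
  obtain ⟨e, he⟩ : ∃ e : (DCoh.tensorBi.obj A).obj (ClSub.idealMod K) ≅ ClSub.idealMod (J * K),
      e.hom ≫ ClSub.idealModι (J * K) = f ≫ g := EulerFibre.exists_mul_iso K J hJ
  have hπ : ∀ I : X.left.IdealSheafData, cokernel.π (ClSub.idealModι I) ≫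
      (IsColimit.coconePointUniqueUpToIso (cokernelIsCokernel (ClSub.idealModι I))
        (DivisorExt.ideal_shortExact I).gIsCokernel).hom = ClSub.toSubscheme I := fun I =>
    IsColimit.comp_coconePointUniqueUpToIso_hom (cokernelIsCokernel (ClSub.idealModι I)) _ WalkingParallelPair.one
  let qJ := IsColimit.coconePointUniqueUpToIso (cokernelIsCokernel (ClSub.idealModι J))
    (DivisorExt.ideal_shortExact J).gIsCokernel
  let qK := IsColimit.coconePointUniqueUpToIso (cokernelIsCokernel (ClSub.idealModι (J * K)))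
    (DivisorExt.ideal_shortExact (J * K)).gIsCokernel
  let qI := cokernel.mapIso (f ≫ g) (ClSub.idealModι (J * K)) e (Iso.refl _) (by simp [he]) ≪≫ qK
  have hπJ : cokernel.π g ≫ qJ.hom = ClSub.toSubscheme J :=
    hπ J
  have hπI : cokernel.π (f ≫ g) ≫ qI.hom = ClSub.toSubscheme (J * K) := by
    simp only [qI, Iso.trans_hom, cokernel.mapIso_hom, cokernel.π_desc_assoc, Iso.refl_hom, Category.id_comp]
    exact hπ (J * K)
  have hq : qI.hom ≫ quotMap hle = T.g ≫ qJ.hom := by
    rw [← cancel_epi (cokernel.π (f ≫ g)), ← Category.assoc, hπI, toSubscheme_quotMap]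
    refine hπJ.symm.trans ?_
    show _ = cokernel.π (f ≫ g) ≫ cokernel.map (f ≫ g) g f (𝟙 _) (by simp) ≫ qJ.hom
    rw [cokernel.π_desc_assoc, Category.id_comp]
  have hX1 : Subsingleton (Coh.HH X.left T.X₁ 0) := by
    haveI := h0
    obtain ⟨a⟩ := QCoh.HH_push_of_isAffineHom Γc.ι (QCoh.isQCoh_pullback Γc.ι (PPSheaf.isQCoh_idealMod J)) 0
    haveI : Subsingleton (Coh.HH X.left ((Scheme.Modules.pushforward Γc.ι).obj
        ((Scheme.Modules.pullback Γc.ι).obj A)) 0) := a.symm.toEquiv.subsingleton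
    exact (NormalLib.hhIso (A := R) (e₁ ≪≫ e₂) 0).toEquiv.subsingleton
  have hTg : ∀ t : Γ(T.X₂, ⊤), T.g.app ⊤ t = 0 → t = 0 := fun t ht => by
    let eq2 := Sheaf.H.equiv₀ (Coh.toAb T.X₂) isTerminalTop
    have hn := Sheaf.H.equiv₀_naturality isTerminalTop ((QCoh.toAbFunctor X.left).map T.g) (eq2.symm t)
    have h1 : mapLin R T.g 0 (eq2.symm t) = 0 := by
      apply (Sheaf.H.equiv₀ (Coh.toAb T.X₃) isTerminalTop).injective
      refine Eq.trans hn.symm ?_
      rw [map_zero]
      show T.g.app ⊤ (eq2 (eq2.symm t)) = 0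
      rw [AddEquiv.apply_symm_apply]
      exact ht
    have h2 : eq2.symm t ∈ LinearMap.range (mapLin R T.f 0) := by
      rw [← CurveCohLib.ker_mapLin_g R hT 0]
      exact h1
    obtain ⟨y, hy⟩ := h2
    rw [Subsingleton.elim y 0, map_zero] at hy
    exact eq2.symm.injective (hy.symm.trans (map_zero _).symm)
  refine (injective_iff_map_eq_zero _).2 fun s hs => ?_
  have h1 : (quotMap hle).app ⊤ s = 0 := by
    show (J.subscheme.presheaf.map _) ((Scheme.IdealSheafData.inclusion hle).app _ s) = 0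
    erw [hs, map_zero]
  have h2 : qI.hom.app ⊤ (qI.inv.app ⊤ s) = s :=
    ConcreteCategory.congr_hom (congrArg (fun φ => Scheme.Modules.Hom.app φ ⊤) qI.inv_hom_id) s
  have h3 : qI.inv.app ⊤ s = 0 := hTg _ (by
    refine (QCoh.app_injective qJ.hom ⊤) ?_
    rw [map_zero, ← h1]
    refine (ConcreteCategory.congr_hom (congrArg (fun φ => Scheme.Modules.Hom.app φ ⊤) hq) _).symm.trans ?_
    exact congrArg ((quotMap hle).app ⊤) h2)
  rw [← h2, h3, map_zero]

/-- A curve. -/
theorem fld_ker (Γc : ArSurf.VertComp R X) : Fld (Γc.ι.ker : X.left.IdealSheafData) := by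
  let k := IsLocalRing.ResidueField R
  haveI := ArInter.isProper_curve Γc
  haveI := CurveCohLib.isNoetherian_of_proper (k := k) (X := Γc.curve.left)
  let t := Γc.ι.toImage
  have hbij : Function.Bijective (Scheme.Hom.appTop t) :=
    ConcreteCategory.bijective_of_isIso (Scheme.Hom.appTop t)
  let et : Γ(Γc.ι.ker.subscheme, ⊤) ≃+* Γ(Γc.curve.left, ⊤) := RingEquiv.ofBijective (Scheme.Hom.appTop t).hom hbij
  refine ⟨MulEquiv.isField (GeomField.isField_globalFunctions k Γc.curve.left) et.toMulEquiv, ?_⟩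
  have hcomp : et.toRingHom.comp (rho X Γc.ι.ker) =
      ((Γc.curve.left ↘ Spec (CommRingCat.of k)).appTop.hom.comp (Scheme.ΓSpecIso (CommRingCat.of k)).inv.hom).comp
        (IsLocalRing.residue R) := by
    ext r
    show (t ≫ Γc.ι.ker.subschemeι ≫ X.hom).appTop ((Scheme.ΓSpecIso (CommRingCat.of R)).inv r) = _
    rw [Scheme.Hom.toImage_imageι_assoc, Γc.w, Scheme.Hom.comp_appTop]
    exact congrArg Γc.curve.hom.appTop (ConcreteCategory.congr_hom
      (Scheme.ΓSpecIso_inv_naturality (CommRingCat.ofHom (IsLocalRing.residue R))) r).symm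
  have hk : ((Γc.curve.left ↘ Spec (CommRingCat.of k)).appTop.hom.comp
      (Scheme.ΓSpecIso (CommRingCat.of k)).inv.hom).Finite := by
    letI := GeomField.globalAlgebra k Γc.curve.left
    show Module.Finite k Γ(Γc.curve.left, ⊤)
    refine Module.finite_of_finrank_pos ?_
    rw [← GeomField.finrank_HH_zero]
    haveI := CurveCohLib.finite_HH (k := k) (X := Γc.curve.left) QCoh.isCoh_structureModule' 0
    haveI : Nonempty (⊤ : Γc.curve.left.Opens) := ⟨⟨genericPoint Γc.curve.left, trivial⟩⟩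
    haveI : Nontrivial (Coh.HH Γc.curve.left (Coh.structureModule Γc.curve.left) 0) := by
      haveI : Nontrivial Γ(Γc.curve.left, ⊤) := inferInstance
      let e : Coh.HH Γc.curve.left (Coh.structureModule Γc.curve.left) 0 ≃+ Γ(Γc.curve.left, ⊤) :=
        Sheaf.H.equiv₀ (Coh.toAb (Coh.structureModule Γc.curve.left)) isTerminalTop
      exact e.toEquiv.nontrivial
    exact Module.finrank_pos
  have h : rho X Γc.ι.ker = et.symm.toRingHom.comp (((Γc.curve.left ↘ Spec (CommRingCat.of k)).appTop.hom.comp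
      (Scheme.ΓSpecIso (CommRingCat.of k)).inv.hom).comp (IsLocalRing.residue R)) := by
    rw [← hcomp]
    ext r
    exact (et.symm_apply_apply _).symm
  show (rho X Γc.ι.ker).Finite
  rw [h]
  exact (RingHom.Finite.of_surjective et.symm.toRingHom et.symm.surjective).comp
    (hk.comp (RingHom.Finite.of_surjective _ IsLocalRing.residue_surjective))

variable {n : ℕ} {Γc : Fin n → ArSurf.VertComp R X} {L : Fin n → X.left.Modules}
  (heff : ∀ i, BlowUp.IsEffCartierIdeal (Γc i).ι.ker)
  (hL : ∀ i, ClSub.IsInverseOf (L i) (ClSub.idealMod (Γc i).ι.ker))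

include heff hL in
theorem inter_prod (a : Fin n → ℕ) (Γ : ArSurf.VertComp R X) :
    ArSurf.inter R X (ClSub.idealMod (∏ j, (Γc j).ι.ker ^ a j)) Γ =
      -∑ j, (a j : ℤ) * ArSurf.inter R X (L j) Γ := by
  obtain ⟨hJ, hcl⟩ := IdealCl.eff_and_cl_prod Finset.univ (fun j => (Γc j).ι.ker) heff a
  have hinv : ∀ j, PicF.IsInvertible (L j) := fun j =>
    ArInter.isInvertible_of_inverse (IdealCl.isInvertible_idealMod (heff j)) (hL j)
  have hI := IdealCl.isInvertible_idealMod hJ
  have hT := ArInter.isInvertible_multiTwist hinv a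
  have h1 : PicF.cl (CohB1.tensorMod (ClSub.idealMod (∏ j, (Γc j).ι.ker ^ a j)) (FGA.multiTwist L a)) = 1 := by
    rw [PicMul.cl_tensor, hcl, IdealCl.cl_multiTwist, ← Finset.prod_mul_distrib]
    refine Finset.prod_eq_one fun j _ => ?_
    rw [← mul_pow, mul_comm (PicF.cl _) (PicF.cl (L j)), ← PicMul.cl_tensor, PicMul.cl_eq_iff.2 (hL j)]
    exact one_pow _
  have h2 := ArInter.inter_congr Γ (PicMul.isInvertible_tensor hI hT)
    (M := Coh.structureModule X.left) (h1.trans PicMul.one_def)
  rw [ArInter.inter_tensor Γ hI hT, ArInter.inter_structure, ArInter.inter_multiTwist Γ hinv] at h2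
  linarith

include heff hL in
/-- One step. -/
theorem fld_step (a : Fin n → ℕ) (i : Fin n)
    (hpos : 0 < ∑ j, (a j : ℤ) * ArSurf.inter R X (L j) (Γc i))
    (h : Fld (∏ j, (Γc j).ι.ker ^ a j)) :
    Fld (∏ j, (Γc j).ι.ker ^ (a + Pi.single i 1 : Fin n → ℕ) j) := by
  classical
  obtain ⟨hJ, -⟩ := IdealCl.eff_and_cl_prod Finset.univ (fun j => (Γc j).ι.ker) heff a
  have hprod : ∏ j, (Γc j).ι.ker ^ (a + Pi.single i 1 : Fin n → ℕ) j =
      (∏ j, (Γc j).ι.ker ^ a j) * (Γc i).ι.ker := by
    simp only [Pi.add_apply, pow_add, Finset.prod_mul_distrib, Pi.single_apply, pow_ite, pow_one, pow_zero,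
      Finset.prod_ite_eq', Finset.mem_univ, if_true]
  rw [hprod]
  have hle : (∏ j, (Γc j).ι.ker ^ a j) * (Γc i).ι.ker ≤ ∏ j, (Γc j).ι.ker ^ a j := fun U => by
    exact Ideal.mul_le_left (I := (∏ j, (Γc j).ι.ker ^ a j : X.left.IdealSheafData).ideal U)
      (J := (Γc i).ι.ker.ideal U)
  let k := IsLocalRing.ResidueField R
  haveI := ArInter.isProper_curve (Γc i)
  haveI := CurveCohLib.isNoetherian_of_proper (k := k) (X := (Γc i).curve.left)
  have hN := PicClLib.isInvertible_pullback (Γc i).ι (IdealCl.isInvertible_idealMod hJ)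
  have hneg : Curv2.deg k (Γc i).curve.left
      ((Scheme.Modules.pullback (Γc i).ι).obj (ClSub.idealMod (∏ j, (Γc j).ι.ker ^ a j))) 1 < 0 := by
    rw [← ArInter.curveDeg_eq (Γc i) hN]
    have := inter_prod heff hL a (Γc i)
    unfold ArSurf.inter at this hpos
    rw [this]
    linarith
  refine fld_of_injective hle (injective_inclusion (Γc i) hJ ?_ hle) h
  haveI := CurveCohLib.finite_HH (k := k) (X := (Γc i).curve.left) (AmpleVan.isCoh_invertible hN) 0
  refine (Module.finrank_zero_iff (R := k)).1 (by_contra fun hne => ?_)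
  obtain ⟨σ, hσ⟩ := CurveRR.exists_hom_ne_zero k hne
  have := (CurveDeg.deg_le_and_isIso k (Γc i).dim_eq.le CurveDeg.isInvertible_structureModule hN σ hσ).1
  rw [CurveDeg.deg_structureModule] at this
  omega

include heff hL in
/-- Climbing to a target. -/
theorem exists_chain (z : Fin n → ℕ) :
    ∀ (N : ℕ) (a₀ : Fin n → ℕ), (∑ i, z i) - (∑ i, a₀ i) = N → a₀ ≤ z → Fld (∏ j, (Γc j).ι.ker ^ a₀ j) →
      (∀ a : Fin n → ℕ, a₀ ≤ a → a ≤ z → a ≠ z →
        ∃ i, a i < z i ∧ 0 < ∑ j, (a j : ℤ) * ArSurf.inter R X (L j) (Γc i)) →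
      ∃ (s : ℕ) (c : Fin (s + 1) → Fin n → ℕ), c 0 = a₀ ∧ c (Fin.last s) = z ∧
        (∀ j : Fin s, ∃ i, c j.succ = c j.castSucc + Pi.single i 1) ∧
        ∀ j, Fld (∏ i, (Γc i).ι.ker ^ c j i) := by
  classical
  intro N
  induction N with
  | zero =>
    intro a₀ hN hle h0 _
    obtain rfl : a₀ = z := funext fun i =>
      (Finset.sum_eq_sum_iff_of_le (fun i _ => hle i)).1
        (le_antisymm (Finset.sum_le_sum fun i _ => hle i) (by omega)) i (Finset.mem_univ i)
    exact ⟨0, fun _ => a₀, rfl, rfl, fun j => j.elim0, fun _ => h0⟩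
  | succ N ih =>
    intro a₀ hN hle h0 hstep
    obtain ⟨i, hi, hpos⟩ := hstep a₀ le_rfl hle (fun h => by subst h; omega)
    have hsum : ∑ j, (a₀ + Pi.single i 1 : Fin n → ℕ) j = ∑ j, a₀ j + 1 := by
      simp [Finset.sum_add_distrib]
    have hle' : a₀ + Pi.single i 1 ≤ z := fun j => by
      by_cases h : j = i
      · subst h; simp only [Pi.add_apply, Pi.single_eq_same]; omega
      · simp only [Pi.add_apply, Pi.single_eq_of_ne h, add_zero]; exact hle j
    obtain ⟨s, c, hc0, hcl, hcs, hcf⟩ := ih (a₀ + Pi.single i 1) (by omega) hle'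
      (fld_step heff hL a₀ i hpos h0)
      (fun a ha => hstep a fun j => le_trans (Nat.le_add_right _ _) (ha j))
    refine ⟨s + 1, Fin.cons a₀ c, rfl, ?_, fun j => ?_, fun j => ?_⟩
    · rw [← Fin.succ_last, Fin.cons_succ, hcl]
    · refine Fin.cases ⟨i, ?_⟩ (fun j => ?_) j
      · rw [Fin.cons_succ, hc0, Fin.castSucc_zero, Fin.cons_zero]
      · obtain ⟨l, hl⟩ := hcs j
        exact ⟨l, by rw [Fin.cons_succ, ← Fin.succ_castSucc, Fin.cons_succ, hl]⟩
    · refine Fin.cases ?_ (fun j => ?_) j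
      · rw [Fin.cons_zero]; exact h0
      · rw [Fin.cons_succ]; exact hcf j

end Groth.Agent.H26.Chain
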