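import Groth.Agent.H26.FibDimOne
import Groth.Agent.NQF.FibreComp
import Groth.Agent.H23.RedSub
import Groth.Prelude.Def_ArSurf

/-!
# The components of the closed fibre of an integral flat surface over a DVR are vertical curves
-/

set_option autoImplicit false
set_option linter.style.haveILetI false

universe u

open AlgebraicGeometry CategoryTheory TopologicalSpace

namespace Groth.Agent.H26.CompList

variable {R : Type u} [CommRing R] [IsDomain R] [IsDiscreteValuationRing R]
  {X : Over (Spec (CommRingCat.of R))}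

/-- A morphism from a reduced scheme into the closed point factors through the residue field. -/
theorem exists_fac {W : Scheme.{u}} [IsReduced W] (g : W ⟶ Spec (CommRingCat.of R))
    (hg : ∀ w : W, g w = IsLocalRing.closedPoint R) :
    ∃ g' : W ⟶ Spec (CommRingCat.of (IsLocalRing.ResidueField R)),
      g' ≫ Spec.map (CommRingCat.ofHom (IsLocalRing.residue R)) = g := by
  let φ : R →+* Γ(W, ⊤) := g.appTop.hom.comp (Scheme.ΓSpecIso (CommRingCat.of R)).inv.hom
  have hker : ∀ a ∈ IsLocalRing.maximalIdeal R, φ a = 0 := fun a ha => by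
    rw [← basicOpen_eq_bot_iff]
    refine SetLike.coe_injective (Set.eq_empty_iff_forall_notMem.2 fun w hw => ?_)
    have h : w ∈ g ⁻¹ᵁ (Spec (CommRingCat.of R)).basicOpen ((Scheme.ΓSpecIso (CommRingCat.of R)).inv a) := by
      rw [Scheme.preimage_basicOpen_top]
      exact hw
    rw [basicOpen_eq_of_affine] at h
    have h' : a ∉ (g w).asIdeal := h
    rw [hg w] at h'
    exact h' ha
  let ψ : IsLocalRing.ResidueField R →+* Γ(W, ⊤) := Ideal.Quotient.lift _ φ hker
  refine ⟨W.toSpecΓ ≫ Spec.map (CommRingCat.ofHom ψ), ?_⟩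
  rw [Category.assoc, ← Spec.map_comp]
  have hψ : CommRingCat.ofHom (IsLocalRing.residue R) ≫ CommRingCat.ofHom ψ =
      (Scheme.ΓSpecIso (CommRingCat.of R)).inv ≫ g.appTop :=
    CommRingCat.hom_ext (RingHom.ext fun a => rfl)
  rw [hψ, Spec.map_comp, ← Scheme.toSpecΓ_naturality_assoc, toSpecΓ_SpecMap_ΓSpecIso_inv]
  exact Category.comp_id g

theorem exists_vertComp [IsIntegral X.left] [LocallyOfFiniteType X.hom] [Flat X.hom]
    (hdim : topologicalKrullDim X.left = 2) {Z : Set X.left} (hZ : Z ∈ Models.fibreComponents R X) :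
    ∃ Γc : ArSurf.VertComp R X, Set.range Γc.ι.base = Z := by
  haveI : IsLocallyNoetherian X.left := LocallyOfFiniteType.isLocallyNoetherian X.hom
  have hZc := Groth.Agent.FiniteNormal.isClosed_of_mem_fibreComponents R X hZ
  let I := Scheme.IdealSheafData.vanishingIdeal (⟨Z, hZc⟩ : Closeds X.left)
  let W := I.subscheme
  have hrange : Set.range I.subschemeι.base = Z := by
    show Set.range I.subschemeι = Z
    rw [Scheme.IdealSheafData.range_subschemeι, Scheme.IdealSheafData.coe_support_vanishingIdeal]
    rfl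
  haveI : IsReduced W := H23.RedSub.isReduced_vanishingIdeal _
  haveI : IrreducibleSpace W := by
    haveI : PreirreducibleSpace W := by
      refine ⟨fun u v hu hv hu' hv' => ?_⟩
      obtain ⟨u', hu2, rfl⟩ := I.subschemeι.isEmbedding.isInducing.isOpen_iff.1 hu
      obtain ⟨v', hv2, rfl⟩ := I.subschemeι.isEmbedding.isInducing.isOpen_iff.1 hv
      obtain ⟨a, -, ha⟩ := hu'
      obtain ⟨b, -, hb⟩ := hv'
      obtain ⟨c, hcZ, hc⟩ := hZ.1.1.2 u' v' hu2 hv2 ⟨_, hrange ▸ ⟨a, rfl⟩, ha⟩ ⟨_, hrange ▸ ⟨b, rfl⟩, hb⟩
      rw [← hrange] at hcZ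
      obtain ⟨w, rfl⟩ := hcZ
      exact ⟨w, trivial, hc⟩
    obtain ⟨x, hx⟩ := hZ.1.1.1
    rw [← hrange] at hx
    obtain ⟨w, -⟩ := hx
    exact ⟨⟨w⟩⟩
  haveI : IsIntegral W := isIntegral_of_irreducibleSpace_of_isReduced W
  obtain ⟨g', hg'⟩ := exists_fac (I.subschemeι ≫ X.hom) fun w => by
    rw [Scheme.Hom.comp_apply]
    exact hZ.1.2 (hrange ▸ ⟨w, rfl⟩)
  refine ⟨⟨Over.mk g', I.subschemeι, inferInstance, inferInstanceAs (IsIntegral W), ?_, hg'.symm⟩, hrange⟩
  show topologicalKrullDim W = 1
  rw [topologicalKrullDim, Order.krullDim_eq_of_orderIso irreducibleSetEquivPoints]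
  have hmono : StrictMono (fun w : W => I.subschemeι w) := fun a b hab => by
    obtain ⟨h1, h2⟩ := lt_iff_le_not_ge.1 hab
    refine lt_iff_le_not_ge.2 ⟨Specializes.map h1 I.subschemeι.continuous, fun h => h2 ?_⟩
    exact I.subschemeι.isEmbedding.isInducing.specializes_iff.1 h
  set z := I.subschemeι (genericPoint W)
  have hzcl : closure {z} = Z := by
    have h := (genericPoint_spec W).image I.subschemeι.continuous
    rw [Set.image_univ, hrange, hZc.closure_eq] at h
    exact h
  apply le_antisymm
  · rw [Order.krullDim_eq_iSup_height_of_nonempty]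
    refine WithBot.coe_le_coe.2 (iSup_le fun w => ?_)
    have hlt : I.subschemeι w < genericPoint X.left := by
      refine lt_iff_le_not_ge.2 ⟨genericPoint_specializes _, fun h => ?_⟩
      have hmem : genericPoint X.left ∈ Models.specialFibreSet R X :=
        hZ.1.2 (Specializes.mem_closed h hZc (hrange ▸ ⟨w, rfl⟩))
      have hall : ∀ x : X.left, X.hom x = IsLocalRing.closedPoint R := fun x =>
        (genericPoint_specializes x).mem_closed (Models.isClosed_specialFibreSet R X) hmem
      obtain ⟨η', -, hη'⟩ := Flat.generalizingMap (f := X.hom) (a := genericPoint X.left)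
        (genericPoint_specializes (X.hom (genericPoint X.left)))
      rw [hall, genericPoint_eq_bot_of_affine (CommRingCat.of R)] at hη'
      exact IsDiscreteValuationRing.not_isField R
        (IsLocalRing.isField_iff_maximalIdeal_eq.2 (congrArg PrimeSpectrum.asIdeal hη'))
    have h1 := Order.height_le_height_apply_of_strictMono _ hmono w
    have h2 := Order.height_add_one_le hlt
    have h3 : ((Order.height (genericPoint X.left) : ℕ∞) : WithBot ℕ∞) ≤ ((2 : ℕ∞) : WithBot ℕ∞) := by
      refine (Order.height_le_krullDim _).trans ?_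
      have h := hdim.le
      rw [topologicalKrullDim, Order.krullDim_eq_of_orderIso irreducibleSetEquivPoints] at h
      exact h
    rw [WithBot.coe_le_coe] at h3
    have h4 : Order.height (I.subschemeι w) + 1 ≤ 1 + 1 := h2.trans (by simpa [one_add_one_eq_two] using h3)
    exact h1.trans ((ENat.add_le_add_iff_right (by simp)).1 h4)
  · -- the generic point is not closed
    have hnc : ¬ IsClosed ({z} : Set X.left) := by
      refine FibDimOne.not_isClosed_of_maximal hdim (hZ.1.2 (hrange ▸ ⟨_, rfl⟩)) fun w hw hws => ?_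
      have h2 : closure {w} ⊆ Z := hZ.2
        ⟨isIrreducible_singleton.closure, closure_minimal (Set.singleton_subset_iff.2 hws) (Models.isClosed_specialFibreSet R X)⟩
        (hzcl ▸ hw.closure_subset)
      rw [← hzcl] at h2
      exact (hw.antisymm (specializes_iff_mem_closure.2 (h2 (subset_closure rfl)))).eq
    obtain ⟨w, hw⟩ : ∃ w : W, w ≠ genericPoint W := by
      by_contra hall
      simp only [not_exists, not_not] at hall
      refine hnc ?_
      rw [← closure_subset_iff_isClosed, hzcl, ← hrange]
      rintro _ ⟨w, rfl⟩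
      show I.subschemeι w = z
      rw [hall w]
    have hlt : w < genericPoint W := lt_iff_le_not_ge.2 ⟨genericPoint_specializes w,
      fun h => hw ((Specializes.antisymm (h : w ⤳ genericPoint W) (genericPoint_specializes w)).eq)⟩
    exact (Order.LTSeries.length_le_krullDim ((RelSeries.singleton _ w).snoc (genericPoint W) hlt))

theorem exists_componentList [IsIntegral X.left] [IsProper X.hom] [Flat X.hom]
    (hdim : topologicalKrullDim X.left = 2) :
    ∃ (n : ℕ) (Γc : Fin n → ArSurf.VertComp R X), Models.IsComponentList R X Γc := by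
  haveI : IsLocallyNoetherian X.left := LocallyOfFiniteType.isLocallyNoetherian X.hom
  haveI : CompactSpace X.left := QuasiCompact.compactSpace_of_compactSpace X.hom
  have hfin := Groth.Agent.FiniteNormal.fibreComponents_finite R X
  haveI : Finite (Models.fibreComponents R X) := hfin.to_subtype
  obtain ⟨n, ⟨e⟩⟩ := Finite.exists_equiv_fin (Models.fibreComponents R X)
  choose G hG using fun i : Fin n => exists_vertComp hdim (e.symm i).2
  refine ⟨n, G, fun i j h => ?_, ?_⟩
  · exact e.symm.injective (Subtype.ext ((hG i).symm.trans (h.trans (hG j))))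
  · ext Z
    refine ⟨fun ⟨i, hi⟩ => hi ▸ (show Set.range (G i).ι.base ∈ _ from (hG i).symm ▸ (e.symm i).2), fun hZ => ⟨e ⟨Z, hZ⟩, ?_⟩⟩
    show Set.range (G (e ⟨Z, hZ⟩)).ι.base = Z
    rw [hG, Equiv.symm_apply_apply]

end Groth.Agent.H26.CompList
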