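import Groth.Agent.H26.SectionFibre
import Groth.Agent.GeomField.GlobalFunctions
import Mathlib.AlgebraicGeometry.ValuativeCriterion

/-!
# Constants of a scheme with a rational point
-/

set_option autoImplicit false
set_option linter.style.haveILetI false
set_option backward.isDefEq.respectTransparency false
set_option backward.isDefEq.respectTransparency.types false

universe u

open CategoryTheory CategoryTheory.Limits AlgebraicGeometry TopologicalSpace IsLocalRing

noncomputable section

namespace Groth.Agent.H26.PointConst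

variable {R : Type u} [CommRing R] {X : Over (Spec (CommRingCat.of R))}

/-- A field of global functions with a rational point consists of constants. -/
theorem surjective_of_point {W : Scheme.{u}} (q : W ⟶ X.left) [IsClosedImmersion q] (hf : IsField Γ(W, ⊤)) (w : W)
    (h : Function.Surjective ((X.left.residue (q w)).hom.comp (Models.stalkHom R X (q w)))) :
    Function.Surjective ((q ≫ X.hom).appTop.hom.comp (Scheme.ΓSpecIso (CommRingCat.of R)).inv.hom) := by
  let φ : Γ(W, ⊤) →+* W.residueField w := (W.residue w).hom.comp (W.presheaf.germ ⊤ w trivial).hom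
  have hφ : Function.Injective φ := by
    letI := hf.toField
    exact RingHom.injective φ
  have hsurj : Function.Surjective (q.residueFieldMap w) := fun c => by
    obtain ⟨a, rfl⟩ := W.residue_surjective w c
    obtain ⟨b, rfl⟩ := q.stalkMap_surjective w a
    exact ⟨X.left.residue (q w) b, ConcreteCategory.congr_hom (Scheme.residue_residueFieldMap q w) b⟩
  intro γ
  obtain ⟨c, hc⟩ := hsurj (φ γ)
  obtain ⟨r, hr⟩ := h c
  refine ⟨r, hφ ?_⟩
  rw [← hc, ← hr]
  show W.residue w (W.presheaf.germ ⊤ w trivial ((q ≫ X.hom).appTop ((Scheme.ΓSpecIso (CommRingCat.of R)).inv r))) =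
    q.residueFieldMap w (X.left.residue (q w) (Models.stalkHom R X (q w) r))
  refine Eq.trans ?_ (ConcreteCategory.congr_hom (Scheme.residue_residueFieldMap q w) _).symm
  refine congrArg (W.residue w) ?_
  exact (Scheme.Hom.germ_stalkMap_apply q ⊤ w trivial _).symm

/-- If the constants surject onto a field of global functions, `H⁰` has length one. -/
theorem length_H0 {W : Scheme.{u}} [W.Over (Spec (CommRingCat.of R))] (hf : IsField Γ(W, ⊤))
    (h : Function.Surjective ((W ↘ Spec (CommRingCat.of R)).appTop.hom.comp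
      (Scheme.ΓSpecIso (CommRingCat.of R)).inv.hom)) :
    Module.length R (Coh.HH W (Coh.structureModule W) 0) = 1 := by
  let ρ := (W ↘ Spec (CommRingCat.of R)).appTop.hom.comp (Scheme.ΓSpecIso (CommRingCat.of R)).inv.hom
  letI : Algebra R Γ(W, ⊤) := ρ.toAlgebra
  let e : Coh.HH W (Coh.structureModule W) 0 ≃+ Γ(W, ⊤) :=
    Sheaf.H.equiv₀ (Coh.toAb (Coh.structureModule W)) isTerminalTop
  have he : ∀ (r : Coh.Γtop W) (x : Coh.HH W (Coh.structureModule W) 0),
      e (r • x) = (show Γ(W, ⊤) from r) * e x := by
    intro r x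
    have h := (Sheaf.H.equiv₀_naturality isTerminalTop (Coh.smulAb (Coh.structureModule W) r) x).symm
    refine (show e (r • x) = _ from h).trans ?_
    show (show Γ(W, ⊤) from Coh.resTop W (Opposite.op ⊤) r) * e x = _
    congr 1
    show (W.presheaf.map (homOfLE le_top).op).hom r = r
    rw [show (homOfLE le_top).op = 𝟙 (Opposite.op (⊤ : W.Opens)) from rfl, W.presheaf.map_id]
    rfl
  let eL : Coh.HH W (Coh.structureModule W) 0 ≃ₗ[R] Γ(W, ⊤) := { e with map_smul' := fun c x => he _ x }
  rw [eL.length_eq]
  haveI : IsScalarTower R Γ(W, ⊤) Γ(W, ⊤) := IsScalarTower.of_algebraMap_smul fun _ _ => rfl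
  rw [Module.length_eq_of_surjective (R := Γ(W, ⊤)) (show Function.Surjective (algebraMap R Γ(W, ⊤)) from h)]
  letI := hf.toField
  haveI : IsSimpleModule Γ(W, ⊤) Γ(W, ⊤) := inferInstance
  exact Module.length_eq_one Γ(W, ⊤) _

variable [IsDomain R] [IsDiscreteValuationRing R]

/-- Extension of a rational point. -/
theorem exists_section {C X : Scheme.{u}} {f : C ⟶ Spec (CommRingCat.of (FractionRing R))}
    (p : X ⟶ Spec (CommRingCat.of R)) [IsProper p] (g : C ⟶ X)
    (sq : IsPullback g f p (Spec.map (CommRingCat.ofHom (algebraMap R (FractionRing R)))))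
    (s : Spec (CommRingCat.of (FractionRing R)) ⟶ C) (hs : s ≫ f = 𝟙 _) :
    ∃ σ : Spec (CommRingCat.of R) ⟶ X, σ ≫ p = 𝟙 _ := by
  have h : ValuativeCriterion p := by
    have := ‹IsProper p›
    rw [IsProper.eq_valuativeCriterion] at this
    exact this.1.1.1
  let S : ValuativeCommSq p :=
    { R := R, K := FractionRing R, i₁ := s ≫ g, i₂ := 𝟙 _,
      commSq := ⟨by rw [Category.assoc, sq.w, ← Category.assoc, hs, Category.id_comp, Category.comp_id]⟩ }
  obtain ⟨⟨l⟩⟩ := h.existence S
  exact ⟨l.l, l.fac_right⟩

end Groth.Agent.H26.PointConst
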