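import Groth.Agent.H23.GysinPb
import Groth.Prelude.Def_Coh
import Mathlib.AlgebraicGeometry.Morphisms.Flat
import Mathlib.RingTheory.LocalRing.ResidueField.Basic

/-! The local rings of the closed fibre over a local base. -/

set_option autoImplicit false
set_option linter.style.haveILetI false

universe u

open AlgebraicGeometry CategoryTheory CategoryTheory.Limits

namespace Groth.Agent.H26.FibreQuot

variable {R : Type u} [CommRing R] {X : Scheme.{u}} (f : X ⟶ Spec (CommRingCat.of R))

/-- The map from the base to a local ring. -/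
noncomputable def localMap (x : X) : R →+* X.presheaf.stalk x :=
  (X.presheaf.germ ⊤ x trivial).hom.comp (Coh.toGlobal f)

theorem localMap_eq (x : X) :
    localMap f x = (f.stalkMap x).hom.comp
      ((Scheme.ΓSpecIso (CommRingCat.of R)).inv ≫ (Spec (CommRingCat.of R)).presheaf.germ ⊤ (f x) trivial).hom := by
  refine (congrArg CommRingCat.Hom.hom (?_ :
    ((Scheme.ΓSpecIso (CommRingCat.of R)).inv ≫ f.appTop) ≫ X.presheaf.germ ⊤ x trivial =
    ((Scheme.ΓSpecIso (CommRingCat.of R)).inv ≫ (Spec (CommRingCat.of R)).presheaf.germ ⊤ (f x) trivial) ≫ f.stalkMap x))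
  rw [Category.assoc, Category.assoc]
  erw [Scheme.Hom.germ_stalkMap]
  rfl

theorem flat_localMap [Flat f] (x : X) : (localMap f x).Flat := by
  rw [localMap_eq]
  refine RingHom.Flat.comp ?_ (Flat.stalkMap f x)
  letI : Algebra R ((Spec (CommRingCat.of R)).presheaf.stalk (f x)) := StructureSheaf.stalkAlgebra R (f x)
  haveI : (f x).asIdeal.IsPrime := (f x).isPrime
  haveI hl : IsLocalization.AtPrime ((Spec (CommRingCat.of R)).presheaf.stalk (f x)) (f x).asIdeal :=
    StructureSheaf.IsLocalization.to_stalk (CommRingCat.of R) (f x)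
  show (algebraMap R ((Spec (CommRingCat.of R)).presheaf.stalk (f x))).Flat
  rw [RingHom.flat_algebraMap_iff]
  exact IsLocalization.flat _ (f x).asIdeal.primeCompl

theorem isSMulRegular_localMap [IsDomain R] [Flat f] (x : X) {r : R} (hr : r ≠ 0) :
    IsSMulRegular (X.presheaf.stalk x) (localMap f x r) := by
  letI := (localMap f x).toAlgebra
  haveI : Module.Flat R (X.presheaf.stalk x) := flat_localMap f x
  exact (IsSMulRegular.of_ne_zero hr : IsSMulRegular R r).of_flat

theorem ker_stalkMap_fst_le_map [IsLocalRing R] {D : Scheme.{u}} (i : D ⟶ Spec (CommRingCat.of R))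
    [IsClosedImmersion i] (z : (pullback f i : Scheme.{u})) :
    RingHom.ker ((pullback.fst f i).stalkMap z).hom ≤
      (IsLocalRing.maximalIdeal R).map (localMap f (pullback.fst f i z)) := by
  intro t ht
  rw [H23.GysinPb.ker_stalkMap_fst] at ht
  set d := pullback.snd f i z with hd
  have hle : RingHom.ker (i.stalkMap d).hom ≤ IsLocalRing.maximalIdeal _ :=
    IsLocalRing.le_maximalIdeal (RingHom.ker_ne_top _)
  have ht2 := Ideal.map_mono hle ht
  let y : Spec (CommRingCat.of R) := i d
  haveI : y.asIdeal.IsPrime := y.isPrime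
  letI : Algebra R ((Spec (CommRingCat.of R)).presheaf.stalk y) := StructureSheaf.stalkAlgebra R y
  haveI : IsLocalization.AtPrime ((Spec (CommRingCat.of R)).presheaf.stalk y) y.asIdeal :=
    StructureSheaf.IsLocalization.to_stalk (CommRingCat.of R) y
  rw [← IsLocalization.AtPrime.map_eq_maximalIdeal y.asIdeal ((Spec (CommRingCat.of R)).presheaf.stalk y)] at ht2
  erw [Ideal.map_map] at ht2
  have hcomp : (H23.GysinPb.baseMap f i z).hom.comp
      (algebraMap R ((Spec (CommRingCat.of R)).presheaf.stalk y)) = localMap f (pullback.fst f i z) := by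
    have h0 : algebraMap R ((Spec (CommRingCat.of R)).presheaf.stalk y) =
        ((Scheme.ΓSpecIso (CommRingCat.of R)).inv ≫ (Spec (CommRingCat.of R)).presheaf.germ ⊤ y trivial).hom := rfl
    rw [h0, localMap_eq]
    refine congrArg CommRingCat.Hom.hom (?_ : ((Scheme.ΓSpecIso (CommRingCat.of R)).inv ≫
      (Spec (CommRingCat.of R)).presheaf.germ ⊤ y trivial) ≫ H23.GysinPb.baseMap f i z =
      ((Scheme.ΓSpecIso (CommRingCat.of R)).inv ≫ (Spec (CommRingCat.of R)).presheaf.germ ⊤ _ trivial) ≫
        f.stalkMap (pullback.fst f i z))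
    simp only [H23.GysinPb.baseMap, Category.assoc, y]
    erw [TopCat.Presheaf.germ_stalkSpecializes_assoc]
  erw [hcomp] at ht2
  exact Ideal.map_mono (IsLocalRing.le_maximalIdeal y.isPrime.ne_top) ht2

/-- The local ring of the closed fibre is the local ring modulo the maximal ideal of the base. -/
theorem ker_stalkMap_residue [IsLocalRing R]
    [IsClosedImmersion (Spec.map (CommRingCat.ofHom (IsLocalRing.residue R)))]
    (z : (pullback f (Spec.map (CommRingCat.ofHom (IsLocalRing.residue R))) : Scheme.{u})) :
    RingHom.ker ((pullback.fst f (Spec.map (CommRingCat.ofHom (IsLocalRing.residue R)))).stalkMap z).hom =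
      (IsLocalRing.maximalIdeal R).map
        (localMap f (pullback.fst f (Spec.map (CommRingCat.ofHom (IsLocalRing.residue R))) z)) := by
  refine le_antisymm (fun t ht => ?_) (Ideal.map_le_iff_le_comap.2 fun r hr => ?_)
  · exact ker_stalkMap_fst_le_map f _ z ht
  · have h : ((Scheme.ΓSpecIso (CommRingCat.of R)).inv ≫ f.appTop) ≫ (pullback.fst f (Spec.map (CommRingCat.ofHom (IsLocalRing.residue R)))).appTop =
        CommRingCat.ofHom (IsLocalRing.residue R) ≫ (Scheme.ΓSpecIso _).inv ≫ (pullback.snd f (Spec.map (CommRingCat.ofHom (IsLocalRing.residue R)))).appTop := by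
      rw [Category.assoc, ← Scheme.Hom.comp_appTop, pullback.condition, Scheme.Hom.comp_appTop,
        ← Scheme.ΓSpecIso_inv_naturality_assoc]
    have h2 := congrArg (fun φ => φ.hom r) h
    simp only [CommRingCat.hom_comp, RingHom.comp_apply, CommRingCat.hom_ofHom,
      (IsLocalRing.residue_eq_zero_iff r).2 hr, map_zero] at h2
    have h3 := congrArg (fun φ => φ.hom (Coh.toGlobal f r))
      ((pullback.fst f (Spec.map (CommRingCat.ofHom (IsLocalRing.residue R)))).germ_stalkMap (U := ⊤) z trivial)
    show ((pullback.fst f (Spec.map (CommRingCat.ofHom (IsLocalRing.residue R)))).stalkMap z).hom ((X.presheaf.germ ⊤ _ trivial).hom (Coh.toGlobal f r)) = 0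
    refine h3.trans ?_
    show ((pullback f (Spec.map (CommRingCat.ofHom (IsLocalRing.residue R)))).presheaf.germ ⊤ z trivial).hom ((pullback.fst f (Spec.map (CommRingCat.ofHom (IsLocalRing.residue R)))).appTop.hom (Coh.toGlobal f r)) = 0
    erw [h2, map_zero]

end Groth.Agent.H26.FibreQuot
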