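import Groth.Prelude.Def_ModelsG
import Groth.Agent.RegLoc6.Basic
import Groth.Agent.H23.StalkPrimes
import Groth.Agent.H26.FibreQuot

/-!
# The closed fibre of a regular model at the specialisation of a section
-/

set_option autoImplicit false
set_option linter.style.haveILetI false

universe u

open CategoryTheory AlgebraicGeometry IsLocalRing

namespace Groth.Agent.H26.SectionFibre

variable {R : Type u} [CommRing R] (X : Over (Spec (CommRingCat.of R)))

theorem SpecMap_stalkHom (x : X.left) :
    Spec.map (CommRingCat.ofHom (Models.stalkHom R X x)) = X.left.fromSpecStalk x ≫ X.hom := by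
  rw [show CommRingCat.ofHom (Models.stalkHom R X x) =
      ((Scheme.ΓSpecIso (CommRingCat.of R)).inv ≫ X.hom.appTop) ≫ X.left.presheaf.germ ⊤ x trivial from rfl,
    Spec.map_comp, ← Scheme.fromSpecStalk_toSpecΓ, Category.assoc, Spec.map_comp,
    ← Scheme.toSpecΓ_naturality_assoc]
  rw [← SpecMap_ΓSpecIso_hom, ← Spec.map_comp, Iso.inv_hom_id, Spec.map_id, Category.comp_id]

theorem comap_stalkHom (x : X.left) :
    (maximalIdeal (X.left.presheaf.stalk x)).comap (Models.stalkHom R X x) =
      (X.hom x : PrimeSpectrum R).asIdeal := by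
  have h := congrArg (fun g : Spec (X.left.presheaf.stalk x) ⟶ Spec (CommRingCat.of R) =>
    g (closedPoint (X.left.presheaf.stalk x))) (SpecMap_stalkHom X x)
  simp only [Scheme.Hom.comp_apply, Scheme.fromSpecStalk_closedPoint] at h
  exact congrArg PrimeSpectrum.asIdeal h

theorem stalkSpecializes_stalkHom {x y : X.left} (h : y ⤳ x) :
    (X.left.presheaf.stalkSpecializes h).hom.comp (Models.stalkHom R X x) = Models.stalkHom R X y := by
  rw [Models.stalkHom, Models.stalkHom, ← RingHom.comp_assoc, ← CommRingCat.hom_comp,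
    TopCat.Presheaf.germ_stalkSpecializes]

variable [IsDomain R] [IsDiscreteValuationRing R]

theorem mem_specialFibre_iff (x : X.left) :
    x ∈ Models.specialFibreSet R X ↔
      (maximalIdeal R).map (Models.stalkHom R X x) ≤ maximalIdeal (X.left.presheaf.stalk x) := by
  rw [Ideal.map_le_iff_le_comap, comap_stalkHom]
  constructor
  · intro (h : X.hom x = closedPoint R)
    rw [h]
    exact le_rfl
  · exact fun h => PrimeSpectrum.ext (le_antisymm (le_maximalIdeal (X.hom x : PrimeSpectrum R).isPrime.ne_top) h)

variable (σ : Spec (CommRingCat.of R) ⟶ X.left) (hσ : σ ≫ X.hom = 𝟙 _)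
include hσ

theorem stalkClosedPointTo_stalkHom (r : R) :
    (Scheme.stalkClosedPointTo σ).hom (Models.stalkHom R X (σ (closedPoint R)) r) = r := by
  have : CommRingCat.ofHom (Models.stalkHom R X (σ (closedPoint R))) ≫ Scheme.stalkClosedPointTo σ =
      𝟙 (CommRingCat.of R) := Spec.map_injective (by
    rw [Spec.map_comp, SpecMap_stalkHom, Scheme.Spec_stalkClosedPointTo_fromSpecStalk_assoc, hσ,
      Spec.map_id])
  exact congrArg (fun f : CommRingCat.of R ⟶ CommRingCat.of R => f.hom r) this

theorem residue_surjective :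
    Function.Surjective ((X.left.residue (σ (closedPoint R))).hom.comp
      (Models.stalkHom R X (σ (closedPoint R)))) := by
  intro c
  obtain ⟨a, rfl⟩ := X.left.residue_surjective (σ (closedPoint R)) c
  let β := (Scheme.stalkClosedPointTo σ).hom
  refine ⟨β a, sub_eq_zero.1 ?_⟩
  show X.left.residue _ (Models.stalkHom R X _ (β a)) - X.left.residue _ a = 0
  rw [← map_sub]
  refine (residue_eq_zero_iff _).2 fun hu => ?_
  have := hu.map β
  rw [map_sub, stalkClosedPointTo_stalkHom X σ hσ, sub_self] at this
  exact not_isUnit_zero this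

/-- The closed fibre is regular at the specialisation of a section. -/
theorem isRegularLocalRing_quot (hreg : IsRegularLocalRing (X.left.presheaf.stalk (σ (closedPoint R)))) :
    IsRegularLocalRing (X.left.presheaf.stalk (σ (closedPoint R)) ⧸
        Ideal.map (Models.stalkHom R X (σ (closedPoint R))) (maximalIdeal R)) := by
  set x := σ (closedPoint R)
  haveI := hreg
  let β := (Scheme.stalkClosedPointTo σ).hom
  obtain ⟨ϖ, hϖ⟩ := IsDiscreteValuationRing.exists_irreducible R
  have hm : (maximalIdeal R).map (Models.stalkHom R X x) = Ideal.span {Models.stalkHom R X x ϖ} := by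
    rw [hϖ.maximalIdeal_eq, Ideal.map_span, Set.image_singleton]
  have hβm : (maximalIdeal (X.left.presheaf.stalk x)).map β ≤ maximalIdeal R :=
    Ideal.map_le_iff_le_comap.2 (le_of_eq (eq_maximalIdeal
      (hI := Ideal.comap_isMaximal_of_surjective β (K := maximalIdeal R) fun r =>
        ⟨_, stalkClosedPointTo_stalkHom X σ hσ r⟩)).symm)
  have h1 : Models.stalkHom R X x ϖ ∈ maximalIdeal (X.left.presheaf.stalk x) := fun hu => by
    have := hu.map β
    rw [stalkClosedPointTo_stalkHom X σ hσ] at this
    exact hϖ.not_isUnit this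
  have h2 : Models.stalkHom R X x ϖ ∉ maximalIdeal (X.left.presheaf.stalk x) ^ 2 := fun h => by
    have h' := Ideal.pow_right_mono hβm 2 (Ideal.map_pow β _ 2 ▸ Ideal.mem_map_of_mem β h)
    rw [stalkClosedPointTo_stalkHom X σ hσ, hϖ.maximalIdeal_eq, Ideal.span_singleton_pow,
      Ideal.mem_span_singleton] at h'
    obtain ⟨c, hc⟩ := h'
    exact hϖ.not_isUnit (IsUnit.of_mul_eq_one c (mul_left_cancel₀ hϖ.ne_zero (by rw [mul_one]; linear_combination -hc)))
  rw [hm]
  exact (RegLoc6.isRegularLocalRing_quot_and h1 h2).1

omit hσ in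
/-- The component through a point at which the closed fibre is a domain. -/
theorem exists_generic {x : X.left}
    (hP : ((maximalIdeal R).map (Models.stalkHom R X x)).IsPrime) :
    ∃ z : X.left, z ⤳ x ∧ closure {z} ∈ Models.fibreComponents R X ∧
      (∀ C ∈ Models.fibreComponents R X, x ∈ C → C = closure {z}) ∧
      (maximalIdeal R).map (Models.stalkHom R X z) = maximalIdeal (X.left.presheaf.stalk z) := by
  obtain ⟨z, hz, hzP⟩ := H23.StalkPrimes.exists_point (X := X.left) (x := x)
    ((maximalIdeal R).map (Models.stalkHom R X x))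
  have hloc := H23.StalkPrimes.isLocalization_primeOf hz
  have hmz : (maximalIdeal R).map (Models.stalkHom R X z) = maximalIdeal (X.left.presheaf.stalk z) := by
    rw [← stalkSpecializes_stalkHom X hz, ← Ideal.map_map, ← hzP]
    letI := (X.left.presheaf.stalkSpecializes hz).hom.toAlgebra
    haveI := (CDiv6.primeOf hz).2
    haveI := hloc
    exact IsLocalization.AtPrime.map_eq_maximalIdeal (CDiv6.primeOf hz).asIdeal _
  have hzfib : z ∈ Models.specialFibreSet R X := (mem_specialFibre_iff X z).2 hmz.le
  have hgen : ∀ g : X.left, g ∈ Models.specialFibreSet R X → g ⤳ x → z ⤳ g := by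
    intro g hg hgx
    rw [← H23.StalkPrimes.primeOf_le_iff hgx hz, hzP, Ideal.map_le_iff_le_comap]
    intro r hr
    rw [Ideal.mem_comap, CDiv6.mem_primeOf]
    have hrg := (mem_specialFibre_iff X g).1 hg (Ideal.mem_map_of_mem (Models.stalkHom R X g) hr)
    rw [← stalkSpecializes_stalkHom X hgx] at hrg
    exact (IsLocalRing.mem_maximalIdeal _).1 hrg
  have hsub : closure ({z} : Set X.left) ⊆ Models.specialFibreSet R X :=
    closure_minimal (Set.singleton_subset_iff.2 hzfib) (Models.isClosed_specialFibreSet R X)
  have hmax : ∀ S : Set X.left, IsIrreducible S → S ⊆ Models.specialFibreSet R X → x ∈ S →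
      S ⊆ closure {z} := by
    intro S hS hSsub hxS
    obtain ⟨g, hg⟩ := QuasiSober.sober hS.closure isClosed_closure
    have hgf : g ∈ Models.specialFibreSet R X :=
      closure_minimal hSsub (Models.isClosed_specialFibreSet R X) hg.mem
    refine subset_closure.trans ?_
    rw [← hg.def]
    exact closure_minimal (Set.singleton_subset_iff.2 (specializes_iff_mem_closure.1
      (hgen g hgf (hg.specializes (subset_closure hxS))))) isClosed_closure
  refine ⟨z, hz, ⟨⟨isIrreducible_singleton.closure, hsub⟩, fun S hS hzS => ?_⟩, fun C hC hxC => ?_, hmz⟩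
  · exact hmax S hS.1 hS.2 (hzS (specializes_iff_mem_closure.1 hz))
  · have hle := hmax C hC.1.1 hC.1.2 hxC
    exact hle.antisymm (hC.2 ⟨isIrreducible_singleton.closure, hsub⟩ hle)

end Groth.Agent.H26.SectionFibre
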