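import Groth.Agent.H26.VertClass
import Groth.Agent.S2209

/-!
# Consequences for Picard groups of regular proper models
-/

set_option autoImplicit false
set_option linter.style.haveILetI false
set_option backward.isDefEq.respectTransparency false
set_option backward.isDefEq.respectTransparency.types false
set_option maxHeartbeats 1000000

universe u

open CategoryTheory CategoryTheory.Limits AlgebraicGeometry TopologicalSpace Opposite
open Groth.Agent.H23
open scoped Groth.Agent.H23.PicMul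

noncomputable section

namespace Groth.Agent.H26.VertClass

/-- A family of natural numbers: a linear combination gives the gcd. -/
theorem exists_bezout {ι : Type*} [Fintype ι] (m : ι → ℕ) :
    ∃ x : ι → ℤ, ((Finset.univ.gcd m : ℕ) : ℤ) = ∑ i, x i * (m i : ℤ) := by
  classical
  obtain ⟨c, hc⟩ := Finset.gcd_eq_sum_mul (R := ℤ) (Finset.univ : Finset ι) fun i => (m i : ℤ)
  have h2 : (Finset.univ.gcd fun i => (m i : ℤ)) ∣ ((Finset.univ.gcd m : ℕ) : ℤ) := by
    rw [Int.dvd_natCast]
    refine Finset.dvd_gcd fun i hi => ?_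
    have h := Finset.gcd_dvd (f := fun i => (m i : ℤ)) hi
    rwa [Int.dvd_natCast] at h
  obtain ⟨q, hq⟩ := h2
  refine ⟨fun i => q * c i, ?_⟩
  rw [hq, hc, Finset.sum_mul]
  exact Finset.sum_congr rfl fun i _ => by ring

variable {R : Type u} [CommRing R] [IsDomain R] [IsDiscreteValuationRing R]
  {X : Over (Spec (CommRingCat.of R))} {n : ℕ} {Γc : Fin n → ArSurf.VertComp R X}

theorem nonempty_index (hΓ : Models.IsComponentList R X Γc)
    (hconn : _root_.IsConnected (Models.specialFibreSet R X)) : Nonempty (Fin n) := by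
  obtain ⟨x, hx⟩ := hconn.nonempty
  let Z : Set (Set X.left) := {T | IsIrreducible T ∧ T ⊆ Models.specialFibreSet R X}
  obtain ⟨C, -, hC⟩ := zorn_subset_nonempty Z (fun c hc hchain hne => by
    refine ⟨⋃₀ c, ⟨⟨?_, ?_⟩, Set.sUnion_subset fun T hT => (hc hT).2⟩, fun T hT => Set.subset_sUnion_of_mem hT⟩
    · obtain ⟨T, hT⟩ := hne
      exact (hc hT).1.1.mono (Set.subset_sUnion_of_mem hT)
    · intro u v hu hv ⟨a, ⟨T, hT, haT⟩, hau⟩ ⟨b, ⟨T', hT', hbT'⟩, hbv⟩
      rcases hchain.total hT hT' with h | h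
      · obtain ⟨q, hq, hq'⟩ := (hc hT').1.2 u v hu hv ⟨a, h haT, hau⟩ ⟨b, hbT', hbv⟩
        exact ⟨q, ⟨T', hT', hq⟩, hq'⟩
      · obtain ⟨q, hq, hq'⟩ := (hc hT).1.2 u v hu hv ⟨a, haT, hau⟩ ⟨b, h hbT', hbv⟩
        exact ⟨q, ⟨T, hT, hq⟩, hq'⟩) {x} ⟨isIrreducible_singleton, Set.singleton_subset_iff.2 hx⟩
  have hmem : C ∈ Models.fibreComponents R X := hC
  rw [← hΓ.2] at hmem
  exact ⟨hmem.choose⟩

variable (D : Data X Γc) (hconn : _root_.IsConnected (Models.specialFibreSet R X))
include D hconn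

theorem multGcd_pos : 0 < Models.multGcd R X Γc := by
  obtain ⟨i⟩ := nonempty_index D.hΓ hconn
  refine Nat.pos_of_ne_zero fun h => ?_
  have h2 := Finset.gcd_eq_zero_iff.1 h i (Finset.mem_univ i)
  have := D.m_pos i
  simp only [Data.m, h2] at this
  exact lt_irrefl _ this

/-- A divisor of degree zero on all components is a rational multiple of the fibre. -/
theorem exists_mul_of_inter_zero (a : Fin n → ℤ)
    (h : ∀ i, ∑ j, a j * ArSurf.inter R X (D.L j) (Γc i) = 0) :
    ∃ T : ℤ, ∀ i, a i = T * ((Models.mult R X (Γc i) / Models.multGcd R X Γc : ℕ) : ℤ) := by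
  haveI := D.flat
  haveI := D.proper
  obtain ⟨c, hc⟩ := (InterForm.kernel_iff_propto D.hΓ D.L D.hL D.hreg hconn a).1 h
  obtain ⟨x, hx⟩ := exists_bezout fun i => Models.mult R X (Γc i)
  have hcross : ∀ i j, a i * (Models.mult R X (Γc j) : ℤ) = a j * (Models.mult R X (Γc i) : ℤ) := fun i j => by
    have h1 : (a i : ℚ) * (Models.mult R X (Γc j) : ℚ) = (a j : ℚ) * (Models.mult R X (Γc i) : ℚ) := by
      rw [hc i, hc j]; ring
    exact_mod_cast h1
  refine ⟨∑ j, x j * a j, fun i => ?_⟩
  have hd : (0 : ℤ) < (Models.multGcd R X Γc : ℤ) := Int.natCast_pos.2 (multGcd_pos D hconn)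
  have hdvd : Models.multGcd R X Γc ∣ Models.mult R X (Γc i) := Finset.gcd_dvd (Finset.mem_univ i)
  refine mul_left_cancel₀ hd.ne' ?_
  rw [mul_left_comm, ← Nat.cast_mul, Nat.mul_div_cancel' hdvd, Finset.sum_mul]
  show ((Finset.univ.gcd fun i => Models.mult R X (Γc i) : ℕ) : ℤ) * a i = _
  rw [hx, Finset.sum_mul]
  exact Finset.sum_congr rfl fun j _ => by rw [mul_assoc, mul_assoc, ← hcross i j, mul_comm (a i)]

variable {C : Scheme.{u}} {f : C ⟶ Spec (CommRingCat.of (FractionRing R))} {g : C ⟶ X.left}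
  (sq : IsPullback g f X.hom (Spec.map (CommRingCat.ofHom (algebraMap R (FractionRing R)))))

include sq in
/-- A module trivial on the generic fibre of degree zero on all components is killed by the gcd. -/
theorem pow_gcd_eq_one {M : X.left.Modules} (hM : PicF.IsInvertible M)
    (htriv : Nonempty ((Scheme.Modules.pullback g).obj M ≅ Coh.structureModule C))
    (hdeg : ∀ i, ArSurf.inter R X M (Γc i) = 0) :
    ∃ T : ℤ, PicF.cl M = ((D.P fun i => T * ((Models.mult R X (Γc i) / Models.multGcd R X Γc : ℕ) : ℤ)) :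
        PicF.Cl X.left) ∧ PicF.cl M ^ Models.multGcd R X Γc = 1 := by
  obtain ⟨a, ha⟩ := D.exists_P_of_trivial sq hM htriv
  rw [← D.P_natCast] at ha
  obtain ⟨T, hT⟩ := exists_mul_of_inter_zero D hconn (fun i => (a i : ℤ)) fun i => by
    rw [← D.inter_eq hM ha i, hdeg i]
  rw [show (fun i => (a i : ℤ)) = _ from funext hT] at ha
  refine ⟨T, ha, ?_⟩
  rw [ha, ← Units.val_pow_eq_pow_val, ← zpow_natCast, ← D.P_smul,
    show (fun i => (Models.multGcd R X Γc : ℤ) * (T * ((Models.mult R X (Γc i) / Models.multGcd R X Γc : ℕ) : ℤ))) =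
      fun i => T * D.m i from funext fun i => by
        have hdvd : Models.multGcd R X Γc ∣ Models.mult R X (Γc i) := Finset.gcd_dvd (Finset.mem_univ i)
        rw [mul_left_comm, ← Nat.cast_mul, Nat.mul_div_cancel' hdvd]
        rfl,
    D.P_mult_mul, Units.val_one]

omit hconn in
theorem inter_eq_zero_of_tors {M : X.left.Modules} (hM : PicF.IsInvertible M) {h : ℕ} (hh : 0 < h)
    (htors : Nonempty (CohB1.tensorPow M h ≅ Coh.structureModule X.left)) (i : Fin n) :
    ArSurf.inter R X M (Γc i) = 0 := by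
  haveI := D.proper
  have h1 := ArInter.inter_tensorPow (Γc i) hM h
  rw [ArInter.inter_congr (Γc i) (PicMul.isInvertible_tensorPow hM h) (PicMul.cl_eq_iff.2 htors),
    ArInter.inter_structure] at h1
  exact (mul_eq_zero.1 h1.symm).resolve_left (Int.natCast_ne_zero.2 hh.ne')

end Groth.Agent.H26.VertClass

namespace Groth.Agent.H26.VertModel

open Groth.Agent.H26.VertClass

variable {R : Type u} [CommRing R] [IsDomain R] [IsDiscreteValuationRing R]
  {C X : Scheme.{u}} {f : C ⟶ Spec (CommRingCat.of (FractionRing R))} {p : X ⟶ Spec (CommRingCat.of R)}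
  {n : ℕ} {Γ : Fin n → ArSurf.VertComp R (Over.mk p)}

/-- The data of a regular proper model. -/
def mkData (hX : Models.IsRegularProperModel R X p C f) (hΓ : Models.IsComponentList R (Over.mk p) Γ)
    (L : Fin n → X.Modules) (hL : ∀ i, ClSub.IsInverseOf (L i) (ClSub.idealMod (Γ i).ι.ker)) :
    Data (Over.mk p) Γ where
  L := L
  hΓ := hΓ
  flat := hX.1.1
  proper := hX.2.1
  hreg := hX.2.2
  hL := hL

theorem exists_inverses (hX : Models.IsRegularProperModel R X p C f) (hΓ : Models.IsComponentList R (Over.mk p) Γ) :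
    ∃ L : Fin n → X.Modules, ∀ i, ClSub.IsInverseOf (L i) (ClSub.idealMod (Γ i).ι.ker) := by
  haveI : IsProper (Over.mk p).hom := hX.2.1
  haveI : Flat (Over.mk p).hom := hX.1.1
  choose L _ hL using fun i => PicInv.exists_inverse
    (IdealCl.isInvertible_idealMod ((FibreIdeal.result (Over.mk p) Γ hΓ hX.2.2).1 i))
  refine ⟨L, fun i => ?_⟩
  obtain ⟨c⟩ := PicMul.comm (L i) (ClSub.idealMod (Γ i).ι.ker)
  obtain ⟨e⟩ := hL i
  first
    | exact ⟨e⟩
    | exact ⟨c ≪≫ e⟩

theorem bijective_appTop (hH0 : IsIso f.appTop) (hX : Models.IsRegularProperModel R X p C f) :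
    Function.Bijective p.appTop := by
  obtain ⟨⟨hfl, -, -, g, sq⟩, hp, -⟩ := hX
  haveI := hfl
  haveI := hp
  exact ModelConn.bijective_appTop p f g sq (ConcreteCategory.bijective_of_isIso f.appTop)

theorem isConnected (hC : Curve.IsSmoothProperCurve (FractionRing R) C f) (hH0 : IsIso f.appTop)
    (hX : Models.IsRegularProperModel R X p C f) :
    _root_.IsConnected (Models.specialFibreSet R (Over.mk p)) :=
  InterForm.isConnected_specialFibreSet (X := Over.mk p) (S2209.result R C X f p hC hH0 hX)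

end Groth.Agent.H26.VertModel
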