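import Groth.Agent.H26.InterDiv
import Groth.Agent.H26.FibreIdeal
import Groth.Agent.ArtFunLib.HilbObsMain
import Groth.Agent.SchTop.Closed

/-!
# Symmetry of the intersection numbers of vertical curves
-/

set_option autoImplicit false
set_option linter.style.haveILetI false
set_option backward.isDefEq.respectTransparency false
set_option backward.isDefEq.respectTransparency.types false
set_option maxHeartbeats 1000000

universe u

open CategoryTheory CategoryTheory.Limits AlgebraicGeometry TopologicalSpace Opposite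
open Groth.Agent.H23
open scoped Groth.Agent.H23.PicMul

noncomputable section

namespace Groth.Agent.H26.InterSymm

/-- The direct image of an inverse image ideal along a closed immersion. -/
theorem map_comap_eq {C X : Scheme.{u}} (ι : C ⟶ X) [IsClosedImmersion ι] (I : X.IdealSheafData) :
    (I.comap ι).map ι = I ⊔ ι.ker := by
  refine Scheme.IdealSheafData.ext (funext fun U => ?_)
  rw [Scheme.IdealSheafData.ideal_map_of_isAffineHom, Scheme.IdealSheafData.ideal_sup, Pi.sup_apply,
    Scheme.Hom.ker_apply, ModPairLib.ideal_comap I ι U ⟨_, U.2.preimage ι⟩ le_rfl,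
    ← Scheme.Hom.app_eq_appLE, Ideal.comap_map_of_surjective _ (ι.app_surjective _ U.2),
    ← RingHom.ker_eq_comap_bot]

variable {R : Type u} [CommRing R] [IsDomain R] [IsDiscreteValuationRing R]
  {X : Over (Spec (CommRingCat.of R))}

theorem range_eq_closure (Γc : ArSurf.VertComp R X) :
    Set.range Γc.ι.base = closure {Γc.ι.base (genericPoint Γc.curve.left)} := by
  have h := (genericPoint_spec Γc.curve.left).image Γc.ι.continuous
  rw [Set.image_univ, Γc.ι.isClosedEmbedding.isClosed_range.closure_eq] at h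
  exact h.def.symm

/-- The generic point of a curve lies on no other curve. -/
theorem genPt_notMem (Γ₁ Γ₂ : ArSurf.VertComp R X) (hne : Set.range Γ₁.ι.base ≠ Set.range Γ₂.ι.base) :
    Γ₁.ι.base (genericPoint Γ₁.curve.left) ∉ Set.range Γ₂.ι.base := by
  rintro ⟨y, hy⟩
  by_cases hy' : y = genericPoint Γ₂.curve.left
  · subst hy'
    exact hne (by rw [range_eq_closure Γ₁, range_eq_closure Γ₂, hy])
  · -- a curve has no proper irreducible closed subset but points
    have hsub : Set.range Γ₁.ι.base ⊆ Γ₂.ι.base '' closure {y} := by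
      rw [range_eq_closure Γ₁, ← hy, ← Γ₂.ι.isClosedEmbedding.closure_image_eq, Set.image_singleton]
    have hcl : IsClosed ({y} : Set Γ₂.curve.left) :=
      Groth.Agent.CurvePsi.isClosed_of_dim_le_one Γ₂.dim_eq.le (genericPoint_specializes y) hy'
    rw [hcl.closure_eq, Set.image_singleton] at hsub
    haveI : Subsingleton Γ₁.curve.left := ⟨fun a b => Γ₁.ι.isClosedEmbedding.injective
      ((hsub ⟨a, rfl⟩).trans (hsub ⟨b, rfl⟩).symm)⟩
    have h0 : topologicalKrullDim Γ₁.curve.left ≤ 0 := by
      rw [topologicalKrullDim, Order.krullDim_eq_of_orderIso irreducibleSetEquivPoints]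
      exact Order.krullDim_nonpos_of_subsingleton
    rw [Γ₁.dim_eq] at h0
    exact absurd h0 (by decide)

/-- A vertical curve on a regular surface is an effective Cartier divisor. -/
theorem isEffCartier_ker [IsIntegral X.left] [LocallyOfFiniteType X.hom] (hdim : topologicalKrullDim X.left ≤ 2)
    (hdim' : topologicalKrullDim X.left ≠ 1)
    (hreg : ∀ x : X.left, IsRegularLocalRing (X.left.presheaf.stalk x)) (Γc : ArSurf.VertComp R X) :
    BlowUp.IsEffCartierIdeal Γc.ι.ker := by
  haveI : IsLocallyNoetherian X.left := LocallyOfFiniteType.isLocallyNoetherian X.hom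
  haveI : IsIntegral Γc.ι.ker.subscheme := by
    haveI : Nonempty ↥(Γc.ι.ker.subscheme : Scheme.{u}) := ⟨Γc.ι.toImage (genericPoint _)⟩
    exact isIntegral_of_isOpenImmersion (inv Γc.ι.toImage)
  refine DivX.isEffCartier_of_codim_one _ ?_ fun x _ => @RegUFD.ufd (X.left.presheaf.stalk x) _ (hreg x)
  have hgen : Γc.ι.ker.subschemeι (genericPoint Γc.ι.ker.subscheme) = Γc.ι.base (genericPoint Γc.curve.left) := by
    have h := (genericPoint_spec Γc.ι.ker.subscheme).image Γc.ι.ker.subschemeι.continuous
    rw [Set.image_univ, Scheme.IdealSheafData.range_subschemeι, Scheme.Hom.support_ker] at h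
    rw [closure_closure, Γc.ι.isClosedEmbedding.isClosed_range.closure_eq] at h
    exact h.eq (range_eq_closure Γc).symm
  rw [hgen]
  set η := Γc.ι.base (genericPoint Γc.curve.left) with hη
  have hmax : ¬ IsMax η := by
    intro hm
    have h1 : genericPoint X.left = η := by
      have hle : η ≤ genericPoint X.left := genericPoint_specializes η
      exact ((genericPoint_specializes η).antisymm (hm hle)).eq
    have hsurj : Function.Surjective Γc.ι.base := by
      rw [← Set.range_eq_univ, range_eq_closure Γc, ← hη, ← h1]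
      exact (genericPoint_spec X.left).def
    refine hdim' ?_
    rw [← IsHomeomorph.topologicalKrullDim_eq _
      (isHomeomorph_iff_isEmbedding_surjective.2 ⟨Γc.ι.isClosedEmbedding.isEmbedding, hsurj⟩)]
    exact Γc.dim_eq
  have hmin : ¬ IsMin η := by
    intro hm
    have hall : ∀ y : Γc.curve.left, y = genericPoint Γc.curve.left := fun y =>
      Γc.ι.isClosedEmbedding.injective
        (Specializes.antisymm (hm ((genericPoint_specializes y).map Γc.ι.continuous))
          ((genericPoint_specializes y).map Γc.ι.continuous)).eq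
    haveI : Subsingleton Γc.curve.left := ⟨fun a b => (hall a).trans (hall b).symm⟩
    have h0 : topologicalKrullDim Γc.curve.left ≤ 0 := by
      rw [topologicalKrullDim, Order.krullDim_eq_of_orderIso irreducibleSetEquivPoints]
      exact Order.krullDim_nonpos_of_subsingleton
    rw [Γc.dim_eq] at h0
    exact absurd h0 (by decide)
  rw [ringKrullDim_stalk_eq_coheight]
  have hsum : ((Order.height η + Order.coheight η : ℕ∞) : WithBot ℕ∞) ≤ ((2 : ℕ∞) : WithBot ℕ∞) := by
    refine le_trans ?_ hdim
    rw [topologicalKrullDim, Order.krullDim_eq_of_orderIso irreducibleSetEquivPoints,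
      Order.krullDim_eq_iSup_height_add_coheight_of_nonempty]
    exact WithBot.coe_le_coe.2 (le_iSup (fun a : X.left => Order.height a + Order.coheight a) η)
  rw [WithBot.coe_le_coe] at hsum
  have hh : (1 : ℕ∞) ≤ Order.height η := Order.one_le_iff_pos.2 (Order.height_pos.2 hmin)
  have hc : (1 : ℕ∞) ≤ Order.coheight η := Order.one_le_iff_pos.2 (Order.coheight_pos.2 hmax)
  have : Order.coheight η = 1 := by
    refine le_antisymm ?_ hc
    have h2 : (1 : ℕ∞) + Order.coheight η ≤ 1 + 1 := (add_le_add_left hh _).trans (by simpa [one_add_one_eq_two] using hsum)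
    exact (ENat.add_le_add_iff_left (by simp)).1 h2
  rw [this]
  rfl

/-- A subscheme of the closed fibre: the length over `R` is the dimension over the residue field. -/
theorem length_eq_finrank {W : Scheme.{u}} (f : W ⟶ Spec (CommRingCat.of (IsLocalRing.ResidueField R)))
    (M : W.Modules) [h : letI : W.Over (Spec (CommRingCat.of (IsLocalRing.ResidueField R))) := ⟨f⟩
      Module.Finite (IsLocalRing.ResidueField R) (Coh.HH W M 0)] :
    (letI : W.Over (Spec (CommRingCat.of R)) := ⟨f ≫ Spec.map (CommRingCat.ofHom (IsLocalRing.residue R))⟩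
     Module.length R (Coh.HH W M 0)) =
    (letI : W.Over (Spec (CommRingCat.of (IsLocalRing.ResidueField R))) := ⟨f⟩
     ((Module.finrank (IsLocalRing.ResidueField R) (Coh.HH W M 0) : ℕ) : ℕ∞)) := by
  let k := IsLocalRing.ResidueField R
  letI : W.Over (Spec (CommRingCat.of k)) := ⟨f⟩
  letI : W.Over (Spec (CommRingCat.of R)) := ⟨f ≫ Spec.map (CommRingCat.ofHom (IsLocalRing.residue R))⟩
  haveI : Module.Finite k (Coh.HH W M 0) := h
  haveI : IsScalarTower R k (Coh.HH W M 0) := IsScalarTower.of_algebraMap_smul fun r x => by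
    show Sheaf.H.map (Coh.smulAb M (Coh.toGlobal f (IsLocalRing.residue R r))) 0 x =
      Sheaf.H.map (Coh.smulAb M (Coh.toGlobal (f ≫ Spec.map (CommRingCat.ofHom (IsLocalRing.residue R))) r)) 0 x
    congr 3
    show f.appTop ((Scheme.ΓSpecIso (CommRingCat.of k)).inv (IsLocalRing.residue R r)) =
      f.appTop ((Spec.map (CommRingCat.ofHom (IsLocalRing.residue R))).appTop
        ((Scheme.ΓSpecIso (CommRingCat.of R)).inv r))
    exact congrArg f.appTop (ConcreteCategory.congr_hom
      (Scheme.ΓSpecIso_inv_naturality (CommRingCat.ofHom (IsLocalRing.residue R))) r)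
  rw [Module.length_eq_of_surjective (R := k) IsLocalRing.residue_surjective, Module.length_eq_finrank]

/-- The intersection number is the length of the scheme-theoretic intersection. -/
theorem inter_eq_lengthH [IsProper X.hom] (Γc : ArSurf.VertComp R X) {I : X.left.IdealSheafData}
    (hI : BlowUp.IsEffCartierIdeal I)
    (hΓ : Γc.ι.base (genericPoint Γc.curve.left) ∉ (I.support : Set X.left))
    {L : X.left.Modules} (hL : ClSub.IsInverseOf L (ClSub.idealMod I)) :
    ArSurf.inter R X L Γc = (Models.lengthH R X (ClSub.quotMod (I ⊔ Γc.ι.ker)) 0 : ℤ) := by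
  haveI := ArInter.isProper_curve Γc
  rw [InterDiv.inter_eq_finrank Γc hI hΓ hL]
  congr 1
  let k := IsLocalRing.ResidueField R
  let D := I.comap Γc.ι
  let g : D.subscheme ⟶ X.left := D.subschemeι ≫ Γc.ι
  let fk : D.subscheme ⟶ Spec (CommRingCat.of k) := D.subschemeι ≫ Γc.curve.hom
  letI : D.subscheme.Over (Spec (CommRingCat.of k)) := ⟨fk⟩
  letI : D.subscheme.Over (Spec (CommRingCat.of R)) := ⟨fk ≫ Spec.map (CommRingCat.ofHom (IsLocalRing.residue R))⟩
  have hker : g.ker = I ⊔ Γc.ι.ker := map_comap_eq Γc.ι I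
  have hO : Coh.IsQCoh (Coh.structureModule D.subscheme) := QCoh.isQCoh_structureModule
  obtain ⟨a⟩ := DivisorExt.nonempty_quotMod_iso g
  rw [hker] at a
  obtain ⟨b⟩ := DivisorExt.nonempty_quotMod_iso D.subschemeι
  rw [Scheme.IdealSheafData.ker_subschemeι] at b
  obtain ⟨c⟩ := PnCoh.exists_linearEquiv_push k D.subschemeι (rfl : D.subschemeι ≫ Γc.curve.hom = fk) hO 0
  have hw : g ≫ X.hom = fk ≫ Spec.map (CommRingCat.ofHom (IsLocalRing.residue R)) := by
    show (D.subschemeι ≫ Γc.ι) ≫ X.hom = (D.subschemeι ≫ Γc.curve.hom) ≫ _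
    rw [Category.assoc, Γc.w, Category.assoc]
  obtain ⟨d⟩ := PnCoh.exists_linearEquiv_push R g hw hO 0
  let eq1 := (NormalLib.hhIso (A := k) b 0).trans c.symm
  let eq2 := (NormalLib.hhIso (A := R) a 0).trans d.symm
  haveI := CurveCohLib.isNoetherian_of_proper (k := k) (X := Γc.curve.left)
  haveI := CurveCohLib.finite_HH (k := k) (X := Γc.curve.left) (ParShLib.isCoh_quotMod D) 0
  haveI : Module.Finite k (Coh.HH D.subscheme (Coh.structureModule D.subscheme) 0) := Module.Finite.equiv eq1
  have h := length_eq_finrank fk (Coh.structureModule D.subscheme)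
  rw [Models.lengthH, eq2.length_eq, eq1.finrank_eq, h, ENat.toNat_coe]

/-- Symmetry. -/
theorem inter_symm [IsProper X.hom] (Γ₁ Γ₂ : ArSurf.VertComp R X)
    (hne : Set.range Γ₁.ι.base ≠ Set.range Γ₂.ι.base)
    (h1 : BlowUp.IsEffCartierIdeal Γ₁.ι.ker) (h2 : BlowUp.IsEffCartierIdeal Γ₂.ι.ker)
    {L₁ L₂ : X.left.Modules} (hL₁ : ClSub.IsInverseOf L₁ (ClSub.idealMod Γ₁.ι.ker))
    (hL₂ : ClSub.IsInverseOf L₂ (ClSub.idealMod Γ₂.ι.ker)) :
    ArSurf.inter R X L₂ Γ₁ = ArSurf.inter R X L₁ Γ₂ := by
  have hs : ∀ Γ : ArSurf.VertComp R X, (Γ.ι.ker.support : Set X.left) = Set.range Γ.ι.base := fun Γ => by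
    rw [Scheme.Hom.support_ker]
    exact Γ.ι.isClosedEmbedding.isClosed_range.closure_eq
  rw [inter_eq_lengthH Γ₁ h2 (by rw [hs]; exact genPt_notMem Γ₁ Γ₂ hne) hL₂,
    inter_eq_lengthH Γ₂ h1 (by rw [hs]; exact genPt_notMem Γ₂ Γ₁ hne.symm) hL₁, sup_comm]

end Groth.Agent.H26.InterSymm
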