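import Mathlib
import Groth.Agent.GrpSchLib.FieldSmooth
import Groth.Agent.CycLib.Finite
import Groth.Agent.FibDim.RelDim
import Groth.Agent.MorLib.GenFinite
import Groth.Agent.S0414

/-!
# Generic degree of a dominant morphism of varieties of the same dimension
-/

set_option autoImplicit false

universe u

open AlgebraicGeometry CategoryTheory Limits TopologicalSpace

namespace Groth.Agent.H26.GenDeg

variable {X Y : Scheme.{u}}

/-- A finite scheme over a field: the rank of the structure map is the dimension of global sections. -/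
theorem finrank_global (K : Type u) [Field K] {P : Scheme.{u}} (p : P ⟶ Spec (CommRingCat.of K))
    [IsFinite p] (t : ↥(Spec (CommRingCat.of K))) :
    (letI := ((Scheme.ΓSpecIso (CommRingCat.of K)).inv ≫ p.appTop).hom.toAlgebra
     Module.finrank K Γ(P, ⊤)) = p.finrank t := by
  letI := ((Scheme.ΓSpecIso (CommRingCat.of K)).inv ≫ p.appTop).hom.toAlgebra
  haveI : IsAffine P := isAffine_of_isAffineHom p
  have e : p = P.isoSpec.hom ≫
      Spec.map (CommRingCat.ofHom (algebraMap K Γ(P, ⊤))) := by
    show p = P.isoSpec.hom ≫ Spec.map ((Scheme.ΓSpecIso (CommRingCat.of K)).inv ≫ p.appTop)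
    rw [Spec.map_comp, Scheme.isoSpec_hom, ← Scheme.toSpecΓ_naturality_assoc,
      toSpecΓ_SpecMap_ΓSpecIso_inv, Category.comp_id]
  have hfin : IsFinite (Spec.map (CommRingCat.ofHom (algebraMap K Γ(P, ⊤)))) := by
    rw [← MorphismProperty.cancel_left_of_respectsIso @IsFinite P.isoSpec.hom, ← e]
    infer_instance
  haveI : Module.Finite K Γ(P, ⊤) := RingHom.finite_algebraMap.1 ((IsFinite.SpecMap_iff _).1 hfin)
  haveI : Flat (Spec.map (CommRingCat.ofHom (algebraMap K Γ(P, ⊤)))) := by
    rw [Flat.SpecMap_iff]
    exact RingHom.flat_algebraMap_iff.2 inferInstance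
  haveI := hfin
  refine Eq.trans ?_ (congrArg (fun q : P ⟶ Spec (CommRingCat.of K) => q.finrank t) e).symm
  show _ = Scheme.Hom.finrank (P.isoSpec.hom ≫ Spec.map (CommRingCat.ofHom (algebraMap K Γ(P, ⊤)))) t
  rw [Scheme.Hom.finrank_comp_left_of_isIso, Scheme.Hom.finrank_SpecMap_algebraMap,
    Module.rankAtStalk_eq_finrank_of_free]
  rfl

/-- A finite field extension, seen through an isomorphic scheme. -/
theorem finrank_of_iso (K L : Type u) [Field K] [Field L] (φ : CommRingCat.of K ⟶ CommRingCat.of L)
    {P : Scheme.{u}} (j : Spec (CommRingCat.of L) ⟶ P) [IsIso j] (s : P ⟶ Spec (CommRingCat.of K))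
    [IsFinite s] [Flat s] (e : j ≫ s = Spec.map φ) (t : ↥(Spec (CommRingCat.of K))) :
    (letI := φ.hom.toAlgebra; Module.finrank K L) = s.finrank t := by
  letI := φ.hom.toAlgebra
  have hfin : IsFinite (Spec.map φ) := by rw [← e]; infer_instance
  haveI : Module.Finite K L := (IsFinite.SpecMap_iff _).1 hfin
  have e' : j ≫ s = Spec.map (CommRingCat.ofHom (algebraMap K L)) := e
  rw [← Scheme.Hom.finrank_comp_left_of_isIso j s, e', Scheme.Hom.finrank_SpecMap_algebraMap,
    Module.rankAtStalk_eq_finrank_of_free]
  rfl

/-- Where `f` is finite and flat, its fibres are finite of degree the rank. -/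
theorem fibre_finrank (f : X ⟶ Y) (V : Y.Opens) [IsFinite (f ∣_ V)] [Flat (f ∣_ V)] (y : Y) (hy : y ∈ V) :
    IsFinite (pullback.snd f (Y.fromSpecResidueField y)) ∧
      (letI := ((Scheme.ΓSpecIso (CommRingCat.of (Y.residueField y))).inv ≫
          (pullback.snd f (Y.fromSpecResidueField y)).appTop).hom.toAlgebra
       Module.finrank (Y.residueField y) Γ(pullback f (Y.fromSpecResidueField y), ⊤)) =
        (f ∣_ V).finrank ⟨y, hy⟩ := by
  have hr : Set.range (Y.fromSpecResidueField y) ⊆ Set.range V.ι := by
    rw [Scheme.range_fromSpecResidueField, Scheme.Opens.range_ι, Set.singleton_subset_iff]; exact hy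
  let g := IsOpenImmersion.lift V.ι (Y.fromSpecResidueField y) hr
  have hg : g ≫ V.ι = Y.fromSpecResidueField y := IsOpenImmersion.lift_fac _ _ _
  have t := (isPullback_morphismRestrict f V).flip
  let l := t.lift (pullback.fst f (Y.fromSpecResidueField y)) (pullback.snd f (Y.fromSpecResidueField y) ≫ g)
    (by rw [Category.assoc, hg]; exact pullback.condition)
  have hl1 : l ≫ (f ⁻¹ᵁ V).ι = pullback.fst f (Y.fromSpecResidueField y) := t.lift_fst _ _ _
  have hl2 : l ≫ (f ∣_ V) = pullback.snd f (Y.fromSpecResidueField y) ≫ g := t.lift_snd _ _ _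
  have hs : IsPullback l (pullback.snd f (Y.fromSpecResidueField y)) (f ∣_ V) g :=
    IsPullback.of_right (by rw [hl1, hg]; exact .of_hasPullback _ _) hl2 t
  haveI : IsFinite (pullback.snd f (Y.fromSpecResidueField y)) :=
    MorphismProperty.of_isPullback hs inferInstance
  refine ⟨inferInstance, (finrank_global _ _ default).trans ?_⟩
  rw [Scheme.Hom.finrank_of_isPullback _ _ _ _ hs]
  congr 1
  apply Subtype.ext
  have h1 : V.ι (g default) = Y.fromSpecResidueField y default := by
    rw [← Scheme.Hom.comp_apply, hg]
  exact h1.trans (Y.fromSpecResidueField_apply _ _)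

theorem flat_fromSpecResidueField (y : Y) (hy : IsField (Y.presheaf.stalk y)) :
    Flat (Y.fromSpecResidueField y) := by
  letI := hy.toField
  haveI : IsIso (Y.residue y) := (ConcreteCategory.isIso_iff_bijective _).2
    ⟨RingHom.injective (Y.residue y).hom, Y.residue_surjective y⟩
  haveI := GrpSchLib.flat_fromSpecStalk y
  show Flat (Spec.map (Y.residue y) ≫ Y.fromSpecStalk y)
  infer_instance

/-- The fibre through a point that is alone in its fibre, over a point with field stalk, is the
spectrum of its residue field when `X` is reduced. -/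
theorem isIso_residueField_fibre [IsReduced X] (f : X ⟶ Y) (x : X)
    (hy : IsField (Y.presheaf.stalk (f x))) (hone : ∀ z, f z = f x → z = x) :
    IsIso (pullback.lift (f := f) (g := Y.fromSpecResidueField (f x)) (X.fromSpecResidueField x)
      (Spec.map (f.residueFieldMap x)) (Scheme.Hom.SpecMap_residueFieldMap_fromSpecResidueField f x).symm) := by
  set P := pullback f (Y.fromSpecResidueField (f x))
  set j : Spec (X.residueField x) ⟶ P := pullback.lift (X.fromSpecResidueField x)
      (Spec.map (f.residueFieldMap x)) (Scheme.Hom.SpecMap_residueFieldMap_fromSpecResidueField f x).symm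
  haveI := flat_fromSpecResidueField (f x) hy
  haveI hp : IsPreimmersion (pullback.fst f (Y.fromSpecResidueField (f x))) := inferInstance
  haveI : IsReduced P := by
    haveI : ∀ p : P, _root_.IsReduced (P.presheaf.stalk p) := fun p => by
      let φ := (pullback.fst f (Y.fromSpecResidueField (f x))).stalkMap p
      have hs : Function.Surjective φ.hom := Scheme.Hom.stalkMap_surjective _ p
      have hi : Function.Injective φ.hom := by
        letI := φ.hom.toAlgebra
        haveI : Module.Flat (X.presheaf.stalk (pullback.fst f (Y.fromSpecResidueField (f x)) p))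
            (P.presheaf.stalk p) := Flat.stalkMap _ p
        haveI : IsLocalHom (algebraMap (X.presheaf.stalk (pullback.fst f (Y.fromSpecResidueField (f x)) p))
            (P.presheaf.stalk p)) := inferInstanceAs (IsLocalHom φ.hom)
        haveI : Module.FaithfullyFlat (X.presheaf.stalk (pullback.fst f (Y.fromSpecResidueField (f x)) p))
            (P.presheaf.stalk p) := Module.FaithfullyFlat.of_flat_of_isLocalHom
        exact FaithfulSMul.algebraMap_injective _ _
      exact isReduced_of_injective (RingEquiv.ofBijective φ.hom ⟨hi, hs⟩).symm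
        (RingEquiv.injective _)
    exact isReduced_of_isReduced_stalk P
  have hsub : ∀ a b : P, a = b := by
    have : ∀ a : P, pullback.fst f (Y.fromSpecResidueField (f x)) a = x := fun a => hone _ (by
      rw [← Scheme.Hom.comp_apply, pullback.condition, Scheme.Hom.comp_apply,
        Scheme.fromSpecResidueField_apply])
    exact fun a b => (pullback.fst f (Y.fromSpecResidueField (f x))).isEmbedding.injective
      ((this a).trans (this b).symm)
  haveI : Surjective j := ⟨fun p => ⟨default, hsub _ _⟩⟩
  haveI : IsPreimmersion (j ≫ pullback.fst f (Y.fromSpecResidueField (f x))) := by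
    rw [pullback.lift_fst]; infer_instance
  haveI : IsPreimmersion j := IsPreimmersion.of_comp j (pullback.fst f _)
  haveI : IsClosedImmersion j := .of_isPreimmersion _ (by
    rw [Set.range_eq_univ.2 j.surjective]; exact isClosed_univ)
  exact isIso_of_isClosedImmersion_of_surjective j

theorem finrank_residueField [IsReduced X] (f : X ⟶ Y) (x : X)
    (hy : IsField (Y.presheaf.stalk (f x))) (hone : ∀ z, f z = f x → z = x)
    [IsFinite (pullback.snd f (Y.fromSpecResidueField (f x)))] :
    (letI := (f.residueFieldMap x).hom.toAlgebra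
     Module.finrank (Y.residueField (f x)) (X.residueField x)) =
    (pullback.snd f (Y.fromSpecResidueField (f x))).finrank default := by
  haveI := isIso_residueField_fibre f x hy hone
  haveI : Flat (pullback.snd f (Y.fromSpecResidueField (f x))) := inferInstance
  exact finrank_of_iso (Y.residueField (f x)) (X.residueField x) (f.residueFieldMap x) _ _
    (pullback.lift_snd (f := f) (g := Y.fromSpecResidueField (f x)) (X.fromSpecResidueField x)
      (Spec.map (f.residueFieldMap x))
      (Scheme.Hom.SpecMap_residueFieldMap_fromSpecResidueField f x).symm) default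

end Groth.Agent.H26.GenDeg

namespace Groth.Agent.H26.GenDeg

variable {X Y : Scheme.{u}}

theorem apply_genericPoint [IsIntegral X] [IsIntegral Y] (f : X ⟶ Y) [IsDominant f] :
    f (genericPoint X) = genericPoint Y := by
  have h := (genericPoint_spec X).image f.continuous
  rw [Set.image_univ, f.denseRange.closure_range] at h
  exact h.eq (genericPoint_spec Y)

/-- For an integral scheme of finite type over a field, the dimension is the degree of the generic point. -/
theorem topologicalKrullDim_eq_rd {k : Type u} [Field k] [IsIntegral X] (p : X ⟶ Spec (CommRingCat.of k))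
    [LocallyOfFiniteType p] :
    topologicalKrullDim X = ((FibDim.rd p (genericPoint X) : ℕ∞) : WithBot ℕ∞) := by
  have h : VarDim.deg p (genericPoint X) = FibDim.rd p (genericPoint X) := by
    have e := (VarDim.deg_eq_tdeg p (genericPoint X)).trans (VarDim.tdeg_eq_rdeg p (genericPoint X))
    rw [← FibDim.rd_eq_rdeg] at e
    exact_mod_cast e
  rw [VarDim.topologicalKrullDim_eq_iSup_deg p, ← h]
  refine le_antisymm (iSup_le fun z => ?_) (le_iSup_of_le (genericPoint X) le_rfl)
  exact_mod_cast VarDim.deg_le_of_specializes p (genericPoint_specializes z)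

theorem rd_genericPoint_eq_zero {k : Type u} [Field k] [IsIntegral X] [IsIntegral Y] (f : X ⟶ Y) [IsDominant f]
    (p : X ⟶ Spec (CommRingCat.of k)) (q : Y ⟶ Spec (CommRingCat.of k)) [LocallyOfFiniteType p]
    [LocallyOfFiniteType q] [LocallyOfFiniteType f] (hf : f ≫ q = p)
    (hdim : topologicalKrullDim X = topologicalKrullDim Y) : FibDim.rd f (genericPoint X) = 0 := by
  have h := FibDim.rd_comp f q (genericPoint X)
  simp only [hf] at h
  rw [apply_genericPoint] at h
  rw [topologicalKrullDim_eq_rd p, topologicalKrullDim_eq_rd q] at hdim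
  have := (Nat.cast_inj (R := ℕ∞)).1 (WithBot.coe_inj.1 hdim)
  omega

/-- Finite flat over a dense open, of constant rank the generic degree. -/
theorem exists_open_constant_degree [IsIntegral X] [IsIntegral Y] (f : X ⟶ Y) [IsDominant f]
    [LocallyOfFiniteType f] [QuasiCompact f] [QuasiSeparated f]
    (h0 : FibDim.rd f (genericPoint X) = 0) :
    ∃ U : Y.Opens, Nonempty ↥U ∧ ∀ y : Y, y ∈ U →
      IsFinite (pullback.snd f (Y.fromSpecResidueField y)) ∧
        (letI := ((Scheme.ΓSpecIso (CommRingCat.of (Y.residueField y))).inv ≫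
            (pullback.snd f (Y.fromSpecResidueField y)).appTop).hom.toAlgebra
         Module.finrank (Y.residueField y) Γ(pullback f (Y.fromSpecResidueField y), ⊤)) =
        (letI := (f.residueFieldMap (genericPoint X)).hom.toAlgebra
         Module.finrank (Y.residueField (f (genericPoint X))) (X.residueField (genericPoint X))) := by
  have hone : ∀ z, f z = f (genericPoint X) → z = genericPoint X := fun z hz => by
    by_contra hne
    have h := FibDim.rd_lt f (genericPoint_specializes z) (Ne.symm hne) hz.symm
    omega
  have hgen : f (genericPoint X) ∈ genericPoints Y := by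
    rw [apply_genericPoint, genericPoints_eq_singleton]; rfl
  obtain ⟨U₀, hU₀, hflat, hfp⟩ := Groth.Agent.S0414.result f
  have hmem : ∀ (U : Y.Opens), (U : Set Y).Nonempty → f (genericPoint X) ∈ U := fun U hU => by
    rw [apply_genericPoint]
    exact ((genericPoint_spec Y).mem_open_set_iff U.isOpen).mpr (by simpa using hU)
  have hfibre : f ⁻¹' {f (genericPoint X)} = {genericPoint X} := by
    ext z; exact ⟨hone z, fun h => congrArg f h⟩
  obtain ⟨V, hV, hηV, hVU, hVfin⟩ := MorLib.GenFinite.exists_isFinite f hgen
    (hfibre ▸ Set.finite_singleton _)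
    (fun x hx => ⟨⊤, trivial, fun z _ hz => (hone z hz).trans (hone x hx).symm⟩)
    (fun V₀ hV₀ hη₀ U₁ U₂ h₁ h₂ e₁ e₂ h =>
      MorLib.GenFinite.exists_avoid_inf f hgen hV₀ hη₀ h₁ h₂ e₁ e₂ h)
    U₀ (hmem U₀ hU₀.nonempty)
  have sq : IsPullback (X.homOfLE (f.preimage_mono hVU)) (f ∣_ V) (f ∣_ U₀) (Y.homOfLE hVU) := by
    refine IsPullback.of_right ?_ (morphismRestrict_homOfLE f V U₀ hVU).symm
      (isPullback_morphismRestrict f U₀).flip
    rw [Scheme.homOfLE_ι, Scheme.homOfLE_ι]
    exact (isPullback_morphismRestrict f V).flip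
  haveI : Flat (f ∣_ V) := MorphismProperty.of_isPullback sq hflat
  haveI : LocallyOfFinitePresentation (f ∣_ V) := MorphismProperty.of_isPullback sq hfp
  haveI := hVfin
  haveI : Nonempty ↥(V : Scheme.{u}) := ⟨⟨_, hηV⟩⟩
  haveI : IsIntegral (V : Scheme.{u}) := isIntegral_of_isOpenImmersion V.ι
  refine ⟨V, ⟨⟨_, hηV⟩⟩, fun y hy => ?_⟩
  obtain ⟨h1, h2⟩ := fibre_finrank f V y hy
  refine ⟨h1, h2.trans ?_⟩
  obtain ⟨h3, h4⟩ := fibre_finrank f V _ hηV
  haveI := h3
  have hfield : IsField (Y.presheaf.stalk (f (genericPoint X))) := by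
    rw [apply_genericPoint]; exact Field.toIsField Y.functionField
  rw [(Scheme.Hom.isLocallyConstant_finrank (f ∣_ V)).apply_eq_of_preconnectedSpace ⟨y, hy⟩ ⟨_, hηV⟩,
    finrank_residueField f (genericPoint X) hfield hone, ← h4, finrank_global _ _ default]
  rfl

end Groth.Agent.H26.GenDeg
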