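import Groth.Prelude.Def_Models
import Groth.Prelude.Def_ModelsG
import Groth.Agent.DimFormula.Criteria
import Groth.Agent.FlatLoc6.RegCM
import Groth.Agent.S0603
import Groth.Agent.SchTop.Closed
import Mathlib

/-!
# The closed fibre of an integral flat scheme of dimension two over a DVR has no isolated point
-/

set_option autoImplicit false
set_option linter.style.haveILetI false

universe u

open AlgebraicGeometry CategoryTheory TopologicalSpace

namespace Groth.Agent.H26.FibDimOne

variable {R : Type u} [CommRing R] [IsDomain R] [IsDiscreteValuationRing R]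

theorem topologicalKrullDim_spec : topologicalKrullDim (Spec (CommRingCat.of R)) = 1 := by
  show topologicalKrullDim (PrimeSpectrum R) = 1
  rw [PrimeSpectrum.topologicalKrullDim_eq_ringKrullDim]
  exact IsPrincipalIdealRing.ringKrullDim_eq_one R (IsDiscreteValuationRing.not_isField R)

theorem codim_le_one (s : Spec (CommRingCat.of R)) : DimFormula.codim s ≤ 1 := by
  have h := (SchTop.ringKrullDim_stalk_le s).trans topologicalKrullDim_spec.le
  rw [DimFormula.ringKrullDim_stalk] at h
  exact_mod_cast h

theorem isUniversallyCatenary_stalk_closedPoint :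
    CAlg.IsUniversallyCatenary ((Spec (CommRingCat.of R)).presheaf.stalk (IsLocalRing.closedPoint R)) := by
  haveI := FlatLoc6.isCM_of_isRegularRing R
  let s : Spec (CommRingCat.of R) := IsLocalRing.closedPoint R
  letI : Algebra R ((Spec (CommRingCat.of R)).presheaf.stalk s) := StructureSheaf.stalkAlgebra R s
  haveI : IsLocalization.AtPrime ((Spec (CommRingCat.of R)).presheaf.stalk s) (IsLocalRing.maximalIdeal R) :=
    StructureSheaf.IsLocalization.to_stalk (CommRingCat.of R) s
  refine DimFormula.isUniversallyCatenary_of_surjective (Groth.Agent.S0603.result R)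
    (algebraMap R ((Spec (CommRingCat.of R)).presheaf.stalk s))
    (IsLocalization.atUnits R (IsLocalRing.maximalIdeal R).primeCompl (S := (Spec (CommRingCat.of R)).presheaf.stalk s)
      (fun u hu => IsLocalRing.notMem_maximalIdeal.mp hu)).surjective

/-- A maximal point of the closed fibre is not closed. -/
theorem not_isClosed_of_maximal {X : Over (Spec (CommRingCat.of R))} [IsIntegral X.left]
    [LocallyOfFiniteType X.hom] [Flat X.hom] (hdim : topologicalKrullDim X.left = 2) {z : X.left}
    (hz : z ∈ Models.specialFibreSet R X) (hmax : ∀ w, w ⤳ z → w ∈ Models.specialFibreSet R X → w = z) :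
    ¬ IsClosed ({z} : Set X.left) := by
  intro hcl
  haveI : IsLocallyNoetherian X.left := LocallyOfFiniteType.isLocallyNoetherian X.hom
  let f := X.hom
  have hfz : f z = IsLocalRing.closedPoint R := hz
  set η := genericPoint X.left
  have hgen : ∀ x : X.left, η ⤳ x := fun x => genericPoint_specializes x
  have hη : f η = genericPoint (Spec (CommRingCat.of R)) := by
    obtain ⟨η', -, hη'⟩ := Flat.generalizingMap (f := f) (genericPoint_specializes (f z))
    refine ((hgen η').map f.continuous |>.trans (specializes_of_eq hη')).antisymm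
      (genericPoint_specializes _) |>.eq
  have hcd : ∀ x : X.left, DimFormula.cd (f η) (f x) = DimFormula.codim (f x) := fun x => by
    rw [hη]; exact DimFormula.cd_eq_codim_of_irreducible _
  have hfb : DimFormula.fb f z = 0 := (DimFormula.fb_eq_zero_iff f z).2 fun w hw he =>
    hmax w hw (he.trans hfz)
  have hrd : FibDim.rd f z = 0 := by
    have hc : IsClosed ({f.asFiber z} : Set (f.fiber (f z))) := by
      have : ({f.asFiber z} : Set (f.fiber (f z))) = f.fiberι (f z) ⁻¹' {z} := by
        ext a
        simp only [Set.mem_singleton_iff, Set.mem_preimage]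
        exact ⟨fun h => h ▸ f.fiberι_asFiber z,
          fun h => (f.fiberι (f z)).isEmbedding.injective (h.trans (f.fiberι_asFiber z).symm)⟩
      rw [this]
      exact hcl.preimage (f.fiberι (f z)).continuous
    obtain ⟨U, hU, hzU, -⟩ := exists_isAffineOpen_mem_and_subset (x := f.asFiber z) (U := ⊤) trivial
    obtain ⟨P, hP⟩ := VarDim.exists_fromSpec_eq hU hzU
    have h := VarDim.deg_eq_coheight (k := (Spec (CommRingCat.of R)).residueField (f z))
      (f.fiberToSpecResidueField (f z)) hU P
    have hPm : IsMax P := fun Q hQ => by
      have hsp := ((VarDim.fromSpec_specializes_iff hU P Q).2 hQ)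
      rw [hP] at hsp
      have hQe : hU.fromSpec Q = hU.fromSpec P := hP.symm ▸ hsp.mem_closed hc rfl
      exact le_of_eq (hU.fromSpec.isOpenEmbedding.injective hQe : Q = P)
    rw [Order.coheight_eq_zero.2 hPm, hP] at h
    have h' : (FibDim.rd f z : ℕ∞) = 0 := h.symm
    exact_mod_cast h'
  have hle := DimFormula.codim_le_add f z
  have hz1 : DimFormula.codim (f z) = 1 := by
    refine le_antisymm (codim_le_one _) (Nat.one_le_iff_ne_zero.2 fun h0 => ?_)
    have h1 := DimFormula.codim_eq_zero_iff.1 h0 _ (genericPoint_specializes (f z))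
    have h2 : genericPoint (Spec (CommRingCat.of R)) = (⟨⊥, Ideal.isPrime_bot⟩ : PrimeSpectrum R) :=
      genericPoint_eq_bot_of_affine (CommRingCat.of R)
    rw [h2, hfz] at h1
    exact IsDiscreteValuationRing.not_isField R
      (IsLocalRing.isField_iff_maximalIdeal_eq.2 (congrArg PrimeSpectrum.asIdeal h1).symm)
  have hform := (DimFormula.cd_formula f (hgen z)).2 (hfz ▸ isUniversallyCatenary_stalk_closedPoint)
  have hc := DimFormula.cd_le_codim (hgen z)
  rw [hcd, hz1, hrd] at hform
  rw [hfb, hz1] at hle
  have hrη : FibDim.rd f η = 0 := by omega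
  have hall : ∀ x : X.left, DimFormula.codim x ≤ 1 := fun x => by
    have h := (DimFormula.cd_formula f (hgen x)).1
    have h2 := codim_le_one (R := R) (f x)
    rw [hcd, hrη, DimFormula.cd_eq_codim_of_irreducible] at h
    omega
  have : topologicalKrullDim X.left ≤ 1 := by
    rw [topologicalKrullDim, Order.krullDim_eq_of_orderIso irreducibleSetEquivPoints,
      Order.krullDim_eq_iSup_coheight_of_nonempty]
    refine WithBot.coe_le_coe.2 (iSup_le fun x => ?_)
    rw [← DimFormula.coe_codim]
    exact_mod_cast hall x
  rw [hdim] at this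
  exact absurd this (by decide)

end Groth.Agent.H26.FibDimOne
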