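import Groth.Agent.H26.HorizLocal
import Groth.Agent.H26.FibreIdeal
import Groth.Agent.H26.SectionFibre
import Groth.Agent.H26.GenDeg
import Groth.Agent.H26.FibDimOne
import Groth.Agent.NQF.FibreComp
import Groth.Agent.H26.InterSymm

/-!
# A horizontal point meeting the closed fibre in one point
-/

set_option autoImplicit false
set_option linter.style.haveILetI false
set_option linter.unusedSectionVars false
set_option backward.isDefEq.respectTransparency false
set_option backward.isDefEq.respectTransparency.types false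
set_option maxHeartbeats 1000000

universe u

open CategoryTheory CategoryTheory.Limits AlgebraicGeometry TopologicalSpace

noncomputable section

namespace Groth.Agent.H26.HorizDeg

variable {R : Type u} [CommRing R] [IsDomain R] [IsDiscreteValuationRing R]

/-- A point of the generic fibre is not in the closed fibre. -/
theorem generic_ne_closed : genericPoint (Spec (CommRingCat.of R)) ≠ IsLocalRing.closedPoint R := by
  rw [genericPoint_eq_bot_of_affine (CommRingCat.of R)]
  exact fun h => IsDiscreteValuationRing.not_isField R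
    (IsLocalRing.isField_iff_maximalIdeal_eq.2 (congrArg PrimeSpectrum.asIdeal h).symm)

theorem range_specMap_fraction (a : Spec (CommRingCat.of (FractionRing R))) :
    Spec.map (CommRingCat.ofHom (algebraMap R (FractionRing R))) a = genericPoint (Spec (CommRingCat.of R)) := by
  rw [genericPoint_eq_bot_of_affine (CommRingCat.of R)]
  refine PrimeSpectrum.ext ?_
  show Ideal.comap (algebraMap R (FractionRing R)) a.asIdeal = ⊥
  rw [(Ideal.eq_bot_or_top a.asIdeal).resolve_right a.isPrime.ne_top, ← RingHom.ker_eq_comap_bot]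
  exact (RingHom.injective_iff_ker_eq_bot _).1 (IsFractionRing.injective R (FractionRing R))

section Dim

variable {X : Over (Spec (CommRingCat.of R))} [IsIntegral X.left] [LocallyOfFiniteType X.hom] [Flat X.hom]
  {C : Scheme.{u}} [IsIntegral C] (f : C ⟶ Spec (CommRingCat.of (FractionRing R))) [LocallyOfFiniteType f]
  (g : C ⟶ X.left) (sq : IsPullback g f X.hom (Spec.map (CommRingCat.ofHom (algebraMap R (FractionRing R)))))

include sq in
/-- A model of a curve has dimension at most two. -/
theorem codim_le_two (hdim : topologicalKrullDim C = 1) (x : X.left) : DimFormula.codim x ≤ 2 := by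
  haveI : IsLocallyNoetherian X.left := LocallyOfFiniteType.isLocallyNoetherian X.hom
  let j := Spec.map (CommRingCat.ofHom (algebraMap R (FractionRing R)))
  haveI : IsPreimmersion j := IsPreimmersion.of_isLocalization (nonZeroDivisors R)
  haveI : IsPreimmersion g := MorphismProperty.of_isPullback sq.flip ‹_›
  set η := genericPoint X.left
  have hη : X.hom η = genericPoint (Spec (CommRingCat.of R)) := by
    obtain ⟨η', -, hη'⟩ := Flat.generalizingMap (f := X.hom) (genericPoint_specializes (X.hom η))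
    exact ((((genericPoint_specializes η').map X.hom.continuous).trans (specializes_of_eq hη')).antisymm
      (genericPoint_specializes _)).eq
  obtain ⟨c, hc⟩ : η ∈ Set.range g := by
    obtain ⟨a⟩ : Nonempty ↥(Spec (CommRingCat.of (FractionRing R))) := inferInstanceAs (Nonempty (PrimeSpectrum _))
    obtain ⟨z, hz, -⟩ := Scheme.Pullback.exists_preimage_pullback η a (hη.trans (range_specMap_fraction a).symm)
    refine ⟨sq.isoPullback.inv z, ?_⟩
    rw [← Scheme.Hom.comp_apply, IsPullback.isoPullback_inv_fst]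
    exact hz
  have hgen : g (genericPoint C) = η :=
    (((genericPoint_specializes c).map g.continuous).trans (specializes_of_eq hc)).antisymm
      (genericPoint_specializes _) |>.eq
  have hrd : FibDim.rd X.hom η = 1 := by
    have e := VarDim.rdeg_congr sq.w (genericPoint C)
    rw [VarDim.rdeg_comp, VarDim.rdeg_comp, VarDim.rdeg_preimmersion g, VarDim.rdeg_preimmersion j, add_zero,
      zero_add, hgen, ← FibDim.rd_eq_rdeg, ← FibDim.rd_eq_rdeg] at e
    have h1 := GenDeg.topologicalKrullDim_eq_rd f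
    rw [hdim] at h1
    have h2 : FibDim.rd f (genericPoint C) = 1 :=
      ((Nat.cast_inj (R := ℕ∞)).1 (WithBot.coe_inj.1 h1.symm)).trans rfl
    rw [h2] at e
    exact_mod_cast e
  have h := (DimFormula.cd_formula X.hom (genericPoint_specializes x)).1
  have h2 := FibDimOne.codim_le_one (R := R) (X.hom x)
  rw [show DimFormula.cd η x = DimFormula.codim x from DimFormula.cd_eq_codim_of_irreducible x, hη,
    DimFormula.cd_eq_codim_of_irreducible, hrd] at h
  omega

end Dim

variable {X : Over (Spec (CommRingCat.of R))}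

/-- The generic point of a vertical curve is maximal in the closed fibre of a surface. -/
theorem genPt_maximal [IsIntegral X.left] [IsLocallyNoetherian X.left] [Flat X.hom]
    (hdim : ∀ x : X.left, DimFormula.codim x ≤ 2) (Γ : ArSurf.VertComp R X) {z : X.left}
    (hz : z ⤳ Models.genPtOf R X Γ) (hzs : z ∈ Models.specialFibreSet R X) : z = Models.genPtOf R X Γ := by
  by_contra hne
  set γ := Models.genPtOf R X Γ
  obtain ⟨c, hc⟩ : ∃ c : Γ.curve.left, c ≠ genericPoint Γ.curve.left := by
    by_contra hall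
    simp only [not_exists, not_not] at hall
    haveI : Subsingleton Γ.curve.left := ⟨fun a b => (hall a).trans (hall b).symm⟩
    have h0 : topologicalKrullDim Γ.curve.left ≤ 0 := by
      rw [topologicalKrullDim, Order.krullDim_eq_of_orderIso irreducibleSetEquivPoints]
      exact Order.krullDim_nonpos_of_subsingleton
    rw [Γ.dim_eq] at h0
    exact absurd h0 (by decide)
  have hstep : ∀ {a b : X.left}, b ⤳ a → b ≠ a → DimFormula.codim b + 1 ≤ DimFormula.codim a := fun {a b} h h' => by
    have hlt : a < b := lt_iff_le_not_ge.2 ⟨h, fun h'' => h' (h.antisymm h'').eq⟩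
    have h2 := Order.coheight_add_one_le hlt
    rw [← DimFormula.coe_codim, ← DimFormula.coe_codim] at h2
    exact_mod_cast h2
  have h1 : DimFormula.codim γ + 1 ≤ DimFormula.codim (Γ.ι c) :=
    hstep (show γ ⤳ Γ.ι c from (genericPoint_specializes c).map Γ.ι.continuous)
      fun h => hc (Γ.ι.isClosedEmbedding.injective h).symm
  have h2 := hstep hz hne
  have h3 : DimFormula.codim (genericPoint X.left) + 1 ≤ DimFormula.codim z :=
    hstep (genericPoint_specializes z) fun h => by
      obtain ⟨η', hη1, hη2⟩ := Flat.generalizingMap (f := X.hom) (genericPoint_specializes (X.hom z))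
      rw [← h] at hη1
      rw [((genericPoint_specializes η').antisymm hη1).eq.symm, h, hzs] at hη2
      exact generic_ne_closed hη2.symm
  have := hdim (Γ.ι c)
  omega

variable [IsIntegral X.left] [IsProper X.hom] [Flat X.hom]

/-- The degree of a horizontal point meeting the closed fibre only in `x`. -/
theorem exists_coeffs (hdim : ∀ z : X.left, DimFormula.codim z ≤ 2)
    (hreg : ∀ y : X.left, IsRegularLocalRing (X.left.presheaf.stalk y)) (x : X.left) {n : ℕ}
    (Γ : Fin n → ArSurf.VertComp R X) (hinj : Function.Injective fun i => Set.range (Γ i).ι.base)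
    (hΓ : ∀ Z ∈ Models.fibreComponents R X, x ∈ Z ↔ ∃ i, Set.range (Γ i).ι.base = Z)
    (ξ : X.left) (hξ : ξ ∉ Models.specialFibreSet R X)
    (hcl : closure ({ξ} : Set X.left) ∩ Models.specialFibreSet R X = {x})
    (L : Type u) [Field L] [Algebra (FractionRing R) L] (θ : X.left.presheaf.stalk ξ →+* L)
    (hθ : Function.Surjective θ)
    (hθK : ∀ r, θ (Models.stalkHom R X ξ r) = algebraMap (FractionRing R) L (algebraMap R (FractionRing R) r)) :
    ∃ c : Fin n → ℕ, (∀ i, 1 ≤ c i) ∧
      Module.finrank (FractionRing R) L = ∑ i, c i * Models.mult R X (Γ i) := by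
  classical
  haveI : IsLocallyNoetherian X.left := LocallyOfFiniteType.isLocallyNoetherian X.hom
  haveI : CompactSpace X.left := QuasiCompact.compactSpace_of_compactSpace X.hom
  obtain ⟨ϖ, hirr⟩ := IsDiscreteValuationRing.exists_irreducible R
  have hϖ := hirr.maximalIdeal_eq
  have hxmem : x ∈ closure ({ξ} : Set X.left) ∩ Models.specialFibreSet R X := hcl ▸ rfl
  have hclosed : ∀ z : X.left, IsClosed ({z} : Set X.left) → z ∈ Models.specialFibreSet R X := fun z hz => by
    have h := X.hom.isClosedMap _ hz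
    rw [Set.image_singleton] at h
    have hm : X.hom z ⤳ IsLocalRing.closedPoint R :=
      (PrimeSpectrum.le_iff_specializes (X.hom z) (IsLocalRing.closedPoint R)).1
        (IsLocalRing.le_maximalIdeal (X.hom z).isPrime.ne_top)
    exact (hm.mem_closed h rfl).symm
  have hspec : ∀ z ∈ closure ({ξ} : Set X.left), z ⤳ x := fun z hz => by
    obtain ⟨w, hw, hwc⟩ := (isClosed_closure (s := ({z} : Set X.left))).exists_closed_singleton
      ⟨z, subset_closure rfl⟩
    have h2 : w ∈ closure ({ξ} : Set X.left) ∩ Models.specialFibreSet R X :=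
      ⟨closure_minimal (Set.singleton_subset_iff.2 hz) isClosed_closure hw, hclosed w hwc⟩
    rw [hcl] at h2
    exact specializes_iff_mem_closure.2 ((h2 : w = x) ▸ hw)
  -- the components
  have hsub : ∀ i, Set.range (Γ i).ι.base ⊆ Models.specialFibreSet R X := by
    rintro i _ ⟨c, rfl⟩
    show ((Γ i).ι ≫ X.hom) c = _
    rw [(Γ i).w, Scheme.Hom.comp_apply]
    generalize (Γ i).curve.hom c = a
    refine PrimeSpectrum.ext ?_
    show Ideal.comap (IsLocalRing.residue R) a.asIdeal = IsLocalRing.maximalIdeal R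
    rw [(Ideal.eq_bot_or_top a.asIdeal).resolve_right a.isPrime.ne_top, ← RingHom.ker_eq_comap_bot,
      IsLocalRing.ker_residue]
  have hgmem : ∀ i, Models.genPtOf R X (Γ i) ∈ Models.specialFibreSet R X := fun i => hsub i ⟨_, rfl⟩
  have hcomp : ∀ i, Set.range (Γ i).ι.base ∈ Models.fibreComponents R X := fun i => by
    refine ⟨⟨?_, hsub i⟩, fun S hS hle => ?_⟩
    · rw [InterSymm.range_eq_closure (Γ i)]
      exact isIrreducible_singleton.closure
    have hg := hS.1.closure.isGenericPoint_genericPoint isClosed_closure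
    have hcl' : closure S ⊆ Models.specialFibreSet R X := closure_minimal hS.2 (Models.isClosed_specialFibreSet R X)
    have e := genPt_maximal hdim (Γ i) (hg.specializes (subset_closure (hle ⟨_, rfl⟩))) (hcl' hg.mem)
    rw [e] at hg
    refine subset_closure.trans (hg.def.ge.trans ?_)
    rw [InterSymm.range_eq_closure (Γ i)]
    exact subset_rfl
  have hgx : ∀ i, Models.genPtOf R X (Γ i) ⤳ x := fun i => by
    have h := (hΓ _ (hcomp i)).2 ⟨i, rfl⟩
    rw [InterSymm.range_eq_closure (Γ i)] at h
    exact specializes_iff_mem_closure.2 h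
  have hgen : ∀ {i j}, Models.genPtOf R X (Γ i) = Models.genPtOf R X (Γ j) → i = j := fun {i j} h => hinj (by
    show Set.range (Γ i).ι.base = Set.range (Γ j).ι.base
    rw [InterSymm.range_eq_closure (Γ i), InterSymm.range_eq_closure (Γ j)]
    exact congrArg (fun z => closure ({z} : Set X.left)) h)
  -- an affine neighbourhood meeting no other component
  have hfin : {Z ∈ Models.fibreComponents R X | x ∉ Z}.Finite :=
    (Groth.Agent.FiniteNormal.fibreComponents_finite R X).subset fun Z hZ => hZ.1
  have hWo : IsOpen (⋃₀ {Z ∈ Models.fibreComponents R X | x ∉ Z})ᶜ := by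
    rw [Set.sUnion_eq_biUnion]
    exact (hfin.isClosed_biUnion fun Z hZ =>
      Groth.Agent.FiniteNormal.isClosed_of_mem_fibreComponents R X hZ.1).isOpen_compl
  obtain ⟨U, hU, hxU, hUW⟩ := exists_isAffineOpen_mem_and_subset (x := x)
    (U := (⟨_, hWo⟩ : X.left.Opens)) (by rintro ⟨Z, ⟨-, hZ⟩, hxZ⟩; exact hZ hxZ)
  let A := Γ(X.left, U)
  haveI : IsNoetherianRing Γ(X.left, U) := IsLocallyNoetherian.component_noetherian ⟨U, hU⟩
  have hgU : ∀ i, Models.genPtOf R X (Γ i) ∈ U := fun i => (hgx i).mem_open U.2 hxU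
  have hξU : ξ ∈ U := (hspec ξ (subset_closure rfl)).mem_open U.2 hxU
  let P : Fin n → Ideal A := fun i => (hU.primeIdealOf ⟨_, hgU i⟩).asIdeal
  let π : A := FibreIdeal.unifOn X ϖ U
  have hπ : π ∈ nonZeroDivisors A := FibreIdeal.unifOn_mem_nonZeroDivisors X hirr.ne_zero hU
  have hpt : ∀ q : PrimeSpectrum A, ∃ hqU : hU.fromSpec q ∈ U, hU.primeIdealOf ⟨hU.fromSpec q, hqU⟩ = q := fun q => by
    have hqU : hU.fromSpec q ∈ U := by
      have : hU.fromSpec q ∈ Set.range hU.fromSpec := ⟨q, rfl⟩
      rwa [hU.range_fromSpec] at this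
    exact ⟨hqU, hU.fromSpec.isOpenEmbedding.injective (hU.fromSpec_primeIdealOf ⟨_, hqU⟩)⟩
  have hple : ∀ {a b : X.left} (ha : a ∈ U) (hb : b ∈ U), a ⤳ b →
      (hU.primeIdealOf ⟨a, ha⟩).asIdeal ≤ (hU.primeIdealOf ⟨b, hb⟩).asIdeal := fun ha hb h => by
    refine (PrimeSpectrum.le_iff_specializes _ _).2 (hU.fromSpec.isOpenEmbedding.isInducing.specializes_iff.1 ?_)
    rwa [hU.fromSpec_primeIdealOf, hU.fromSpec_primeIdealOf]
  have hmin : ∀ i, P i ∈ (Ideal.span {π}).minimalPrimes := fun i => by
    refine ⟨⟨inferInstance, (Ideal.span_singleton_le_iff_mem _).2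
      ((FibreIdeal.mem_fibre_iff X hϖ hU _ (hgU i)).1 (hgmem i))⟩, fun Q hQ hQle => ?_⟩
    obtain ⟨hqU, hq⟩ := hpt ⟨Q, hQ.1⟩
    have hsp : hU.fromSpec ⟨Q, hQ.1⟩ ⤳ Models.genPtOf R X (Γ i) := by
      have h2 := ((PrimeSpectrum.le_iff_specializes ⟨Q, hQ.1⟩ (hU.primeIdealOf ⟨_, hgU i⟩)).1 hQle).map
        hU.fromSpec.continuous
      rw [hU.fromSpec_primeIdealOf] at h2
      exact h2
    have heq := genPt_maximal hdim (Γ i) hsp ((FibreIdeal.mem_fibre_iff X hϖ hU _ hqU).2 (by
      rw [hq]; exact hQ.2 (Ideal.mem_span_singleton_self _)))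
    have : hU.primeIdealOf ⟨_, hgU i⟩ = (⟨Q, hQ.1⟩ : PrimeSpectrum A) := by
      rw [← hq]; exact congrArg _ (Subtype.ext heq.symm)
    exact (congrArg PrimeSpectrum.asIdeal this).le
  have hloc : ∀ (m : Ideal A) [m.IsMaximal], IsDomain (Localization.AtPrime m) ∧
      UniqueFactorizationMonoid (Localization.AtPrime m) := fun m _ => by
    obtain ⟨hqU, hq⟩ := hpt ⟨m, inferInstance⟩
    letI := TopCat.Presheaf.algebra_section_stalk X.left.presheaf (⟨_, hqU⟩ : U)
    haveI : IsLocalization.AtPrime (X.left.presheaf.stalk (hU.fromSpec ⟨m, inferInstance⟩)) m := by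
      have := hU.isLocalization_stalk ⟨_, hqU⟩
      simp only [hq] at this
      exact this
    let e := (IsLocalization.algEquiv m.primeCompl (X.left.presheaf.stalk (hU.fromSpec ⟨m, inferInstance⟩))
      (Localization.AtPrime m)).toRingEquiv
    haveI := hreg (hU.fromSpec ⟨m, inferInstance⟩)
    obtain ⟨hd, hu⟩ := RegUFD.ufd (X.left.presheaf.stalk (hU.fromSpec ⟨m, inferInstance⟩))
    exact ⟨e.symm.toMulEquiv.isDomain _, e.toMulEquiv.uniqueFactorizationMonoid hu⟩
  have hlen : ∀ i, ∃ (C : Type u) (_ : CommRing C) (_ : Algebra A C) (_ : IsLocalization.AtPrime C (P i)),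
      Module.length C (C ⧸ Ideal.span {algebraMap A C π}) = (Models.mult R X (Γ i) : ℕ∞) ∧
        0 < Models.mult R X (Γ i) := fun i => by
    letI := TopCat.Presheaf.algebra_section_stalk X.left.presheaf (⟨_, hgU i⟩ : U)
    haveI := hU.isLocalization_stalk ⟨_, hgU i⟩
    refine ⟨X.left.presheaf.stalk (Models.genPtOf R X (Γ i)), inferInstance, inferInstance,
      hU.isLocalization_stalk ⟨_, hgU i⟩, ?_⟩
    have e2 : Ideal.map (Models.stalkHom R X (Models.genPtOf R X (Γ i))) (IsLocalRing.maximalIdeal R) =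
        Ideal.span {algebraMap A (X.left.presheaf.stalk (Models.genPtOf R X (Γ i))) π} := by
      rw [hϖ, Ideal.map_span, Set.image_singleton]
      congr 2
      exact (X.left.presheaf.germ_res_apply (homOfLE (le_top : U ≤ ⊤)) _ (hgU i) _).symm
    haveI : IsDomain (X.left.presheaf.stalk (Models.genPtOf R X (Γ i))) := (@RegUFD.ufd _ _ (hreg _)).1
    haveI : Ring.KrullDimLE 1 (X.left.presheaf.stalk (Models.genPtOf R X (Γ i))) := Ring.krullDimLE_iff.2 (by
      rw [IsLocalization.AtPrime.ringKrullDim_eq_height (P i)]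
      exact_mod_cast Ideal.height_le_one_of_isPrincipal_of_mem_minimalPrimes _ _ (hmin i))
    have hne : Module.length (X.left.presheaf.stalk (Models.genPtOf R X (Γ i)))
        (X.left.presheaf.stalk (Models.genPtOf R X (Γ i)) ⧸
          Ideal.span {algebraMap A (X.left.presheaf.stalk (Models.genPtOf R X (Γ i))) π}) ≠ ⊤ := by
      refine Module.length_ne_top_iff.2 (isFiniteLength_quotient_span_singleton _ ?_)
      refine mem_nonZeroDivisors_of_ne_zero fun h0 => ?_
      obtain ⟨c, hc⟩ := (IsLocalization.map_eq_zero_iff (P i).primeCompl _ _).1 h0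
      exact c.2 ((mem_nonZeroDivisors_iff_right.1 hπ _ hc).symm ▸ Ideal.zero_mem _)
    refine ⟨?_, ?_⟩
    · rw [Models.mult, FibreIdeal.length_congr e2, ENat.natCast_toNat hne]
    · rw [Models.mult, FibreIdeal.length_congr e2, Nat.pos_iff_ne_zero, ne_eq, ENat.toNat_eq_zero, not_or]
      refine ⟨?_, hne⟩
      rw [Module.length_eq_zero_iff, not_subsingleton_iff_nontrivial]
      refine Ideal.Quotient.nontrivial_iff.2 (ne_top_of_le_ne_top (IsLocalRing.maximalIdeal.isMaximal _).ne_top ?_)
      rw [Ideal.span_singleton_le_iff_mem]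
      exact (IsLocalization.AtPrime.to_map_mem_maximal_iff (X.left.presheaf.stalk _) (P i) _).2
        ((hmin i).1.2 (Ideal.mem_span_singleton_self _))
  have hfac : Ideal.span {π} = ∏ i, P i ^ Models.mult R X (Γ i) := by
    refine IdealFactor.span_eq_prod hloc π hπ P (fun i => Or.inr (hmin i)) (fun i j hij _ => ?_)
      (fun Q hQ => ?_) _ fun i _ => ?_
    · have h : hU.primeIdealOf ⟨_, hgU i⟩ = hU.primeIdealOf ⟨_, hgU j⟩ := PrimeSpectrum.ext hij
      have h2 := congrArg hU.fromSpec h
      rw [hU.fromSpec_primeIdealOf, hU.fromSpec_primeIdealOf] at h2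
      exact hgen h2
    · obtain ⟨hqU, hq⟩ := hpt ⟨Q, hQ.1.1⟩
      have hqs : hU.fromSpec ⟨Q, hQ.1.1⟩ ∈ Models.specialFibreSet R X :=
        (FibreIdeal.mem_fibre_iff X hϖ hU _ hqU).2 (by rw [hq]; exact hQ.1.2 (Ideal.mem_span_singleton_self _))
      set z := hU.fromSpec ⟨Q, hQ.1.1⟩
      have hmemC : closure ({z} : Set X.left) ∈ Models.fibreComponents R X := by
        refine ⟨⟨isIrreducible_singleton.closure,
          closure_minimal (Set.singleton_subset_iff.2 hqs) (Models.isClosed_specialFibreSet R X)⟩, fun S hS hle => ?_⟩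
        have hg := hS.1.closure.isGenericPoint_genericPoint isClosed_closure
        have hwz := hg.specializes (subset_closure (hle (subset_closure rfl)) : z ∈ closure S)
        have hws : hS.1.closure.genericPoint ∈ Models.specialFibreSet R X :=
          closure_minimal hS.2 (Models.isClosed_specialFibreSet R X) hg.mem
        have hwU := hwz.mem_open U.2 hqU
        have hle' : (hU.primeIdealOf ⟨_, hwU⟩).asIdeal ≤ Q := by
          have := hple hwU hqU hwz
          rwa [hq] at this
        have h2 := hQ.2 ⟨inferInstance, (Ideal.span_singleton_le_iff_mem _).2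
          ((FibreIdeal.mem_fibre_iff X hϖ hU _ hwU).1 hws)⟩ hle'
        have h3 : hU.primeIdealOf ⟨_, hwU⟩ = ⟨Q, hQ.1.1⟩ := PrimeSpectrum.ext (le_antisymm hle' h2)
        have h4 := congrArg hU.fromSpec h3
        rw [hU.fromSpec_primeIdealOf] at h4
        rw [show hS.1.closure.genericPoint = z from h4] at hg
        exact subset_closure.trans hg.def.ge
      have hxC : x ∈ closure ({z} : Set X.left) := by
        by_contra hx'
        exact hUW hqU ⟨_, ⟨hmemC, hx'⟩, subset_closure rfl⟩
      obtain ⟨i, hi⟩ := (hΓ _ hmemC).1 hxC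
      have hgz : Models.genPtOf R X (Γ i) = z :=
        (show IsGenericPoint (Models.genPtOf R X (Γ i)) (closure ({z} : Set X.left)) by
          rw [← hi, InterSymm.range_eq_closure (Γ i)]
          rfl).eq rfl
      refine ⟨i, ?_⟩
      have : hU.primeIdealOf ⟨_, hgU i⟩ = (⟨Q, hQ.1.1⟩ : PrimeSpectrum A) := by
        rw [← hq]; exact congrArg _ (Subtype.ext hgz)
      exact congrArg PrimeSpectrum.asIdeal this
    · obtain ⟨C, c1, c2, c3, h, -⟩ := hlen i
      exact ⟨C, c1, c2, c3, h⟩
  -- the ring of functions on the horizontal divisor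
  let Pξ : Ideal A := (hU.primeIdealOf ⟨ξ, hξU⟩).asIdeal
  let Mx : Ideal A := (hU.primeIdealOf ⟨x, hxU⟩).asIdeal
  have hξx : Pξ ≤ Mx := hple hξU hxU (hspec ξ (subset_closure rfl))
  let ρ : R →+* A := (X.left.presheaf.map (homOfLE (le_top : U ≤ ⊤)).op).hom.comp (Coh.toGlobal X.hom)
  letI : Algebra R A := ρ.toAlgebra
  let B := A ⧸ Pξ
  haveI : Module.Finite R B := by
    let I := Scheme.IdealSheafData.vanishingIdeal (⟨closure ({ξ} : Set X.left), isClosed_closure⟩ : Closeds X.left)
    let Z := I.subscheme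
    have hrange : Set.range I.subschemeι = closure ({ξ} : Set X.left) := by
      rw [Scheme.IdealSheafData.range_subschemeι, Scheme.IdealSheafData.coe_support_vanishingIdeal]
      rfl
    have htop : I.subschemeι ⁻¹ᵁ U = ⊤ := by
      refine top_unique fun w _ => ?_
      have : I.subschemeι w ∈ closure ({ξ} : Set X.left) := hrange ▸ ⟨w, rfl⟩
      exact (hspec _ this).mem_open U.2 hxU
    haveI : IsAffine Z := by
      have h := hU.preimage I.subschemeι
      rw [htop] at h
      haveI : IsAffine (⊤ : Z.Opens).toScheme := h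
      exact .of_isIso Z.topIso.inv
    haveI : IsAffineHom (I.subschemeι ≫ X.hom) := isAffineHom_of_isAffine _
    haveI : IsFinite (I.subschemeι ≫ X.hom) := IsFinite.iff_isProper_and_isAffineHom.2 ⟨inferInstance, inferInstance⟩
    have hfin' : ((I.subschemeι ≫ X.hom).appTop.hom.comp (Scheme.ΓSpecIso (CommRingCat.of R)).inv.hom).Finite :=
      ((I.subschemeι ≫ X.hom).finite_appTop).comp
        (RingHom.Finite.of_surjective _ (Scheme.ΓSpecIso (CommRingCat.of R)).symm.commRingCatIsoToRingEquiv.surjective)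
    have hI : I.ideal ⟨U, hU⟩ = Pξ := by
      show PrimeSpectrum.vanishingIdeal (hU.fromSpec ⁻¹' closure ({ξ} : Set X.left)) = Pξ
      have : hU.fromSpec ⁻¹' closure ({ξ} : Set X.left) = closure {hU.primeIdealOf ⟨ξ, hξU⟩} := by
        rw [hU.fromSpec.isOpenEmbedding.isInducing.closure_eq_preimage_closure_image, Set.image_singleton,
          hU.fromSpec_primeIdealOf]
      rw [this, PrimeSpectrum.vanishingIdeal_closure, PrimeSpectrum.vanishingIdeal_singleton]
    let e1 : (A ⧸ I.ideal ⟨U, hU⟩) ≃+* Γ(Z, I.subschemeι ⁻¹ᵁ U) :=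
      (I.subschemeObjIso ⟨U, hU⟩).commRingCatIsoToRingEquiv.symm
    let e : B ≃+* Γ(Z, I.subschemeι ⁻¹ᵁ U) := (Ideal.quotEquivOfEq hI.symm).trans e1
    let res : Γ(Z, ⊤) →+* Γ(Z, I.subschemeι ⁻¹ᵁ U) := (Z.presheaf.map (eqToHom htop).op).hom
    have hcompat : e.toRingHom.comp ((Ideal.Quotient.mk Pξ).comp ρ) =
        res.comp ((I.subschemeι ≫ X.hom).appTop.hom.comp (Scheme.ΓSpecIso (CommRingCat.of R)).inv.hom) := by
      refine RingHom.ext fun r => ?_
      show e1 (Ideal.Quotient.mk _ (ρ r)) = res (I.subschemeι.appTop (Coh.toGlobal X.hom r))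
      refine Eq.trans ?_ (ConcreteCategory.congr_hom (I.subschemeι.naturality (homOfLE (le_top : U ≤ ⊤)).op) _)
      exact (ConcreteCategory.congr_hom (I.subschemeι_app ⟨U, hU⟩) (ρ r)).symm
    have hres : res.Finite := RingHom.Finite.of_surjective _
      (ConcreteCategory.bijective_of_isIso (Z.presheaf.map (eqToHom htop).op)).2
    have h1 : (e.toRingHom.comp ((Ideal.Quotient.mk Pξ).comp ρ)).Finite := hcompat ▸ hres.comp hfin'
    have h2 := (RingHom.Finite.of_surjective e.symm.toRingHom e.symm.surjective).comp h1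
    rw [← RingHom.comp_assoc, show e.symm.toRingHom.comp e.toRingHom = RingHom.id B from
      RingHom.ext e.symm_apply_apply, RingHom.id_comp] at h2
    exact h2
  have hinjB : Function.Injective (algebraMap R B) := by
    rw [RingHom.injective_iff_ker_eq_bot]
    by_contra hne
    have hp : (RingHom.ker (algebraMap R B)).IsPrime := RingHom.ker_isPrime _
    have hmax : RingHom.ker (algebraMap R B) = IsLocalRing.maximalIdeal R :=
      IsLocalRing.eq_maximalIdeal (hp.isMaximal hne)
    have : π ∈ Pξ := Ideal.Quotient.eq_zero_iff_mem.1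
      (RingHom.mem_ker.1 (show ϖ ∈ RingHom.ker (algebraMap R B) by rw [hmax, hϖ]; exact Ideal.mem_span_singleton_self _))
    exact hξ ((FibreIdeal.mem_fibre_iff X hϖ hU ξ hξU).2 this)
  haveI : Algebra.IsIntegral R B := Algebra.IsIntegral.of_finite R B
  have hmaxeq : ∀ M : Ideal B, M.IsMaximal → M.comap (Ideal.Quotient.mk Pξ) = Mx := fun M hM => by
    haveI := hM
    haveI hP' : (M.comap (Ideal.Quotient.mk Pξ)).IsPrime := Ideal.comap_isPrime _ _
    obtain ⟨hqU, hq⟩ := hpt ⟨M.comap (Ideal.Quotient.mk Pξ), hP'⟩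
    have hle : Pξ ≤ M.comap (Ideal.Quotient.mk Pξ) := by
      conv_lhs => rw [← Ideal.mk_ker (I := Pξ), RingHom.ker_eq_comap_bot]
      exact Ideal.comap_mono bot_le
    set z := hU.fromSpec ⟨M.comap (Ideal.Quotient.mk Pξ), hP'⟩
    have hsp : ξ ⤳ z := by
      have h2 := ((PrimeSpectrum.le_iff_specializes (hU.primeIdealOf ⟨ξ, hξU⟩) ⟨_, hP'⟩).1 hle).map
        hU.fromSpec.continuous
      rw [hU.fromSpec_primeIdealOf] at h2
      exact h2
    have hRmax : (M.comap (algebraMap R B)).IsMaximal :=
      Ideal.isMaximal_comap_of_isIntegral_of_isMaximal (R := R) M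
    have hϖM : π ∈ M.comap (Ideal.Quotient.mk Pξ) := by
      show algebraMap R B ϖ ∈ M
      rw [← Ideal.mem_comap, IsLocalRing.eq_maximalIdeal hRmax, hϖ]
      exact Ideal.mem_span_singleton_self _
    have hzs : z ∈ Models.specialFibreSet R X :=
      (FibreIdeal.mem_fibre_iff X hϖ hU z hqU).2 (by rw [hq]; exact hϖM)
    have hzx : z = x := by
      have : z ∈ closure ({ξ} : Set X.left) ∩ Models.specialFibreSet R X := ⟨hsp.mem_closure, hzs⟩
      rw [hcl] at this
      exact this
    show _ = (hU.primeIdealOf ⟨x, hxU⟩).asIdeal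
    exact (congrArg PrimeSpectrum.asIdeal hq).symm.trans
      (congrArg PrimeSpectrum.asIdeal (congrArg hU.primeIdealOf (Subtype.ext hzx)))
  haveI : IsLocalRing B := by
    obtain ⟨M, hM⟩ := Ideal.exists_maximal B
    refine IsLocalRing.of_unique_max_ideal ⟨M, hM, fun N hN => ?_⟩
    exact Ideal.comap_injective_of_surjective _ Ideal.Quotient.mk_surjective ((hmaxeq N hN).trans (hmaxeq M hM).symm)
  have hMB : ∀ a : A, a ∈ Mx ↔ Ideal.Quotient.mk Pξ a ∈ IsLocalRing.maximalIdeal B := fun a => by
    rw [← Ideal.mem_comap, hmaxeq _ (IsLocalRing.maximalIdeal.isMaximal B)]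
  -- pass to the local ring at `x`
  letI := TopCat.Presheaf.algebra_section_stalk X.left.presheaf (⟨x, hxU⟩ : U)
  let O := X.left.presheaf.stalk x
  haveI : IsLocalization.AtPrime O Mx := hU.isLocalization_stalk ⟨x, hxU⟩
  haveI := hreg x
  obtain ⟨hdO, huO⟩ := RegUFD.ufd O
  have hlift : ∀ s : Mx.primeCompl, IsUnit (Ideal.Quotient.mk Pξ (s : A)) := fun s => by
    by_contra hs
    exact s.2 ((hMB _).2 ((IsLocalRing.mem_maximalIdeal _).2 hs))
  let l : O →+* B := IsLocalization.lift hlift
  have hπO : algebraMap A O π ≠ 0 := fun h0 => by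
    obtain ⟨c, hc⟩ := (IsLocalization.map_eq_zero_iff Mx.primeCompl O π).1 h0
    exact c.2 ((mem_nonZeroDivisors_iff_right.1 hπ _ hc).symm ▸ Mx.zero_mem)
  have key : ∀ i, ∃ q : O, (P i).map (algebraMap A O) = Ideal.span {q} := fun i => by
    haveI := (hmin i).1.1
    have him : P i ≤ Mx := hple (hgU i) hxU (hgx i)
    have hdis : Disjoint (Mx.primeCompl : Set A) (P i) := Set.disjoint_left.2 fun y hy hyP => hy (him hyP)
    haveI : ((P i).map (algebraMap A O)).IsPrime :=
      IsLocalization.isPrime_of_isPrime_disjoint Mx.primeCompl O _ inferInstance hdis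
    have hle : ((P i).map (algebraMap A O)).height ≤ 1 := by
      rw [IsLocalization.height_map_of_disjoint Mx.primeCompl _ hdis]
      exact Ideal.height_le_one_of_isPrincipal_of_mem_minimalPrimes (Ideal.span {π}) (P i) (hmin i)
    have hne : (P i).map (algebraMap A O) ≠ ⊥ := fun h => hπO (by
      rw [← Ideal.mem_bot, ← h]
      exact Ideal.mem_map_of_mem _ ((hmin i).1.2 (Ideal.mem_span_singleton_self π)))
    have h1 : ((P i).map (algebraMap A O)).height = 1 := by
      refine le_antisymm hle (Order.one_le_iff_pos.2 (pos_iff_ne_zero.2 fun h0 => hne ?_))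
      rw [Ideal.height_eq_zero_iff, IsDomain.minimalPrimes_eq_singleton_bot] at h0
      exact h0
    obtain ⟨q, -, hq⟩ := DivX.exists_prime_span_of_height_one ((P i).map (algebraMap A O)) h1
    exact ⟨q, hq⟩
  choose q hq using key
  have hassoc : Associated (algebraMap R B ϖ) (∏ i, l (q i) ^ Models.mult R X (Γ i)) := by
    have h := congrArg (Ideal.map (algebraMap A O)) hfac
    rw [Ideal.map_span, Set.image_singleton,
      show Ideal.map (algebraMap A O) (∏ i, P i ^ Models.mult R X (Γ i)) =
        ∏ i, (P i).map (algebraMap A O) ^ Models.mult R X (Γ i) from by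
          rw [← Ideal.mapHom_apply (algebraMap A O), map_prod]
          simp only [map_pow, Ideal.mapHom_apply]] at h
    simp only [hq, Ideal.span_singleton_pow] at h
    rw [Ideal.prod_span_singleton, Ideal.span_singleton_eq_span_singleton] at h
    have h2 := h.map l
    rw [map_prod, show l (algebraMap A O π) = algebraMap R B ϖ from IsLocalization.lift_eq hlift π] at h2
    simpa only [map_pow] using h2
  have hqmax : ∀ i, l (q i) ∈ IsLocalRing.maximalIdeal B := fun i => by
    obtain ⟨⟨a, s⟩, hs⟩ := IsLocalization.surj Mx.primeCompl (q i)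
    have hqm : q i ∈ IsLocalRing.maximalIdeal O := by
      have hle : (P i).map (algebraMap A O) ≤ IsLocalRing.maximalIdeal O := by
        rw [← IsLocalization.AtPrime.map_eq_maximalIdeal Mx O]
        exact Ideal.map_mono (hple (hgU i) hxU (hgx i))
      exact hle ((hq i).symm ▸ Ideal.mem_span_singleton_self _)
    have ha : a ∈ Mx := (IsLocalization.AtPrime.to_map_mem_maximal_iff O Mx a).1
      (hs ▸ Ideal.mul_mem_right _ _ hqm)
    have h1 := congrArg l hs
    rw [map_mul, IsLocalization.lift_eq, IsLocalization.lift_eq] at h1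
    have h2 : l (q i) * Ideal.Quotient.mk Pξ (s : A) ∈ IsLocalRing.maximalIdeal B := h1 ▸ (hMB a).1 ha
    exact ((IsLocalRing.maximalIdeal.isMaximal B).isPrime.mem_or_mem h2).resolve_right
      fun hm => (IsLocalRing.maximalIdeal.isMaximal B).ne_top (Ideal.eq_top_of_isUnit_mem _ hm (hlift s))
  obtain ⟨c, hc1, hc2⟩ := HorizLocal.exists_coeffs hϖ hinjB (fun i => l (q i)) hqmax
    (fun i => Models.mult R X (Γ i)) (fun i => by obtain ⟨_, _, _, _, -, h⟩ := hlen i; exact h) hassoc
  refine ⟨c, hc1, Eq.trans ?_ hc2⟩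
  -- the function field of the divisor
  letI := TopCat.Presheaf.algebra_section_stalk X.left.presheaf (⟨ξ, hξU⟩ : U)
  haveI : IsLocalization.AtPrime (X.left.presheaf.stalk ξ) Pξ := hU.isLocalization_stalk ⟨ξ, hξU⟩
  have hkerθ : RingHom.ker θ = IsLocalRing.maximalIdeal (X.left.presheaf.stalk ξ) :=
    IsLocalRing.eq_maximalIdeal (RingHom.ker_isMaximal_of_surjective θ hθ)
  let ψ : B →+* L := Ideal.Quotient.lift Pξ (θ.comp (algebraMap A (X.left.presheaf.stalk ξ))) fun a ha => by
    show algebraMap A (X.left.presheaf.stalk ξ) a ∈ RingHom.ker θ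
    rw [hkerθ]
    exact (IsLocalization.AtPrime.to_map_mem_maximal_iff (X.left.presheaf.stalk ξ) Pξ a).2 ha
  letI : Algebra B L := ψ.toAlgebra
  letI : Algebra R L := ((algebraMap (FractionRing R) L).comp (algebraMap R (FractionRing R))).toAlgebra
  haveI : IsScalarTower R (FractionRing R) L := IsScalarTower.of_algebraMap_eq fun _ => rfl
  haveI : IsScalarTower R B L := IsScalarTower.of_algebraMap_eq fun r => by
    refine Eq.trans (hθK r).symm (congrArg θ ?_)
    exact (X.left.presheaf.germ_res_apply (homOfLE (le_top : U ≤ ⊤)) ξ hξU _).symm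
  refine HorizLocal.finrank_fractions (FractionRing R) L ?_ hinjB fun y => ?_
  · refine (injective_iff_map_eq_zero _).2 fun b hb => ?_
    obtain ⟨a, rfl⟩ := Ideal.Quotient.mk_surjective b
    refine Ideal.Quotient.eq_zero_iff_mem.2 ?_
    refine (IsLocalization.AtPrime.to_map_mem_maximal_iff (X.left.presheaf.stalk ξ) Pξ a).1 ?_
    rw [← hkerθ]
    exact hb
  · obtain ⟨o, rfl⟩ := hθ y
    obtain ⟨⟨a, s⟩, hs⟩ := IsLocalization.surj Pξ.primeCompl o
    refine ⟨Ideal.Quotient.mk Pξ a, Ideal.Quotient.mk Pξ (s : A), ?_, ?_⟩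
    · show θ (algebraMap A (X.left.presheaf.stalk ξ) s) ≠ 0
      exact ((IsLocalization.map_units (X.left.presheaf.stalk ξ) s).map θ).ne_zero
    · show θ o * θ (algebraMap A (X.left.presheaf.stalk ξ) s) = θ (algebraMap A (X.left.presheaf.stalk ξ) a)
      rw [← map_mul, hs]

end Groth.Agent.H26.HorizDeg
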