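import Groth.Agent.H26.FibDimOne
import Groth.Agent.S4464
import Groth.Agent.S4808
import Groth.Agent.BrnchLib.SmoothUnib
import Groth.Agent.RegLoc6.Normal
import Groth.Agent.SmoothReg.Scheme
import Groth.Agent.PnCoh.Chow.Proper
import Groth.Prelude.Def_Neron
import Groth.Prelude.Def_ArSurf

/-!
# Surfaces with disjoint fibre components are relatively minimal
-/

set_option autoImplicit false
set_option linter.style.haveILetI false
set_option linter.unusedSectionVars false
set_option backward.isDefEq.respectTransparency false
set_option backward.isDefEq.respectTransparency.types false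
set_option maxHeartbeats 1000000

universe u

open CategoryTheory CategoryTheory.Limits AlgebraicGeometry TopologicalSpace

noncomputable section

namespace Groth.Agent.H26.SmoothMinimal

theorem isIntegral_of_regular {Y : Scheme.{u}} [IrreducibleSpace Y]
    (h : ∀ y : Y, IsRegularLocalRing (Y.presheaf.stalk y)) : IsIntegral Y := by
  haveI : ∀ y : Y, _root_.IsReduced (Y.presheaf.stalk y) := fun y => by
    haveI := h y
    haveI := RegLoc6.isDomain_of_isRegularLocalRing (Y.presheaf.stalk y)
    infer_instance
  haveI : IsReduced Y := isReduced_of_isReduced_stalk Y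
  exact isIntegral_of_irreducibleSpace_of_isReduced Y

/-- A fibre of a birational proper map to a normal scheme is connected. -/
theorem isConnected_preimage {X Y : Scheme.{u}} [IsIntegral X] [IsIntegral Y] [IsLocallyNoetherian X]
    [IsLocallyNoetherian Y] (f : X ⟶ Y) [IsProper f] (hgen : f (genericPoint X) = genericPoint Y)
    (hiso : Function.Bijective (f.stalkMap (genericPoint X))) (y : Y)
    [IsIntegrallyClosed (Y.presheaf.stalk y)] : _root_.IsConnected (f ⁻¹' {y}) := by
  have hdom : f (genericPoint X) ⤳ genericPoint Y := specializes_of_eq hgen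
  have hsurj : Function.Surjective (CohIII.stalkToFunctionField f (genericPoint Y) hdom) := by
    show Function.Surjective ((f.stalkMap (genericPoint X)).hom ∘ (Y.presheaf.stalkSpecializes hdom).hom)
    refine hiso.2.comp fun b => ?_
    refine ⟨(Y.presheaf.stalkSpecializes (specializes_of_eq hgen.symm)).hom b, ?_⟩
    rw [← CommRingCat.comp_apply, TopCat.Presheaf.stalkSpecializes_comp, TopCat.Presheaf.stalkSpecializes_refl]
    rfl
  haveI := Groth.Agent.S4464.result f hdom (fun x _ => ⟨0, by
    rw [pow_zero, pow_one]
    exact hsurj x⟩) y
    (Groth.Agent.BrnchLib.isUnibranch_of_integral_normal (Y.presheaf.stalk y) (Y.presheaf.stalk y)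
      Function.injective_id)
  rw [← Scheme.Hom.range_fiberι]
  exact isConnected_range (f.fiberι y).continuous

variable {R : Type u} [CommRing R] [IsDedekindDomain R]

theorem range_genPt : Set.range (Neron.genPt R) = {genericPoint (Spec (CommRingCat.of R))} := by
  rw [genericPoint_eq_bot_of_affine (CommRingCat.of R)]
  ext q
  constructor
  · rintro ⟨w, rfl⟩
    refine PrimeSpectrum.ext ?_
    show w.asIdeal.comap (algebraMap R (FractionRing R)) = ⊥
    rw [(Ideal.eq_bot_or_top w.asIdeal).resolve_right w.isPrime.ne_top]
    exact Ideal.comap_bot_of_injective _ (IsFractionRing.injective R (FractionRing R))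
  · rintro rfl
    exact ⟨⟨⊥, Ideal.isPrime_bot⟩, PrimeSpectrum.ext (Ideal.comap_bot_of_injective _ (IsFractionRing.injective R (FractionRing R)))⟩

/-- The stalk of the generic fibre is the stalk of the scheme. -/
theorem bijective_stalkMap_fst (X : Over (Spec (CommRingCat.of R)))
    (w : ↥(pullback X.hom (Neron.genPt R))) :
    Function.Bijective ((pullback.fst X.hom (Neron.genPt R)).stalkMap w) := by
  haveI : Flat (Neron.genPt R) := by
    rw [HasRingHomProperty.Spec_iff (P := @Flat)]
    exact RingHom.flat_algebraMap_iff.2 (IsLocalization.flat (FractionRing R) (nonZeroDivisors R))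
  haveI : IsPreimmersion (Neron.genPt R) := IsPreimmersion.of_isLocalization (nonZeroDivisors R)
  let q := pullback.fst X.hom (Neron.genPt R)
  haveI : Flat q := inferInstance
  haveI : IsPreimmersion q := inferInstance
  refine ⟨?_, q.stalkMap_surjective w⟩
  letI : Algebra (X.left.presheaf.stalk (q w)) ((pullback X.hom (Neron.genPt R)).presheaf.stalk w) :=
    (q.stalkMap w).hom.toAlgebra
  haveI : Module.Flat (X.left.presheaf.stalk (q w)) ((pullback X.hom (Neron.genPt R)).presheaf.stalk w) :=
    Flat.stalkMap q w
  haveI : IsLocalHom (algebraMap (X.left.presheaf.stalk (q w)) ((pullback X.hom (Neron.genPt R)).presheaf.stalk w)) :=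
    inferInstanceAs (IsLocalHom (q.stalkMap w).hom)
  haveI := Module.FaithfullyFlat.of_flat_of_isLocalHom (A := X.left.presheaf.stalk (q w))
    (B := (pullback X.hom (Neron.genPt R)).presheaf.stalk w)
  exact FaithfulSMul.algebraMap_injective (X.left.presheaf.stalk (q w))
    ((pullback X.hom (Neron.genPt R)).presheaf.stalk w)

/-- The relative dimension at a point isolated in its fibre vanishes. -/
theorem rd_eq_zero {X Y : Scheme.{u}} (f : X ⟶ Y) [LocallyOfFiniteType f] (z : X)
    (hc : IsClosed ({f.asFiber z} : Set (f.fiber (f z)))) : FibDim.rd f z = 0 := by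
  obtain ⟨U, hU, hzU, -⟩ := exists_isAffineOpen_mem_and_subset (x := f.asFiber z) (U := ⊤) trivial
  obtain ⟨P, hP⟩ := VarDim.exists_fromSpec_eq hU hzU
  have h := VarDim.deg_eq_coheight (k := Y.residueField (f z)) (f.fiberToSpecResidueField (f z)) hU P
  have hPm : IsMax P := fun Q hQ => by
    have hsp := ((VarDim.fromSpec_specializes_iff hU P Q).2 hQ)
    rw [hP] at hsp
    have hQe : hU.fromSpec Q = hU.fromSpec P := hP.symm ▸ hsp.mem_closed hc rfl
    exact le_of_eq (hU.fromSpec.isOpenEmbedding.injective hQe : Q = P)
  rw [Order.coheight_eq_zero.2 hPm, hP] at h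
  have h' : (FibDim.rd f z : ℕ∞) = 0 := h.symm
  exact_mod_cast h'

/-- If the closed fibres have domains as local rings, the surface is relatively minimal. -/
theorem isRelMinimal (X : Over (Spec (CommRingCat.of R))) (hX : ArSurf.IsArithSurface R X)
    (hfib : ∀ s : Spec (CommRingCat.of R), s ≠ genericPoint (Spec (CommRingCat.of R)) →
      ∀ z : X.hom.fiber s, IsDomain ((X.hom.fiber s).presheaf.stalk z)) :
    Neron.IsRelMinimalRegularModel R X := by
  obtain ⟨hreg, hint, hdim, hflat, n, i, hi, hiw⟩ := hX
  refine ⟨hreg, ⟨n, i, hi, hiw⟩, hflat, fun Y hregY hprojY hflatY g hgen => ?_⟩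
  obtain ⟨m, j, hj, hjw⟩ := hprojY
  haveI := hint
  haveI := hi
  haveI := hj
  haveI : IsProper (CohB1.ProjSpaceOver.toBase n (Spec (CommRingCat.of R))) :=
    MorphismProperty.pullback_snd _ _ (Groth.Agent.PnCoh.Chow.isProper_toSpec n _)
  haveI : IsProper (CohB1.ProjSpaceOver.toBase m (Spec (CommRingCat.of R))) :=
    MorphismProperty.pullback_snd _ _ (Groth.Agent.PnCoh.Chow.isProper_toSpec m _)
  haveI : IsProper X.hom := by rw [← hiw]; infer_instance
  haveI : IsProper Y.hom := by rw [← hjw]; infer_instance
  haveI := hflat
  haveI := hflatY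
  haveI : IsProper g.left := by
    haveI : IsProper (g.left ≫ Y.hom) := by rw [Over.w g]; infer_instance
    exact IsProper.of_comp g.left Y.hom
  haveI : IsLocallyNoetherian X.left := LocallyOfFiniteType.isLocallyNoetherian X.hom
  haveI : IsLocallyNoetherian Y.left := LocallyOfFiniteType.isLocallyNoetherian Y.hom
  let B := Spec (CommRingCat.of R)
  let qX := pullback.fst X.hom (Neron.genPt R)
  let qY := pullback.fst Y.hom (Neron.genPt R)
  haveI : IsPreimmersion (Neron.genPt R) := IsPreimmersion.of_isLocalization (nonZeroDivisors R)
  let gK := ((Neron.genericFibre R).map g).left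
  haveI := hgen
  haveI hgK : IsIso gK := inferInstanceAs (IsIso ((Over.forget _).map ((Neron.genericFibre R).map g)))
  have hsq : qX ≫ g.left = gK ≫ qY := (pullback.lift_fst _ _ _).symm
  have hrX : Set.range qX = X.hom ⁻¹' {genericPoint B} := by
    rw [Scheme.Pullback.range_fst, range_genPt]
  have hrY : Set.range qY = Y.hom ⁻¹' {genericPoint B} := by
    rw [Scheme.Pullback.range_fst, range_genPt]
  have hXg : X.hom (genericPoint X.left) = genericPoint B := by
    obtain ⟨η', -, hη'⟩ := Flat.generalizingMap (f := X.hom) (genericPoint_specializes (X.hom (genericPoint X.left)))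
    exact (((genericPoint_specializes η').map X.hom.continuous).trans (specializes_of_eq hη')).antisymm
      (genericPoint_specializes _) |>.eq
  have hgY : ∀ y : Y.left, g.left (genericPoint X.left) ⤳ y := fun y => by
    obtain ⟨y', hy', hy'e⟩ := Flat.generalizingMap (f := Y.hom) (genericPoint_specializes (Y.hom y))
    obtain ⟨w, rfl⟩ : y' ∈ Set.range qY := hrY.ge hy'e
    obtain ⟨v, rfl⟩ := gK.surjective w
    refine Specializes.trans ?_ hy'
    have e : g.left (qX v) = qY (gK v) := by
      rw [← Scheme.Hom.comp_apply qX, hsq, Scheme.Hom.comp_apply]; rfl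
    show g.left (genericPoint X.left) ⤳ qY (gK v)
    rw [← e]
    exact (genericPoint_specializes _).map g.left.continuous
  haveI : IrreducibleSpace Y.left := by
    haveI : PreirreducibleSpace Y.left := ⟨fun u v hu hv ⟨a, _, ha⟩ ⟨b, _, hb⟩ =>
      ⟨g.left (genericPoint X.left), trivial, (hgY a).mem_open hu ha, (hgY b).mem_open hv hb⟩⟩
    exact ⟨⟨g.left (genericPoint X.left)⟩⟩
  haveI : IsIntegral Y.left := isIntegral_of_regular hregY
  have hgen' : g.left (genericPoint X.left) = genericPoint Y.left :=
    ((hgY _).antisymm (genericPoint_specializes _)).eq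
  have hYn : ∀ y : Y.left, IsIntegrallyClosed (Y.left.presheaf.stalk y) := fun y => by
    haveI := hregY y
    exact RegLoc6.isIntegrallyClosed_of_isRegularLocalRing _
  have hbir : Function.Bijective (g.left.stalkMap (genericPoint X.left)) := by
    obtain ⟨v, hv⟩ : genericPoint X.left ∈ Set.range qX := hrX.ge hXg
    have h1 : Function.Bijective ((qX ≫ g.left).stalkMap v) := by
      rw [hsq, Scheme.Hom.stalkMap_comp]
      exact (ConcreteCategory.bijective_of_isIso (gK.stalkMap v)).comp (bijective_stalkMap_fst Y _)
    rw [Scheme.Hom.stalkMap_comp] at h1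
    have h2 : Function.Bijective ((qX.stalkMap v) ∘ (g.left.stalkMap (qX v))) := h1
    rw [← hv]
    exact ((bijective_stalkMap_fst X v).of_comp_iff' _).1 h2
  -- singleton fibres
  have hsingle : ∀ y : Y.left, (g.left ⁻¹' {y}).Subsingleton := by
    intro y
    by_cases hy : Y.hom y = genericPoint B
    · intro a ha b hb
      have key : ∀ c, g.left c = y → c ∈ Set.range qX := fun c hc => hrX.ge (by
        show X.hom c = _
        rw [← Over.w g, Scheme.Hom.comp_apply, hc, hy])
      obtain ⟨a', rfl⟩ := key a ha
      obtain ⟨b', rfl⟩ := key b hb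
      have e : (qX ≫ g.left) a' = (qX ≫ g.left) b' := by
        rw [Scheme.Hom.comp_apply, Scheme.Hom.comp_apply]; exact ha.trans hb.symm
      rw [hsq, Scheme.Hom.comp_apply, Scheme.Hom.comp_apply] at e
      exact congrArg qX (gK.homeomorph.injective (qY.isEmbedding.injective e))
    set s := Y.hom y
    haveI := hYn y
    have hcon := isConnected_preimage g.left hgen' hbir y
    set F := g.left ⁻¹' {y}
    have hFs : ∀ a ∈ F, X.hom a = s := fun a ha => by
      rw [← Over.w g, Scheme.Hom.comp_apply, show g.left a = y from ha]
    have hηne : ∀ a ∈ F, a ≠ genericPoint X.left := fun a ha h => hy (by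
      show s = _
      rw [← hFs a ha, h, hXg])
    have hco : ∀ a b : X.left, a ⤳ b → a ≠ b → a ≠ genericPoint X.left →
        (∀ c, a ⤳ c → c ≠ a → IsClosed ({c} : Set X.left)) ∧ ∀ c, c ⤳ a → c = a ∨ c = genericPoint X.left := by
      intro a b hab hne ha
      refine ⟨fun c hac hca => ?_, fun c hca => ?_⟩
      · rw [← closure_subset_iff_isClosed]
        intro d hd
        by_contra hdc
        have hsd : c ⤳ d := specializes_iff_mem_closure.2 hd
        have l1 : d < c := lt_of_le_of_ne hsd hdc
        have l2 : c < a := lt_of_le_of_ne hac hca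
        have l3 : a < genericPoint X.left := lt_of_le_of_ne (genericPoint_specializes a) ha
        have h := Order.LTSeries.length_le_krullDim (α := X.left)
          ((((RelSeries.singleton _ d).snoc c l1).snoc a (by simpa using l2)).snoc (genericPoint X.left) (by simpa using l3))
        have h2 := hdim.le
        rw [topologicalKrullDim, Order.krullDim_eq_of_orderIso irreducibleSetEquivPoints] at h2
        have h3 := h.trans h2
        simp only [RelSeries.snoc_length, RelSeries.singleton_length] at h3
        exact absurd h3 (by decide)
      · by_contra hc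
        push_neg at hc
        have l1 : b < a := lt_of_le_of_ne hab (Ne.symm hne)
        have l2 : a < c := lt_of_le_of_ne hca (Ne.symm hc.1)
        have l3 : c < genericPoint X.left := lt_of_le_of_ne (genericPoint_specializes c) hc.2
        have h := Order.LTSeries.length_le_krullDim (α := X.left)
          ((((RelSeries.singleton _ b).snoc a l1).snoc c (by simpa using l2)).snoc (genericPoint X.left) (by simpa using l3))
        have h2 := hdim.le
        rw [topologicalKrullDim, Order.krullDim_eq_of_orderIso irreducibleSetEquivPoints] at h2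
        have h3 := h.trans h2
        simp only [RelSeries.snoc_length, RelSeries.singleton_length] at h3
        exact absurd h3 (by decide)
    haveI : CompactSpace X.left := QuasiCompact.compactSpace_of_compactSpace X.hom
    haveI : IsNoetherian X.left := {}
    haveI : QuasiSober X.left := inferInstance
    by_cases hpair : ∃ a ∈ F, ∃ b ∈ F, a ⤳ b ∧ a ≠ b
    · exfalso
      obtain ⟨ζ, hζ, b, hb, hζb, hne⟩ := hpair
      obtain ⟨hclosed, hmax⟩ := hco ζ b hζb hne (hηne ζ hζ)
      have hbc : IsClosed ({b} : Set X.left) := hclosed b hζb (Ne.symm hne)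
      have hyc : IsClosed ({y} : Set Y.left) := by
        have h := g.left.isClosedMap _ hbc
        rwa [Set.image_singleton, show g.left b = y from hb] at h
      have hFc : IsClosed F := hyc.preimage g.left.continuous
      have hsc : IsClosed ({s} : Set B) := by
        have h := Y.hom.isClosedMap _ hyc
        rwa [Set.image_singleton] at h
      let S : Set X.left := X.hom ⁻¹' {s}
      have hSc : IsClosed S := hsc.preimage X.hom.continuous
      let Z : Set X.left := closure {ζ}
      have hZF : Z ⊆ F := closure_minimal (Set.singleton_subset_iff.2 hζ) hFc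
      -- the component is open in the fibre
      let ι := X.hom.fiberι s
      obtain ⟨ζ', hζ'⟩ : ζ ∈ Set.range ι := by rw [Scheme.Hom.range_fiberι]; exact hFs ζ hζ
      haveI : CompactSpace (X.hom.fiber s) := inferInstance
      haveI : IsLocallyNoetherian (X.hom.fiber s) :=
        LocallyOfFiniteType.isLocallyNoetherian (X.hom.fiberToSpecResidueField s)
      haveI : IsNoetherian (X.hom.fiber s) := {}
      have hother : IsClosed (S \ Z) := by
        have himg : S \ Z = ι '' (closure {ζ'} : Set (X.hom.fiber s))ᶜ := by
          ext a
          constructor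
          · rintro ⟨haS, haZ⟩
            obtain ⟨a', rfl⟩ : a ∈ Set.range ι := by rw [Scheme.Hom.range_fiberι]; exact haS
            refine ⟨a', fun h => haZ ?_, rfl⟩
            show _ ∈ closure {ζ}
            rw [← hζ']
            exact ((specializes_iff_mem_closure.2 h).map ι.continuous).mem_closure
          · rintro ⟨a', ha', rfl⟩
            refine ⟨(X.hom.range_fiberι s).le ⟨a', rfl⟩, fun h => ha' ?_⟩
            have h1 : ι ζ' ⤳ ι a' := by rw [hζ']; exact specializes_iff_mem_closure.2 h
            exact (ι.isEmbedding.isInducing.specializes_iff.1 h1).mem_closure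
        rw [himg]
        have hce : Topology.IsClosedEmbedding ι := ⟨ι.isEmbedding, by rw [Scheme.Hom.range_fiberι]; exact hSc⟩
        refine hce.isClosedMap _ ?_
        -- complement of one component is the union of the others
        have hcomp : (closure {ζ'} : Set (X.hom.fiber s))ᶜ =
            ⋃ T ∈ {T ∈ irreducibleComponents (X.hom.fiber s : Type u) | ¬ T ⊆ closure {ζ'}}, T := by
          ext a
          simp only [Set.mem_compl_iff, Set.mem_iUnion, exists_prop]
          constructor
          · exact fun ha => ⟨irreducibleComponent a, ⟨irreducibleComponent_mem_irreducibleComponents a,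
              fun h => ha (h mem_irreducibleComponent)⟩, mem_irreducibleComponent⟩
          · rintro ⟨T, ⟨hT, hTn⟩, haT⟩ ha
            haveI := hfib s hy a
            haveI : Subsingleton (minimalPrimes ((X.hom.fiber s).presheaf.stalk a)) := by
              rw [IsDomain.minimalPrimes_eq_singleton_bot]
              exact ⟨fun p q => Subtype.ext (p.2.trans q.2.symm)⟩
            obtain ⟨τ, hτ⟩ : ∃ τ, IsGenericPoint τ T :=
              QuasiSober.sober hT.1 (isClosed_of_mem_irreducibleComponents T hT)
            have hζmax : ∀ c, c ⤳ ζ' → c = ζ' := fun c hc => by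
              rcases hmax (ι c) (hζ' ▸ hc.map ι.continuous) with h | h
              · exact ι.isEmbedding.injective (h.trans hζ'.symm)
              · refine absurd ?_ hy
                show s = _
                rw [← hXg, ← h]
                exact ((X.hom.range_fiberι s).le ⟨c, rfl⟩).symm
            have hτmax : ∀ c, c ⤳ τ → c = τ := fun c hc => by
              have h2 : closure {τ} ⊆ closure {c} := closure_minimal (Set.singleton_subset_iff.2 hc.mem_closure) isClosed_closure
              rw [hτ.def] at h2
              have h3 := hT.2 (isIrreducible_singleton.closure) h2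
              exact ((specializes_iff_mem_closure.2 (hτ.def ▸ h3 (subset_closure rfl) : c ∈ closure {τ})).antisymm hc).eq.symm
            -- both generise `a`
            obtain ⟨P, hP⟩ : τ ∈ Set.range ((X.hom.fiber s).fromSpecStalk a) := by
              rw [Scheme.range_fromSpecStalk]; exact hτ.specializes haT
            obtain ⟨Q, hQ⟩ : ζ' ∈ Set.range ((X.hom.fiber s).fromSpecStalk a) := by
              rw [Scheme.range_fromSpecStalk]; exact specializes_iff_mem_closure.2 ha
            have hmin : ∀ (P : PrimeSpectrum ((X.hom.fiber s).presheaf.stalk a)) (c : X.hom.fiber s),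
                (X.hom.fiber s).fromSpecStalk a P = c → (∀ d, d ⤳ c → d = c) → P = ⊥ := fun P c hPc hc => by
              refine ((X.hom.fiber s).fromSpecStalk a).isEmbedding.injective ?_
              rw [hPc]
              exact (hc _ (hPc ▸ ((PrimeSpectrum.le_iff_specializes ⊥ P).1 bot_le).map
                ((X.hom.fiber s).fromSpecStalk a).continuous)).symm ▸ rfl
            have e : τ = ζ' := by
              rw [← hP, ← hQ, hmin P τ hP hτmax, hmin Q ζ' hQ hζmax]
            exact hTn (by rw [← hτ.def, e])
        rw [hcomp]
        exact (Set.Finite.subset NoetherianSpace.finite_irreducibleComponents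
          (fun T hT => hT.1)).isClosed_biUnion fun T hT => isClosed_of_mem_irreducibleComponents T hT.1
      have hSF : S ∩ F = Z := by
        refine subset_antisymm ?_ fun a ha => ⟨hFs a (hZF ha), hZF ha⟩
        rintro a ⟨haS, haF⟩
        by_contra haZ
        obtain ⟨c, hc, hc1, hc2⟩ := isPreconnected_closed_iff.1 hcon.isPreconnected (S \ Z) Z hother isClosed_closure
          (fun d hd => by
            by_cases h : d ∈ Z
            · exact Or.inr h
            · exact Or.inl ⟨hFs d hd, h⟩)
          ⟨a, haF, haS, haZ⟩ ⟨ζ, hζ, subset_closure rfl⟩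
        exact hc1.2 hc2
      -- so `y` is isolated in its fibre
      let N : Y.left.Opens := ⟨(g.left '' (S \ Z))ᶜ, (g.left.isClosedMap _ hother).isOpen_compl⟩
      have hyN : y ∈ N := fun ⟨a, ha, hay⟩ => ha.2 (hSF.le ⟨ha.1, hay⟩)
      have hsurj : Function.Surjective g.left := fun c => by
        obtain ⟨a, ha⟩ := (hgY c).mem_closed g.left.isClosedMap.isClosed_range ⟨_, rfl⟩
        exact ⟨a, ha⟩
      have hiso : IsOpen ({Y.hom.asFiber y} : Set (Y.hom.fiber (Y.hom y))) := by
        have : ({Y.hom.asFiber y} : Set (Y.hom.fiber (Y.hom y))) = (Y.hom.fiberι (Y.hom y)) ⁻¹' (N : Set Y.left) := by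
          ext a
          constructor
          · rintro rfl
            show Y.hom.fiberι _ _ ∈ N
            rw [Scheme.Hom.fiberι_asFiber]
            exact hyN
          · intro ha
            refine (Y.hom.fiberι _).isEmbedding.injective ?_
            rw [Scheme.Hom.fiberι_asFiber]
            obtain ⟨d, hd⟩ := hsurj (Y.hom.fiberι (Y.hom y) a)
            have hdS : d ∈ S := by
              show X.hom d = s
              rw [← Over.w g, Scheme.Hom.comp_apply, hd]
              exact (Y.hom.range_fiberι _).le ⟨a, rfl⟩
            have hdZ : d ∈ Z := by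
              by_contra h
              exact ha ⟨d, ⟨hdS, h⟩, hd⟩
            rw [← hd]
            exact hZF hdZ
        rw [this]
        exact N.2.preimage (Y.hom.fiberι _).continuous
      have hqf : genericPoint Y.left ∈ Y.hom.quasiFiniteLocus :=
        (genericPoint_specializes y).mem_open Y.hom.quasiFiniteLocus.2
          (Scheme.Hom.quasiFiniteAt_iff_isOpen_singleton_asFiber.2 hiso)
      have hclY := (Scheme.Hom.QuasiFiniteAt.isClopen_singleton_asFiber Y.hom hqf).1
      have hclX : IsClosed ({X.hom.asFiber (genericPoint X.left)} : Set (X.hom.fiber (X.hom (genericPoint X.left)))) := by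
        have hY0 : Y.hom (genericPoint Y.left) = genericPoint B := by
          rw [← hgen', ← Scheme.Hom.comp_apply, Over.w g]; exact hXg
        have : ({X.hom.asFiber (genericPoint X.left)} : Set (X.hom.fiber (X.hom (genericPoint X.left)))) = Set.univ := by
          refine Set.eq_univ_of_forall fun a => (X.hom.fiberι _).isEmbedding.injective ?_
          rw [Scheme.Hom.fiberι_asFiber]
          set a₀ := X.hom.fiberι _ a
          have ha₀ : X.hom a₀ = genericPoint B := ((X.hom.range_fiberι _).le ⟨a, rfl⟩).trans hXg
          have hya : Y.hom (g.left a₀) = Y.hom (genericPoint Y.left) := by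
            rw [← Scheme.Hom.comp_apply, Over.w g, ha₀, hY0]
          obtain ⟨c, hc⟩ : g.left a₀ ∈ Set.range (Y.hom.fiberι (Y.hom (genericPoint Y.left))) :=
            (Y.hom.range_fiberι _).ge hya
          have hsp : Y.hom.asFiber (genericPoint Y.left) ⤳ c := by
            rw [← (Y.hom.fiberι _).isEmbedding.isInducing.specializes_iff, Scheme.Hom.fiberι_asFiber, hc]
            exact genericPoint_specializes _
          have hca : c = Y.hom.asFiber (genericPoint Y.left) := hsp.mem_closed hclY rfl
          rw [hca, Scheme.Hom.fiberι_asFiber, ← hgen'] at hc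
          obtain ⟨a', ha'⟩ : a₀ ∈ Set.range qX := hrX.ge ha₀
          obtain ⟨e', he'⟩ : genericPoint X.left ∈ Set.range qX := hrX.ge hXg
          rw [← he', ← ha'] at hc ⊢
          have e : (qX ≫ g.left) e' = (qX ≫ g.left) a' := by
            rw [Scheme.Hom.comp_apply, Scheme.Hom.comp_apply]; exact hc
          rw [hsq, Scheme.Hom.comp_apply, Scheme.Hom.comp_apply] at e
          exact (congrArg qX (gK.homeomorph.injective (qY.isEmbedding.injective e))).symm
        rw [this]
        exact isClosed_univ
      have h0 := rd_eq_zero X.hom (genericPoint X.left) hclX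
      have hd := (DimFormula.cd_formula X.hom (genericPoint_specializes b)).1
      rw [h0, hXg, DimFormula.cd_eq_codim_of_irreducible, DimFormula.cd_eq_codim_of_irreducible] at hd
      have hB1 : DimFormula.codim (X.hom b) ≤ 1 := by
        have h := (SchTop.ringKrullDim_stalk_le (X.hom b)).trans (show topologicalKrullDim (Spec (CommRingCat.of R)) ≤ 1 from by
          show topologicalKrullDim (PrimeSpectrum R) ≤ 1
          rw [PrimeSpectrum.topologicalKrullDim_eq_ringKrullDim]
          exact Ring.krullDimLE_iff.1 inferInstance)
        rw [DimFormula.ringKrullDim_stalk] at h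
        exact_mod_cast h
      have hb2 : 2 ≤ DimFormula.codim b := by
        have l1 : b < ζ := lt_of_le_of_ne hζb (Ne.symm hne)
        have l2 : ζ < genericPoint X.left := lt_of_le_of_ne (genericPoint_specializes ζ) (hηne ζ hζ)
        have h1 := Order.coheight_add_one_le l1
        have h2 := Order.coheight_add_one_le l2
        have h3 : (2 : ℕ∞) ≤ Order.coheight b := by
          calc (2 : ℕ∞) = 0 + 1 + 1 := rfl
            _ ≤ Order.coheight (genericPoint X.left) + 1 + 1 := by gcongr; exact bot_le
            _ ≤ Order.coheight ζ + 1 := by gcongr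
            _ ≤ _ := h1
        rw [← DimFormula.coe_codim] at h3
        exact_mod_cast h3
      omega
    · push_neg at hpair
      by_contra hns
      rw [Set.not_subsingleton_iff] at hns
      obtain ⟨a, ha, c, hc, hac⟩ := hns
      haveI : CompactSpace (g.left.fiber y) := inferInstance
      haveI : IsLocallyNoetherian (g.left.fiber y) :=
        LocallyOfFiniteType.isLocallyNoetherian (g.left.fiberToSpecResidueField y)
      haveI : IsNoetherian (g.left.fiber y) := {}
      let ι := g.left.fiberι y
      have hpt : ∀ d : g.left.fiber y, irreducibleComponent d = {d} := fun d => by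
        obtain ⟨τ, hτ⟩ := QuasiSober.sober (isIrreducible_irreducibleComponent (x := d)) isClosed_irreducibleComponent
        have e : τ = d := ι.isEmbedding.injective (hpair _ ((g.left.range_fiberι y).le ⟨τ, rfl⟩) _
          ((g.left.range_fiberι y).le ⟨d, rfl⟩) ((hτ.specializes mem_irreducibleComponent).map ι.continuous))
        subst e
        refine subset_antisymm (fun d' hd' => ?_) (Set.singleton_subset_iff.2 mem_irreducibleComponent)
        exact (ι.isEmbedding.injective (hpair _ ((g.left.range_fiberι y).le ⟨τ, rfl⟩) _
          ((g.left.range_fiberι y).le ⟨d', rfl⟩) ((hτ.specializes hd').map ι.continuous))).symm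
      haveI : Finite ↥(irreducibleComponents (g.left.fiber y : Type u)) :=
        Set.Finite.to_subtype NoetherianSpace.finite_irreducibleComponents
      haveI : Finite (g.left.fiber y) := by
        refine Finite.of_injective (fun d => (⟨irreducibleComponent d, irreducibleComponent_mem_irreducibleComponents d⟩ :
          irreducibleComponents (g.left.fiber y : Type u))) ?_
        · exact fun d d' h => by
            have h' := congrArg Subtype.val h
            simp only [hpt] at h'
            exact Set.singleton_eq_singleton_iff.1 h'
      haveI : T1Space (g.left.fiber y) := ⟨fun d => hpt d ▸ isClosed_irreducibleComponent⟩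
      haveI : DiscreteTopology (g.left.fiber y) := inferInstance
      haveI : PreconnectedSpace (g.left.fiber y) := ⟨by
        rw [← ι.isEmbedding.isInducing.isPreconnected_image, Set.image_univ, Scheme.Hom.range_fiberι]
        exact hcon.isPreconnected⟩
      obtain ⟨a', rfl⟩ : a ∈ Set.range ι := (g.left.range_fiberι y).ge ha
      obtain ⟨c', rfl⟩ : c ∈ Set.range ι := (g.left.range_fiberι y).ge hc
      haveI := PreconnectedSpace.trivial_of_discrete (X := g.left.fiber y)
      exact hac (congrArg ι (Subsingleton.elim a' c'))
  haveI : LocallyQuasiFinite g.left := by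
    rw [locallyQuasiFinite_iff_isDiscrete_preimage_singleton]
    exact fun y => (hsingle y).isDiscrete
  haveI : IsFinite g.left := IsFinite.of_isProper_of_locallyQuasiFinite g.left
  haveI : IsIso g.left := S4808.result hYn g.left hgen' ((ConcreteCategory.isIso_iff_bijective _).2 hbir)
  exact (isIso_iff_of_reflects_iso g (Over.forget (Spec (CommRingCat.of R)))).1 (inferInstanceAs (IsIso g.left)) 

end Groth.Agent.H26.SmoothMinimal
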