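import Groth.Agent.H26.BiratFibre
import Groth.Agent.H23.Rigid
import Groth.Agent.Lib.NormalPush

/-!
# Birational contractions of curves are determined by the curves
-/

set_option autoImplicit false
set_option linter.style.haveILetI false
set_option backward.isDefEq.respectTransparency false
set_option backward.isDefEq.respectTransparency.types false

universe u

open CategoryTheory AlgebraicGeometry TopologicalSpace

noncomputable section

namespace Groth.Agent.H26.Contract

variable {X Y : Scheme.{u}} [IsIntegral X] [IsIntegral Y] (f : X ⟶ Y) {U : Y.Opens} (hU : (U : Set Y).Nonempty)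
  [IsIso (f ∣_ U)]

include hU in
/-- A proper birational morphism onto a normal scheme has `f_* O = O`. -/
theorem bijective_app [IsProper f] (hY : Pi1.IsNormalScheme Y) (W : Y.Opens) : Function.Bijective (f.app W) := by
  have hgen := BiratFibre.apply_genericPoint_eq f hU
  have hdom : f (genericPoint X) ⤳ genericPoint Y := specializes_of_eq hgen
  have hxU : genericPoint X ∈ f ⁻¹ᵁ U := by
    show f (genericPoint X) ∈ U
    rw [hgen]
    exact ((genericPoint_spec Y).mem_open_set_iff U.2).2 (by simpa using hU)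
  haveI : IsIso (f.stalkMap (genericPoint X)) :=
    (MorphismProperty.isomorphisms CommRingCat).arrow_mk_iso_iff
      (morphismRestrictStalkMap f U ⟨genericPoint X, hxU⟩) |>.1 (inferInstanceAs (IsIso _))
  have hsurj : Function.Surjective (CohIII.stalkToFunctionField f (genericPoint Y) hdom) := by
    show Function.Surjective ((f.stalkMap (genericPoint X)).hom ∘ (Y.presheaf.stalkSpecializes hdom).hom)
    refine (ConcreteCategory.bijective_of_isIso (f.stalkMap (genericPoint X))).2.comp fun b => ?_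
    refine ⟨(Y.presheaf.stalkSpecializes (specializes_of_eq hgen.symm)).hom b, ?_⟩
    rw [← CommRingCat.comp_apply, TopCat.Presheaf.stalkSpecializes_comp, TopCat.Presheaf.stalkSpecializes_refl]
    rfl
  exact (ConcreteCategory.isIso_iff_bijective _).1
    (Lib.NormalPush.isIso_app hY f hdom (fun x _ => hsurj x) W)

/-- A connected set carried into finitely many closed points goes to one point. -/
theorem exists_eq_of_isPreconnected {α β : Type u} [TopologicalSpace α] [TopologicalSpace β] {F : Set α}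
    (hF : IsPreconnected F) {g : α → β} (hg : Continuous g) {T : Set β} (hT : T.Finite)
    (hTc : ∀ t ∈ T, IsClosed ({t} : Set β)) (hmaps : ∀ a ∈ F, g a ∈ T) {a b : α} (ha : a ∈ F) (hb : b ∈ F) :
    g a = g b := by
  by_contra hne
  have hc : IsClosed (T \ {g a}) := by
    rw [← Set.biUnion_of_singleton (T \ {g a})]
    exact (hT.subset Set.diff_subset).isClosed_biUnion fun t ht => hTc t ht.1
  obtain ⟨z, hzF, hz1, hz2⟩ := isPreconnected_closed_iff.1 hF (g ⁻¹' {g a}) (g ⁻¹' (T \ {g a}))
    ((hTc _ (hmaps a ha)).preimage hg) (hc.preimage hg)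
    (fun c hc => (em (g c = g a)).imp id fun h => ⟨hmaps c hc, h⟩)
    ⟨a, ha, rfl⟩ ⟨b, hb, hmaps b hb, fun h => hne (Eq.symm h)⟩
  exact hz2.2 hz1

/-- A morphism constant on the contracted curves factors through the contraction. -/
theorem exists_unique_factor {Z : Scheme.{u}} [IsLocallyNoetherian X] [IsLocallyNoetherian Y] [IsProper f]
    (hY : Pi1.IsNormalScheme Y) {r : ℕ} (E : Fin r → Set X) (q : Fin r → Y) (hq : ∀ i, f '' E i ⊆ {q i})
    (hqc : ∀ i, IsClosed ({q i} : Set Y)) (hne : ∃ y, ∀ i, y ≠ q i)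
    (hiso : ∀ V : Y.Opens, (∀ i, q i ∉ V) → IsIso (f ∣_ V))
    (hpre : ∀ x, (∃ i, f x = q i) → x ∈ ⋃ i, E i)
    (g : X ⟶ Z) (p : Fin r → Z) (hp : ∀ i, g '' E i ⊆ {p i}) (hpc : ∀ i, IsClosed ({p i} : Set Z)) :
    ∃! h : Y ⟶ Z, f ≫ h = g := by
  let V : Y.Opens := ⟨(⋃ i, ({q i} : Set Y))ᶜ, (isClosed_iUnion_of_finite hqc).isOpen_compl⟩
  have hVne : (V : Set Y).Nonempty := by
    obtain ⟨y, hy⟩ := hne
    refine ⟨y, fun h => ?_⟩
    obtain ⟨i, hi⟩ := Set.mem_iUnion.1 h
    exact hy i hi
  haveI := hiso V fun i h => h (Set.mem_iUnion.2 ⟨i, rfl⟩)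
  have h0 := bijective_app f hVne hY
  have hsurj := BiratFibre.surjective f hVne
  have hfib : ∀ y : Y, ∃ z : Z, ∀ x : X, f x = y → g x = z := fun y => by
    obtain ⟨x₀, hx₀⟩ := hsurj y
    refine ⟨g x₀, fun x hx => ?_⟩
    by_cases hy : y ∈ V
    · have hxy : ∀ w : X, f w = y → w ∈ f ⁻¹ᵁ V := fun w hw => show f w ∈ V from hw.symm ▸ hy
      have e : (⟨x, hxy x hx⟩ : f ⁻¹ᵁ V) = ⟨x₀, hxy x₀ hx₀⟩ :=
        (ConcreteCategory.bijective_of_isIso (f ∣_ V).base).1 (Subtype.ext (by
          erw [morphismRestrict_base_coe, morphismRestrict_base_coe]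
          exact hx.trans hx₀.symm))
      exact congrArg (fun w : f ⁻¹ᵁ V => g w.1) e
    · obtain ⟨i, hi⟩ := Set.mem_iUnion.1 (not_not.1 hy)
      haveI : IsIntegrallyClosed (Y.presheaf.stalk y) := (hY y).2
      refine exists_eq_of_isPreconnected (BiratFibre.isConnected_preimage f hVne y).isPreconnected g.continuous
        (Set.finite_range p) (by rintro _ ⟨i, rfl⟩; exact hpc i) (fun w hw => ?_) (show x ∈ f ⁻¹' {y} from hx)
        (show x₀ ∈ f ⁻¹' {y} from hx₀)
      obtain ⟨j, hj⟩ := Set.mem_iUnion.1 (hpre w ⟨i, (hw : f w = y).trans hi⟩)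
      exact ⟨j, (hp j ⟨w, hj, rfl⟩).symm⟩
  obtain ⟨h, hh⟩ := H23.Rigid.exists_factor f h0 f.isClosedMap g hfib
  exact ⟨h, hh, fun h' hh' => H23.Rigid.cancel_left f h0 hsurj h' h (hh'.trans hh.symm)⟩

end Groth.Agent.H26.Contract
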