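import Groth.Agent.H26.EulerFibre
import Groth.Agent.H26.VertApply
import Groth.Agent.QCoh.FlatBC
import Groth.Agent.GeomField.GlobalFunctions

/-!
# The Euler characteristic of a vertical divisor and of the closed fibre
-/

set_option autoImplicit false
set_option linter.style.haveILetI false
set_option linter.unusedSectionVars false
set_option backward.isDefEq.respectTransparency false
set_option backward.isDefEq.respectTransparency.types false
set_option maxHeartbeats 1000000

universe u

open CategoryTheory CategoryTheory.Limits AlgebraicGeometry TopologicalSpace Opposite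
open Groth.Agent.H23
open Groth.Agent.PnCoh.Finite (mapLin deltaLin)
open scoped Groth.Agent.H23.PicMul TensorProduct

noncomputable section

namespace Groth.Agent.H26.EulerFibre

variable {R : Type u} [CommRing R] [IsDomain R] [IsDiscreteValuationRing R]

/-- Multiplication by a uniformizer on a finite module: cokernel minus kernel is the rank. -/
theorem eul_lsmul {ϖ : R} (hϖ : IsLocalRing.maximalIdeal R = Ideal.span {ϖ}) (hϖ0 : ϖ ≠ 0)
    (M : Type u) [AddCommGroup M] [Module R M] [hM : Module.Finite R M] :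
    IntThLib.EulerFin (LinearMap.lsmul R M ϖ) ∧
      IntThLib.eul (LinearMap.lsmul R M ϖ) = (Module.finrank R M : ℤ) := by
  induction hM using IsNoetherianRing.induction_on_isQuotientEquivQuotientPrime R with
  | subsingleton N =>
    obtain ⟨a, b⟩ := IntThLib.euler_of_finite_length (LinearMap.lsmul R N ϖ)
      (by rw [Module.length_eq_zero]; exact ENat.zero_ne_top)
    exact ⟨a, by rw [b, Module.finrank_zero_of_subsingleton]; rfl⟩
  | exact N₁ N₂ N₃ i π hi hπ hex h₁ h₃ =>
    obtain ⟨a1, c1⟩ := h₁
    obtain ⟨a3, c3⟩ := h₃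
    obtain ⟨a2, c2⟩ := IntThLib.euler_additive hi hπ hex
      (f' := LinearMap.lsmul R N₁ ϖ) (f := LinearMap.lsmul R N₂ ϖ) (f'' := LinearMap.lsmul R N₃ ϖ)
      (LinearMap.ext fun v => map_smul i ϖ v) (LinearMap.ext fun v => map_smul π ϖ v) a1 a3
    refine ⟨a2, ?_⟩
    have h := (LinearMap.range i).finrank_quotient_add_finrank
    rw [LinearMap.finrank_range_of_inj hi,
      ((Submodule.quotEquivOfEq _ _ (LinearMap.exact_iff.1 hex).symm).trans (π.quotKerEquivOfSurjective hπ)).finrank_eq] at h
    rw [c2, c1, c3, ← h]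
    push_cast
    ring
  | quotient N q e =>
    by_cases hq : q.asIdeal = ⊥
    · let e' : N ≃ₗ[R] R := e.trans (Submodule.quotEquivOfEqBot _ hq)
      have hlen : Module.length R (R ⧸ LinearMap.range (LinearMap.lsmul R R ϖ)) = 1 := by
        have hrange : LinearMap.range (LinearMap.lsmul R R ϖ) = IsLocalRing.maximalIdeal R := by
          rw [hϖ]
          ext x
          rw [LinearMap.mem_range, Ideal.mem_span_singleton]
          exact ⟨fun ⟨y, hy⟩ => ⟨y, hy.symm⟩, fun ⟨y, hy⟩ => ⟨y, hy.symm⟩⟩
        haveI : IsSimpleModule R (R ⧸ IsLocalRing.maximalIdeal R) :=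
          isSimpleModule_iff_isCoatom.2 (IsLocalRing.maximalIdeal.isMaximal R).out
        rw [hrange]
        exact Module.length_eq_one R _
      obtain ⟨h1, h2⟩ := IntThLib.eul_of_injective (LinearMap.lsmul R R ϖ) (LinearMap.lsmul_injective hϖ0)
      obtain ⟨a, b⟩ := IntThLib.euler_of_equiv e' (LinearMap.lsmul R N ϖ) (LinearMap.lsmul R R ϖ)
        (LinearMap.ext fun v => map_smul e' ϖ v) ⟨by rw [hlen]; exact ENat.one_ne_top, by rw [h2]; exact ENat.zero_ne_top⟩
      refine ⟨a, ?_⟩
      rw [b, h1, hlen, e'.finrank_eq, Module.finrank_self]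
      rfl
    · haveI hmax : q.asIdeal.IsMaximal := q.isPrime.isMaximal hq
      haveI : IsSimpleModule R (R ⧸ q.asIdeal) := isSimpleModule_iff_isCoatom.2 hmax.out
      have hl : Module.length R N ≠ ⊤ := by
        rw [e.length_eq, Module.length_eq_one]
        exact ENat.one_ne_top
      obtain ⟨a, b⟩ := IntThLib.euler_of_finite_length (LinearMap.lsmul R N ϖ) hl
      refine ⟨a, ?_⟩
      have hr : Module.finrank R N = 0 := by
        rw [e.finrank_eq, Module.finrank_eq_zero_iff]
        rintro x
        obtain ⟨r, hr, hr0⟩ := Submodule.exists_mem_ne_zero_of_ne_bot hq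
        refine ⟨r, hr0, ?_⟩
        obtain ⟨y, rfl⟩ := Ideal.Quotient.mk_surjective x
        exact Ideal.Quotient.eq_zero_iff_mem.2 (q.asIdeal.mul_mem_right y hr)
      rw [b, hr]
      rfl

variable {X : Over (Spec (CommRingCat.of R))} {n : ℕ} {Γc : Fin n → ArSurf.VertComp R X}
  (D : VertClass.Data X Γc)

/-- Self-contained formula for twice the Euler characteristic of a vertical divisor. -/
def twiceChi (a : Fin n → ℕ) : ℤ :=
  ∑ i, (a i : ℤ) * (2 * FGA.eulerCharLE (IsLocalRing.ResidueField R) (Γc i).curve.left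
      (Coh.structureModule (Γc i).curve.left) 1 + ArSurf.inter R X (D.L i) (Γc i)) -
    ∑ i, (a i : ℤ) * ∑ j, (a j : ℤ) * ArSurf.inter R X (D.L j) (Γc i)

include D in
theorem inter_symm (i j : Fin n) : ArSurf.inter R X (D.L j) (Γc i) = ArSurf.inter R X (D.L i) (Γc j) := by
  haveI := D.proper
  by_cases h : i = j
  · rw [h]
  exact InterSymm.inter_symm (Γc i) (Γc j) (fun e => h (D.hΓ.1 e)) (D.heff i) (D.heff j) (D.hL i) (D.hL j)

include D in
/-- One more curve. -/
theorem good_single (a : Fin n → ℕ) (i : Fin n) (h : Good X (ClSub.quotMod (∏ j, (Γc j).ι.ker ^ a j))) :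
    Good X (ClSub.quotMod (∏ j, (Γc j).ι.ker ^ (a j + if j = i then 1 else 0))) ∧
      chi X (ClSub.quotMod (∏ j, (Γc j).ι.ker ^ (a j + if j = i then 1 else 0))) =
        chi X (ClSub.quotMod (∏ j, (Γc j).ι.ker ^ a j)) +
          (FGA.eulerCharLE (IsLocalRing.ResidueField R) (Γc i).curve.left
            (Coh.structureModule (Γc i).curve.left) 1 -
          ∑ j, (a j : ℤ) * ArSurf.inter R X (D.L j) (Γc i)) := by
  classical
  haveI := D.proper
  obtain ⟨hJ, hcl⟩ := IdealCl.eff_and_cl_prod Finset.univ (fun j => (Γc j).ι.ker) D.heff a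
  have hprod : ∏ j, (Γc j).ι.ker ^ (a j + if j = i then 1 else 0) = (∏ j, (Γc j).ι.ker ^ a j) * (Γc i).ι.ker := by
    simp only [pow_add, Finset.prod_mul_distrib, pow_ite, pow_one, pow_zero, Finset.prod_ite_eq', Finset.mem_univ,
      if_true]
  rw [hprod]
  obtain ⟨h1, h2⟩ := good_step (Γc i) hJ h
  refine ⟨h1, h2.trans ?_⟩
  have hP : PicF.cl (ClSub.idealMod (∏ j, (Γc j).ι.ker ^ a j)) = Units.val (D.P (fun j => -(a j : ℤ))) := by
    rw [hcl]
    simp only [VertClass.Data.P, Units.coe_prod, zpow_neg, zpow_natCast]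
    refine Finset.prod_congr rfl fun j _ => ?_
    rw [← inv_pow, Units.val_pow_eq_pow_val]
    rfl
  have hd := D.inter_eq (IdealCl.isInvertible_idealMod hJ) hP i
  simp only [ArSurf.inter, ArSurf.curveDeg, neg_mul, Finset.sum_neg_distrib] at hd
  simp only [ArSurf.inter, ArSurf.curveDeg]
  linarith

include D in
theorem good_prod : ∀ (s : ℕ) (a : Fin n → ℕ), ∑ j, a j = s →
    Good X (ClSub.quotMod (∏ j, (Γc j).ι.ker ^ a j)) ∧
      2 * chi X (ClSub.quotMod (∏ j, (Γc j).ι.ker ^ a j)) = twiceChi D a := by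
  classical
  intro s
  induction s with
  | zero =>
    intro a ha
    obtain rfl : a = 0 := funext fun j => Finset.sum_eq_zero_iff.1 ha j (Finset.mem_univ j)
    have h1 : ∏ j, (Γc j).ι.ker ^ (0 : Fin n → ℕ) j = ⊤ := (Finset.prod_eq_one fun j _ => pow_zero _).trans rfl
    rw [h1]
    obtain ⟨h, hc⟩ := good_of_isZero X (M := ClSub.quotMod (⊤ : X.left.IdealSheafData))
      (CurveCohLib.isZero_of_subsingleton_stalks fun x => ParShLib.subsingleton_stalk_quotMod _ (by rw [Scheme.IdealSheafData.support_top]; exact id))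
    exact ⟨h, by rw [hc]; simp [twiceChi]⟩
  | succ s ih =>
    intro a ha
    obtain ⟨i, -, hi⟩ := Finset.exists_ne_zero_of_sum_ne_zero (ha.trans_ne (Nat.succ_ne_zero s))
    let b : Fin n → ℕ := fun j => a j - if j = i then 1 else 0
    have hab : a = fun j => b j + if j = i then 1 else 0 := funext fun j => by
      by_cases h : j = i
      · subst h; simp only [b, ite_true, ↓reduceIte]; omega
      · simp [b, h]
    rw [hab] at ha ⊢
    obtain ⟨hb1, hb2⟩ := ih b (by rw [Finset.sum_add_distrib, Finset.sum_ite_eq', if_pos (Finset.mem_univ _)] at ha; omega)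
    obtain ⟨h1, h2⟩ := good_single D b i hb1
    refine ⟨h1, ?_⟩
    rw [h2, mul_add, hb2]
    have hsym := fun j => inter_symm D i j
    simp only [twiceChi, Nat.cast_add, Nat.cast_ite, Nat.cast_one, Nat.cast_zero, add_mul, mul_add,
      Finset.sum_add_distrib, ite_mul, one_mul, zero_mul, Finset.sum_ite_eq', Finset.mem_univ, if_true, mul_ite,
      mul_one, mul_zero, mul_sub, Finset.mul_sum]
    simp only [Finset.sum_ite_irrel, Finset.sum_const_zero, Finset.sum_ite_eq', Finset.mem_univ, if_true, hsym,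
      ← mul_assoc, mul_comm _ (2 : ℤ)]
    simp only [mul_assoc, ← Finset.mul_sum]
    ring

include D in
theorem good_fibre : Good X (ClSub.quotMod (Models.specialFibreIdeal R X)) ∧
    2 * chi X (ClSub.quotMod (Models.specialFibreIdeal R X)) =
      ∑ i, (Models.mult R X (Γc i) : ℤ) * (2 * FGA.eulerCharLE (IsLocalRing.ResidueField R) (Γc i).curve.left
        (Coh.structureModule (Γc i).curve.left) 1 + ArSurf.inter R X (D.L i) (Γc i)) := by
  haveI := D.flat
  haveI := D.proper
  obtain ⟨-, hprod⟩ := FibreIdeal.result X Γc D.hΓ D.hreg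
  rw [hprod]
  obtain ⟨h1, h2⟩ := good_prod D _ (fun i => Models.mult R X (Γc i)) rfl
  refine ⟨h1, h2.trans ?_⟩
  rw [twiceChi, sub_eq_self]
  exact Finset.sum_eq_zero fun i _ => by
    rw [ArInter.sum_mult_mul_inter X Γc D.hreg D.hΓ D.L D.hL i, mul_zero]

/-- The Euler characteristic of the closed fibre is that of the generic fibre. -/
theorem chi_fibre_eq [Flat X.hom] [IsProper X.hom] {C : Scheme.{u}} (f : C ⟶ Spec (CommRingCat.of (FractionRing R)))
    (g : C ⟶ X.left) (hg : IsPullback g f X.hom (Spec.map (CommRingCat.ofHom (algebraMap R (FractionRing R)))))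
    (hgood : Good X (ClSub.quotMod (Models.specialFibreIdeal R X))) :
    chi X (ClSub.quotMod (Models.specialFibreIdeal R X)) =
      (Models.hRank (FractionRing R) C f (Coh.structureModule C) 0 : ℤ) -
        (Models.hRank (FractionRing R) C f (Coh.structureModule C) 1 : ℤ) := by
  obtain ⟨ϖ, hirr⟩ := IsDiscreteValuationRing.exists_irreducible R
  have hϖ := hirr.maximalIdeal_eq
  obtain ⟨hz, hS⟩ := FibreSeq.shortExact X hϖ hirr.ne_zero
  haveI : IsLocallyNoetherian X.left := LocallyOfFiniteType.isLocallyNoetherian X.hom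
  haveI : CompactSpace X.left := QuasiCompact.compactSpace_of_compactSpace X.hom
  haveI : IsNoetherian X.left := ⟨⟩
  haveI : IsProper ((Scheme.IdealSheafData.vanishingIdeal ⟨Set.univ, isClosed_univ⟩ :
    X.left.IdealSheafData).subschemeι ≫ X.hom) := inferInstance
  letI : X.left.Over (Spec (CommRingCat.of R)) := ⟨X.hom⟩
  let O := Coh.structureModule X.left
  have hfin : ∀ i, Module.Finite R (Coh.HH X.left O i) := fun i =>
    FFun.finite_HH_of_properSupport R (C := Set.univ) ⟨isClosed_univ, show IsProper (_ ≫ X.hom) from inferInstance⟩ QCoh.isCoh_structureModule'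
      (Set.subset_univ _) i
  haveI := hfin
  have hmap : ∀ i, mapLin R (FibreSeq.mulConst X ϖ) i = LinearMap.lsmul R (Coh.HH X.left O i) ϖ := fun i =>
    LinearMap.ext fun x => by
      show Sheaf.H.map ((QCoh.toAbFunctor X.left).map (FibreSeq.mulConst X ϖ)) i x = _
      rw [FibreSeq.toAb_mulConst]
      rfl
  have e3 : ∀ i, Module.length R (Coh.HH X.left (ClSub.quotMod (Models.specialFibreIdeal R X)) i) =
      Module.length R (Coh.HH X.left O i ⧸ LinearMap.range (LinearMap.lsmul R (Coh.HH X.left O i) ϖ)) +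
      Module.length R (LinearMap.ker (LinearMap.lsmul R (Coh.HH X.left O (i + 1)) ϖ)) := fun i => by
    refine (length_mid _ _ (CurveCohLib.ker_deltaLin R hS i)).trans (congrArg₂ (· + ·) ?_ ?_)
    · rw [← (LinearMap.quotKerEquivRange _).length_eq]
      exact (Submodule.quotEquivOfEq _ _ ((CurveCohLib.ker_mapLin_g R hS i).trans (congrArg LinearMap.range (hmap i)))).length_eq
    · exact (LinearEquiv.ofEq _ _ ((CurveCohLib.ker_mapLin_f_succ R hS i).symm.trans
        (congrArg LinearMap.ker (hmap (i + 1))))).length_eq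
  have h2 : Subsingleton (Coh.HH X.left O 2) := by
    haveI := hgood.2 2 le_rfl
    have h := e3 2
    rw [Module.length_eq_zero, eq_comm, add_eq_zero, Module.length_eq_zero_iff, Submodule.Quotient.subsingleton_iff] at h
    refine Submodule.subsingleton_iff R |>.1 (subsingleton_of_bot_eq_top ?_)
    refine (Submodule.eq_bot_of_le_smul_of_le_jacobson_bot (IsLocalRing.maximalIdeal R) ⊤ (hfin 2).fg_top
      (fun x _ => ?_) (IsLocalRing.maximalIdeal_le_jacobson _)).symm
    obtain ⟨y, rfl⟩ : x ∈ LinearMap.range (LinearMap.lsmul R (Coh.HH X.left O 2) ϖ) := by rw [h.1]; trivial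
    exact Submodule.smul_mem_smul (by rw [hϖ]; exact Ideal.mem_span_singleton_self ϖ) trivial
  have h0 : Module.length R (LinearMap.ker (LinearMap.lsmul R (Coh.HH X.left O 0) ϖ)) = 0 := by
    rw [← hmap 0, LinearMap.ker_eq_bot.2 (CurveCohLib.mapLin_f_zero_injective R hS), Module.length_bot]
  have hk2 : Module.length R (LinearMap.ker (LinearMap.lsmul R (Coh.HH X.left O 2) ϖ)) = 0 := by
    haveI := h2
    exact Module.length_eq_zero
  have hrank : ∀ i, Module.finrank R (Coh.HH X.left O i) =
      Models.hRank (FractionRing R) C f (Coh.structureModule C) i := fun i => by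
    letI : C.Over (Spec (CommRingCat.of (FractionRing R))) := ⟨f⟩
    obtain ⟨e⟩ := QCoh.HH_flatBaseChange (A := R) (B := FractionRing R) hg (QCoh.isQCoh_structureModule (X := X.left)) i
    obtain ⟨o⟩ := PicClLib.nonempty_pullback_structureModule g
    refine ((TensorProduct.isBaseChange R (Coh.HH X.left O i) (FractionRing R)).finrank_eq).symm.trans ?_
    exact e.finrank_eq.trans (NormalLib.hhIso (A := FractionRing R) o i).finrank_eq
  obtain ⟨a0, b0⟩ := eul_lsmul hϖ hirr.ne_zero (Coh.HH X.left O 0)
  obtain ⟨a1, b1⟩ := eul_lsmul hϖ hirr.ne_zero (Coh.HH X.left O 1)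
  rw [IntThLib.eul, h0, hrank] at b0
  rw [IntThLib.eul, hrank] at b1
  show ((Module.length R _).toNat : ℤ) - ((Module.length R _).toNat : ℤ) = _
  rw [e3 0, e3 1, hk2, add_zero, ENat.toNat_add a0.1 a1.2]
  push_cast
  simp only [ENat.toNat_zero, Nat.cast_zero, sub_zero] at b0
  linarith

theorem hRank_zero_eq_one {C : Scheme.{u}} (f : C ⟶ Spec (CommRingCat.of (FractionRing R))) (hH0 : IsIso f.appTop) :
    Models.hRank (FractionRing R) C f (Coh.structureModule C) 0 = 1 := by
  letI : C.Over (Spec (CommRingCat.of (FractionRing R))) := ⟨f⟩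
  show Module.finrank (FractionRing R) (Coh.HH C (Coh.structureModule C) 0) = 1
  rw [GeomField.finrank_HH_zero]
  letI := GeomField.globalAlgebra (FractionRing R) C
  refine ((LinearEquiv.ofBijective (Algebra.linearMap (FractionRing R) Γ(C, ⊤)) ?_).finrank_eq).symm.trans
    (Module.finrank_self _)
  exact (ConcreteCategory.bijective_of_isIso f.appTop).comp
    (Scheme.ΓSpecIso (CommRingCat.of (FractionRing R))).symm.commRingCatIsoToRingEquiv.bijective

theorem wdeg_sub_h1 (Γ : ArSurf.VertComp R X) :
    FGA.eulerCharLE (IsLocalRing.ResidueField R) Γ.curve.left (Coh.structureModule Γ.curve.left) 1 =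
      (Models.wdeg R X Γ : ℤ) - (Models.h1 R X Γ : ℤ) := by
  simp only [FGA.eulerCharLE, Finset.sum_range_succ, Finset.sum_range_zero, Models.wdeg, Models.h1]
  ring

end Groth.Agent.H26.EulerFibre
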