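import Groth.Agent.H26.Chain
import Groth.Agent.H26.EulerGenus

/-!
# The computation sequence of the closed fibre divided by the multiplicity
-/

set_option autoImplicit false
set_option linter.style.haveILetI false
set_option linter.unusedSectionVars false
set_option backward.isDefEq.respectTransparency false
set_option backward.isDefEq.respectTransparency.types false
set_option maxHeartbeats 1000000

universe u

open CategoryTheory CategoryTheory.Limits AlgebraicGeometry TopologicalSpace
open Groth.Agent.H23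
open scoped Groth.Agent.H23.PicMul

noncomputable section

namespace Groth.Agent.H26.Chain

/-- A positive sum forces a positive term to have a negative partner. -/
theorem exists_neg_of_form_neg {n : ℕ} (I : Fin n → Fin n → ℤ) (E : Fin n → ℤ) (hE : ∀ i, 0 ≤ E i)
    (h : ∑ q : Fin n × Fin n, E q.1 * E q.2 * I q.1 q.2 < 0) :
    ∃ i, 0 < E i ∧ ∑ j, E j * I i j < 0 := by
  by_contra! hcon
  refine not_le.2 h ?_
  rw [Fintype.sum_prod_type]
  refine Finset.sum_nonneg fun i _ => ?_
  simp only [mul_assoc, ← Finset.mul_sum]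
  rcases (hE i).eq_or_lt with h0 | h0
  · rw [← h0, zero_mul]
  · exact mul_nonneg (hE i) (hcon i h0)

variable {R : Type u} [CommRing R] [IsDomain R] [IsDiscreteValuationRing R] {X : Over (Spec (CommRingCat.of R))}
  {n : ℕ} {Γc : Fin n → ArSurf.VertComp R X} (D : VertClass.Data X Γc)
  (hconn : _root_.IsConnected (Models.specialFibreSet R X))

include D hconn in
theorem exists_fibre_chain :
    ∃ (s : ℕ) (c : Fin (s + 1) → Fin n → ℕ), (c 0 = fun _ => 1) ∧
      (c (Fin.last s) = fun i => Models.mult R X (Γc i) / Models.multGcd R X Γc) ∧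
      (∀ j : Fin s, ∃ i, c j.succ = c j.castSucc + Pi.single i 1) ∧
      ∀ j, Fld (∏ i, (Γc i).ι.ker ^ c j i) := by
  classical
  haveI := D.proper
  haveI := D.flat
  let I : Fin n → Fin n → ℤ := fun i j => ArSurf.inter R X (D.L j) (Γc i)
  obtain ⟨i₀⟩ := VertClass.nonempty_index D.hΓ hconn
  -- the reduced fibre
  have h0 : Fld (∏ j, (Γc j).ι.ker ^ (Pi.single i₀ 1 : Fin n → ℕ) j) := by
    have : ∏ j, (Γc j).ι.ker ^ (Pi.single i₀ 1 : Fin n → ℕ) j = (Γc i₀).ι.ker := by
      simp only [Pi.single_apply, pow_ite, pow_one, pow_zero, Finset.prod_ite_eq', Finset.mem_univ, if_true]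
    rw [this]
    exact fld_ker (Γc i₀)
  obtain ⟨s₁, c₁, hc0, hc1, -, hcf⟩ := exists_chain D.heff D.hL (fun _ => 1) _ (Pi.single i₀ 1) rfl
    (fun j => by by_cases h : j = i₀ <;> simp [h]) h0 (fun a ha ha' hne => by
      let S : Finset (Fin n) := Finset.univ.filter fun j => a j = 1
      have hi0 : i₀ ∈ S := by
        simp only [S, Finset.mem_filter, Finset.mem_univ, true_and]
        have h1 := ha i₀
        have h2 := ha' i₀
        simp only [Pi.single_eq_same] at h1
        exact le_antisymm h2 h1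
      have hS : S ≠ Finset.univ := fun h => hne (funext fun j => by
        have := h ▸ Finset.mem_univ j
        simpa [S] using this)
      obtain ⟨i, hi, j, hj, hI⟩ := InterForm.exists_inter_ne_zero D.hΓ D.L D.hL D.hreg hconn S ⟨i₀, hi0⟩ hS
      have hajlt : a j < 1 := by
        have h1 : a j ≤ 1 := ha' j
        simp only [S, Finset.mem_filter, Finset.mem_univ, true_and] at hj
        omega
      refine ⟨j, hajlt, ?_⟩
      have hnn : ∀ k, 0 ≤ (a k : ℤ) * ArSurf.inter R X (D.L k) (Γc j) := fun k => by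
        by_cases hk : k = j
        · subst hk; simp [show a k = 0 by omega]
        · exact mul_nonneg (Int.natCast_nonneg _) (InterForm.inter_offDiag D.hΓ D.L D.hL D.hreg (Ne.symm hk)).1
      refine lt_of_lt_of_le ?_ (Finset.single_le_sum (fun k _ => hnn k) (Finset.mem_univ i))
      simp only [S, Finset.mem_filter, Finset.mem_univ, true_and] at hi
      rw [hi, Nat.cast_one, one_mul, EulerFibre.inter_symm D j i]
      have hij : i ≠ j := fun h => by subst h; omega
      exact lt_of_le_of_ne (InterForm.inter_offDiag D.hΓ D.L D.hL D.hreg hij).1 (Ne.symm hI))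
  have h1 : Fld (∏ j, (Γc j).ι.ker ^ (fun _ => 1 : Fin n → ℕ) j) := hc1 ▸ hcf (Fin.last s₁)
  -- the growth
  set d := Models.multGcd R X Γc with hd
  have hd0 : 0 < d := VertClass.multGcd_pos D hconn
  have hdm : ∀ j, d ∣ Models.mult R X (Γc j) := fun j => Finset.gcd_dvd (Finset.mem_univ j)
  let z : Fin n → ℕ := fun j => Models.mult R X (Γc j) / d
  have hz1 : ∀ j, 1 ≤ z j := fun j =>
    Nat.div_pos (Nat.le_of_dvd (InterForm.mult_pos D.hΓ D.hreg j) (hdm j)) hd0
  have hzI : ∀ i, ∑ j, (z j : ℤ) * I i j = 0 := fun i => by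
    have h := ArInter.sum_mult_mul_inter X Γc D.hreg D.hΓ D.L D.hL i
    have e : ∑ j, (Models.mult R X (Γc j) : ℤ) * I i j = (d : ℤ) * ∑ j, (z j : ℤ) * I i j := by
      rw [Finset.mul_sum]
      refine Finset.sum_congr rfl fun j _ => ?_
      rw [← mul_assoc, ← Nat.cast_mul, Nat.mul_div_cancel' (hdm j)]
    exact (mul_eq_zero.1 (e.symm.trans h)).resolve_left (Int.natCast_ne_zero.2 hd0.ne')
  obtain ⟨s, c, hs0, hs1, hss, hsf⟩ := exists_chain D.heff D.hL z _ (fun _ => 1) rfl hz1 h1 (fun a ha ha' hne => by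
    let E : Fin n → ℤ := fun j => (z j : ℤ) - (a j : ℤ)
    have hE : ∀ j, 0 ≤ E j := fun j => sub_nonneg.2 (by exact_mod_cast ha' j)
    have hQ : ∑ q : Fin n × Fin n, E q.1 * E q.2 * I q.1 q.2 < 0 := by
      refine lt_of_le_of_ne (InterForm.sum_nonpos D.hΓ D.L D.hL D.hreg E) fun h => hne ?_
      have hker := (InterForm.kernel_iff_propto D.hΓ D.L D.hL D.hreg hconn E).2
        ((InterForm.sum_eq_zero_iff D.hΓ D.L D.hL D.hreg hconn E).1 h)
      obtain ⟨T, hT⟩ := VertClass.exists_mul_of_inter_zero D hconn E hker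
      have hz0 : ∀ j, (0 : ℤ) < (z j : ℤ) := fun j => by exact_mod_cast hz1 j
      have hT0 : T = 0 := by
        have e := hT i₀
        have h1 : (1 : ℤ) ≤ (a i₀ : ℤ) := by exact_mod_cast ha i₀
        have h2 : (a i₀ : ℤ) ≤ (z i₀ : ℤ) := by exact_mod_cast ha' i₀
        change (z i₀ : ℤ) - (a i₀ : ℤ) = T * (z i₀ : ℤ) at e
        have hpos := hz0 i₀
        rcases le_or_gt 1 T with hT1 | hT1
        · nlinarith
        · rcases le_or_gt 0 T with hT2 | hT2
          · omega
          · nlinarith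
      funext j
      have e := hT j
      rw [hT0, zero_mul] at e
      simp only [E] at e
      omega
    obtain ⟨i, hi, hneg⟩ := exists_neg_of_form_neg I E hE hQ
    refine ⟨i, by simp only [E] at hi; omega, ?_⟩
    have e : ∑ j, E j * I i j = 0 - ∑ j, (a j : ℤ) * I i j := by
      rw [← hzI i, ← Finset.sum_sub_distrib]
      exact Finset.sum_congr rfl fun j _ => sub_mul _ _ _
    show 0 < ∑ j, (a j : ℤ) * I i j
    linarith)
  exact ⟨s, c, hs0, hs1, hss, hsf⟩

include D hconn in
/-- The Euler characteristic of the fibre is `d` times that of the fibre divided by `d`. -/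
theorem chi_fibre_eq_mul :
    EulerFibre.chi X (ClSub.quotMod (Models.specialFibreIdeal R X)) =
      (Models.multGcd R X Γc : ℤ) * EulerFibre.chi X
        (ClSub.quotMod (∏ i, (Γc i).ι.ker ^ (Models.mult R X (Γc i) / Models.multGcd R X Γc))) := by
  haveI := D.proper
  haveI := D.flat
  set d := Models.multGcd R X Γc with hd
  have hd0 : 0 < d := VertClass.multGcd_pos D hconn
  have hdm : ∀ j, d ∣ Models.mult R X (Γc j) := fun j => Finset.gcd_dvd (Finset.mem_univ j)
  let z : Fin n → ℕ := fun j => Models.mult R X (Γc j) / d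
  obtain ⟨-, h1⟩ := EulerFibre.good_fibre D
  obtain ⟨-, h2⟩ := EulerFibre.good_prod D _ z rfl
  have hzI : ∀ i, ∑ j, (z j : ℤ) * ArSurf.inter R X (D.L j) (Γc i) = 0 := fun i => by
    have h := ArInter.sum_mult_mul_inter X Γc D.hreg D.hΓ D.L D.hL i
    have e : ∑ j, (Models.mult R X (Γc j) : ℤ) * ArSurf.inter R X (D.L j) (Γc i) =
        (d : ℤ) * ∑ j, (z j : ℤ) * ArSurf.inter R X (D.L j) (Γc i) := by
      rw [Finset.mul_sum]
      refine Finset.sum_congr rfl fun j _ => ?_
      rw [← mul_assoc, ← Nat.cast_mul, Nat.mul_div_cancel' (hdm j)]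
    exact (mul_eq_zero.1 (e.symm.trans h)).resolve_left (Int.natCast_ne_zero.2 hd0.ne')
  simp only [EulerFibre.twiceChi, hzI, mul_zero, Finset.sum_const_zero, sub_zero] at h2
  show _ = (d : ℤ) * EulerFibre.chi X (ClSub.quotMod (∏ i, (Γc i).ι.ker ^ z i))
  refine mul_left_cancel₀ (show (2 : ℤ) ≠ 0 by norm_num) ?_
  rw [h1, mul_left_comm, h2, Finset.mul_sum]
  refine Finset.sum_congr rfl fun j _ => ?_
  rw [← mul_assoc, ← Nat.cast_mul, Nat.mul_div_cancel' (hdm j)]

end Groth.Agent.H26.Chain
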