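import Groth.Agent.H26.FibreIdeal
import Groth.Agent.H26.IdealCl
import Groth.Agent.CurveCohLib.Euler
import Groth.Agent.Lib.DivisorExt

/-!
# The sequence `0 → O --ϖ→ O → O_fibre → 0`
-/

set_option autoImplicit false
set_option linter.style.haveILetI false
set_option backward.isDefEq.respectTransparency false
set_option backward.isDefEq.respectTransparency.types false
set_option maxHeartbeats 1000000

universe u

open CategoryTheory CategoryTheory.Limits AlgebraicGeometry TopologicalSpace Opposite

noncomputable section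

namespace Groth.Agent.H26.FibreSeq

variable {R : Type u} [CommRing R] [IsDomain R] [IsDiscreteValuationRing R] (X : Over (Spec (CommRingCat.of R)))

/-- Multiplication by a constant. -/
def mulConst (a : R) : Coh.structureModule X.left ⟶ Coh.structureModule X.left :=
  QCoh.homOfTop (P := Coh.structureModule X.left) (OmegaSh.strSect X.left ⊤ (Coh.toGlobal X.hom a))

theorem mulConst_app (a : R) (U : X.left.Opens) (s : Γ(X.left, U)) :
    (mulConst X a).app U (OmegaSh.strSect X.left U s) =
      OmegaSh.strSect X.left U (s * FibreIdeal.unifOn X a U) :=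
  QCoh.homOfTop_app (P := Coh.structureModule X.left) _ s

theorem toAb_mulConst (a : R) :
    (QCoh.toAbFunctor X.left).map (mulConst X a) = Coh.smulAb (Coh.structureModule X.left) (Coh.toGlobal X.hom a) := by
  ext U m
  exact (mulConst_app X a U.unop m).trans
    (mul_comm (show Γ(X.left, U.unop) from m) (FibreIdeal.unifOn X a U.unop))

theorem shortExact [Flat X.hom] {ϖ : R} (hϖ : IsLocalRing.maximalIdeal R = Ideal.span {ϖ}) (hϖ0 : ϖ ≠ 0) :
    ∃ hz : mulConst X ϖ ≫ ClSub.toSubscheme (Models.specialFibreIdeal R X) = 0,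
      (ShortComplex.mk (mulConst X ϖ) (ClSub.toSubscheme (Models.specialFibreIdeal R X)) hz).ShortExact := by
  have happ : ∀ (U : X.left.Opens) (s : Γ(Coh.structureModule X.left, U)),
      OmegaSh.fnSect X.left U ((mulConst X ϖ).app U s) = OmegaSh.fnSect X.left U s * FibreIdeal.unifOn X ϖ U :=
    fun U s => congrArg (OmegaSh.fnSect X.left U) (mulConst_app X ϖ U (OmegaSh.fnSect X.left U s))
  haveI : Mono (mulConst X ϖ) := by
    have hinj : ∀ U : X.left.Opens, Function.Injective ((mulConst X ϖ).app U) := fun U => by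
      refine (injective_iff_map_eq_zero _).2 fun s hs => AModX.eq_of_locally (M := Coh.structureModule X.left) _ _ fun p hp => ?_
      obtain ⟨_, ⟨A, hA, rfl⟩, hpA, hAU⟩ :=
        X.left.isBasis_affineOpens.exists_subset_of_mem_open (show p ∈ (U : X.left.Opens) from hp) U.2
      refine ⟨A, hAU, hpA, ?_⟩
      have h1 := congrArg (OmegaSh.fnSect X.left A) (AModX.app_res (mulConst X ϖ) hAU s)
      rw [hs, map_zero, map_zero, happ] at h1
      rw [map_zero]
      exact mem_nonZeroDivisors_iff_right.1 (FibreIdeal.unifOn_mem_nonZeroDivisors X hϖ0 hA) _ h1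
    exact ⟨fun g h w => by
      apply Scheme.Modules.hom_ext
      intro W
      ext b
      exact hinj W (congrArg (fun ψ => Scheme.Modules.Hom.app ψ W b) w)⟩
  obtain ⟨e, he⟩ := IdealCl.exists_iso_of_range (mulConst X ϖ) (Models.specialFibreIdeal R X) fun U => by
    rw [FibreIdeal.specialFibreIdeal_ideal X hϖ U]
    ext x
    refine ⟨?_, fun hx => ?_⟩
    · rintro ⟨s, rfl⟩
      exact Ideal.mem_span_singleton'.2 ⟨_, (happ U.1 s).symm⟩
    · obtain ⟨c, rfl⟩ := Ideal.mem_span_singleton'.1 hx
      exact ⟨OmegaSh.strSect X.left U.1 c, happ U.1 _⟩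
  have hz : mulConst X ϖ ≫ ClSub.toSubscheme (Models.specialFibreIdeal R X) = 0 := by
    rw [← he, Category.assoc, show ClSub.idealModι (Models.specialFibreIdeal R X) ≫
      ClSub.toSubscheme (Models.specialFibreIdeal R X) = 0 from kernel.condition _, comp_zero]
  refine ⟨hz, ShortComplex.shortExact_of_iso ?_ (DivisorExt.ideal_shortExact (Models.specialFibreIdeal R X))⟩
  exact ShortComplex.isoMk e.symm (Iso.refl _) (Iso.refl _) (by simp [← he]) (by simp)

theorem surjective_H0_iff [Flat X.hom] :
    Function.Surjective (Sheaf.H.map ((QCoh.toAbFunctor X.left).map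
      (ClSub.toSubscheme (Models.specialFibreIdeal R X))) 0) ↔
      NoZeroSMulDivisors R (Coh.HH X.left (Coh.structureModule X.left) 1) := by
  obtain ⟨ϖ, hirr⟩ := IsDiscreteValuationRing.exists_irreducible R
  obtain ⟨hz, hS⟩ := shortExact X hirr.maximalIdeal_eq hirr.ne_zero
  have hsmul : ∀ x : Coh.HH X.left (Coh.structureModule X.left) 1,
      PnCoh.Finite.mapLin R (mulConst X ϖ) 1 x = ϖ • x := fun x => by
    show Sheaf.H.map ((QCoh.toAbFunctor X.left).map (mulConst X ϖ)) 1 x = _
    rw [toAb_mulConst]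
    rfl
  constructor
  · intro h
    have hinj : ∀ x : Coh.HH X.left (Coh.structureModule X.left) 1, ϖ • x = 0 → x = 0 := fun x hx => by
      have hmem : x ∈ LinearMap.ker (PnCoh.Finite.mapLin R (mulConst X ϖ) (0 + 1)) :=
        LinearMap.mem_ker.2 ((hsmul x).trans hx)
      rw [CurveCohLib.ker_mapLin_f_succ (A := R) hS 0] at hmem
      obtain ⟨y, rfl⟩ := hmem
      obtain ⟨z, rfl⟩ := h y
      exact (QCoh.Ab.connecting_eq_zero_iff (X := X.left.toPresheafedSpace.carrier)
        (QCoh.toAb_shortExact hS) 0 _).2 ⟨z, rfl⟩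
    refine ⟨fun {c x} hcx => ?_⟩
    by_cases hc : c = 0
    · exact Or.inl hc
    right
    obtain ⟨k, v, rfl⟩ := IsDiscreteValuationRing.eq_unit_mul_pow_irreducible hc hirr
    rw [mul_smul] at hcx
    have h2 : ϖ ^ k • x = 0 := by
      have := congrArg (fun t => (↑v⁻¹ : R) • t) hcx
      rw [smul_smul, Units.inv_mul, one_smul, smul_zero] at this
      exact this
    clear hcx hc
    induction k generalizing x with
    | zero => simpa using h2
    | succ k ih => exact ih (hinj _ (by rw [smul_smul, ← pow_succ']; exact h2))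
  · intro h y
    have hd : PnCoh.Finite.deltaLin R hS 0 y = 0 := by
      have hmem : PnCoh.Finite.deltaLin R hS 0 y ∈ LinearMap.range (PnCoh.Finite.deltaLin R hS 0) := ⟨y, rfl⟩
      rw [← CurveCohLib.ker_mapLin_f_succ (A := R) hS 0] at hmem
      have h0 : ϖ • (PnCoh.Finite.deltaLin R hS 0 y) = 0 := (hsmul _).symm.trans hmem
      exact (h.eq_zero_or_eq_zero_of_smul_eq_zero h0).resolve_left hirr.ne_zero
    exact PnCoh.Finite.exists_of_deltaLin_eq_zero R hS 0 hd

end Groth.Agent.H26.FibreSeq
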