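import Groth.Agent.H26.InterRange
import Groth.Agent.H26.FibreSeq
import Groth.Agent.IntThLib.Euler
import Groth.Agent.QCoh.HHExact
import Groth.Agent.FFun.PropSupp
import Groth.Agent.Snapper.DimVanish
import Groth.Agent.S0927

/-!
# Lengths of the cohomology of modules on the closed fibre
-/

set_option autoImplicit false
set_option linter.style.haveILetI false
set_option linter.unusedSectionVars false
set_option backward.isDefEq.respectTransparency false
set_option backward.isDefEq.respectTransparency.types false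
set_option maxHeartbeats 1000000

universe u

open CategoryTheory CategoryTheory.Limits AlgebraicGeometry TopologicalSpace Opposite
open Groth.Agent.H23
open Groth.Agent.PnCoh.Finite (mapLin deltaLin)
open scoped Groth.Agent.H23.PicMul

noncomputable section

namespace Groth.Agent.H26.EulerFibre

/-- Multiplicativity. -/
theorem exists_mul_iso {X : Scheme.{u}} (I J : X.IdealSheafData) (hJ : BlowUp.IsEffCartierIdeal J) :
    ∃ e : (DCoh.tensorBi.obj (ClSub.idealMod J)).obj (ClSub.idealMod I) ≅ ClSub.idealMod (J * I),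
      e.hom ≫ ClSub.idealModι (J * I) = DivisorExt.mulIdeal I (ClSub.idealMod J) ≫ ClSub.idealModι J := by
  haveI := IdealCl.isEquivalence_tensor (IdealCl.isInvertible_idealMod hJ)
  haveI : Mono (ClSub.idealModι I) := inferInstanceAs (Mono (kernel.ι _))
  haveI : Mono (ClSub.idealModι J) := inferInstanceAs (Mono (kernel.ι _))
  haveI : Mono (DivisorExt.mulIdeal I (ClSub.idealMod J)) := by
    haveI : Mono ((DCoh.tensorBi.obj (ClSub.idealMod J)).map (ClSub.idealModι I)) := inferInstance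
    exact mono_comp _ _
  let φ : (DCoh.tensorBi.obj (ClSub.idealMod J)).obj (ClSub.idealMod I) ⟶ Coh.structureModule X :=
    DivisorExt.mulIdeal I (ClSub.idealMod J) ≫ ClSub.idealModι J
  haveI : Mono φ := mono_comp (DivisorExt.mulIdeal I (ClSub.idealMod J)) (ClSub.idealModι J)
  refine IdealCl.exists_iso_of_range φ (J * I) fun U => ?_
  have key : ∀ a b, OmegaSh.fnSect X U.1 (φ.app U.1 (QCoh.tmS _ _ a b)) =
      OmegaSh.idealSect J U.1 a * OmegaSh.idealSect I U.1 b := by
    intro a b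
    show OmegaSh.fnSect X U.1 ((ClSub.idealModι J).app U.1
      ((DivisorExt.mulIdeal I (ClSub.idealMod J)).app U.1 (QCoh.tmS _ _ a b))) = _
    rw [DivisorExt.mulIdeal_tmS, ← OmegaSh.idealSect_apply, OmegaLib.idealSect_smul, mul_comm]
  let F : Γ((DCoh.tensorBi.obj (ClSub.idealMod J)).obj (ClSub.idealMod I), U.1) →+ Γ(X, U.1) :=
    (OmegaSh.fnSect X U.1).comp (φ.app U.1).hom
  ext x
  constructor
  · rintro ⟨s, rfl⟩
    obtain ⟨t, rfl⟩ := (QCoh.bijective_tmLin (M := ClSub.idealMod J) (N := ClSub.idealMod I)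
      (PPSheaf.isQCoh_idealMod J) (PPSheaf.isQCoh_idealMod I) U.2).2 s
    induction t using TensorProduct.induction_on with
    | zero => show F _ ∈ (J * I).ideal U; rw [map_zero, map_zero]; exact zero_mem _
    | tmul a b =>
      show OmegaSh.fnSect X U.1 (φ.app U.1 (QCoh.tmLin _ _ U.1 (a ⊗ₜ b))) ∈ (J * I).ideal U
      rw [QCoh.tmLin_tmul, key]
      exact Ideal.mul_mem_mul (OmegaLib.idealSect_mem J U a) (OmegaLib.idealSect_mem I U b)
    | add p q hp hq => show F _ ∈ (J * I).ideal U; rw [map_add, map_add]; exact add_mem hp hq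
  · intro hx
    have hx' : x ∈ J.ideal U * I.ideal U := hx
    refine Submodule.mul_induction_on hx' (fun a ha b hb => ?_) fun a b ha hb => ?_
    · obtain ⟨a', rfl⟩ := OmegaLib.exists_of_mem J U a ha
      obtain ⟨b', rfl⟩ := OmegaLib.exists_of_mem I U b hb
      exact ⟨_, key a' b'⟩
    · obtain ⟨p, rfl⟩ := ha
      obtain ⟨q, rfl⟩ := hb
      exact ⟨p + q, map_add F p q⟩


/-- Length of the target in an exact sequence. -/
theorem length_mid {A : Type u} [CommRing A] {M N P : Type u} [AddCommGroup M] [Module A M] [AddCommGroup N]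
    [Module A N] [AddCommGroup P] [Module A P] (f : M →ₗ[A] N) (g : N →ₗ[A] P)
    (h : LinearMap.ker g = LinearMap.range f) :
    Module.length A N = Module.length A (LinearMap.range f) + Module.length A (LinearMap.range g) :=
  IntThLib.length_eq_range_add_range (LinearMap.exact_iff.2 h)

section

variable {R : Type u} [CommRing R] [IsDomain R] [IsDiscreteValuationRing R] (X : Over (Spec (CommRingCat.of R)))

/-- Finite lengths, and no cohomology above degree one. -/
def Good (M : X.left.Modules) : Prop :=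
  (∀ i, i ≤ 1 → Module.length R (Coh.HH X.left M i) ≠ ⊤) ∧ ∀ i, 2 ≤ i → Subsingleton (Coh.HH X.left M i)

/-- The Euler characteristic over `R`. -/
def chi (M : X.left.Modules) : ℤ := (Models.lengthH R X M 0 : ℤ) - (Models.lengthH R X M 1 : ℤ)

theorem good_of_isZero {M : X.left.Modules} (h : IsZero M) : Good X M ∧ chi X M = 0 := by
  have hs : ∀ i, Subsingleton (Coh.HH X.left M i) := fun i => Euler.subsingleton_HH_of_isZero h i
  refine ⟨⟨fun i _ => ?_, fun i _ => hs i⟩, ?_⟩
  · haveI := hs i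
    rw [Module.length_eq_zero]
    exact ENat.zero_ne_top
  · haveI := hs 0
    haveI := hs 1
    simp [chi, Models.lengthH, Module.length_eq_zero]

theorem good_congr {M N : X.left.Modules} (e : M ≅ N) (h : Good X M) : Good X N ∧ chi X N = chi X M := by
  have el : ∀ i, Module.length R (Coh.HH X.left N i) = Module.length R (Coh.HH X.left M i) :=
    fun i => ((NormalLib.hhIso (A := R) e i).length_eq).symm
  refine ⟨⟨fun i hi => (el i) ▸ h.1 i hi, fun i hi => ?_⟩, ?_⟩
  · haveI := h.2 i hi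
    exact (NormalLib.hhIso (A := R) e i).symm.toEquiv.subsingleton
  · unfold chi Models.lengthH
    rw [el, el]

/-- Additivity. -/
theorem good_add {S : ShortComplex X.left.Modules} (hS : S.ShortExact) (h₁ : Good X S.X₁) (h₃ : Good X S.X₃) :
    Good X S.X₂ ∧ chi X S.X₂ = chi X S.X₁ + chi X S.X₃ := by
  let L : ∀ (M : X.left.Modules) (_ : ℕ), ℕ∞ := fun M i => Module.length R (Coh.HH X.left M i)
  let a : ℕ → ℕ∞ := fun i => Module.length R (LinearMap.range (mapLin R S.f i))
  let b : ℕ → ℕ∞ := fun i => Module.length R (LinearMap.range (mapLin R S.g i))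
  let d : ℕ → ℕ∞ := fun i => Module.length R (LinearMap.range (deltaLin R hS i))
  have e2 : ∀ i, L S.X₂ i = a i + b i := fun i => length_mid _ _ (CurveCohLib.ker_mapLin_g R hS i)
  have e3 : ∀ i, L S.X₃ i = b i + d i := fun i => length_mid _ _ (CurveCohLib.ker_deltaLin R hS i)
  have e1 : ∀ i, L S.X₁ (i + 1) = d i + a (i + 1) := fun i =>
    length_mid _ _ (CurveCohLib.ker_mapLin_f_succ R hS i)
  have e0 : L S.X₁ 0 = a 0 :=
    (LinearEquiv.ofInjective _ (CurveCohLib.mapLin_f_zero_injective R hS)).length_eq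
  haveI := h₁.2 2 le_rfl
  have d1 : d 1 = 0 := Module.length_eq_zero
  have f10 := h₁.1 0 (Nat.zero_le _)
  have f11 := h₁.1 1 le_rfl
  have f30 := h₃.1 0 (Nat.zero_le _)
  have f31 := h₃.1 1 le_rfl
  change L S.X₁ 0 ≠ ⊤ at f10
  change L S.X₁ 1 ≠ ⊤ at f11
  change L S.X₃ 0 ≠ ⊤ at f30
  change L S.X₃ 1 ≠ ⊤ at f31
  rw [e0] at f10
  rw [e1 0] at f11
  rw [e3 0] at f30
  rw [e3 1, d1, add_zero] at f31
  obtain ⟨fd0, fa1⟩ := not_or.1 (mt ENat.add_eq_top.2 f11)
  obtain ⟨fb0, -⟩ := not_or.1 (mt ENat.add_eq_top.2 f30)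
  refine ⟨⟨fun i hi => ?_, fun i hi => QCoh.subsingleton_HH_X₂ hS i (h₁.2 i hi) (h₃.2 i hi)⟩, ?_⟩
  · show L S.X₂ i ≠ ⊤
    rw [e2, Ne, ENat.add_eq_top, not_or]
    interval_cases i
    · exact ⟨f10, fb0⟩
    · exact ⟨fa1, f31⟩
  · show ((L S.X₂ 0).toNat : ℤ) - (L S.X₂ 1).toNat =
      ((L S.X₁ 0).toNat - (L S.X₁ 1).toNat : ℤ) + ((L S.X₃ 0).toNat - (L S.X₃ 1).toNat)
    rw [e2 0, e2 1, e3 0, e3 1, e0, e1 0, d1, add_zero, ENat.toNat_add f10 fb0, ENat.toNat_add fa1 f31,
      ENat.toNat_add fd0 fa1, ENat.toNat_add fb0 fd0]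
    push_cast
    ring

theorem length_HH_eq_finrank {W : Scheme.{u}} (f : W ⟶ Spec (CommRingCat.of (IsLocalRing.ResidueField R)))
    (M : W.Modules) (i : ℕ) [h : letI : W.Over (Spec (CommRingCat.of (IsLocalRing.ResidueField R))) := ⟨f⟩
      Module.Finite (IsLocalRing.ResidueField R) (Coh.HH W M i)] :
    (letI : W.Over (Spec (CommRingCat.of R)) := ⟨f ≫ Spec.map (CommRingCat.ofHom (IsLocalRing.residue R))⟩
     Module.length R (Coh.HH W M i)) =
    (letI : W.Over (Spec (CommRingCat.of (IsLocalRing.ResidueField R))) := ⟨f⟩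
     ((Module.finrank (IsLocalRing.ResidueField R) (Coh.HH W M i) : ℕ) : ℕ∞)) := by
  let k := IsLocalRing.ResidueField R
  letI : W.Over (Spec (CommRingCat.of k)) := ⟨f⟩
  letI : W.Over (Spec (CommRingCat.of R)) := ⟨f ≫ Spec.map (CommRingCat.ofHom (IsLocalRing.residue R))⟩
  haveI : Module.Finite k (Coh.HH W M i) := h
  haveI : IsScalarTower R k (Coh.HH W M i) := IsScalarTower.of_algebraMap_smul fun r x => by
    show Sheaf.H.map (Coh.smulAb M (Coh.toGlobal f (IsLocalRing.residue R r))) i x =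
      Sheaf.H.map (Coh.smulAb M (Coh.toGlobal (f ≫ Spec.map (CommRingCat.ofHom (IsLocalRing.residue R))) r)) i x
    congr 3
    show f.appTop ((Scheme.ΓSpecIso (CommRingCat.of k)).inv (IsLocalRing.residue R r)) =
      f.appTop ((Spec.map (CommRingCat.ofHom (IsLocalRing.residue R))).appTop
        ((Scheme.ΓSpecIso (CommRingCat.of R)).inv r))
    exact congrArg f.appTop (ConcreteCategory.congr_hom
      (Scheme.ΓSpecIso_inv_naturality (CommRingCat.ofHom (IsLocalRing.residue R))) r)
  rw [Module.length_eq_of_surjective (R := k) IsLocalRing.residue_surjective, Module.length_eq_finrank]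

variable {X}

/-- Direct images from a vertical curve. -/
theorem good_push [IsProper X.hom] (Γ : ArSurf.VertComp R X) {N : Γ.curve.left.Modules} (hN : Coh.IsCoh N) :
    Good X ((Coh.push Γ.ι).obj N) ∧ chi X ((Coh.push Γ.ι).obj N) =
      FGA.eulerCharLE (IsLocalRing.ResidueField R) Γ.curve.left N 1 := by
  let k := IsLocalRing.ResidueField R
  haveI := ArInter.isProper_curve Γ
  haveI := CurveCohLib.isNoetherian_of_proper (k := k) (X := Γ.curve.left)
  haveI : Γ.curve.left.IsSeparated := ⟨by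
    rw [← Limits.terminal.comp_from (Γ.curve.left ↘ Spec (CommRingCat.of k))]
    infer_instance⟩
  letI : Γ.curve.left.Over (Spec (CommRingCat.of R)) :=
    ⟨Γ.curve.hom ≫ Spec.map (CommRingCat.ofHom (IsLocalRing.residue R))⟩
  have hfin : ∀ i, Module.Finite k (Coh.HH Γ.curve.left N i) :=
    fun i => CurveCohLib.finite_HH (k := k) (X := Γ.curve.left) hN i
  have hl : ∀ i, Module.length R (Coh.HH X.left ((Coh.push Γ.ι).obj N) i) =
      ((Module.finrank k (Coh.HH Γ.curve.left N i) : ℕ) : ℕ∞) := fun i => by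
    obtain ⟨a⟩ := PnCoh.exists_linearEquiv_push R Γ.ι (P := X.left) Γ.w hN.1 i
    haveI := hfin i
    rw [← a.length_eq]
    exact length_HH_eq_finrank Γ.curve.hom N i
  refine ⟨⟨fun i _ => by rw [hl]; exact ENat.natCast_ne_top _, fun i hi => ?_⟩, ?_⟩
  · obtain ⟨a⟩ := QCoh.HH_push_of_isAffineHom Γ.ι hN.1 i
    haveI := Snapper.subsingleton_HH_of_dim_le (X := Γ.curve.left) (d := 1) Γ.dim_eq.le hN.1 (i := i) (by omega)
    exact a.symm.toEquiv.subsingleton
  · simp only [chi, Models.lengthH, hl, ENat.toNat_coe, FGA.eulerCharLE, Finset.sum_range_succ, Finset.sum_range_zero]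
    ring

/-- The restriction of an invertible module to a curve, seen on the surface. -/
theorem nonempty_tensor_quotMod_iso [IsProper X.hom] (Γ : ArSurf.VertComp R X) {A : X.left.Modules}
    (hA : PicF.IsInvertible A) :
    Nonempty ((DCoh.tensorBi.obj A).obj (ClSub.quotMod Γ.ι.ker) ≅
      (Scheme.Modules.pushforward Γ.ι).obj ((Scheme.Modules.pullback Γ.ι).obj A)) := by
  obtain ⟨q⟩ := DivisorExt.nonempty_quotMod_iso Γ.ι
  haveI : EnoughInjectives Γ.curve.left.Modules := inferInstance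
  obtain ⟨φ⟩ := S0927.result Γ.ι (Coh.structureModule Γ.curve.left) A
    (fun y => let ⟨W, hy, he⟩ := InvEnd.isFinLocFreeOfRank_one hA y; ⟨W, 1, hy, he⟩) 0
  let ψ := (Scheme.Modules.pushforward Γ.ι).rightDerivedZeroIsoSelf
  obtain ⟨c⟩ := PicMul.cl_eq_iff.1
    (show PicF.cl (CohB1.tensorMod ((Scheme.Modules.pullback Γ.ι).obj A) (Coh.structureModule Γ.curve.left)) =
      PicF.cl ((Scheme.Modules.pullback Γ.ι).obj A) by
      rw [PicMul.cl_tensor, ← PicMul.one_def, mul_one])
  exact ⟨(DCoh.tensorBi.obj A).mapIso (q ≪≫ (ψ.app _).symm) ≪≫ φ ≪≫ ψ.app _ ≪≫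
    (Scheme.Modules.pushforward Γ.ι).mapIso c⟩

/-- Adding a curve to a divisor. -/
theorem good_step [IsProper X.hom] (Γ : ArSurf.VertComp R X) {J : X.left.IdealSheafData}
    (hJ : BlowUp.IsEffCartierIdeal J) (h : Good X (ClSub.quotMod J)) :
    Good X (ClSub.quotMod (J * Γ.ι.ker)) ∧ chi X (ClSub.quotMod (J * Γ.ι.ker)) = chi X (ClSub.quotMod J) +
      FGA.eulerCharLE (IsLocalRing.ResidueField R) Γ.curve.left
        ((Scheme.Modules.pullback Γ.ι).obj (ClSub.idealMod J)) 1 := by
  haveI : IsLocallyNoetherian X.left := LocallyOfFiniteType.isLocallyNoetherian X.hom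
  have hA := IdealCl.isInvertible_idealMod hJ
  let A := ClSub.idealMod J
  let K := Γ.ι.ker
  haveI := IdealCl.isEquivalence_tensor hA
  haveI : Mono (ClSub.idealModι K) := inferInstanceAs (Mono (kernel.ι _))
  haveI : Mono (ClSub.idealModι J) := inferInstanceAs (Mono (kernel.ι _))
  haveI : Mono (DivisorExt.mulIdeal K A) := by
    haveI : Mono ((DCoh.tensorBi.obj A).map (ClSub.idealModι K)) := inferInstance
    exact mono_comp _ _
  let f := DivisorExt.mulIdeal K A
  let g : A ⟶ Coh.structureModule X.left := ClSub.idealModι J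
  let T : ShortComplex X.left.Modules :=
    ShortComplex.mk (cokernel.map f (f ≫ g) (𝟙 _) g (by simp)) (cokernel.map (f ≫ g) g f (𝟙 _) (by simp))
      ((kernelCokernelCompSequence_exact f g).toIsComplex.zero' 3 4 5)
  have hT : T.ShortExact := by
    have h1 : T.Exact := (kernelCokernelCompSequence_exact f g).exact' 3 4 5
    haveI : Mono T.f := ((kernelCokernelCompSequence_exact f g).exact' 2 3 4).mono_g
      ((isZero_kernel_of_mono g).eq_of_src _ _)
    haveI : Epi T.g := inferInstanceAs (Epi ((kernelCokernelCompSequence f g).map' 4 5))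
    exact ShortComplex.ShortExact.mk h1
  obtain ⟨e₁⟩ := DivisorExt.nonempty_cokernel_mulIdeal K A
  obtain ⟨e₂⟩ := nonempty_tensor_quotMod_iso Γ hA
  obtain ⟨e, he⟩ : ∃ e : (DCoh.tensorBi.obj A).obj (ClSub.idealMod K) ≅ ClSub.idealMod (J * K),
      e.hom ≫ ClSub.idealModι (J * K) = f ≫ g := exists_mul_iso K J hJ
  have hq : ∀ I : X.left.IdealSheafData, Nonempty (cokernel (ClSub.idealModι I) ≅ ClSub.quotMod I) := fun I =>
    ⟨IsColimit.coconePointUniqueUpToIso (cokernelIsCokernel _) (DivisorExt.ideal_shortExact I).gIsCokernel⟩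
  obtain ⟨qJ⟩ := hq J
  obtain ⟨qK⟩ := hq (J * K)
  haveI := ArInter.isProper_curve Γ
  haveI := CurveCohLib.isNoetherian_of_proper (k := IsLocalRing.ResidueField R) (X := Γ.curve.left)
  have hN : PicF.IsInvertible ((Scheme.Modules.pullback Γ.ι).obj A) := PicClLib.isInvertible_pullback Γ.ι hA
  have hp := good_push Γ (AmpleVan.isCoh_invertible hN)
  obtain ⟨h1, c1⟩ := good_congr X (e₁ ≪≫ e₂).symm hp.1
  obtain ⟨h3, c3⟩ := good_congr X qJ.symm h
  obtain ⟨h2, c2⟩ := good_add X hT h1 h3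
  obtain ⟨h4, c4⟩ := good_congr X (cokernel.mapIso (f ≫ g) (ClSub.idealModι (J * K)) e (Iso.refl _)
    (by simp [he]) ≪≫ qK) h2
  refine ⟨h4, ?_⟩
  rw [c4, c2, c1, c3, hp.2, add_comm]

end

end Groth.Agent.H26.EulerFibre
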