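import Groth.Agent.H26.ArInter
import Groth.Agent.GeomField.GlobalFunctions
import Groth.Agent.CurveCohLib.Proper

/-!
# The degree of the field of constants divides all cohomological invariants of a vertical curve
-/

set_option autoImplicit false
set_option linter.style.haveILetI false
set_option backward.isDefEq.respectTransparency false
set_option backward.isDefEq.respectTransparency.types false
set_option maxHeartbeats 1000000

universe u

open CategoryTheory CategoryTheory.Limits AlgebraicGeometry TopologicalSpace Opposite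
open Groth.Agent.H23

noncomputable section

namespace Groth.Agent.H26.WDeg

variable {k : Type u} [Field k] {Y : Scheme.{u}} [Y.Over (Spec (CommRingCat.of k))]
  [IsProper (Y ↘ Spec (CommRingCat.of k))] [IsIntegral Y]

/-- `dim_k H⁰(O)` divides `dim_k Hⁱ(M)`. -/
theorem h0_dvd (M : Y.Modules) (i : ℕ) :
    Module.finrank k (Coh.HH Y (Coh.structureModule Y) 0) ∣ Module.finrank k (Coh.HH Y M i) := by
  rw [GeomField.finrank_HH_zero]
  letI := GeomField.globalAlgebra k Y
  letI : Field (Coh.Γtop Y) := (show IsField (Coh.Γtop Y) from GeomField.isField_globalFunctions k Y).toField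
  letI : Algebra k (Coh.Γtop Y) := GeomField.globalAlgebra k Y
  haveI : IsScalarTower k (Coh.Γtop Y) (Coh.HH Y M i) := IsScalarTower.of_algebraMap_smul fun _ _ => rfl
  exact Dvd.intro _ (Module.finrank_mul_finrank k (Coh.Γtop Y) (Coh.HH Y M i))

variable {R : Type u} [CommRing R] [IsDomain R] [IsDiscreteValuationRing R]
  {X : Over (Spec (CommRingCat.of R))} [IsProper X.hom] (Γ : ArSurf.VertComp R X)

theorem wdeg_dvd_h1 : Models.wdeg R X Γ ∣ Models.h1 R X Γ :=
  haveI := ArInter.isProper_curve Γ
  h0_dvd (k := IsLocalRing.ResidueField R) _ 1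

theorem wdeg_pos : 0 < Models.wdeg R X Γ := by
  haveI := ArInter.isProper_curve Γ
  let k := IsLocalRing.ResidueField R
  haveI := CurveCohLib.isNoetherian_of_proper (k := k) (X := Γ.curve.left)
  show 0 < Module.finrank k (Coh.HH Γ.curve.left (Coh.structureModule Γ.curve.left) 0)
  haveI := CurveCohLib.finite_HH (k := k) (X := Γ.curve.left) QCoh.isCoh_structureModule' 0
  haveI : Nonempty (⊤ : Γ.curve.left.Opens) := ⟨⟨genericPoint Γ.curve.left, trivial⟩⟩
  haveI : Nontrivial (Coh.HH Γ.curve.left (Coh.structureModule Γ.curve.left) 0) := by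
    haveI : Nontrivial Γ(Γ.curve.left, ⊤) := inferInstance
    let e : Coh.HH Γ.curve.left (Coh.structureModule Γ.curve.left) 0 ≃+ Γ(Γ.curve.left, ⊤) :=
      Sheaf.H.equiv₀ (Coh.toAb (Coh.structureModule Γ.curve.left)) isTerminalTop
    exact e.toEquiv.nontrivial
  exact Module.finrank_pos

theorem wdeg_dvd_inter {L : X.left.Modules} (_hL : PicF.IsInvertible L) :
    (Models.wdeg R X Γ : ℤ) ∣ ArSurf.inter R X L Γ := by
  haveI := ArInter.isProper_curve Γ
  unfold ArSurf.inter ArSurf.curveDeg FGA.eulerCharLE
  exact dvd_sub (Finset.dvd_sum fun i _ => (Int.natCast_dvd_natCast.2 (h0_dvd (k := IsLocalRing.ResidueField R) _ i)).mul_left _)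
    (Finset.dvd_sum fun i _ => (Int.natCast_dvd_natCast.2 (h0_dvd (k := IsLocalRing.ResidueField R) _ i)).mul_left _)

end Groth.Agent.H26.WDeg
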