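import Groth.Agent.H26.ArInter
import Groth.Agent.H26.EulerFibre
import Groth.Agent.H26.WDeg
import Groth.Agent.S0844
import Groth.Agent.Lib.ProjRegularPn
import Groth.Agent.S1636
import Groth.Agent.CurveEmbed.Line
import Groth.Agent.Lib.CurveTensor

/-!
# The numerical criterion for exceptional curves of the first kind
-/

set_option autoImplicit false
set_option linter.style.haveILetI false
set_option linter.unusedSectionVars false
set_option backward.isDefEq.respectTransparency false
set_option backward.isDefEq.respectTransparency.types false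
set_option maxHeartbeats 1000000

universe u

open CategoryTheory CategoryTheory.Limits AlgebraicGeometry TopologicalSpace Opposite
open Groth.Agent.H23
open scoped Groth.Agent.H23.PicMul

noncomputable section

namespace Groth.Agent.H26.ExcCrit

/-- Cohomology along an isomorphism. -/
theorem subsingleton_HH_of_pullback {Y Z : Scheme.{u}} (e : Z ≅ Y) {N : Y.Modules} (hN : Coh.IsQCoh N) (i : ℕ)
    (h : Subsingleton (Coh.HH Z ((Scheme.Modules.pullback e.hom).obj N) i)) : Subsingleton (Coh.HH Y N i) := by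
  haveI : IsIso ((Scheme.Modules.restrictAdjunction e.hom).unit.app N) :=
    CurveTensor.isIso_unit_of_isIso e.hom N
  let φ : N ≅ (Coh.push e.hom).obj ((Scheme.Modules.pullback e.hom).obj N) :=
    asIso ((Scheme.Modules.restrictAdjunction e.hom).unit.app N) ≪≫
      (Scheme.Modules.pushforward e.hom).mapIso ((Scheme.Modules.restrictFunctorIsoPullback e.hom).app N)
  obtain ⟨a⟩ := QCoh.HH_push_of_isAffineHom e.hom (QCoh.isQCoh_pullback e.hom hN) i
  exact QCoh.subsingleton_HH_of_iso φ.symm i a.symm.toEquiv.subsingleton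

/-- `O(a) ⊗ O(b) = O(a+b)` on the line, as classes. -/
theorem twist_facts (k : Type u) [Field k] :
    (∀ n : ℤ, PicF.IsInvertible (Twist.twistProjSpace 1 k n)) ∧
      PicF.cl (Twist.twistProjSpace 1 k 1) * PicF.cl (Twist.twistProjSpace 1 k (-1)) = 1 ∧
      Nonempty (Twist.twistProjSpace 1 k 0 ≅ Coh.structureModule (CohB1.ProjSpace 1 k)) := by
  obtain ⟨h1, h2, h3⟩ := PnCoh.Finite.invertible_package (𝒜 := CohB1.polyGrading 1 k) (ProjRegular.coords k 1) ProjRegular.coords_mem ProjRegular.coords_cover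
  obtain ⟨e0⟩ := h3 0
  refine ⟨h1, ?_, ⟨e0⟩⟩
  rw [← PicMul.cl_tensor]
  obtain ⟨e⟩ := h2 1 (-1)
  exact (PicMul.cl_eq_iff.2 ⟨e ≪≫ (show Twist.twist (CohB1.polyGrading 1 k) (1 + -1) ≅ _ from e0)⟩).trans
    PicMul.one_def.symm

/-- The module structure over the global functions, seen through `Y ⟶ Spec Γ(Y, O)`. -/
theorem finrank_over_toSpecΓ (Y : Scheme.{u}) (M : Y.Modules) (i : ℕ) :
    @Module.finrank Γ(Y, ⊤) (Coh.HH Y M i) _ _ (Coh.moduleΓtop M i) =
      @Module.finrank Γ(Y, ⊤) (Coh.HH Y M i) _ _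
        (@Coh.moduleOver Γ(Y, ⊤) _ Y ⟨Y.toSpecΓ⟩ M i) := by
  have hglob : ∀ r : Γ(Y, ⊤), Coh.toGlobal Y.toSpecΓ r = r := fun r => by
    show (Y.toSpecΓ).appTop ((Scheme.ΓSpecIso Γ(Y, ⊤)).inv r) = r
    rw [Scheme.toSpecΓ_appTop, ← CommRingCat.comp_apply, Iso.inv_hom_id]
    rfl
  refine congrArg (fun m => @Module.finrank Γ(Y, ⊤) (Coh.HH Y M i) _ _ m) (Module.ext' _ _ fun r x => ?_)
  show Sheaf.H.map (Coh.smulAb M r) i x = Sheaf.H.map (Coh.smulAb M (Coh.toGlobal Y.toSpecΓ r)) i x
  rw [hglob r]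

/-- The tower formula for cohomology over the field of constants. -/
theorem finrank_tower (k : Type u) [Field k] (Y : Scheme.{u}) [Y.Over (Spec (CommRingCat.of k))]
    [IsProper (Y ↘ Spec (CommRingCat.of k))] [IsIntegral Y] (M : Y.Modules) (i : ℕ) :
    Module.finrank k (Coh.HH Y M i) = Module.finrank k (Coh.HH Y (Coh.structureModule Y) 0) *
      @Module.finrank Γ(Y, ⊤) (Coh.HH Y M i) _ _
        (@Coh.moduleOver Γ(Y, ⊤) _ Y ⟨Y.toSpecΓ⟩ M i) := by
  rw [GeomField.finrank_HH_zero k Y, ← finrank_over_toSpecΓ Y M i]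
  letI := GeomField.globalAlgebra k Y
  letI : Module Γ(Y, ⊤) (Coh.HH Y M i) := Coh.moduleΓtop M i
  letI : Field Γ(Y, ⊤) := (GeomField.isField_globalFunctions k Y).toField
  haveI : IsScalarTower k Γ(Y, ⊤) (Coh.HH Y M i) := IsScalarTower.of_algebraMap_smul fun _ _ => rfl
  exact (Module.finrank_mul_finrank k Γ(Y, ⊤) (Coh.HH Y M i)).symm

/-- The field of constants. -/
theorem exists_constants (k : Type u) [Field k] (Y : Scheme.{u}) [Y.Over (Spec (CommRingCat.of k))]
    [IsProper (Y ↘ Spec (CommRingCat.of k))] [IsIntegral Y] :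
    ∃ (K : Type u) (_ : Field K) (o : Y.Over (Spec (CommRingCat.of K))), IsProper o.hom ∧
      ∀ (M : Y.Modules) (i : ℕ), Module.finrank k (Coh.HH Y M i) =
        Module.finrank k (Coh.HH Y (Coh.structureModule Y) 0) *
          (letI := o; @Module.finrank K (Coh.HH Y M i) _ _ (Coh.moduleOver K Y M i)) := by
  haveI : Nonempty (⊤ : Y.Opens) := ⟨⟨genericPoint Y, trivial⟩⟩
  refine ⟨Γ(Y, ⊤), (GeomField.isField_globalFunctions k Y).toField, ⟨Y.toSpecΓ⟩, ?_, fun M i => finrank_tower k Y M i⟩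
  have hfac : Y.toSpecΓ ≫ Spec.map ((Scheme.ΓSpecIso (CommRingCat.of k)).inv ≫
      (Y ↘ Spec (CommRingCat.of k)).appTop) = (Y ↘ Spec (CommRingCat.of k)) := by
    rw [Spec.map_comp, ← Scheme.toSpecΓ_naturality_assoc, ← SpecMap_ΓSpecIso_hom, ← Spec.map_comp, Iso.inv_hom_id,
      Spec.map_id, Category.comp_id]
  haveI : IsProper (Y.toSpecΓ ≫ Spec.map ((Scheme.ΓSpecIso (CommRingCat.of k)).inv ≫
      (Y ↘ Spec (CommRingCat.of k)).appTop)) := by
    rw [hfac]
    infer_instance
  exact IsProper.of_comp Y.toSpecΓ (Spec.map ((Scheme.ΓSpecIso (CommRingCat.of k)).inv ≫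
    (Y ↘ Spec (CommRingCat.of k)).appTop))

/-- A curve over a field with `h⁰(O) = 1`, `h¹(O) = 0` and an invertible module of degree one. -/
theorem exists_line {K : Type u} [Field K] {Y : Scheme.{u}} [Y.Over (Spec (CommRingCat.of K))]
    [IsProper (Y ↘ Spec (CommRingCat.of K))] [IsIntegral Y] (hdim : topologicalKrullDim Y = 1)
    {A : Y.Modules} (hA : PicF.IsInvertible A)
    (h0 : Module.finrank K (Coh.HH Y (Coh.structureModule Y) 0) = 1)
    (h1 : Module.finrank K (Coh.HH Y (Coh.structureModule Y) 1) = 0)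
    (hdeg : (Module.finrank K (Coh.HH Y A 0) : ℤ) - Module.finrank K (Coh.HH Y A 1) = 2) :
    ∃ e : CohB1.ProjSpace 1 K ≅ Y, Nonempty ((Scheme.Modules.pullback e.hom).obj A ≅ Twist.twistProjSpace 1 K 1) := by
  haveI := CurveCohLib.isNoetherian_of_proper (k := K) (X := Y)
  have hd : Curv2.deg K Y A 1 = (1 : ℕ) := by
    unfold Curv2.deg
    rw [CurveRR.euler_eq_h0_sub_h1 (k := K) hdim.le (AmpleVan.isCoh_invertible hA).1,
      CurveRR.euler_eq_h0_sub_h1 (k := K) hdim.le (QCoh.isQCoh_structureModule (X := Y)), h0, h1]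
    push_cast
    omega
  obtain ⟨i, hi, -, ⟨ψ⟩⟩ := S1636.result K Y hdim h0 h1 A hA 1 one_pos hd
  haveI := hi
  haveI : IsIso i := CurveEmbed.isIso_of_closedImmersion_line K hdim i
  exact ⟨(asIso i).symm, ⟨(Scheme.Modules.pullback (inv i)).mapIso ψ.symm ≪≫
    (Scheme.Modules.pullbackComp (inv i) i).app _ ≪≫
    (Scheme.Modules.pullbackCongr (IsIso.inv_hom_id i)).app _ ≪≫
    (Scheme.Modules.pullbackId _).app _⟩⟩

variable {R : Type u} [CommRing R] [IsDomain R] [IsDiscreteValuationRing R]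
  {X : Over (Spec (CommRingCat.of R))} [IsProper X.hom] (Γc : ArSurf.VertComp R X)
  (heff : BlowUp.IsEffCartierIdeal Γc.ι.ker) {L : X.left.Modules}
  (hL : ClSub.IsInverseOf L (ClSub.idealMod Γc.ι.ker))

include heff hL in
/-- An exceptional curve of the first kind has `h¹ = 0` and self-intersection minus the degree of its constants. -/
theorem invariants_of_exc (h : Models.IsExcCurve Γc.ι) :
    Models.h1 R X Γc = 0 ∧ ArSurf.inter R X L Γc = -(Models.wdeg R X Γc : ℤ) := by
  obtain ⟨-, K, _, e, ⟨φ⟩⟩ := h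
  obtain ⟨htw, hone, ⟨e0⟩⟩ := twist_facts K
  let k := IsLocalRing.ResidueField R
  let Y := Γc.curve.left
  let A := (Scheme.Modules.pullback Γc.ι).obj (ClSub.idealMod Γc.ι.ker)
  let N := (Scheme.Modules.pullback Γc.ι).obj L
  have hLi : PicF.IsInvertible L := ArInter.isInvertible_of_inverse (IdealCl.isInvertible_idealMod heff) hL
  have hAN : PicF.cl N * PicF.cl A = 1 := by
    show PicMul.pullHom Γc.ι (PicF.cl L) * PicMul.pullHom Γc.ι (PicF.cl (ClSub.idealMod Γc.ι.ker)) = 1
    rw [← map_mul, ← PicMul.cl_tensor, PicMul.cl_eq_iff.2 hL]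
    exact (congrArg _ PicMul.one_def.symm).trans (map_one _)
  have hA : PicMul.pullHom e.hom (PicF.cl A) = PicF.cl (Twist.twistProjSpace 1 K 1) :=
    PicMul.cl_eq_iff.2 ⟨(Scheme.Modules.pullbackComp e.hom Γc.ι).app _ ≪≫ φ⟩
  have hN : PicF.cl ((Scheme.Modules.pullback e.hom).obj N) = PicF.cl (Twist.twistProjSpace 1 K (-1)) := by
    have h := congrArg (PicMul.pullHom e.hom) hAN
    rw [map_mul, map_one, hA] at h
    calc PicF.cl ((Scheme.Modules.pullback e.hom).obj N)
        = PicMul.pullHom e.hom (PicF.cl N) *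
          (PicF.cl (Twist.twistProjSpace 1 K 1) * PicF.cl (Twist.twistProjSpace 1 K (-1))) := by
            rw [hone, mul_one]; rfl
      _ = _ := by rw [← mul_assoc, h, one_mul]
  obtain ⟨ψ⟩ := PicMul.cl_eq_iff.1 hN
  have hNi : PicF.IsInvertible N := PicClLib.isInvertible_pullback Γc.ι hLi
  have hsN : ∀ i, Subsingleton (Coh.HH Y N i) := fun i => by
    refine subsingleton_HH_of_pullback e ((QCoh.isQCoh_of_isFinLocFree (fun y => let ⟨W, hy, he⟩ := InvEnd.isFinLocFreeOfRank_one hNi y; ⟨W, 1, hy, he⟩))) i ?_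
    haveI : Subsingleton (Coh.HH (CohB1.ProjSpace 1 K) (Twist.twistProjSpace 1 K (-1)) i) :=
      S0844.result K 1 (-1) i (by omega) (by omega)
    exact QCoh.subsingleton_HH_of_iso ψ.symm i inferInstance
  have hs1 : Subsingleton (Coh.HH Y (Coh.structureModule Y) 1) := by
    refine subsingleton_HH_of_pullback e QCoh.isQCoh_structureModule 1 ?_
    obtain ⟨o⟩ := PicClLib.nonempty_pullback_structureModule e.hom
    haveI : Subsingleton (Coh.HH (CohB1.ProjSpace 1 K) (Twist.twistProjSpace 1 K 0) 1) :=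
      S0844.result K 1 0 1 (by omega) (by omega)
    exact QCoh.subsingleton_HH_of_iso (o ≪≫ e0.symm).symm 1 inferInstance
  have hh1 : Models.h1 R X Γc = 0 := by
    haveI := hs1
    exact Module.finrank_zero_of_subsingleton
  refine ⟨hh1, ?_⟩
  haveI := hsN 0
  haveI := hsN 1
  show FGA.eulerCharLE k Y N 1 - FGA.eulerCharLE k Y (Coh.structureModule Y) 1 = _
  simp only [FGA.eulerCharLE, Finset.sum_range_succ, Finset.sum_range_zero, Module.finrank_zero_of_subsingleton]
  rw [show Models.wdeg R X Γc = Module.finrank k (Coh.HH Y (Coh.structureModule Y) 0) from rfl]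
  simp [k, Y]

include heff hL in
/-- Castelnuovo's numerical criterion. -/
theorem exc_of_invariants (h1 : Models.h1 R X Γc = 0)
    (hin : ArSurf.inter R X L Γc = -(Models.wdeg R X Γc : ℤ)) : Models.IsExcCurve Γc.ι := by
  let k := IsLocalRing.ResidueField R
  let Y := Γc.curve.left
  let I := ClSub.idealMod Γc.ι.ker
  let A := (Scheme.Modules.pullback Γc.ι).obj I
  haveI : IsProper (Γc.curve.left ↘ Spec (CommRingCat.of k)) := ArInter.isProper_curve Γc
  haveI := CurveCohLib.isNoetherian_of_proper (k := k) (X := Y)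
  have hfin : ∀ (M : Y.Modules), Coh.IsCoh M → ∀ i, Module.Finite k (Coh.HH Y M i) :=
    fun M hM i => CurveCohLib.finite_HH (k := k) (X := Y) hM i
  have hI : PicF.IsInvertible I := IdealCl.isInvertible_idealMod heff
  have hAi : PicF.IsInvertible A := PicClLib.isInvertible_pullback Γc.ι hI
  -- the degree over the residue field
  have hLi : PicF.IsInvertible L := ArInter.isInvertible_of_inverse hI hL
  have hdegk : FGA.eulerCharLE k Y A 1 - FGA.eulerCharLE k Y (Coh.structureModule Y) 1 =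
      (Models.wdeg R X Γc : ℤ) := by
    have h := ArInter.inter_congr Γc (PicMul.isInvertible_tensor hLi hI) (M := Coh.structureModule X.left)
      (PicMul.cl_eq_iff.2 hL)
    rw [ArInter.inter_tensor Γc hLi hI, ArInter.inter_structure, hin] at h
    show ArSurf.inter R X I Γc = _
    linarith
  -- the field of constants
  have hw0 : 0 < Models.wdeg R X Γc := WDeg.wdeg_pos Γc
  have hwne : (Models.wdeg R X Γc : ℤ) ≠ 0 := Int.natCast_ne_zero.2 hw0.ne'
  obtain ⟨K, instK, o, hprop, htow⟩ := exists_constants k Y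
  letI := instK
  letI := o
  haveI : IsProper (Y ↘ Spec (CommRingCat.of K)) := hprop
  have hmul : ∀ (M : Y.Modules) (i : ℕ), (Module.finrank k (Coh.HH Y M i) : ℤ) =
      (Models.wdeg R X Γc : ℤ) * (Module.finrank K (Coh.HH Y M i) : ℤ) :=
    fun M i => by rw [htow M i, Nat.cast_mul]; rfl
  have e0 : Module.finrank K (Coh.HH Y (Coh.structureModule Y) 0) = 1 := by
    have h := hmul (Coh.structureModule Y) 0
    rw [show Module.finrank k (Coh.HH Y (Coh.structureModule Y) 0) = Models.wdeg R X Γc from rfl] at h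
    exact_mod_cast mul_left_cancel₀ hwne (h.symm.trans (mul_one _).symm)
  have e1 : Module.finrank K (Coh.HH Y (Coh.structureModule Y) 1) = 0 := by
    have h := hmul (Coh.structureModule Y) 1
    rw [show Module.finrank k (Coh.HH Y (Coh.structureModule Y) 1) = 0 from h1, Nat.cast_zero, eq_comm,
      mul_eq_zero, or_iff_right hwne] at h
    exact_mod_cast h
  obtain ⟨e, ⟨ψ⟩⟩ := exists_line (K := K) Γc.dim_eq hAi e0 e1 (by
    refine mul_left_cancel₀ hwne ?_
    rw [mul_sub, ← hmul, ← hmul]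
    simp only [FGA.eulerCharLE, Finset.sum_range_succ, Finset.sum_range_zero] at hdegk
    rw [show Module.finrank k (Coh.HH Y (Coh.structureModule Y) 1) = 0 from h1,
      show Module.finrank k (Coh.HH Y (Coh.structureModule Y) 0) = Models.wdeg R X Γc from rfl] at hdegk
    push_cast at hdegk
    linarith)
  exact ⟨heff, K, inferInstance, e, ⟨((Scheme.Modules.pullbackComp e.hom Γc.ι).app _).symm ≪≫ ψ⟩⟩

end Groth.Agent.H26.ExcCrit
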