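import Groth.Agent.H26.InterForm

/-!
# Intersection numbers depend only on the image of the curve; semi-negativity for all families
-/

set_option autoImplicit false
set_option linter.style.haveILetI false
set_option backward.isDefEq.respectTransparency false
set_option backward.isDefEq.respectTransparency.types false
set_option maxHeartbeats 1000000

universe u

open CategoryTheory CategoryTheory.Limits AlgebraicGeometry TopologicalSpace
open Groth.Agent.H23
open scoped Groth.Agent.H23.PicMul

noncomputable section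

namespace Groth.Agent.H26.InterForm

variable {R : Type u} [CommRing R] [IsDomain R] [IsDiscreteValuationRing R]
  {X : Over (Spec (CommRingCat.of R))}

/-- Families covering the closed fibre by distinct curves are component lists. -/
theorem isComponentList_of_cover {r : ℕ} (Γ : Fin r → ArSurf.VertComp R X)
    (hdist : Function.Injective fun i => Set.range (Γ i).ι.base)
    (hcov : ∀ x : X.left, X.hom.base x = IsLocalRing.closedPoint R → ∃ i, x ∈ Set.range (Γ i).ι.base) :
    Models.IsComponentList R X Γ := by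
  have hsub : ∀ i, Set.range (Γ i).ι.base ⊆ Models.specialFibreSet R X := by
    rintro i _ ⟨c, rfl⟩
    show ((Γ i).ι ≫ X.hom) c = _
    rw [(Γ i).w, Scheme.Hom.comp_apply]
    generalize (Γ i).curve.hom c = a
    refine PrimeSpectrum.ext ?_
    show Ideal.comap (IsLocalRing.residue R) a.asIdeal = IsLocalRing.maximalIdeal R
    rw [(Ideal.eq_bot_or_top a.asIdeal).resolve_right a.isPrime.ne_top, ← RingHom.ker_eq_comap_bot,
      IsLocalRing.ker_residue]
  have hirr : ∀ i, IsIrreducible (Set.range (Γ i).ι.base) := fun i => by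
    rw [InterSymm.range_eq_closure (Γ i)]
    exact isIrreducible_singleton.closure
  have key : ∀ S : Set X.left, IsIrreducible S → S ⊆ Models.specialFibreSet R X →
      ∃ j, S ⊆ Set.range (Γ j).ι.base := fun S hS hle => by
    classical
    obtain ⟨t, ht, hSt⟩ := isIrreducible_iff_sUnion_isClosed.1 hS
      (Finset.univ.image fun i => Set.range (Γ i).ι.base)
      (fun t ht => by
        obtain ⟨i, -, rfl⟩ := Finset.mem_image.1 ht
        exact (Γ i).ι.isClosedEmbedding.isClosed_range)
      (fun x hx => by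
        obtain ⟨i, hi⟩ := hcov x (hle hx)
        exact ⟨_, Finset.mem_image.2 ⟨i, Finset.mem_univ i, rfl⟩, hi⟩)
    obtain ⟨i, -, rfl⟩ := Finset.mem_image.1 ht
    exact ⟨i, hSt⟩
  have hmax : ∀ i, Set.range (Γ i).ι.base ∈ Models.fibreComponents R X := fun i =>
    ⟨⟨hirr i, hsub i⟩, fun S hS hle => by
      obtain ⟨j, hj⟩ := key S hS.1 hS.2
      by_cases hij : Set.range (Γ i).ι.base = Set.range (Γ j).ι.base
      · exact hj.trans hij.ge
      · exact absurd (hj (hle ⟨genericPoint _, rfl⟩)) (InterSymm.genPt_notMem (Γ i) (Γ j) hij)⟩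
  refine ⟨hdist, Set.Subset.antisymm (Set.range_subset_iff.2 hmax) fun Z hZ => ?_⟩
  obtain ⟨j, hj⟩ := key Z hZ.1.1 hZ.1.2
  exact ⟨j, Set.Subset.antisymm (hZ.2 ⟨hirr j, hsub j⟩ hj) hj⟩

/-- Every vertical curve is a component of the closed fibre. -/
theorem exists_same_range {n : ℕ} {Γc : Fin n → ArSurf.VertComp R X} (hΓ : Models.IsComponentList R X Γc)
    (Γp : ArSurf.VertComp R X) : ∃ i, Set.range Γp.ι.base = Set.range (Γc i).ι.base := by
  classical
  have hcompl : ∀ S : Set X.left, IsIrreducible S → S ⊆ Models.specialFibreSet R X →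
      ∃ j, S ⊆ Set.range (Γc j).ι.base := fun S hS hle => by
    let Z : Set (Set X.left) := {T | IsIrreducible T ∧ T ⊆ Models.specialFibreSet R X}
    obtain ⟨C, hsubC, hC⟩ := zorn_subset_nonempty Z (fun c hc hchain hne => by
      refine ⟨⋃₀ c, ⟨⟨?_, ?_⟩, Set.sUnion_subset fun T hT => (hc hT).2⟩, fun T hT => Set.subset_sUnion_of_mem hT⟩
      · obtain ⟨T, hT⟩ := hne
        exact (hc hT).1.1.mono (Set.subset_sUnion_of_mem hT)
      · intro u v hu hv ⟨a, ⟨T, hT, haT⟩, hau⟩ ⟨b, ⟨T', hT', hbT'⟩, hbv⟩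
        rcases hchain.total hT hT' with h | h
        · obtain ⟨q, hq, hq'⟩ := (hc hT').1.2 u v hu hv ⟨a, h haT, hau⟩ ⟨b, hbT', hbv⟩
          exact ⟨q, ⟨T', hT', hq⟩, hq'⟩
        · obtain ⟨q, hq, hq'⟩ := (hc hT).1.2 u v hu hv ⟨a, haT, hau⟩ ⟨b, h hbT', hbv⟩
          exact ⟨q, ⟨T, hT, hq⟩, hq'⟩) S ⟨hS, hle⟩
    have hmem : C ∈ Models.fibreComponents R X := hC
    rw [← hΓ.2] at hmem
    obtain ⟨j, rfl⟩ := hmem
    exact ⟨j, hsubC⟩
  have hsub : Set.range Γp.ι.base ⊆ Models.specialFibreSet R X := by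
    rintro _ ⟨c, rfl⟩
    show (Γp.ι ≫ X.hom) c = _
    rw [Γp.w, Scheme.Hom.comp_apply]
    generalize Γp.curve.hom c = a
    refine PrimeSpectrum.ext ?_
    show Ideal.comap (IsLocalRing.residue R) a.asIdeal = IsLocalRing.maximalIdeal R
    rw [(Ideal.eq_bot_or_top a.asIdeal).resolve_right a.isPrime.ne_top, ← RingHom.ker_eq_comap_bot,
      IsLocalRing.ker_residue]
  obtain ⟨j, hj⟩ := hcompl _ (by
    rw [InterSymm.range_eq_closure Γp]
    exact isIrreducible_singleton.closure) hsub
  refine ⟨j, ?_⟩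
  by_contra hne
  exact InterSymm.genPt_notMem Γp (Γc j) hne (hj ⟨genericPoint _, rfl⟩)

/-- The closed fibre is the image of the special fibre. -/
theorem isConnected_specialFibreSet (h : ConnectedSpace ↥(Models.specialFibre R X.left X.hom)) :
    _root_.IsConnected (Models.specialFibreSet R X) := by
  let i := Spec.map (CommRingCat.ofHom (algebraMap R (IsLocalRing.ResidueField R)))
  have hrange : Set.range i = {IsLocalRing.closedPoint R} := by
    have ha : ∀ a, i a = IsLocalRing.closedPoint R := fun a => by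
      refine PrimeSpectrum.ext ?_
      show Ideal.comap (IsLocalRing.residue R) a.asIdeal = IsLocalRing.maximalIdeal R
      rw [(Ideal.eq_bot_or_top a.asIdeal).resolve_right a.isPrime.ne_top, ← RingHom.ker_eq_comap_bot,
        IsLocalRing.ker_residue]
    ext x
    exact ⟨fun ⟨a, ha'⟩ => ha'.symm.trans (ha a), fun hx =>
      ⟨(⟨⊥, Ideal.isPrime_bot⟩ : PrimeSpectrum (IsLocalRing.ResidueField R)), (ha _).trans hx.symm⟩⟩
  have h2 : Set.range (pullback.fst X.hom i) = Models.specialFibreSet R X := by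
    rw [Scheme.Pullback.range_fst, hrange]
    rfl
  rw [← h2]
  haveI : ConnectedSpace ↥(pullback X.hom i) := h
  exact isConnected_range (pullback.fst X.hom i).continuous

variable {n : ℕ} {Γc : Fin n → ArSurf.VertComp R X} (hΓ : Models.IsComponentList R X Γc)
  (L : Fin n → X.left.Modules) (hL : ∀ i, ClSub.IsInverseOf (L i) (ClSub.idealMod (Γc i).ι.ker))

include hΓ hL in
theorem inter_eq_of_range [IsProper X.hom] [Flat X.hom]
    (hreg : ∀ x : X.left, IsRegularLocalRing (X.left.presheaf.stalk x))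
    (Γp : ArSurf.VertComp R X) (i : Fin n) (h : Set.range Γp.ι.base = Set.range (Γc i).ι.base) (j : Fin n) :
    ArSurf.inter R X (L j) Γp = ArSurf.inter R X (L j) (Γc i) := by
  classical
  have heff := (FibreIdeal.result X Γc hΓ hreg).1
  have hoff : ∀ j, j ≠ i → ArSurf.inter R X (L j) Γp = ArSurf.inter R X (L j) (Γc i) := fun j hj => by
    have hs : ((Γc j).ι.ker.support : Set X.left) = Set.range (Γc j).ι.base := by
      rw [Scheme.Hom.support_ker]
      exact (Γc j).ι.isClosedEmbedding.isClosed_range.closure_eq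
    rw [InterSymm.inter_eq_lengthH Γp (heff j)
        (by rw [hs]; exact InterSymm.genPt_notMem Γp (Γc j) (fun e => hj (hΓ.1 (e.symm.trans h)))) (hL j),
      InterSymm.inter_eq_lengthH (Γc i) (heff j)
        (by rw [hs]; exact InterSymm.genPt_notMem (Γc i) (Γc j) (fun e => hj (hΓ.1 e.symm))) (hL j),
      ker_eq_of_range h]
  by_cases hij : j = i
  swap
  · exact hoff j hij
  subst hij
  let Γ' := Function.update Γc j Γp
  have hrange : ∀ k, Set.range (Γ' k).ι.base = Set.range (Γc k).ι.base := fun k => by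
    by_cases hk : k = j
    · subst hk
      rw [show Γ' k = Γp from Function.update_self ..]
      exact h
    · rw [show Γ' k = Γc k from Function.update_of_ne hk ..]
  have hΓ' : Models.IsComponentList R X Γ' := by
    unfold Models.IsComponentList
    rw [show (fun k => Set.range (Γ' k).ι.base) = fun k => Set.range (Γc k).ι.base from funext hrange]
    exact hΓ
  have h1 := ArInter.sum_mult_mul_inter X Γ' hreg hΓ' L (fun k => by rw [ker_eq_of_range (hrange k)]; exact hL k) j
  have h2 := ArInter.sum_mult_mul_inter X Γc hreg hΓ L hL j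
  simp only [fun k => mult_eq_of_range (hrange k)] at h1
  rw [show Γ' j = Γp from Function.update_self ..] at h1
  rw [← Finset.add_sum_erase _ _ (Finset.mem_univ j)] at h1 h2
  rw [Finset.sum_congr rfl fun k hk => by rw [hoff k (Finset.ne_of_mem_erase hk)]] at h1
  exact mul_left_cancel₀ (Int.natCast_ne_zero.2 (mult_pos hΓ hreg j).ne') (add_right_cancel (h1.trans h2.symm))

include hΓ in
theorem sum_nonpos_of_family [IsProper X.hom] [Flat X.hom]
    (hreg : ∀ x : X.left, IsRegularLocalRing (X.left.presheaf.stalk x))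
    {r : ℕ} (Γ : Fin r → ArSurf.VertComp R X) (φ : Fin r → Fin n)
    (hφ : ∀ p, Set.range (Γ p).ι.base = Set.range (Γc (φ p)).ι.base)
    (L' : Fin r → X.left.Modules) (hL' : ∀ p, ClSub.IsInverseOf (L' p) (ClSub.idealMod (Γ p).ι.ker))
    (a : Fin r → ℤ) :
    (∑ q : Fin r × Fin r, a q.1 * a q.2 * ArSurf.inter R X (L' q.2) (Γ q.1)) ≤ 0 := by
  classical
  have heff := (FibreIdeal.result X Γc hΓ hreg).1
  choose Li hLi e using fun j => PicInv.exists_inverse (IdealCl.isInvertible_idealMod (heff j))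
  have hLc : ∀ j, ClSub.IsInverseOf (Li j) (ClSub.idealMod (Γc j).ι.ker) := fun j => by
    obtain ⟨c⟩ := PicMul.comm (Li j) (ClSub.idealMod (Γc j).ι.ker)
    obtain ⟨e'⟩ := e j
    first
      | exact ⟨e'⟩
      | exact ⟨c ≪≫ e'⟩
  have hcl : ∀ p, PicF.cl (L' p) = PicF.cl (Li (φ p)) := fun p => by
    have h1 : PicF.cl (L' p) * PicF.cl (ClSub.idealMod (Γc (φ p)).ι.ker) = 1 := by
      rw [← PicMul.cl_tensor, ← ker_eq_of_range (hφ p)]
      exact PicMul.cl_eq_iff.2 (hL' p)
    have h2 : PicF.cl (Li (φ p)) * PicF.cl (ClSub.idealMod (Γc (φ p)).ι.ker) = 1 := by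
      rw [← PicMul.cl_tensor]
      exact PicMul.cl_eq_iff.2 (hLc (φ p))
    exact left_inv_eq_right_inv h1 (by rw [mul_comm]; exact h2)
  have hterm : ∀ p q, ArSurf.inter R X (L' q) (Γ p) = ArSurf.inter R X (Li (φ q)) (Γc (φ p)) := fun p q => by
    rw [ArInter.inter_congr (Γ p) (ArInter.isInvertible_of_inverse
      (IdealCl.isInvertible_idealMod (by rw [ker_eq_of_range (hφ q)]; exact heff (φ q))) (hL' q)) (hcl q),
      inter_eq_of_range hΓ Li hLc hreg (Γ p) (φ p) (hφ p)]
  let b : Fin n → ℤ := fun j => ∑ p ∈ Finset.univ.filter (fun p => φ p = j), a p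
  have key : (∑ q : Fin r × Fin r, a q.1 * a q.2 * ArSurf.inter R X (L' q.2) (Γ q.1)) =
      ∑ q : Fin n × Fin n, b q.1 * b q.2 * ArSurf.inter R X (Li q.2) (Γc q.1) := by
    rw [Fintype.sum_prod_type, Fintype.sum_prod_type,
      ← Finset.sum_fiberwise Finset.univ φ (fun p => ∑ q, a p * a q * ArSurf.inter R X (L' q) (Γ p))]
    refine Finset.sum_congr rfl fun i _ => ?_
    have hb : ∀ (j : Fin n) (c : ℤ), b i * b j * c =
        ∑ p ∈ Finset.univ.filter (fun p => φ p = i), ∑ q ∈ Finset.univ.filter (fun q => φ q = j),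
          a p * a q * c := fun j c => by
      simp only [b]
      rw [Finset.sum_mul_sum, Finset.sum_mul]
      simp only [Finset.sum_mul]
    simp only [hb]
    rw [Finset.sum_comm (s := (Finset.univ : Finset (Fin n)))]
    refine Finset.sum_congr rfl fun p hp => ?_
    rw [← Finset.sum_fiberwise Finset.univ φ (fun q => a p * a q * ArSurf.inter R X (L' q) (Γ p))]
    refine Finset.sum_congr rfl fun j _ => Finset.sum_congr rfl fun q hq => ?_
    rw [hterm, (Finset.mem_filter.1 hp).2, (Finset.mem_filter.1 hq).2]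
  rw [key]
  exact sum_nonpos hΓ Li hLc hreg b

end Groth.Agent.H26.InterForm
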