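import Groth.Agent.H26.FibreIdeal
import Groth.Agent.H26.InterRange

/-!
# The reduced closed fibre is the product of the ideals of its components
-/

set_option autoImplicit false
set_option linter.style.haveILetI false
set_option linter.unusedSectionVars false
set_option backward.isDefEq.respectTransparency false
set_option backward.isDefEq.respectTransparency.types false
set_option maxHeartbeats 1000000

universe u

open CategoryTheory CategoryTheory.Limits AlgebraicGeometry TopologicalSpace

noncomputable section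

namespace Groth.Agent.H26.RedFibre

/-- In a locally factorial ring, a product of distinct minimal primes over a principal ideal is their
intersection. -/
theorem prod_eq_iInf {A : Type u} [CommRing A] [IsNoetherianRing A]
    (hA : ∀ (m : Ideal A) [m.IsMaximal], IsDomain (Localization.AtPrime m) ∧
      UniqueFactorizationMonoid (Localization.AtPrime m))
    (π : A) (hπ : π ∈ nonZeroDivisors A) {ι : Type*} [Fintype ι] (P : ι → Ideal A)
    (hP : ∀ i, P i = ⊤ ∨ P i ∈ (Ideal.span {π}).minimalPrimes)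
    (hinj : ∀ i j, P i = P j → P i ≠ ⊤ → i = j) : ∏ i, P i = ⨅ i, P i := by
  classical
  refine Ideal.eq_of_localization_maximal fun m _ => ?_
  obtain ⟨hd, hu⟩ := hA m
  let B := Localization.AtPrime m
  let φ : A →+* B := algebraMap A B
  refine le_antisymm (Ideal.map_mono (le_iInf fun i => ?_)) ?_
  · exact Ideal.le_of_dvd (Finset.dvd_prod_of_mem P (Finset.mem_univ i))
  rw [show Ideal.map (algebraMap A B) (∏ i, P i) = ∏ i, (P i).map φ from map_prod (Ideal.mapHom φ) P Finset.univ]
  have hπB : φ π ≠ 0 := fun h => by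
    obtain ⟨c, hc⟩ := (IsLocalization.map_eq_zero_iff m.primeCompl B π).1 h
    exact c.2 ((mem_nonZeroDivisors_iff_right.1 hπ _ hc).symm ▸ m.zero_mem)
  have hdis : ∀ {i}, P i ≤ m → Disjoint (m.primeCompl : Set A) (P i) :=
    fun him => Set.disjoint_left.2 fun x hx hxP => hx (him hxP)
  have hmin : ∀ {i}, P i ≤ m → P i ∈ (Ideal.span {π}).minimalPrimes := fun {i} him =>
    (hP i).resolve_left fun h => (Ideal.IsPrime.ne_top (I := m) inferInstance) (top_le_iff.1 (h ▸ him))
  have key : ∀ i, ∃ q : B, (P i).map φ = Ideal.span {q} ∧ (P i ≤ m → Prime q) ∧ (¬ P i ≤ m → IsUnit q) := by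
    intro i
    by_cases him : P i ≤ m
    · haveI := (hmin him).1.1
      haveI : ((P i).map φ).IsPrime :=
        IsLocalization.isPrime_of_isPrime_disjoint m.primeCompl B _ inferInstance (hdis him)
      have hle : ((P i).map φ).height ≤ 1 := by
        rw [IsLocalization.height_map_of_disjoint m.primeCompl _ (hdis him)]
        exact Ideal.height_le_one_of_isPrincipal_of_mem_minimalPrimes (Ideal.span {π}) (P i) (hmin him)
      have hne : (P i).map φ ≠ ⊥ := fun h => hπB (by
        rw [← Ideal.mem_bot, ← h]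
        exact Ideal.mem_map_of_mem _ ((hmin him).1.2 (Ideal.mem_span_singleton_self π)))
      have h1 : ((P i).map φ).height = 1 := by
        refine le_antisymm hle (Order.one_le_iff_pos.2 (pos_iff_ne_zero.2 fun h0 => hne ?_))
        rw [Ideal.height_eq_zero_iff, IsDomain.minimalPrimes_eq_singleton_bot] at h0
        exact h0
      obtain ⟨q, hq, hqP⟩ := DivX.exists_prime_span_of_height_one ((P i).map φ) h1
      exact ⟨q, hqP, fun _ => hq, fun h => absurd him h⟩
    · refine ⟨1, ?_, fun h => absurd h him, fun _ => isUnit_one⟩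
      obtain ⟨x, hxP, hxm⟩ := SetLike.not_le_iff_exists.1 him
      rw [Ideal.span_singleton_one]
      exact Ideal.eq_top_of_isUnit_mem _ (Ideal.mem_map_of_mem φ hxP)
        (IsLocalization.map_units B (⟨x, hxm⟩ : m.primeCompl))
  choose q hq hqp hqu using key
  simp only [hq]
  rw [Ideal.prod_span_singleton]
  intro x hx
  refine Ideal.mem_span_singleton.2 (Finset.prod_dvd_of_isRelPrime (fun i _ j _ hij => ?_) fun i _ =>
    Ideal.mem_span_singleton.1 (hq i ▸ Ideal.map_mono (iInf_le P i) hx))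
  show IsRelPrime (q i) (q j)
  by_cases hi : P i ≤ m
  · by_cases hj : P j ≤ m
    · refine (hqp i hi).irreducible.isRelPrime_iff_not_dvd.2 fun hdvd => hij ?_
      have he : (P i).map φ = (P j).map φ := by
        rw [hq, hq]
        exact Ideal.span_singleton_eq_span_singleton.2 ((hqp i hi).associated_of_dvd (hqp j hj) hdvd)
      refine hinj i j ?_ (hmin hi).1.1.ne_top
      rw [← IsLocalization.comap_map_of_isPrime_disjoint m.primeCompl B (hI := (hmin hi).1.1) (hdis hi),
        ← IsLocalization.comap_map_of_isPrime_disjoint m.primeCompl B (hI := (hmin hj).1.1) (hdis hj)]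
      exact congrArg _ he
    · exact isRelPrime_comm.1 ((hqu j hj).isRelPrime_left)
  · exact (hqu i hi).isRelPrime_left

variable {R : Type u} [CommRing R] [IsDomain R] [IsDiscreteValuationRing R]
  {X : Over (Spec (CommRingCat.of R))} {n : ℕ} {Γc : Fin n → ArSurf.VertComp R X}

/-- Every point of the closed fibre lies on a component. -/
theorem exists_mem_component (hΓ : Models.IsComponentList R X Γc) {z : X.left}
    (hz : z ∈ Models.specialFibreSet R X) : ∃ i, z ∈ Set.range (Γc i).ι.base := by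
  let Z : Set (Set X.left) := {T | IsIrreducible T ∧ T ⊆ Models.specialFibreSet R X}
  obtain ⟨C, hzC, hC⟩ := zorn_subset_nonempty Z (fun c hc hchain hne => by
    refine ⟨⋃₀ c, ⟨⟨?_, ?_⟩, Set.sUnion_subset fun T hT => (hc hT).2⟩, fun T hT => Set.subset_sUnion_of_mem hT⟩
    · obtain ⟨T, hT⟩ := hne
      exact (hc hT).1.1.mono (Set.subset_sUnion_of_mem hT)
    · intro u v hu hv ⟨a, ⟨T, hT, haT⟩, hau⟩ ⟨b, ⟨T', hT', hbT'⟩, hbv⟩
      rcases hchain.total hT hT' with h | h
      · obtain ⟨q, hq, hq'⟩ := (hc hT').1.2 u v hu hv ⟨a, h haT, hau⟩ ⟨b, hbT', hbv⟩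
        exact ⟨q, ⟨T', hT', hq⟩, hq'⟩
      · obtain ⟨q, hq, hq'⟩ := (hc hT).1.2 u v hu hv ⟨a, haT, hau⟩ ⟨b, h hbT', hbv⟩
        exact ⟨q, ⟨T, hT, hq⟩, hq'⟩) {z} ⟨isIrreducible_singleton, Set.singleton_subset_iff.2 hz⟩
  have hmem : C ∈ Models.fibreComponents R X := hC
  rw [← hΓ.2] at hmem
  obtain ⟨j, rfl⟩ := hmem
  exact ⟨j, hzC rfl⟩

/-- The ideal of the reduced closed fibre. -/
theorem redFibreIdeal_eq_prod [Flat X.hom] [LocallyOfFiniteType X.hom]
    (hreg : ∀ x : X.left, IsRegularLocalRing (X.left.presheaf.stalk x)) (hΓ : Models.IsComponentList R X Γc) :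
    Models.redFibreIdeal R X = ∏ i, (Γc i).ι.ker := by
  haveI : IsLocallyNoetherian X.left := LocallyOfFiniteType.isLocallyNoetherian X.hom
  obtain ⟨ϖ, hirr⟩ := IsDiscreteValuationRing.exists_irreducible R
  have hϖ := hirr.maximalIdeal_eq
  refine Scheme.IdealSheafData.ext (funext fun U => ?_)
  haveI : IsNoetherianRing Γ(X.left, U.1) := IsLocallyNoetherian.component_noetherian U
  have hprod : (∏ i, (Γc i).ι.ker).ideal U = ∏ i, (Γc i).ι.ker.ideal U := by
    let F : X.left.IdealSheafData →* Ideal Γ(X.left, U.1) :=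
      { toFun := fun I => I.ideal U, map_one' := by simp, map_mul' := fun I J => rfl }
    show F _ = _
    rw [map_prod]
    rfl
  rw [hprod, prod_eq_iInf (fun m _ => ?_) (FibreIdeal.unifOn X ϖ U.1)
    (FibreIdeal.unifOn_mem_nonZeroDivisors X hirr.ne_zero U.2) (fun i => (Γc i).ι.ker.ideal U) (fun i => ?_)
    fun i j hij hne => ?_]
  · show PrimeSpectrum.vanishingIdeal (U.2.fromSpec ⁻¹' Models.specialFibreSet R X) = _
    refine Ideal.ext fun a => ?_
    rw [PrimeSpectrum.mem_vanishingIdeal, Submodule.mem_iInf]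
    refine ⟨fun h i => ?_, fun h q hq => ?_⟩
    · rcases FibreIdeal.ker_ideal_cases (Γc i).ι U with ⟨-, e⟩ | ⟨hU, e⟩
      · rw [e]; trivial
      · rw [e]
        refine h _ (show U.2.fromSpec _ ∈ Models.specialFibreSet R X from ?_)
        rw [U.2.fromSpec_primeIdealOf]
        exact FibreIdeal.genPt_mem X Γc hΓ i
    · obtain ⟨i, hi⟩ := exists_mem_component hΓ (z := U.2.fromSpec q) hq
      have hqU : U.2.fromSpec q ∈ U.1 := by
        have : U.2.fromSpec q ∈ Set.range U.2.fromSpec := ⟨q, rfl⟩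
        rwa [U.2.range_fromSpec] at this
      rw [FibreIdeal.range_eq_closure X Γc hΓ i] at hi
      have hsp := specializes_iff_mem_closure.2 hi
      have hgU : Models.genPtOf R X (Γc i) ∈ U.1 := hsp.mem_open U.1.2 hqU
      rcases FibreIdeal.ker_ideal_cases (Γc i).ι U with ⟨h', -⟩ | ⟨hU, e⟩
      · exact absurd hgU h'
      have ha := h i
      rw [e] at ha
      refine (PrimeSpectrum.le_iff_specializes (U.2.primeIdealOf ⟨_, hU⟩) q).2 ?_ ha
      rw [← U.2.fromSpec.isOpenEmbedding.isInducing.specializes_iff, U.2.fromSpec_primeIdealOf]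
      exact hsp
  · let q : PrimeSpectrum Γ(X.left, U.1) := ⟨m, inferInstance⟩
    have hqU : U.2.fromSpec q ∈ U.1 := by
      have : U.2.fromSpec q ∈ Set.range U.2.fromSpec := ⟨q, rfl⟩
      rwa [U.2.range_fromSpec] at this
    letI := TopCat.Presheaf.algebra_section_stalk X.left.presheaf (⟨U.2.fromSpec q, hqU⟩ : U.1)
    have hq : U.2.primeIdealOf ⟨U.2.fromSpec q, hqU⟩ = q :=
      U.2.fromSpec.isOpenEmbedding.injective (U.2.fromSpec_primeIdealOf ⟨_, hqU⟩)
    haveI : IsLocalization.AtPrime (X.left.presheaf.stalk (U.2.fromSpec q)) m := by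
      have := U.2.isLocalization_stalk ⟨U.2.fromSpec q, hqU⟩
      simp only [hq] at this
      exact this
    let e := (IsLocalization.algEquiv m.primeCompl (X.left.presheaf.stalk (U.2.fromSpec q))
      (Localization.AtPrime m)).toRingEquiv
    haveI := hreg (U.2.fromSpec q)
    obtain ⟨hd, hu⟩ := RegUFD.ufd (X.left.presheaf.stalk (U.2.fromSpec q))
    exact ⟨e.symm.toMulEquiv.isDomain _, e.toMulEquiv.uniqueFactorizationMonoid hu⟩
  · rcases FibreIdeal.ker_ideal_cases (Γc i).ι U with ⟨-, h⟩ | ⟨h, e⟩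
    · exact Or.inl h
    · exact Or.inr (e ▸ FibreIdeal.mem_minimalPrimes X Γc hΓ hϖ U.2 i h)
  · rcases FibreIdeal.ker_ideal_cases (Γc i).ι U with ⟨-, h⟩ | ⟨h, e⟩
    · exact absurd h hne
    rcases FibreIdeal.ker_ideal_cases (Γc j).ι U with ⟨-, h'⟩ | ⟨h', e'⟩
    · exact absurd (hij.trans h') hne
    have : U.2.primeIdealOf ⟨_, h⟩ = U.2.primeIdealOf ⟨_, h'⟩ := PrimeSpectrum.ext (e.symm.trans (hij.trans e'))
    have h2 := congrArg U.2.fromSpec this
    rw [U.2.fromSpec_primeIdealOf, U.2.fromSpec_primeIdealOf] at h2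
    exact FibreIdeal.genPt_injective X Γc hΓ h2

end Groth.Agent.H26.RedFibre
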