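import Groth.Agent.H26.InterRange
import Groth.Agent.H26.BiratFibre
import Groth.Agent.H26.FibDimOne
import Groth.Agent.H26.CompList
import Groth.Agent.H26.RedFibre

/-!
# The intersection form of an exceptional fibre is negative definite
-/

set_option autoImplicit false
set_option linter.style.haveILetI false
set_option linter.unusedSectionVars false
set_option backward.isDefEq.respectTransparency false
set_option backward.isDefEq.respectTransparency.types false
set_option maxHeartbeats 1000000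

universe u

open CategoryTheory CategoryTheory.Limits AlgebraicGeometry TopologicalSpace
open Groth.Agent.H23
open scoped Groth.Agent.H23.PicMul

noncomputable section

namespace Groth.Agent.H26.NegDef

variable {R : Type u} [CommRing R] [IsDomain R] [IsDiscreteValuationRing R]
  {X : Over (Spec (CommRingCat.of R))} [IsProper X.hom] [Flat X.hom] {n : ℕ}
  {Γc : Fin n → ArSurf.VertComp R X} (hΓ : Models.IsComponentList R X Γc) (L : Fin n → X.left.Modules)
  (hL : ∀ i, ClSub.IsInverseOf (L i) (ClSub.idealMod (Γc i).ι.ker))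

include hΓ hL in
/-- On a null vector the ratio to the multiplicities is the same on curves that meet. -/
theorem ratio_eq_of_meet (hreg : ∀ x : X.left, IsRegularLocalRing (X.left.presheaf.stalk x)) (a : Fin n → ℤ)
    (h : (∑ q : Fin n × Fin n, a q.1 * a q.2 * ArSurf.inter R X (L q.2) (Γc q.1)) = 0) {i j : Fin n}
    (hmeet : ¬ Disjoint (Set.range (Γc i).ι.base) (Set.range (Γc j).ι.base)) :
    (a i : ℚ) / (Models.mult R X (Γc i) : ℚ) = (a j : ℚ) / (Models.mult R X (Γc j) : ℚ) := by
  by_cases hij : i = j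
  · rw [hij]
  obtain ⟨h1, h2, h3, h4⟩ := InterForm.mat_spec hΓ L hL hreg
  let m : Fin n → ℚ := fun k => (Models.mult R X (Γc k) : ℚ)
  let b : Fin n → ℚ := fun k => (a k : ℚ)
  have hA : InterForm.mat Γc L i j ≠ 0 :=
    Int.cast_ne_zero.2 fun h0 => hmeet ((InterForm.inter_offDiag hΓ L hL hreg hij).2.1 h0)
  have e := InterForm.two_mul_form (InterForm.mat Γc L) m h1 h3 h4 b
  have h0 : InterForm.form (InterForm.mat Γc L) b = 0 := by
    rw [← InterForm.cast_sum_eq_form L a, h, Int.cast_zero]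
  rw [h0, mul_zero, eq_comm, neg_eq_zero, Finset.sum_eq_zero_iff_of_nonneg fun k _ =>
    Finset.sum_nonneg fun l _ => InterForm.term_nonneg _ m h2 h4 b k l] at e
  have e2 := (Finset.sum_eq_zero_iff_of_nonneg fun l _ => InterForm.term_nonneg _ m h2 h4 b i l).1
    (e i (Finset.mem_univ i)) j (Finset.mem_univ j)
  rcases mul_eq_zero.1 e2 with h' | h'
  · exact absurd h' (mul_ne_zero (mul_ne_zero (h4 i).ne' (h4 j).ne') hA)
  · exact sub_eq_zero.1 (pow_eq_zero_iff two_ne_zero |>.1 h')

include hΓ hL in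
/-- A null vector whose curves all map to one point vanishes. -/
theorem eq_zero_of_contracted [IsIntegral X.left] {Y : Over (Spec (CommRingCat.of R))} [IsIntegral Y.left]
    [Flat Y.hom] [LocallyOfFiniteType Y.hom] (hnor : ∀ q : Y.left, IsIntegrallyClosed (Y.left.presheaf.stalk q))
    (hdimY : topologicalKrullDim Y.left = 2) (f : X ⟶ Y) [IsProper f.left] {U : Y.left.Opens}
    (hU : (U : Set Y.left).Nonempty) [IsIso (f.left ∣_ U)] (y : Y.left) (hy : IsClosed ({y} : Set Y.left))
    (hreg : ∀ x : X.left, IsRegularLocalRing (X.left.presheaf.stalk x)) (a : Fin n → ℤ)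
    (hS : ∀ i, a i ≠ 0 → Set.range ((Γc i).ι ≫ f.left).base = {y})
    (h : (∑ q : Fin n × Fin n, a q.1 * a q.2 * ArSurf.inter R X (L q.2) (Γc q.1)) = 0) : a = 0 := by
  by_contra hne
  obtain ⟨i₀, hi₀⟩ := Function.ne_iff.1 hne
  haveI : IsLocallyNoetherian X.left := LocallyOfFiniteType.isLocallyNoetherian X.hom
  haveI : IsLocallyNoetherian Y.left := LocallyOfFiniteType.isLocallyNoetherian Y.hom
  haveI := hnor y
  let F : Set X.left := f.left ⁻¹' {y}
  let A : Set X.left := ⋃ i ∈ {i | a i ≠ 0}, Set.range (Γc i).ι.base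
  let B : Set X.left := ⋃ i ∈ {i | a i = 0}, Set.range (Γc i).ι.base
  have hAc : IsClosed A :=
    (Set.toFinite _).isClosed_biUnion fun i _ => (Γc i).ι.isClosedEmbedding.isClosed_range
  have hBc : IsClosed B :=
    (Set.toFinite _).isClosed_biUnion fun i _ => (Γc i).ι.isClosedEmbedding.isClosed_range
  have hAF : A ⊆ F := by
    rintro x hx
    simp only [A, Set.mem_iUnion] at hx
    obtain ⟨i, hi, c, rfl⟩ := hx
    have : ((Γc i).ι ≫ f.left) c ∈ Set.range ((Γc i).ι ≫ f.left).base := ⟨c, rfl⟩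
    rw [hS i hi] at this
    exact this
  have hdisj : Disjoint A B := by
    rw [Set.disjoint_left]
    intro x hxA hxB
    simp only [A, B, Set.mem_iUnion] at hxA hxB
    obtain ⟨i, hi, hxi⟩ := hxA
    obtain ⟨j, hj, hxj⟩ := hxB
    have e := ratio_eq_of_meet hΓ L hL hreg a h (i := i) (j := j) (Set.not_disjoint_iff.2 ⟨x, hxi, hxj⟩)
    rw [show a j = 0 from hj, Int.cast_zero, zero_div, div_eq_zero_iff, Int.cast_eq_zero, Nat.cast_eq_zero] at e
    rcases e with e | e
    · exact hi e
    · exact (InterForm.mult_pos hΓ hreg i).ne' e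
  have hys : y ∈ Models.specialFibreSet R Y := by
    have hx : Models.genPtOf R X (Γc i₀) ∈ F := hAF (Set.mem_biUnion (x := i₀) hi₀ ⟨_, rfl⟩)
    have hg := FibreIdeal.genPt_mem X Γc hΓ i₀
    show Y.hom y = IsLocalRing.closedPoint R
    rw [← (show f.left (Models.genPtOf R X (Γc i₀)) = y from hx), ← Scheme.Hom.comp_apply, Over.w]
    exact hg
  have hfib : ∀ x : X.left, f.left x ∈ Models.specialFibreSet R Y → x ∈ A ∪ B := fun x hx => by
    have hxs : x ∈ Models.specialFibreSet R X := by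
      show X.hom x = IsLocalRing.closedPoint R
      rw [← Over.w f, Scheme.Hom.comp_apply]
      exact hx
    obtain ⟨i, hi⟩ := RedFibre.exists_mem_component hΓ hxs
    by_cases h0 : a i = 0
    · exact Or.inr (Set.mem_biUnion (x := i) h0 hi)
    · exact Or.inl (Set.mem_biUnion (x := i) h0 hi)
  have hFA : F ⊆ A := by
    have hconn := BiratFibre.isConnected_preimage f.left hU y
    have hcov : F ⊆ A ∪ B := fun x hx => hfib x (by rw [show f.left x = y from hx]; exact hys)
    intro x hx
    refine (hcov hx).resolve_right fun hxB => ?_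
    obtain ⟨z, -, hzA, hzB⟩ := isPreconnected_closed_iff.1 hconn.isPreconnected A B hAc hBc hcov
      ⟨Models.genPtOf R X (Γc i₀), hAF (Set.mem_biUnion (x := i₀) hi₀ ⟨_, rfl⟩),
        Set.mem_biUnion (x := i₀) hi₀ ⟨_, rfl⟩⟩ ⟨x, hx, hxB⟩
    exact Set.disjoint_left.1 hdisj hzA hzB
  refine FibDimOne.not_isClosed_of_maximal hdimY hys (fun w hw hws => ?_) hy
  obtain ⟨x, rfl⟩ := BiratFibre.surjective f.left hU w
  rcases hfib x hws with hxA | hxB
  · exact hAF hxA
  · obtain ⟨z, hz, hze⟩ : y ∈ f.left '' B :=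
      hw.mem_closed (f.left.isClosedMap _ hBc) ⟨x, hxB, rfl⟩
    exact absurd hz (Set.disjoint_left.1 hdisj (hFA hze))

include hΓ in
/-- The intersection form of curves contracted to a normal point is negative definite. -/
theorem sum_neg [IsIntegral X.left] {Y : Over (Spec (CommRingCat.of R))} [IsIntegral Y.left]
    [Flat Y.hom] [LocallyOfFiniteType Y.hom] (hnor : ∀ q : Y.left, IsIntegrallyClosed (Y.left.presheaf.stalk q))
    (hdimY : topologicalKrullDim Y.left = 2) (f : X ⟶ Y) [IsProper f.left] {U : Y.left.Opens}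
    (hU : (U : Set Y.left).Nonempty) [IsIso (f.left ∣_ U)] (y : Y.left) (hy : IsClosed ({y} : Set Y.left))
    (hreg : ∀ x : X.left, IsRegularLocalRing (X.left.presheaf.stalk x)) {r : ℕ} (Γ : Fin r → ArSurf.VertComp R X)
    (hinj : Function.Injective fun i => Set.range (Γ i).ι.base)
    (hΓy : ∀ i, Set.range ((Γ i).ι ≫ f.left).base = {y}) (L' : Fin r → X.left.Modules)
    (hL' : ∀ p, ClSub.IsInverseOf (L' p) (ClSub.idealMod (Γ p).ι.ker)) (x : Fin r → ℤ) (hx : x ≠ 0) :
    (∑ q : Fin r × Fin r, x q.1 * x q.2 * ArSurf.inter R X (L' q.2) (Γ q.1)) < 0 := by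
  classical
  have heff := (FibreIdeal.result X Γc hΓ hreg).1
  choose Li hLi e using fun j => PicInv.exists_inverse (IdealCl.isInvertible_idealMod (heff j))
  have hLc : ∀ j, ClSub.IsInverseOf (Li j) (ClSub.idealMod (Γc j).ι.ker) := fun j => by
    obtain ⟨c⟩ := PicMul.comm (Li j) (ClSub.idealMod (Γc j).ι.ker)
    obtain ⟨e'⟩ := e j
    first
      | exact ⟨e'⟩
      | exact ⟨c ≪≫ e'⟩
  choose φ hφ using fun p => InterForm.exists_same_range hΓ (Γ p)
  have hφi : Function.Injective φ := fun p q h => hinj (by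
    show Set.range (Γ p).ι.base = Set.range (Γ q).ι.base
    rw [hφ p, hφ q, h])
  have hcl : ∀ p, PicF.cl (L' p) = PicF.cl (Li (φ p)) := fun p => by
    have h1 : PicF.cl (L' p) * PicF.cl (ClSub.idealMod (Γc (φ p)).ι.ker) = 1 := by
      rw [← PicMul.cl_tensor, ← InterForm.ker_eq_of_range (hφ p)]
      exact PicMul.cl_eq_iff.2 (hL' p)
    have h2 : PicF.cl (Li (φ p)) * PicF.cl (ClSub.idealMod (Γc (φ p)).ι.ker) = 1 := by
      rw [← PicMul.cl_tensor]
      exact PicMul.cl_eq_iff.2 (hLc (φ p))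
    exact left_inv_eq_right_inv h1 (by rw [mul_comm]; exact h2)
  have hterm : ∀ p q, ArSurf.inter R X (L' q) (Γ p) = ArSurf.inter R X (Li (φ q)) (Γc (φ p)) := fun p q => by
    rw [ArInter.inter_congr (Γ p) (ArInter.isInvertible_of_inverse
      (IdealCl.isInvertible_idealMod (by rw [InterForm.ker_eq_of_range (hφ q)]; exact heff (φ q))) (hL' q)) (hcl q),
      InterForm.inter_eq_of_range hΓ Li hLc hreg (Γ p) (φ p) (hφ p)]
  let a : Fin n → ℤ := Function.extend φ x 0
  have ha : ∀ p, a (φ p) = x p := fun p => hφi.extend_apply _ _ p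
  have ha0 : ∀ j, (¬ ∃ p, φ p = j) → a j = 0 := fun j hj => Function.extend_apply' _ _ _ hj
  have key : (∑ q : Fin r × Fin r, x q.1 * x q.2 * ArSurf.inter R X (L' q.2) (Γ q.1)) =
      ∑ q : Fin n × Fin n, a q.1 * a q.2 * ArSurf.inter R X (Li q.2) (Γc q.1) := by
    refine Fintype.sum_of_injective (Prod.map φ φ) (hφi.prodMap hφi) _ _ (fun q hq => ?_) fun q => ?_
    · by_cases h1 : ∃ p, φ p = q.1
      · by_cases h2 : ∃ p, φ p = q.2
        · obtain ⟨p, hp⟩ := h1
          obtain ⟨p', hp'⟩ := h2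
          exact absurd ⟨(p, p'), Prod.ext hp hp'⟩ hq
        · rw [ha0 _ h2]; ring
      · rw [ha0 _ h1]; ring
    · simp only [Prod.map_fst, Prod.map_snd, ha, hterm]
  rw [key]
  refine lt_of_le_of_ne (InterForm.sum_nonpos hΓ Li hLc hreg a) fun h0 => hx ?_
  have haz := eq_zero_of_contracted hΓ Li hLc hnor hdimY f hU y hy hreg a (fun i hi => ?_) h0
  · funext p
    rw [← ha p, haz]
    rfl
  · obtain ⟨p, rfl⟩ : ∃ p, φ p = i := by
      by_contra hh
      exact hi (ha0 i hh)
    rw [← hΓy p]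
    simp only [Scheme.Hom.comp_base, TopCat.coe_comp, Set.range_comp, hφ p]

end Groth.Agent.H26.NegDef
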