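import Groth.Agent.H26.InterForm
import Groth.Prelude.Def_ModelsG

/-!
# Exceptional curves depend only on the image
-/

set_option autoImplicit false
set_option linter.style.haveILetI false
set_option backward.isDefEq.respectTransparency false
set_option backward.isDefEq.respectTransparency.types false
set_option maxHeartbeats 1000000

universe u

open CategoryTheory CategoryTheory.Limits AlgebraicGeometry TopologicalSpace

noncomputable section

namespace Groth.Agent.H26.ExcTransport

/-- Closed immersions with the same kernel are isomorphic. -/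
def isoOfKer {E₁ E₂ Y : Scheme.{u}} (ι₁ : E₁ ⟶ Y) (ι₂ : E₂ ⟶ Y) [IsClosedImmersion ι₁] [IsClosedImmersion ι₂]
    (h : ι₁.ker = ι₂.ker) : E₁ ≅ E₂ where
  hom := IsClosedImmersion.lift ι₂ ι₁ h.ge
  inv := IsClosedImmersion.lift ι₁ ι₂ h.le
  hom_inv_id := by
    rw [← cancel_mono ι₁, Category.assoc, IsClosedImmersion.lift_fac, IsClosedImmersion.lift_fac, Category.id_comp]
  inv_hom_id := by
    rw [← cancel_mono ι₂, Category.assoc, IsClosedImmersion.lift_fac, IsClosedImmersion.lift_fac, Category.id_comp]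

/-- Being an exceptional curve depends only on the kernel. -/
theorem isExcCurve_of_ker {E₁ E₂ Y : Scheme.{u}} (ι₁ : E₁ ⟶ Y) (ι₂ : E₂ ⟶ Y) [IsClosedImmersion ι₁]
    [IsClosedImmersion ι₂] (h : ι₁.ker = ι₂.ker) (h1 : Models.IsExcCurve ι₁) : Models.IsExcCurve ι₂ := by
  obtain ⟨heff, k, hk, e, ⟨φ⟩⟩ := h1
  refine ⟨h ▸ heff, k, hk, e ≪≫ isoOfKer ι₁ ι₂ h, ⟨?_ ≪≫ φ⟩⟩
  refine (Scheme.Modules.pullbackCongr ?_).app _ ≪≫
    (Scheme.Modules.pullback _).mapIso (eqToIso (congrArg ClSub.idealMod h.symm))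
  simp [isoOfKer, IsClosedImmersion.lift_fac]

variable {R : Type u} [CommRing R] [IsDomain R] [IsDiscreteValuationRing R]
  {X : Over (Spec (CommRingCat.of R))}

/-- Being an exceptional vertical curve depends only on the image. -/
theorem isExcCurve_of_range {Γ₁ Γ₂ : ArSurf.VertComp R X} (h : Set.range Γ₁.ι.base = Set.range Γ₂.ι.base)
    (h1 : Models.IsExcCurve Γ₁.ι) : Models.IsExcCurve Γ₂.ι :=
  isExcCurve_of_ker Γ₁.ι Γ₂.ι (InterForm.ker_eq_of_range h) h1

end Groth.Agent.H26.ExcTransport
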