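import Groth.Agent.H26.Chain
import Groth.Agent.H26.EulerGenus
import Groth.Agent.H26.PointConst

/-!
# `h¹` along a computation sequence
-/

set_option autoImplicit false
set_option linter.style.haveILetI false
set_option linter.unusedSectionVars false
set_option backward.isDefEq.respectTransparency false
set_option backward.isDefEq.respectTransparency.types false
set_option maxHeartbeats 1000000

universe u

open CategoryTheory CategoryTheory.Limits AlgebraicGeometry TopologicalSpace Opposite
open Groth.Agent.H23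
open Groth.Agent.PnCoh.Finite (mapLin deltaLin)
open scoped Groth.Agent.H23.PicMul

noncomputable section

namespace Groth.Agent.H26.H1Chain

open EulerFibre

variable {R : Type u} [CommRing R] [IsDomain R] [IsDiscreteValuationRing R] {X : Over (Spec (CommRingCat.of R))}

/-- Monotonicity of the first cohomology in a short exact sequence. -/
theorem h1_le_of_shortExact {S : ShortComplex X.left.Modules} (hS : S.ShortExact) (h₁ : Good X S.X₁)
    (h₂ : Good X S.X₂) : Models.lengthH R X S.X₃ 1 ≤ Models.lengthH R X S.X₂ 1 := by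
  have e2 := length_mid (A := R) _ _ (CurveCohLib.ker_mapLin_g R hS 1)
  have e3 := length_mid (A := R) _ _ (CurveCohLib.ker_deltaLin R hS 1)
  haveI := h₁.2 2 le_rfl
  rw [Module.length_eq_zero (M := LinearMap.range (deltaLin R hS 1)), add_zero] at e3
  refine ENat.toNat_le_toNat ?_ (h₂.1 1 le_rfl)
  rw [e2, e3]
  exact le_add_self

/-- Adding a curve does not decrease `h¹`. -/
theorem h1_step [IsProper X.hom] (Γ : ArSurf.VertComp R X) {J : X.left.IdealSheafData}
    (hJ : BlowUp.IsEffCartierIdeal J) (h : Good X (ClSub.quotMod (J * Γ.ι.ker))) :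
    Models.lengthH R X (ClSub.quotMod J) 1 ≤ Models.lengthH R X (ClSub.quotMod (J * Γ.ι.ker)) 1 := by
  haveI : IsLocallyNoetherian X.left := LocallyOfFiniteType.isLocallyNoetherian X.hom
  have hA := IdealCl.isInvertible_idealMod hJ
  let A := ClSub.idealMod J
  let K := Γ.ι.ker
  haveI := IdealCl.isEquivalence_tensor hA
  haveI : Mono (ClSub.idealModι K) := inferInstanceAs (Mono (kernel.ι _))
  haveI : Mono (ClSub.idealModι J) := inferInstanceAs (Mono (kernel.ι _))
  haveI : Mono (DivisorExt.mulIdeal K A) := by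
    haveI : Mono ((DCoh.tensorBi.obj A).map (ClSub.idealModι K)) := inferInstance
    exact mono_comp _ _
  let f := DivisorExt.mulIdeal K A
  let g : A ⟶ Coh.structureModule X.left := ClSub.idealModι J
  let T : ShortComplex X.left.Modules :=
    ShortComplex.mk (cokernel.map f (f ≫ g) (𝟙 _) g (by simp)) (cokernel.map (f ≫ g) g f (𝟙 _) (by simp))
      ((kernelCokernelCompSequence_exact f g).toIsComplex.zero' 3 4 5)
  have hT : T.ShortExact := by
    have h1 : T.Exact := (kernelCokernelCompSequence_exact f g).exact' 3 4 5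
    haveI : Mono T.f := ((kernelCokernelCompSequence_exact f g).exact' 2 3 4).mono_g
      ((isZero_kernel_of_mono g).eq_of_src _ _)
    haveI : Epi T.g := inferInstanceAs (Epi ((kernelCokernelCompSequence f g).map' 4 5))
    exact ShortComplex.ShortExact.mk h1
  obtain ⟨e₁⟩ := DivisorExt.nonempty_cokernel_mulIdeal K A
  obtain ⟨e₂⟩ := nonempty_tensor_quotMod_iso Γ hA
  obtain ⟨e, he⟩ : ∃ e : (DCoh.tensorBi.obj A).obj (ClSub.idealMod K) ≅ ClSub.idealMod (J * K),
      e.hom ≫ ClSub.idealModι (J * K) = f ≫ g := exists_mul_iso K J hJ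
  have hq : ∀ I : X.left.IdealSheafData, Nonempty (cokernel (ClSub.idealModι I) ≅ ClSub.quotMod I) := fun I =>
    ⟨IsColimit.coconePointUniqueUpToIso (cokernelIsCokernel _) (DivisorExt.ideal_shortExact I).gIsCokernel⟩
  obtain ⟨qJ⟩ := hq J
  obtain ⟨qK⟩ := hq (J * K)
  haveI := ArInter.isProper_curve Γ
  haveI := CurveCohLib.isNoetherian_of_proper (k := IsLocalRing.ResidueField R) (X := Γ.curve.left)
  have hN : PicF.IsInvertible ((Scheme.Modules.pullback Γ.ι).obj A) := PicClLib.isInvertible_pullback Γ.ι hA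
  obtain ⟨h1, -⟩ := good_congr X (e₁ ≪≫ e₂).symm (good_push Γ (AmpleVan.isCoh_invertible hN)).1
  let q₂ := cokernel.mapIso (f ≫ g) (ClSub.idealModι (J * K)) e (Iso.refl _) (by simp [he]) ≪≫ qK
  obtain ⟨h2, -⟩ := good_congr X q₂.symm h
  have h3 := h1_le_of_shortExact hT h1 h2
  have hl : ∀ {M N : X.left.Modules} (_ : M ≅ N), Models.lengthH R X M 1 = Models.lengthH R X N 1 := fun e' =>
    congrArg ENat.toNat (NormalLib.hhIso (A := R) e' 1).length_eq
  have h3' : Models.lengthH R X (cokernel g) 1 ≤ Models.lengthH R X (cokernel (f ≫ g)) 1 := h3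
  rw [hl qJ, hl q₂] at h3'
  exact h3'

/-- `H⁰` of a scheme over `R` is the ring of global functions. -/
theorem length_HH_zero {A : Type u} [CommRing A] {W : Scheme.{u}} [W.Over (Spec (CommRingCat.of A))] :
    (letI : Algebra A Γ(W, ⊤) := ((W ↘ Spec (CommRingCat.of A)).appTop.hom.comp
        (Scheme.ΓSpecIso (CommRingCat.of A)).inv.hom).toAlgebra
     Module.length A Γ(W, ⊤)) = Module.length A (Coh.HH W (Coh.structureModule W) 0) := by
  let ρ := (W ↘ Spec (CommRingCat.of A)).appTop.hom.comp (Scheme.ΓSpecIso (CommRingCat.of A)).inv.hom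
  letI : Algebra A Γ(W, ⊤) := ρ.toAlgebra
  let e : Coh.HH W (Coh.structureModule W) 0 ≃+ Γ(W, ⊤) :=
    Sheaf.H.equiv₀ (Coh.toAb (Coh.structureModule W)) isTerminalTop
  have he : ∀ (r : Coh.Γtop W) (x : Coh.HH W (Coh.structureModule W) 0),
      e (r • x) = (show Γ(W, ⊤) from r) * e x := by
    intro r x
    have h := (Sheaf.H.equiv₀_naturality isTerminalTop (Coh.smulAb (Coh.structureModule W) r) x).symm
    refine (show e (r • x) = _ from h).trans ?_
    show (show Γ(W, ⊤) from Coh.resTop W (Opposite.op ⊤) r) * e x = _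
    congr 1
    show (W.presheaf.map (homOfLE le_top).op).hom r = r
    rw [show (homOfLE le_top).op = 𝟙 (Opposite.op (⊤ : W.Opens)) from rfl, W.presheaf.map_id]
    rfl
  let eL : Coh.HH W (Coh.structureModule W) 0 ≃ₗ[A] Γ(W, ⊤) := { e with map_smul' := fun c x => he _ x }
  exact eL.length_eq.symm

/-- A field of constants mapping to a ring of length one has length one. -/
theorem lengthH_zero_eq_one [IsProper X.hom] {J J₀ : X.left.IdealSheafData} (hle : J ≤ J₀) (hJ : Chain.Fld J)
    (h₀ : Models.lengthH R X (ClSub.quotMod J₀) 0 = 1) : Models.lengthH R X (ClSub.quotMod J) 0 = 1 := by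
  have key : ∀ I : X.left.IdealSheafData, (letI := (Chain.rho X I).toAlgebra
      Module.length R Γ(I.subscheme, ⊤)) = Module.length R (Coh.HH X.left (ClSub.quotMod I) 0) := fun I => by
    letI : I.subscheme.Over (Spec (CommRingCat.of R)) := ⟨I.subschemeι ≫ X.hom⟩
    obtain ⟨a⟩ := PnCoh.exists_linearEquiv_push R I.subschemeι (P := X.left) rfl
      (QCoh.isQCoh_structureModule (X := I.subscheme)) 0
    exact (length_HH_zero (A := R) (W := I.subscheme)).trans a.length_eq
  letI := (Chain.rho X J).toAlgebra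
  letI := (Chain.rho X J₀).toAlgebra
  letI := hJ.1.toField
  let φ : Γ(J.subscheme, ⊤) →ₐ[R] Γ(J₀.subscheme, ⊤) :=
    { (Scheme.IdealSheafData.inclusion hle).appTop.hom with commutes' := Chain.rho_inclusion hle }
  have h1 : Module.length R Γ(J₀.subscheme, ⊤) = 1 := by
    have h : (Module.length R (Coh.HH X.left (ClSub.quotMod J₀) 0)).toNat = 1 := h₀
    rw [← key] at h
    exact (ENat.toNat_eq_iff one_ne_zero).1 h
  haveI : Nontrivial Γ(J₀.subscheme, ⊤) := by
    by_contra hn
    rw [not_nontrivial_iff_subsingleton] at hn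
    rw [Module.length_eq_zero] at h1
    exact zero_ne_one h1
  have h2 : Module.length R Γ(J.subscheme, ⊤) ≤ 1 :=
    h1 ▸ Module.length_le_of_injective φ.toLinearMap (RingHom.injective φ.toRingHom)
  have h3 : 0 < Module.length R Γ(J.subscheme, ⊤) := Module.length_pos
  show (Module.length R (Coh.HH X.left (ClSub.quotMod J) 0)).toNat = 1
  rw [← key, le_antisymm h2 (Order.one_le_iff_pos.2 h3)]
  rfl

variable {n : ℕ} {Γc : Fin n → ArSurf.VertComp R X} (D : VertClass.Data X Γc)

include D in
/-- One step along the sequence. -/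
theorem h1_single (a : Fin n → ℕ) (i : Fin n) :
    Models.lengthH R X (ClSub.quotMod (∏ j, (Γc j).ι.ker ^ a j)) 1 ≤
      Models.lengthH R X (ClSub.quotMod (∏ j, (Γc j).ι.ker ^ (a + Pi.single i 1 : Fin n → ℕ) j)) 1 := by
  classical
  haveI := D.proper
  obtain ⟨hJ, -⟩ := IdealCl.eff_and_cl_prod Finset.univ (fun j => (Γc j).ι.ker) D.heff a
  have hprod : ∏ j, (Γc j).ι.ker ^ (a + Pi.single i 1 : Fin n → ℕ) j =
      (∏ j, (Γc j).ι.ker ^ a j) * (Γc i).ι.ker := by
    simp only [Pi.add_apply, pow_add, Finset.prod_mul_distrib, Pi.single_apply, pow_ite, pow_one, pow_zero,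
      Finset.prod_ite_eq', Finset.mem_univ, if_true]
  have hg := (good_prod D _ (a + Pi.single i 1) rfl).1
  rw [hprod] at hg ⊢
  exact h1_step (Γc i) hJ hg

/-- Products decrease with the exponents. -/
theorem prod_le_prod (a b : Fin n → ℕ) (h : b ≤ a) :
    ∏ j, (Γc j).ι.ker ^ a j ≤ ∏ j, (Γc j).ι.ker ^ b j := by
  have e : ∏ j, (Γc j).ι.ker ^ a j = (∏ j, (Γc j).ι.ker ^ b j) * ∏ j, (Γc j).ι.ker ^ (a j - b j) := by
    rw [← Finset.prod_mul_distrib]
    exact Finset.prod_congr rfl fun j _ => by rw [← pow_add, Nat.add_sub_cancel' (h j)]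
  rw [e]
  exact fun U => Ideal.mul_le_left (I := (∏ j, (Γc j).ι.ker ^ b j : X.left.IdealSheafData).ideal U)
    (J := (∏ j, (Γc j).ι.ker ^ (a j - b j) : X.left.IdealSheafData).ideal U)

end Groth.Agent.H26.H1Chain
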