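import Groth.Agent.H26.InterSymm
import Groth.Agent.H26.H1Chain
import Groth.Agent.CurveEmbed.Line

/-!
# Two curves with intersection number one meet in a reduced rational point
-/

set_option autoImplicit false
set_option linter.style.haveILetI false
set_option linter.unusedSectionVars false
set_option backward.isDefEq.respectTransparency false
set_option backward.isDefEq.respectTransparency.types false
set_option maxHeartbeats 1000000

universe u

open CategoryTheory CategoryTheory.Limits AlgebraicGeometry TopologicalSpace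

noncomputable section

namespace Groth.Agent.H26.OnePoint

variable {R : Type u} [CommRing R] [IsDomain R] [IsDiscreteValuationRing R]
  {X : Over (Spec (CommRingCat.of R))} [IsProper X.hom]

/-- A closed subscheme of the union of finitely many closed points with constants `k` is a rational point. -/
theorem eq_vanishingIdeal_of_length_one {I : X.left.IdealSheafData}
    (hfin : ∀ x ∈ (I.support : Set X.left), IsClosed ({x} : Set X.left))
    (h1 : Models.lengthH R X (ClSub.quotMod I) 0 = 1) :
    ∃ x : X.left, (I.support : Set X.left) = {x} ∧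
      I = Scheme.IdealSheafData.vanishingIdeal ⟨closure {x}, isClosed_closure⟩ ∧
      Function.Surjective ((X.left.residue x).hom.comp (Models.stalkHom R X x)) := by
  haveI : IsLocallyNoetherian X.left := LocallyOfFiniteType.isLocallyNoetherian X.hom
  haveI : CompactSpace X.left := QuasiCompact.compactSpace_of_compactSpace X.hom
  let Z := I.subscheme
  let q := I.subschemeι ≫ X.hom
  haveI : IsLocallyNoetherian Z := LocallyOfFiniteType.isLocallyNoetherian I.subschemeι
  haveI : CompactSpace Z := QuasiCompact.compactSpace_of_compactSpace q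
  have hcl : ∀ z : Z, IsClosed ({z} : Set Z) := fun z => by
    have hz : I.subschemeι z ∈ (I.support : Set X.left) := by
      rw [← I.range_subschemeι]; exact ⟨z, rfl⟩
    have : ({z} : Set Z) = I.subschemeι ⁻¹' {I.subschemeι z} := by
      ext w
      exact ⟨fun h => congrArg _ h, fun h => I.subschemeι.isEmbedding.injective h⟩
    rw [this]
    exact (hfin _ hz).preimage I.subschemeι.continuous
  haveI : IsLocallyArtinian Z := IsLocallyArtinian.of_topologicalKrullDim_le_zero (by
    rw [topologicalKrullDim, Order.krullDim_eq_of_orderIso irreducibleSetEquivPoints,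
      Order.krullDim_nonpos_iff_forall_isMax]
    exact fun z w (hw : w ⤳ z) => specializes_of_eq ((hcl w).closure_eq ▸ hw.mem_closure : z ∈ ({w} : Set Z)))
  haveI : IsArtinianScheme Z := {}
  haveI : LocallyQuasiFinite q := LocallyQuasiFinite.of_finite_preimage_singleton q fun _ => Set.toFinite _
  haveI : IsFinite q := IsFinite.of_isProper_of_locallyQuasiFinite q
  haveI : IsAffine Z := isAffine_of_isAffineHom q
  letI : Z.Over (Spec (CommRingCat.of R)) := ⟨q⟩
  letI := (Chain.rho X I).toAlgebra
  obtain ⟨a⟩ := PnCoh.exists_linearEquiv_push R I.subschemeι (P := X.left) rfl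
    (QCoh.isQCoh_structureModule (X := Z)) 0
  have hlen : Module.length R Γ(Z, ⊤) = 1 := by
    have h : (Module.length R (Coh.HH X.left (ClSub.quotMod I) 0)).toNat = 1 := h1
    rw [← a.length_eq, ← H1Chain.length_HH_zero (A := R) (W := Z)] at h
    exact (ENat.toNat_eq_iff one_ne_zero).1 h
  haveI hsimp : IsSimpleModule R Γ(Z, ⊤) := Module.length_eq_one_iff.1 hlen
  haveI : Nontrivial Γ(Z, ⊤) := IsSimpleModule.nontrivial R _
  have hsurj : Function.Surjective (algebraMap R Γ(Z, ⊤)) := fun b => by
    obtain ⟨r, hr⟩ := IsSimpleModule.toSpanSingleton_surjective R (one_ne_zero : (1 : Γ(Z, ⊤)) ≠ 0) b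
    exact ⟨r, by rw [Algebra.algebraMap_eq_smul_one]; exact hr⟩
  have hfield : IsField Γ(Z, ⊤) := by
    haveI : (RingHom.ker (algebraMap R Γ(Z, ⊤))).IsMaximal := by
      have e := (Algebra.linearMap R Γ(Z, ⊤)).quotKerEquivOfSurjective hsurj
      haveI : IsSimpleModule R (R ⧸ LinearMap.ker (Algebra.linearMap R Γ(Z, ⊤))) := IsSimpleModule.congr e
      exact Ideal.isMaximal_def.2 (isSimpleModule_iff_isCoatom.1 this)
    exact MulEquiv.isField ((Ideal.Quotient.maximal_ideal_iff_isField_quotient _).1 this)
      (RingHom.quotientKerEquivOfSurjective hsurj).symm.toMulEquiv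
  letI := hfield.toField
  have hsub : Subsingleton Z := by
    haveI : Subsingleton ↥(Spec Γ(Z, ⊤)) := inferInstanceAs (Subsingleton (PrimeSpectrum Γ(Z, ⊤)))
    exact Z.isoSpec.hom.homeomorph.toEquiv.subsingleton
  haveI : IsReduced Z := by
    haveI : _root_.IsReduced Γ(Z, ⊤) := inferInstance
    exact isReduced_of_isOpenImmersion Z.isoSpec.hom
  obtain ⟨z⟩ : Nonempty Z := by
    haveI : Nonempty ↥(Spec Γ(Z, ⊤)) := inferInstanceAs (Nonempty (PrimeSpectrum Γ(Z, ⊤)))
    exact Z.isoSpec.hom.homeomorph.toEquiv.nonempty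
  have hsupp : (I.support : Set X.left) = {I.subschemeι z} := by
    rw [← I.range_subschemeι]
    ext x
    exact ⟨fun ⟨w, hw⟩ => by rw [← hw, Subsingleton.elim w z]; rfl, fun h => ⟨z, h.symm⟩⟩
  refine ⟨I.subschemeι z, hsupp, ?_, ?_⟩
  · have hrad : I.radical = I := by
      refine Scheme.IdealSheafData.ext (funext fun U => ?_)
      show (I.ideal U).radical = I.ideal U
      refine le_antisymm ?_ Ideal.le_radical
      intro f ⟨k, hk⟩
      haveI : _root_.IsReduced (Γ(X.left, U.1) ⧸ I.ideal U) :=
        isReduced_of_injective (I.subschemeObjIso U).commRingCatIsoToRingEquiv.symm.toRingHom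
          (I.subschemeObjIso U).commRingCatIsoToRingEquiv.symm.injective
      rw [← Ideal.Quotient.eq_zero_iff_mem] at hk ⊢
      rw [map_pow] at hk
      exact eq_zero_of_pow_eq_zero hk
    conv_lhs => rw [← hrad, ← Scheme.IdealSheafData.vanishingIdeal_support]
    congr 1
    ext1
    show (I.support : Set X.left) = closure {I.subschemeι z}
    rw [hsupp, (hfin _ (by rw [hsupp]; rfl)).closure_eq]
  · intro c
    let φ : Γ(Z, ⊤) →+* Z.residueField z := (Z.residue z).hom.comp (Z.presheaf.germ ⊤ z trivial).hom
    have hφ : Function.Surjective φ := by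
      intro d
      obtain ⟨d, rfl⟩ := Z.residue_surjective z d
      letI : Algebra Γ(Z, ⊤) (Z.presheaf.stalk z) := (Z.presheaf.germ ⊤ z trivial).hom.toAlgebra
      haveI := (isAffineOpen_top Z).isLocalization_stalk ⟨z, trivial⟩
      obtain ⟨⟨b, s⟩, hs⟩ := IsLocalization.surj ((isAffineOpen_top Z).primeIdealOf ⟨z, trivial⟩).asIdeal.primeCompl d
      refine ⟨b * s.1⁻¹, ?_⟩
      have hs0 : (s.1 : Γ(Z, ⊤)) ≠ 0 := fun h => s.2 (h ▸ Ideal.zero_mem _)
      show Z.residue z (algebraMap Γ(Z, ⊤) (Z.presheaf.stalk z) (b * s.1⁻¹)) = _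
      rw [map_mul, ← hs, mul_assoc, ← map_mul, mul_inv_cancel₀ hs0, map_one, mul_one]
    have hres : Function.Injective (I.subschemeι.residueFieldMap z) :=
      (I.subschemeι.residueFieldMap z).hom.injective
    obtain ⟨b, hb⟩ := hφ (I.subschemeι.residueFieldMap z c)
    obtain ⟨r, rfl⟩ := hsurj b
    refine ⟨r, hres ?_⟩
    rw [← hb]
    show I.subschemeι.residueFieldMap z (X.left.residue (I.subschemeι z) (Models.stalkHom R X (I.subschemeι z) r)) =
      Z.residue z (Z.presheaf.germ ⊤ z trivial (q.appTop ((Scheme.ΓSpecIso (CommRingCat.of R)).inv r)))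
    refine (ConcreteCategory.congr_hom (Scheme.residue_residueFieldMap I.subschemeι z) _).trans ?_
    exact congrArg (Z.residue z) (Scheme.Hom.germ_stalkMap_apply I.subschemeι ⊤ z trivial _)

end Groth.Agent.H26.OnePoint
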