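import Groth.Agent.H26.ExcCrit
import Groth.Agent.H26.VertApply
import Groth.Agent.H26.OnePoint

/-!
# Two exceptional curves that meet
-/

set_option autoImplicit false
set_option linter.style.haveILetI false
set_option linter.unusedSectionVars false
set_option backward.isDefEq.respectTransparency false
set_option backward.isDefEq.respectTransparency.types false
set_option maxHeartbeats 1000000

universe u

open CategoryTheory CategoryTheory.Limits AlgebraicGeometry TopologicalSpace
open Groth.Agent.H23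
open scoped Groth.Agent.H23.PicMul

noncomputable section

namespace Groth.Agent.H26.ExcMeet

variable {R : Type u} [CommRing R] [IsDomain R] [IsDiscreteValuationRing R]
  {X : Over (Spec (CommRingCat.of R))} {n : ℕ} {Γ : Fin n → ArSurf.VertComp R X}
  (D : VertClass.Data X Γ)

include D in
/-- An exceptional curve with constants `k` is the line over `k`. -/
theorem exists_iso_line [IsProper X.hom] (i : Fin n) (h1 : Models.h1 R X (Γ i) = 0) (hw : Models.wdeg R X (Γ i) = 1)
    (hin : ArSurf.inter R X (D.L i) (Γ i) = -1) :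
    ∃ e : (Γ i).curve.left ≅ CohB1.ProjSpace 1 (IsLocalRing.ResidueField R),
      e.hom ≫ CohB1.ProjSpace.toSpec 1 (IsLocalRing.ResidueField R) = (Γ i).curve.hom := by
  let k := IsLocalRing.ResidueField R
  let Y := (Γ i).curve.left
  haveI : IsProper ((Γ i).curve.left ↘ Spec (CommRingCat.of k)) := ArInter.isProper_curve (Γ i)
  haveI := CurveCohLib.isNoetherian_of_proper (k := k) (X := Y)
  let A := (Scheme.Modules.pullback (Γ i).ι).obj (ClSub.idealMod (Γ i).ι.ker)
  have hI : PicF.IsInvertible (ClSub.idealMod (Γ i).ι.ker) := IdealCl.isInvertible_idealMod (D.heff i)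
  have hAi : PicF.IsInvertible A := PicClLib.isInvertible_pullback (Γ i).ι hI
  have hdegk : FGA.eulerCharLE k Y A 1 - FGA.eulerCharLE k Y (Coh.structureModule Y) 1 = 1 := by
    have h := ArInter.inter_congr (Γ i) (PicMul.isInvertible_tensor (D.isInvertible i) hI)
      (M := Coh.structureModule X.left) (PicMul.cl_eq_iff.2 (D.hL i))
    rw [ArInter.inter_tensor (Γ i) (D.isInvertible i) hI, ArInter.inter_structure, hin] at h
    show ArSurf.inter R X (ClSub.idealMod (Γ i).ι.ker) (Γ i) = _
    linarith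
  have hd : Curv2.deg k Y A 1 = (1 : ℕ) := by
    simp only [FGA.eulerCharLE, Finset.sum_range_succ, Finset.sum_range_zero] at hdegk
    unfold Curv2.deg
    rw [CurveRR.euler_eq_h0_sub_h1 (k := k) (Γ i).dim_eq.le (AmpleVan.isCoh_invertible hAi).1,
      CurveRR.euler_eq_h0_sub_h1 (k := k) (Γ i).dim_eq.le (QCoh.isQCoh_structureModule (X := Y))]
    push_cast
    linarith
  obtain ⟨ι, hι, hfac, -⟩ := S1636.result k Y (Γ i).dim_eq hw h1 A hAi 1 one_pos hd
  haveI := hι
  haveI : IsIso ι := CurveEmbed.isIso_of_closedImmersion_line k (Γ i).dim_eq ι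
  exact ⟨asIso ι, hfac⟩

include D in
/-- The numbers for two exceptional curves that meet. -/
theorem numbers (hconn : _root_.IsConnected (Models.specialFibreSet R X)) {i j : Fin n} (hij : i ≠ j)
    (hi : Models.IsExcCurve (Γ i).ι) (hj : Models.IsExcCurve (Γ j).ι)
    (hmeet : ¬ Disjoint (Set.range (Γ i).ι.base) (Set.range (Γ j).ι.base)) :
    (∀ l, l = i ∨ l = j) ∧ Models.mult R X (Γ i) = Models.mult R X (Γ j) ∧
      Models.wdeg R X (Γ i) = Models.wdeg R X (Γ j) ∧
      (ArSurf.inter R X (D.L j) (Γ i) = (Models.wdeg R X (Γ i) : ℤ)) := by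
  classical
  haveI := D.proper
  haveI := D.flat
  obtain ⟨-, ei⟩ := ExcCrit.invariants_of_exc (Γ i) (D.heff i) (D.hL i) hi
  obtain ⟨-, ej⟩ := ExcCrit.invariants_of_exc (Γ j) (D.heff j) (D.hL j) hj
  set x := ArSurf.inter R X (D.L j) (Γ i) with hx
  have hx' : ArSurf.inter R X (D.L i) (Γ j) = x :=
    InterForm.inter_symm D.hΓ D.L D.hL D.hreg j i
  have hx0 : 0 < x := lt_of_le_of_ne (InterForm.inter_offDiag D.hΓ D.L D.hL D.hreg hij).1
    fun h => hmeet ((InterForm.inter_offDiag D.hΓ D.L D.hL D.hreg hij).2.1 h.symm)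
  have hdi : (Models.wdeg R X (Γ i) : ℤ) ∣ x := WDeg.wdeg_dvd_inter (Γ i) (D.isInvertible j)
  have hdj : (Models.wdeg R X (Γ j) : ℤ) ∣ x := hx' ▸ WDeg.wdeg_dvd_inter (Γ j) (D.isInvertible i)
  have hli := Int.le_of_dvd hx0 hdi
  have hlj := Int.le_of_dvd hx0 hdj
  let a : Fin n → ℤ := fun l => (if l = i then 1 else 0) + if l = j then 1 else 0
  have hQ : (∑ q : Fin n × Fin n, a q.1 * a q.2 * ArSurf.inter R X (D.L q.2) (Γ q.1)) =
      (-(Models.wdeg R X (Γ i) : ℤ) + x) + (x + -(Models.wdeg R X (Γ j) : ℤ)) := by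
    rw [Fintype.sum_prod_type]
    simp only [a, add_mul, mul_add, mul_ite, ite_mul, one_mul, zero_mul, mul_one, mul_zero,
      Finset.sum_add_distrib, Finset.sum_ite_eq', Finset.mem_univ, if_true, Finset.sum_ite_irrel, Finset.sum_const_zero]
    rw [ei, ej, hx', ← hx]
  have hle := InterForm.sum_nonpos D.hΓ D.L D.hL D.hreg a
  rw [hQ] at hle
  have hxi : x = (Models.wdeg R X (Γ i) : ℤ) := by omega
  have hxj : x = (Models.wdeg R X (Γ j) : ℤ) := by omega
  have hzero : (∑ q : Fin n × Fin n, a q.1 * a q.2 * ArSurf.inter R X (D.L q.2) (Γ q.1)) = 0 := by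
    rw [hQ]; omega
  obtain ⟨c, hc⟩ := (InterForm.sum_eq_zero_iff D.hΓ D.L D.hL D.hreg hconn a).1 hzero
  have hci := hc i
  have hcj := hc j
  simp only [a, if_true, if_neg hij, if_neg (Ne.symm hij), add_zero, zero_add, Int.cast_one] at hci hcj
  have hc0 : c ≠ 0 := fun h => by rw [h, zero_mul] at hci; exact one_ne_zero hci
  refine ⟨fun l => ?_, ?_, ?_, hxi⟩
  · by_contra hl
    rw [not_or] at hl
    have := hc l
    simp only [a, if_neg hl.1, if_neg hl.2, add_zero, Int.cast_zero] at this
    rcases mul_eq_zero.1 this.symm with h | h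
    · exact hc0 h
    · exact (InterForm.mult_pos D.hΓ D.hreg l).ne' (Nat.cast_eq_zero.1 h)
  · exact_mod_cast mul_left_cancel₀ hc0 (hci.symm.trans hcj)
  · exact_mod_cast hxi.symm.trans hxj

end Groth.Agent.H26.ExcMeet
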