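import Groth.Agent.QCoh.RpushModel
import Groth.Agent.CurveBC.Coh
import Groth.Agent.ConsPropLib.CoreProper
import Groth.Agent.LimSm.Flat
import Groth.Agent.LimSm.Model
import Groth.Agent.QCoh.DevissageP
import Groth.Agent.S2380
import Groth.Prelude.Def_ModelsG

/-!
# Cohomology of the fibres of a flat proper morphism of finite presentation

Locally on an arbitrary base it is computed by a finite free complex over a noetherian ring.
-/

set_option autoImplicit false
set_option backward.isDefEq.respectTransparency false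
set_option backward.isDefEq.respectTransparency.types false
set_option linter.style.haveILetI false

universe u

open CategoryTheory CategoryTheory.Limits AlgebraicGeometry

namespace Groth.Agent.H26.FibModel

theorem isFlatOver_structureModule {X S : Scheme.{u}} (f : X ⟶ S) [Flat f] :
    FlatMod.IsFlatOver f (Coh.structureModule X) := by
  intro x
  obtain ⟨_, ⟨V, hV, rfl⟩, hxV, -⟩ :=
    S.isBasis_affineOpens.exists_subset_of_mem_open (Set.mem_univ (f.base x)) isOpen_univ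
  obtain ⟨_, ⟨U, hU, rfl⟩, hxU, hUV⟩ :=
    X.isBasis_affineOpens.exists_subset_of_mem_open (show x ∈ (f ⁻¹ᵁ V : Set X) from hxV) (f ⁻¹ᵁ V).2
  refine (QCoh.flat_appLE_iff f (PnCoh.isQCoh_structureModule X) hU hV hUV).1 ?_ x hxU
  exact HasRingHomProperty.appLE @Flat f inferInstance ⟨V, hV⟩ ⟨U, hU⟩ hUV

/-- `P` over `A₀` computes the cohomology of the structure sheaf over every ring over the open `V`. -/
def IsModel {X S : Scheme.{u}} (f : X ⟶ S) {V : S.Opens} (hV : IsAffineOpen V) {A₀ : Type u} [CommRing A₀]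
    (ι : A₀ →+* Γ(S, V)) (P : ChainComplex (ModuleCat.{u} A₀) ℤ) : Prop :=
  (∀ i, Module.Finite A₀ (P.X i)) ∧ (∀ i, Module.Free A₀ (P.X i)) ∧
  (∀ q : ℤ, 0 < q → ∀ M : ModuleCat.{u} A₀, IsZero (CohIII.T P q M)) ∧
  ∀ (B : Type u) [CommRing B] (φ : Γ(S, V) →+* B) (X' : Scheme.{u}) (g : X' ⟶ X)
    (pB : X' ⟶ Spec (CommRingCat.of B)),
    IsPullback g pB f (Spec.map (CommRingCat.ofHom φ) ≫ hV.fromSpec) → ∀ p : ℕ,
    letI := QCoh.modHH (Coh.toGlobal pB) (Coh.structureModule X') p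
    Nonempty (Coh.HH X' (Coh.structureModule X') p ≃ₗ[B]
      (CohIII.bcCx (φ.comp ι) P).homology (-(p : ℤ)))

theorem exists_isModel {X S : Scheme.{u}} (f : X ⟶ S) [Flat f] [IsProper f]
    [LocallyOfFinitePresentation f] {V : S.Opens} (hV : IsAffineOpen V) :
    ∃ (A₀ : Type u) (_ : CommRing A₀) (_ : IsNoetherianRing A₀) (ι : A₀ →+* Γ(S, V))
      (P : ChainComplex (ModuleCat.{u} A₀) ℤ), IsModel f hV ι P := by
  let U : X.Opens := f ⁻¹ᵁ V
  let fV : (U : Scheme.{u}) ⟶ Spec (CommRingCat.of Γ(S, V)) := QCoh.overSpec f hV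
  have hpb := QCoh.isPullback_overSpec (f := f) hV
  haveI : Flat fV := MorphismProperty.of_isPullback hpb ‹Flat f›
  haveI : IsProper fV := MorphismProperty.of_isPullback hpb ‹IsProper f›
  haveI : LocallyOfFinitePresentation fV := MorphismProperty.of_isPullback hpb ‹LocallyOfFinitePresentation f›
  obtain ⟨A₀, hfg, X₀, f₀, g₀, hfl, hpr, -, -, -, hsq⟩ :=
    LimSm.exists_model_over_fg (P := @Flat) (P' := @IsProper)
      (Q := @LocallyOfFinitePresentation) (Q' := @LocallyOfFinitePresentation)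
      LimSm.core_flat ConsPropLib.core_isProper (fun _ h => h) (fun _ h => h) Γ(S, V) fV
      ‹Flat fV› ‹IsProper fV›
  haveI := hfl
  haveI := hpr
  haveI : IsNoetherianRing ↥A₀ := by
    haveI : Algebra.FiniteType ℤ A₀ := (Subalgebra.fg_iff_finiteType A₀).1 hfg
    exact Algebra.FiniteType.isNoetherianRing ℤ _
  haveI : IsLocallyNoetherian X₀ := LocallyOfFiniteType.isLocallyNoetherian f₀
  letI : X₀.Over (Spec (CommRingCat.of ↥A₀)) := ⟨f₀⟩
  haveI : IsProper (X₀ ↘ Spec (CommRingCat.of ↥A₀)) := hpr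
  obtain ⟨P, hP⟩ := QCoh.exists_isBCModel (Coh.structureModule X₀) QCoh.isCoh_structureModule'
    (isFlatOver_structureModule f₀)
  refine ⟨A₀, inferInstance, inferInstance, algebraMap (↥A₀) Γ(S, V), P, hP.1, hP.2.1, hP.2.2.2.1,
    fun B _ φ X' g pB h p => ?_⟩
  let g₁ : X' ⟶ (U : Scheme.{u}) :=
    hpb.lift g (pB ≫ Spec.map (CommRingCat.ofHom φ)) (by rw [Category.assoc]; exact h.w)
  have hg : g₁ ≫ U.ι = g := hpb.lift_fst _ _ _
  have hsq₁ : IsPullback g₁ pB fV (Spec.map (CommRingCat.ofHom φ)) :=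
    IsPullback.of_right (by rw [hg]; exact h) (hpb.lift_snd _ _ _) hpb
  have hsq₂ : IsPullback (g₁ ≫ g₀) pB f₀
      (Spec.map (CommRingCat.ofHom (φ.comp (algebraMap (↥A₀) Γ(S, V))))) := by
    rw [CommRingCat.ofHom_comp, Spec.map_comp]
    exact hsq₁.paste_horiz hsq
  obtain ⟨e⟩ := hP.2.2.2.2.2 B _ X' (g₁ ≫ g₀) pB hsq₂ p
  exact ⟨(QCoh.HHcongr (Coh.toGlobal pB) (CurveBC.unitIso (g₁ ≫ g₀)) p).symm.trans e⟩

section

variable {X S : Scheme.{u}} {f : X ⟶ S} {V : S.Opens} {hV : IsAffineOpen V} {A₀ : Type u} [CommRing A₀]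
  {ι : A₀ →+* Γ(S, V)} {P : ChainComplex (ModuleCat.{u} A₀) ℤ}

theorem IsModel.flat (hP : IsModel f hV ι P) (i : ℤ) : Module.Flat A₀ (P.X i) :=
  @Module.Flat.of_free _ _ _ _ _ (hP.2.1 i)

theorem comap_primeIdealOf (y : S) (hy : y ∈ V) :
    RingHom.ker ((QCoh.evalV y hy).comp ι) =
      (PrimeSpectrum.comap ι (hV.primeIdealOf ⟨y, hy⟩)).asIdeal := by
  ext a
  rw [RingHom.mem_ker, RingHom.comp_apply, PrimeSpectrum.comap_asIdeal, Ideal.mem_comap, ← QCoh.ker_evalV hV hy,
    RingHom.mem_ker]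

theorem isPullback_fiber (y : S) (hy : y ∈ V) :
    IsPullback (f.fiberι y) (f.fiberToSpecResidueField y) f
      (Spec.map (CommRingCat.ofHom (QCoh.evalV y hy)) ≫ hV.fromSpec) := by
  have hφ : Spec.map (CommRingCat.ofHom (QCoh.evalV y hy)) ≫ hV.fromSpec = S.fromSpecResidueField y := by
    show Spec.map (S.presheaf.germ V y hy ≫ S.residue y) ≫ _ = _
    rw [Spec.map_comp, Category.assoc, Scheme.fromSpecResidueField]
    exact congrArg (Spec.map (S.residue y) ≫ ·) (hV.fromSpecStalk_eq_fromSpecStalk hy)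
  rw [hφ]
  exact IsPullback.of_hasPullback _ _

/-- The ranks of the cohomology of the fibres. -/
theorem IsModel.hRank (hP : IsModel f hV ι P) (y : S) (hy : y ∈ V) (p : ℕ) :
    Models.hRank ↥(S.residueField y) (f.fiber y) (f.fiberToSpecResidueField y)
        (Coh.structureModule (f.fiber y)) p =
      CohIII.dRank P (-(p : ℤ)) (PrimeSpectrum.comap ι (hV.primeIdealOf ⟨y, hy⟩)) ∧
    (letI := QCoh.modHH (A := ↥(S.residueField y)) (Coh.toGlobal (A := ↥(S.residueField y)) (f.fiberToSpecResidueField y)) (Coh.structureModule (f.fiber y)) p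
     Module.Finite ↥(S.residueField y) (Coh.HH (f.fiber y) (Coh.structureModule (f.fiber y)) p)) := by
  letI := QCoh.modHH (A := ↥(S.residueField y)) (Coh.toGlobal (A := ↥(S.residueField y)) (f.fiberToSpecResidueField y))
    (Coh.structureModule (f.fiber y)) p
  obtain ⟨e⟩ := hP.2.2.2 ↥(S.residueField y) (QCoh.evalV y hy) _ _ _ (isPullback_fiber y hy) p
  haveI := QCoh.finite_homology_bc ((QCoh.evalV y hy).comp ι) P hP.1 (-(p : ℤ))
  exact ⟨e.finrank_eq.trans (QCoh.finrank_bc_eq_dRank _ P _ (comap_primeIdealOf y hy) _),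
    Module.Finite.equiv e.symm⟩

end

/-- Upper semicontinuity of the ranks of the cohomology of the structure sheaf of the fibres. -/
theorem isOpen_hRank_lt {X S : Scheme.{u}} (f : X ⟶ S) [Flat f] [IsProper f]
    [LocallyOfFinitePresentation f] (p n : ℕ) :
    IsOpen {s : S | Models.hRank ↥(S.residueField s) (f.fiber s) (f.fiberToSpecResidueField s)
      (Coh.structureModule (f.fiber s)) p < n} := by
  rw [isOpen_iff_forall_mem_open]
  intro y hy
  obtain ⟨_, ⟨V, hV, rfl⟩, hyV, -⟩ :=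
    S.isBasis_affineOpens.exists_subset_of_mem_open (Set.mem_univ y) isOpen_univ
  obtain ⟨A₀, _, _, ι, P, hP⟩ := exists_isModel f (V := V) hV
  have hO : IsOpen {x : PrimeSpectrum A₀ | CohIII.dRank P (-(p : ℤ)) x < n} :=
    upperSemicontinuous_iff_isOpen_preimage.1 (S2380.result P (fun i => ⟨hP.1 i, hP.flat i⟩) _) n
  let W : Set ↥V := (fun z => PrimeSpectrum.comap ι (IsAffineOpen.primeIdealOf hV z)) ⁻¹'
    {x | CohIII.dRank P (-(p : ℤ)) x < n}
  have hW : IsOpen W := by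
    refine hO.preimage ?_
    exact (PrimeSpectrum.continuous_comap ι).comp (Scheme.Hom.continuous (IsAffineOpen.isoSpec hV).hom)
  refine ⟨Subtype.val '' W, ?_, V.2.isOpenEmbedding_subtypeVal.isOpenMap _ hW, ⟨y, hyV⟩, ?_, rfl⟩
  · rintro _ ⟨⟨z, hz⟩, hzW, rfl⟩
    exact lt_of_eq_of_lt (hP.hRank z hz p).1 hzW
  · show CohIII.dRank P (-(p : ℤ)) (PrimeSpectrum.comap ι (IsAffineOpen.primeIdealOf hV ⟨y, hyV⟩)) < n
    exact lt_of_eq_of_lt (hP.hRank y hyV p).1.symm hy

end Groth.Agent.H26.FibModel
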