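import Groth.Agent.QCoh.LocalExchange
import Mathlib.RingTheory.LocalRing.Module

/-!
# A faithful kernel element forces a free cokernel

If the reduction of a map of finite free modules over a local ring has one-dimensional kernel and the
kernel contains an element with zero annihilator, then the cokernel is free.
-/

set_option autoImplicit false
set_option backward.isDefEq.respectTransparency.types false
set_option linter.style.haveILetI false

universe u

open CategoryTheory TensorProduct

namespace Groth.Agent.H26.H0Alg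

/-- Vectors whose images form a basis of the range. -/
theorem exists_range_lift {K : Type u} [Field K] {V V' : Type u} [AddCommGroup V] [Module K V]
    [AddCommGroup V'] [Module K V'] [Module.Finite K V'] (φ : V →ₗ[K] V') :
    ∃ v : Fin (Module.finrank K (LinearMap.range φ)) → V, LinearIndependent K (fun i => φ (v i)) := by
  let b := Module.finBasis K (LinearMap.range φ)
  choose v hv using fun i => (b i).2
  refine ⟨v, ?_⟩
  simp only [hv]
  exact b.linearIndependent.map' (LinearMap.range φ).subtype (LinearMap.range φ).ker_subtype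

variable {R : Type u} [CommRing R] [IsLocalRing R]

theorem free_coker_of_faithful {W G : Type u} [AddCommGroup W] [Module R W] [Module.Finite R W]
    [Module.Free R W] [AddCommGroup G] [Module R G] [Module.Finite R G] [Module.Free R G] (d : W →ₗ[R] G)
    (hk : Module.finrank (IsLocalRing.ResidueField R) (IsLocalRing.ResidueField R ⊗[R] W) =
      Module.finrank (IsLocalRing.ResidueField R) (LinearMap.range (d.baseChange (IsLocalRing.ResidueField R))) + 1)
    {e : W} (he : d e = 0) (hann : ∀ r : R, r • e = 0 → r = 0) :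
    Module.Free R (G ⧸ LinearMap.range d) := by
  classical
  let dk := d.baseChange (IsLocalRing.ResidueField R)
  let n := Module.finrank (IsLocalRing.ResidueField R) (LinearMap.range dk)
  obtain ⟨v, hv⟩ := exists_range_lift dk
  have hlift : ∀ i, ∃ w : W, (1 : IsLocalRing.ResidueField R) ⊗ₜ[R] w = v i := fun i =>
    TensorProduct.mk_surjective R W (IsLocalRing.ResidueField R) IsLocalRing.residue_surjective (v i)
  choose w hw using hlift
  let σ : (Fin n → R) →ₗ[R] W := Fintype.linearCombination R w
  let ψ : (Fin n → R) →ₗ[R] G := d ∘ₗ σ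
  let bk : Module.Basis (Fin n) (IsLocalRing.ResidueField R) ((IsLocalRing.ResidueField R) ⊗[R] (Fin n → R)) := (Pi.basisFun R (Fin n)).baseChange (IsLocalRing.ResidueField R)
  have hψk : Function.Injective (ψ.baseChange (IsLocalRing.ResidueField R)) := by
    have h1 : LinearIndependent (IsLocalRing.ResidueField R) ((ψ.baseChange (IsLocalRing.ResidueField R)) ∘ bk) := by
      refine Eq.subst (motive := fun t => LinearIndependent (IsLocalRing.ResidueField R) t) ?_ hv
      funext i
      show _ = _
      refine Eq.symm ?_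
      rw [Function.comp_apply, show bk i = (1 : IsLocalRing.ResidueField R) ⊗ₜ[R] Pi.single i 1 by simp [bk],
        LinearMap.baseChange_tmul, ← hw i]
      simp [ψ, σ, dk, LinearMap.baseChange_tmul, Fintype.linearCombination_apply_single]
    rw [injective_iff_map_eq_zero]
    intro z hz
    rw [← bk.sum_repr z] at hz ⊢
    simp only [map_sum, map_smul] at hz
    have h3 := Fintype.linearIndependent_iff.1 h1 _ hz
    exact Finset.sum_eq_zero fun i _ => by rw [h3 i, zero_smul]
  obtain ⟨π, hπ⟩ := (IsLocalRing.split_injective_iff_lTensor_residueField_injective ψ).2 hψk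
  let ρ : W →ₗ[R] (Fin n → R) := π ∘ₗ d
  have hρσ : ∀ v, ρ (σ v) = v := fun v => LinearMap.congr_fun hπ v
  let K := LinearMap.ker ρ
  let pK : W →ₗ[R] K := LinearMap.codRestrict K (LinearMap.id - σ ∘ₗ ρ) fun x => by
    rw [LinearMap.mem_ker]
    show ρ (x - σ (ρ x)) = 0
    rw [map_sub, hρσ, sub_self]
  have hpK : pK ∘ₗ K.subtype = LinearMap.id := LinearMap.ext fun x => Subtype.ext (by
    show (x : W) - σ (ρ x) = x
    rw [show ρ (x : W) = 0 from x.2, map_zero, sub_zero])
  haveI : Module.Projective R K := Module.Projective.of_split K.subtype pK hpK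
  haveI : Module.Finite R K := Module.Finite.of_surjective pK fun x => ⟨x, LinearMap.congr_fun hpK x⟩
  haveI : Module.Free R K := Module.free_of_flat_of_isLocalRing
  let eW : W ≃ₗ[R] (Fin n → R) × K :=
    LinearEquiv.ofLinear (ρ.prod pK) (σ.coprod K.subtype)
      (LinearMap.ext fun p => by
        refine Prod.ext ?_ (Subtype.ext ?_)
        · show ρ (σ p.1 + (p.2 : W)) = p.1
          rw [map_add, hρσ, show ρ (p.2 : W) = 0 from p.2.2, add_zero]
        · show σ p.1 + (p.2 : W) - σ (ρ (σ p.1 + (p.2 : W))) = p.2
          rw [map_add ρ, hρσ, show ρ (p.2 : W) = 0 from p.2.2, add_zero, add_sub_cancel_left])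
      (LinearMap.ext fun x => by
        show σ (ρ x) + (x - σ (ρ x)) = x
        rw [add_sub_cancel])
  have hrank : Module.finrank R K = 1 := by
    have h1 := eW.finrank_eq
    rw [Module.finrank_prod, Module.finrank_fin_fun] at h1
    have h2 : Module.finrank (IsLocalRing.ResidueField R) ((IsLocalRing.ResidueField R) ⊗[R] W) = Module.finrank R W := Module.finrank_baseChange
    have h3 : Module.finrank (IsLocalRing.ResidueField R) ((IsLocalRing.ResidueField R) ⊗[R] W) = n + 1 := hk
    omega
  have heK : e ∈ K := by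
    show π (d e) = 0
    rw [he, map_zero]
  obtain ⟨w₀, hw₀⟩ : ∃ w₀ : K, ∀ x : K, ∃ a : R, a • w₀ = x := by
    let c := Module.basisUnique Unit hrank
    exact ⟨c default, fun x => ⟨c.repr x default, by
      conv_rhs => rw [← c.sum_repr x]
      simp⟩⟩
  obtain ⟨a, ha⟩ := hw₀ ⟨e, heK⟩
  have hKzero : ∀ x : K, d x = 0 := by
    have hae : a • (w₀ : W) = e := congrArg Subtype.val ha
    have h1 : d (w₀ : W) = 0 := by
      let c := Module.Free.chooseBasis R G
      refine c.ext_elem fun j => ?_
      rw [map_zero, Finsupp.zero_apply]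
      have h4 : a * c.repr (d w₀) j = 0 := by
        rw [← smul_eq_mul, ← Finsupp.smul_apply, ← map_smul, ← map_smul d, hae, he, map_zero,
          Finsupp.zero_apply]
      exact hann _ (by rw [← hae, smul_smul, mul_comm, h4, zero_smul])
    intro x
    obtain ⟨r, rfl⟩ := hw₀ x
    rw [Submodule.coe_smul, map_smul, h1, smul_zero]
  have hrange : LinearMap.range d = LinearMap.range ψ := by
    refine le_antisymm ?_ (LinearMap.range_comp_le_range σ d)
    rintro _ ⟨x, rfl⟩
    refine ⟨ρ x, ?_⟩
    have h1 : d (pK x : W) = 0 := hKzero _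
    rw [show (pK x : W) = x - σ (ρ x) from rfl, map_sub, sub_eq_zero] at h1
    exact h1.symm
  rw [hrange]
  exact Module.free_of_lTensor_residueField_injective ψ (LinearMap.range ψ).mkQ
    (Submodule.mkQ_surjective _) ψ.exact_map_mkQ_range hψk

/-- The same for complexes: `T_0` is exact. -/
theorem flat_coker_zero (Q : ChainComplex (ModuleCat.{u} R) ℤ) (hfin : ∀ i, Module.Finite R (Q.X i))
    (hfl : ∀ i, Module.Flat R (Q.X i)) [Module.Flat R (FlatCxLib.Coker Q 1 0)]
    (hd : CohIII.dRank Q 0 (IsLocalRing.closedPoint R) = 1)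
    (e : Q.homology 0) (hann : ∀ r : R, r • e = 0 → r = 0) :
    Module.Flat R (FlatCxLib.Coker Q 0 (-1)) := by
  haveI := hfin 0; haveI := hfin (-1); haveI := hfl (-1)
  haveI : Module.Free R (Q.X (-1)) := Module.free_of_flat_of_isLocalRing
  haveI : Module.Free R (FlatCxLib.Coker Q 1 0) := Module.free_of_flat_of_isLocalRing
  let d := FlatCxLib.cokerDesc Q 1 0 (-1)
  have hr : LinearMap.range d = LinearMap.range (Q.d 0 (-1)).hom := FlatCxLib.range_cokerDesc Q 1 0 (-1)
  let h := FlatCxLib.hom'Equiv (P := Q) (show (0 : ℤ) + 1 = 1 from rfl) (show (-1 : ℤ) + 1 = 0 from rfl)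
  let x := FlatCxLib.hom'ToCoker Q 1 0 (-1) (h.symm e)
  have hx : d x = 0 := by
    have := ((FlatCxLib.exact_hom'ToCoker Q 1 0 (-1)) x).2 ⟨h.symm e, rfl⟩
    exact congrArg Subtype.val this
  have hxann : ∀ r : R, r • x = 0 → r = 0 := fun r hr' => hann r (h.symm.injective (by
    rw [map_smul, map_zero]
    exact FlatCxLib.hom'ToCoker_injective Q 1 0 (-1) (by rw [map_smul, map_zero]; exact hr')))
  have hk : Module.finrank (IsLocalRing.ResidueField R) ((IsLocalRing.ResidueField R) ⊗[R] FlatCxLib.Coker Q 1 0) =
      Module.finrank (IsLocalRing.ResidueField R) (LinearMap.range (d.baseChange (IsLocalRing.ResidueField R))) + 1 := by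
    have h1 : Module.finrank (IsLocalRing.ResidueField R) ((CohIII.bcCx (algebraMap R (IsLocalRing.ResidueField R)) Q).homology 0) = 1 :=
      (QCoh.finrank_bc_eq_dRank (algebraMap R (IsLocalRing.ResidueField R)) Q (IsLocalRing.closedPoint R) IsLocalRing.ker_residue 0).trans hd
    have h2 := FlatCxLib.finrank_homology_bcCx Q (algebraMap R (IsLocalRing.ResidueField R)) hfin (show (0 : ℤ) + 1 = 1 from rfl)
      (show (-1 : ℤ) + 1 = 0 from rfl) (inferInstanceAs (Algebra R (IsLocalRing.ResidueField R))) (Algebra.algebra_ext _ _ fun _ => rfl)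
    have h3 := FlatCxLib.finrank_range_baseChange_add (k := IsLocalRing.ResidueField R) d
    have h4 : Module.finrank (IsLocalRing.ResidueField R) ((IsLocalRing.ResidueField R) ⊗[R] (Q.X (-1) ⧸ LinearMap.range d)) =
        Module.finrank (IsLocalRing.ResidueField R) ((IsLocalRing.ResidueField R) ⊗[R] FlatCxLib.Coker Q 0 (-1)) := by rw [hr]
    rw [h1] at h2
    omega
  haveI := free_coker_of_faithful d hk hx hxann
  have e' : (Q.X (-1) ⧸ LinearMap.range d) ≃ₗ[R] FlatCxLib.Coker Q 0 (-1) :=
    Submodule.quotEquivOfEq _ _ hr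
  exact Module.Flat.of_linearEquiv e'.symm

end Groth.Agent.H26.H0Alg
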