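import Groth.Agent.H26.H0One
import Groth.Agent.H26.H0Alg
import Groth.Agent.Snapper.DimVanish
import Groth.Agent.FlatCxLib.HomologyBC
import Groth.Agent.FlatCxLib.Reduced
import Mathlib.RingTheory.Flat.Rank
import Mathlib.AlgebraicGeometry.Stalk

/-!
# Exchange for the structure sheaf of a flat proper family of curves

Near a point whose fibre has dimension at most one and only constant functions, the functions on every base
change are those of the base and the first cohomology is a finite projective module commuting with base change.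
-/

set_option autoImplicit false
set_option backward.isDefEq.respectTransparency false
set_option backward.isDefEq.respectTransparency.types false
set_option linter.style.haveILetI false

universe u

open CategoryTheory CategoryTheory.Limits AlgebraicGeometry TensorProduct

namespace Groth.Agent.H26.FibModel

section Algebra

variable {A : Type u} [CommRing A] {P : ChainComplex (ModuleCat.{u} A) ℤ}

/-- Base change in two steps. -/
noncomputable def bcCompIso (P : ChainComplex (ModuleCat.{u} A) ℤ) {B C : Type u} [CommRing B] [CommRing C]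
    (f : A →+* B) (g : B →+* C) : CohIII.bcCx (g.comp f) P ≅ CohIII.bcCx g (CohIII.bcCx f P) :=
  HomologicalComplex.Hom.isoOfComponents (fun n => (ModuleCat.extendScalarsComp f g).app (P.X n))
    fun a b _ => ((ModuleCat.extendScalarsComp f g).hom.naturality (P.d a b)).symm

/-- Homology of a two-step base change. -/
noncomputable def bcCompEquiv (P : ChainComplex (ModuleCat.{u} A) ℤ) {B C : Type u} [CommRing B] [CommRing C]
    (f : A →+* B) (g : B →+* C) (q : ℤ) :
    (CohIII.bcCx (g.comp f) P).homology q ≃ₗ[C] (CohIII.bcCx g (CohIII.bcCx f P)).homology q :=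
  ((HomologicalComplex.homologyFunctor _ _ q).mapIso (bcCompIso P f g)).toLinearEquiv

theorem isZero_T_bcCx {B : Type u} [CommRing B] (φ : A →+* B) {q : ℤ}
    (h : ∀ M, IsZero (CohIII.T P q M)) (M : ModuleCat.{u} B) :
    IsZero ((CohIII.TFun (CohIII.bcCx φ P) q).obj M) := by
  obtain ⟨e⟩ := QCoh.nonempty_bcT_iso P φ q
  haveI : Subsingleton ((CohIII.TFun (CohIII.bcCx φ P) q).obj M) :=
    AddCommGrpCat.subsingleton_of_isZero ((Functor.map_isZero (forget₂ (ModuleCat.{u} A) AddCommGrpCat.{u})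
      (h ((ModuleCat.restrictScalars φ).obj M))).of_iso (e.app M))
  exact ModuleCat.isZero_of_subsingleton _

theorem free_bcCx_X {B : Type u} [CommRing B] (φ : A →+* B) (hfree : ∀ i, Module.Free A (P.X i)) (i : ℤ) :
    Module.Free B ((CohIII.bcCx φ P).X i) := by
  letI := φ.toAlgebra
  haveI := hfree i
  exact inferInstanceAs (Module.Free B (B ⊗[A] P.X i))

theorem flat_coker_one (hfl : ∀ i, Module.Flat A (P.X i)) (h : ∀ M, IsZero ((CohIII.TFun P 1).obj M)) :
    Module.Flat A (FlatCxLib.Coker P 1 0) :=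
  (FlatCxLib.preservesEpi_iff hfl (show (0 : ℤ) + 1 = 1 from rfl)).1 (QCoh.isExactT_of_isZero h).2

theorem finitePresentation_coker (hfin : ∀ i, Module.Finite A (P.X i)) (hfree : ∀ i, Module.Free A (P.X i))
    (p q : ℤ) : Module.FinitePresentation A (FlatCxLib.Coker P p q) := by
  haveI := hfree q; haveI := hfin q; haveI := hfin p
  haveI : Module.FinitePresentation A (P.X q) := Module.finitePresentation_of_projective A (P.X q)
  refine Module.finitePresentation_of_surjective (LinearMap.range (P.d p q).hom).mkQ (Submodule.mkQ_surjective _) ?_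
  rw [Submodule.ker_mkQ, ← Submodule.map_top]
  exact (Module.Finite.fg_top).map _

/-- Homology between two flat cokernels is finite projective. -/
theorem hom'_finite_projective (hfin : ∀ i, Module.Finite A (P.X i)) (hfree : ∀ i, Module.Free A (P.X i))
    (p q r : ℤ) (h1 : Module.Flat A (FlatCxLib.Coker P p q)) (h2 : Module.Flat A (FlatCxLib.Coker P q r)) :
    Module.Finite A (FlatCxLib.Hom' P p q r) ∧ Module.Projective A (FlatCxLib.Hom' P p q r) := by
  haveI := hfree r; haveI := hfin r; haveI := hfin q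
  haveI := finitePresentation_coker hfin hfree p q
  haveI := finitePresentation_coker hfin hfree q r
  haveI := h1; haveI := h2
  haveI : Module.Projective A (FlatCxLib.Coker P p q) :=
    Module.freeLocus_eq_univ_iff.1 Module.freeLocus_eq_univ
  haveI : Module.Projective A (FlatCxLib.Coker P q r) :=
    Module.freeLocus_eq_univ_iff.1 Module.freeLocus_eq_univ
  obtain ⟨s, hs⟩ := Module.projective_lifting_property (LinearMap.range (P.d q r).hom).mkQ LinearMap.id
    (Submodule.mkQ_surjective _)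
  let R' := LinearMap.range (P.d q r).hom
  let π : P.X r →ₗ[A] R' := LinearMap.codRestrict R' (LinearMap.id - s ∘ₗ R'.mkQ) fun x => by
    rw [← Submodule.Quotient.mk_eq_zero]
    show R'.mkQ (x - s (R'.mkQ x)) = 0
    rw [map_sub, show R'.mkQ (s (R'.mkQ x)) = R'.mkQ x from LinearMap.congr_fun hs _, sub_self]
  haveI : Module.Projective A R' := Module.Projective.of_split R'.subtype π (LinearMap.ext fun x => Subtype.ext (by
    show (x : P.X r) - s (R'.mkQ x) = x
    rw [show R'.mkQ (x : P.X r) = 0 from (Submodule.Quotient.mk_eq_zero R').2 x.2, map_zero, sub_zero]))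
  have hr : LinearMap.range (FlatCxLib.cokerDesc P p q r) = R' := FlatCxLib.range_cokerDesc P p q r
  haveI : Module.Projective A (LinearMap.range (FlatCxLib.cokerDesc P p q r)) :=
    Module.Projective.of_equiv (LinearEquiv.ofEq _ _ hr.symm)
  let g := (FlatCxLib.cokerDesc P p q r).rangeRestrict
  obtain ⟨t, ht⟩ := Module.projective_lifting_property g LinearMap.id (LinearMap.surjective_rangeRestrict _)
  let i := FlatCxLib.hom'ToCoker P p q r
  have hex : Function.Exact i g := FlatCxLib.exact_hom'ToCoker P p q r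
  have hi : Function.Injective i := FlatCxLib.hom'ToCoker_injective P p q r
  let u : FlatCxLib.Coker P p q →ₗ[A] LinearMap.range i := LinearMap.codRestrict _ (LinearMap.id - t ∘ₗ g)
    fun x => (hex _).1 (by
      show g (x - t (g x)) = 0
      rw [map_sub, show g (t (g x)) = g x from LinearMap.congr_fun ht _, sub_self])
  let e := LinearEquiv.ofInjective i hi
  let v : FlatCxLib.Coker P p q →ₗ[A] FlatCxLib.Hom' P p q r := e.symm.toLinearMap ∘ₗ u
  have hv : v ∘ₗ i = LinearMap.id := LinearMap.ext fun z => e.injective (by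
    show e (e.symm (u (i z))) = e z
    rw [e.apply_symm_apply]
    refine Subtype.ext ?_
    show i z - t (g (i z)) = i z
    rw [show g (i z) = 0 from (hex _).2 ⟨z, rfl⟩, map_zero, sub_zero])
  exact ⟨Module.Finite.of_surjective v fun z => ⟨i z, LinearMap.congr_fun hv z⟩,
    Module.Projective.of_split i v hv⟩

theorem flat_baseChange_comp {B C : Type u} [CommRing B] [CommRing C] (f : A →+* B) (g : B →+* C)
    (M : Type u) [AddCommGroup M] [Module A M]
    (h : letI := f.toAlgebra; Module.Flat B (B ⊗[A] M)) :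
    letI := (g.comp f).toAlgebra
    Module.Flat C (C ⊗[A] M) := by
  letI := f.toAlgebra
  letI := g.toAlgebra
  letI := (g.comp f).toAlgebra
  haveI : IsScalarTower A B C := IsScalarTower.of_algebraMap_eq fun _ => rfl
  haveI := h
  exact Module.Flat.of_linearEquiv (AlgebraTensorModule.cancelBaseChange A B C C M).symm

end Algebra

variable {X S : Scheme.{u}} {f : X ⟶ S}

theorem IsModel.restrict {V : S.Opens} {hV : IsAffineOpen V} {A₀ : Type u} [CommRing A₀]
    {ι : A₀ →+* Γ(S, V)} {P : ChainComplex (ModuleCat.{u} A₀) ℤ} (hP : IsModel f hV ι P)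
    {V' : S.Opens} (hV' : IsAffineOpen V') (hle : V' ≤ V) :
    IsModel f hV' (RingHom.id Γ(S, V')) (CohIII.bcCx ((S.presheaf.map (homOfLE hle).op).hom.comp ι) P) := by
  refine ⟨QCoh.finite_bcCx_X_aux P _ hP.1, free_bcCx_X _ hP.2.1,
    fun q hq M => isZero_T_bcCx _ (hP.2.2.1 q hq) M, fun B _ φ X' g pB h p => ?_⟩
  let res := (S.presheaf.map (homOfLE hle).op).hom
  have hfac : Spec.map (CommRingCat.ofHom (φ.comp res)) ≫ hV.fromSpec =
      Spec.map (CommRingCat.ofHom φ) ≫ hV'.fromSpec := by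
    rw [CommRingCat.ofHom_comp, Spec.map_comp, Category.assoc]
    exact congrArg (Spec.map (CommRingCat.ofHom φ) ≫ ·) (hV.map_fromSpec hV' (homOfLE hle).op)
  obtain ⟨e⟩ := hP.2.2.2 B (φ.comp res) X' g pB (by rw [hfac]; exact h) p
  exact ⟨e.trans (bcCompEquiv P (res.comp ι) φ (-(p : ℤ)))⟩

theorem dRank_bcCx {A B : Type u} [CommRing A] [CommRing B] (φ : A →+* B)
    (P : ChainComplex (ModuleCat.{u} A) ℤ) (q : ℤ) (y : PrimeSpectrum B) :
    CohIII.dRank (CohIII.bcCx φ P) q y = CohIII.dRank P q (PrimeSpectrum.comap φ y) :=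
  ((bcCompEquiv P φ (algebraMap B y.asIdeal.ResidueField) q).finrank_eq.symm).trans
    (QCoh.finrank_bc_eq_dRank _ P _ (by
      ext a
      rw [RingHom.mem_ker, RingHom.comp_apply, Ideal.algebraMap_residueField_eq_zero]
      rfl) q)

theorem primeIdealOf_res {V V' : S.Opens} (hV : IsAffineOpen V) (hV' : IsAffineOpen V') (hle : V' ≤ V)
    (y : S) (hy : y ∈ V') :
    PrimeSpectrum.comap (S.presheaf.map (homOfLE hle).op).hom (hV'.primeIdealOf ⟨y, hy⟩) =
      hV.primeIdealOf ⟨y, hle hy⟩ := by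
  refine hV.fromSpec.isOpenEmbedding.injective ?_
  rw [hV.fromSpec_primeIdealOf]
  have := congr($(hV.map_fromSpec hV' (homOfLE hle).op) (hV'.primeIdealOf ⟨y, hy⟩))
  exact this.trans (hV'.fromSpec_primeIdealOf _)

theorem toGlobal_injective {R : Type u} [CommRing R] [IsLocalRing R] {W : Scheme.{u}}
    (p : W ⟶ Spec (CommRingCat.of R)) [Flat p] (z : W) (hz : p z = IsLocalRing.closedPoint R) :
    Function.Injective (Coh.toGlobal p) := by
  rw [injective_iff_map_eq_zero]
  intro r hr
  let ξ := Scheme.ΓSpecIso (CommRingCat.of R)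
  have hmap : (p.stalkMap z).hom ((Spec (CommRingCat.of R)).presheaf.germ ⊤ (p z) trivial (ξ.inv r)) = 0 := by
    rw [Scheme.Hom.germ_stalkMap_apply p ⊤ z trivial]
    show W.presheaf.germ ⊤ z trivial (p.appTop.hom (ξ.inv r)) = 0
    rw [show p.appTop.hom (ξ.inv r) = 0 from hr, map_zero]
  have hinj : Function.Injective (p.stalkMap z).hom := by
    letI := (p.stalkMap z).hom.toAlgebra
    haveI : Module.Flat ((Spec (CommRingCat.of R)).presheaf.stalk (p z)) (W.presheaf.stalk z) := Flat.stalkMap p z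
    haveI : IsLocalHom (algebraMap ((Spec (CommRingCat.of R)).presheaf.stalk (p z)) (W.presheaf.stalk z)) :=
      inferInstanceAs (IsLocalHom (p.stalkMap z).hom)
    haveI := Module.FaithfullyFlat.of_flat_of_isLocalHom (A := (Spec (CommRingCat.of R)).presheaf.stalk (p z))
      (B := W.presheaf.stalk z)
    exact FaithfulSMul.algebraMap_injective _ _
  have h2 := hinj (hmap.trans (map_zero _).symm)
  have key : ∀ x : PrimeSpectrum R, x = IsLocalRing.closedPoint R →
      (Spec (CommRingCat.of R)).presheaf.germ ⊤ x trivial (ξ.inv r) = 0 → r = 0 := by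
    rintro x rfl hx
    have := congr((AlgebraicGeometry.stalkClosedPointIso (CommRingCat.of R)).hom $hx)
    rw [map_zero] at this
    rw [← this]
    have e : ξ.inv ≫ (Spec (CommRingCat.of R)).presheaf.germ ⊤ (IsLocalRing.closedPoint R) trivial ≫
        (AlgebraicGeometry.stalkClosedPointIso (CommRingCat.of R)).hom = 𝟙 _ := by
      rw [← cancel_epi ξ.hom, Iso.hom_inv_id_assoc, Category.comp_id]
      exact (germ_stalkClosedPointIso_hom (CommRingCat.of R))
    exact (congr($e r)).symm
  exact key (p z) hz h2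

/-- The exchange property over the affine open `V`. -/
structure Good {V : S.Opens} (f : X ⟶ S) (hV : IsAffineOpen V) : Prop where
  functions : ∀ (B : Type u) [CommRing B] (φ : Γ(S, V) →+* B) (X' : Scheme.{u}) (g : X' ⟶ X)
    (pB : X' ⟶ Spec (CommRingCat.of B)),
    IsPullback g pB f (Spec.map (CommRingCat.ofHom φ) ≫ hV.fromSpec) → Function.Bijective (Coh.toGlobal pB)
  h1 : ∃ H : ModuleCat.{u} Γ(S, V), Module.Finite Γ(S, V) H ∧ Module.Projective Γ(S, V) H ∧
    ∀ (B : Type u) [CommRing B] (φ : Γ(S, V) →+* B) (X' : Scheme.{u}) (g : X' ⟶ X)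
      (pB : X' ⟶ Spec (CommRingCat.of B)),
      IsPullback g pB f (Spec.map (CommRingCat.ofHom φ) ≫ hV.fromSpec) →
      letI := QCoh.modHH (Coh.toGlobal pB) (Coh.structureModule X') 1
      Nonempty (Coh.HH X' (Coh.structureModule X') 1 ≃ₗ[B] (ModuleCat.extendScalars φ).obj H)

theorem rankAtStalk_eq_fibreRank {B : Type u} [CommRing B] (M : Type u) [AddCommGroup M] [Module B M]
    [Module.Finite B M] [Module.Flat B M] (b : PrimeSpectrum B) :
    Module.rankAtStalk (R := B) M b = FlatCxLib.fibreRank M b :=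
  (FlatCxLib.fibreRank_eq_rankAtStalk M b).symm

/-- Functions on every base change, from flatness of one cokernel. -/
theorem functions_of_flat_coker {V : S.Opens} {hV : IsAffineOpen V}
    {Q : ChainComplex (ModuleCat.{u} Γ(S, V)) ℤ} (hQ : IsModel f hV (RingHom.id Γ(S, V)) Q)
    (hC0 : Module.Flat Γ(S, V) (FlatCxLib.Coker Q 0 (-1)))
    (h0 : ∀ y ∈ V, Models.hRank ↥(S.residueField y) (f.fiber y) (f.fiberToSpecResidueField y)
      (Coh.structureModule (f.fiber y)) 0 = 1)
    (B : Type u) [CommRing B] (φ : Γ(S, V) →+* B) (X' : Scheme.{u}) (g : X' ⟶ X)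
    (pB : X' ⟶ Spec (CommRingCat.of B))
    (h : IsPullback g pB f (Spec.map (CommRingCat.ofHom φ) ≫ hV.fromSpec)) :
    Function.Bijective (Coh.toGlobal pB) := by
  haveI := hC0
  haveI hC : Module.Flat Γ(S, V) (FlatCxLib.Coker Q 1 0) := flat_coker_one hQ.flat (hQ.2.2.1 1 one_pos)
  obtain ⟨hH0f, hH0p⟩ := hom'_finite_projective hQ.1 hQ.2.1 1 0 (-1) hC hC0
  letI := φ.toAlgebra
  letI := QCoh.modHH (Coh.toGlobal pB) (Coh.structureModule X') 0
  letI : Algebra B Γ(X', ⊤) :=
    (pB.appTop.hom.comp (Scheme.ΓSpecIso (CommRingCat.of B)).inv.hom).toAlgebra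
  obtain ⟨e⟩ := hQ.2.2.2 B φ X' g pB h 0
  obtain ⟨e'⟩ := FlatCxLib.nonempty_homology_bcCx_equiv_aux Q φ hQ.flat (show (0 : ℤ) + 1 = 1 from rfl)
    (show (-1 : ℤ) + 1 = 0 from rfl) _ rfl
  let eH : Γ(X', ⊤) ≃ₗ[B] B ⊗[Γ(S, V)] FlatCxLib.Hom' Q 1 0 (-1) :=
    (h0Equiv pB).symm.trans (e.trans e'.symm)
  haveI := hH0f
  haveI := hH0p
  haveI : Module.Finite B Γ(X', ⊤) := Module.Finite.equiv eH.symm
  haveI : Module.Flat B Γ(X', ⊤) := Module.Flat.of_linearEquiv eH
  refine (Module.algebraMap_bijective_iff_rankAtStalk (R := B) (S := Γ(X', ⊤))).1 ?_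
  funext b
  rw [Module.rankAtStalk_eq_of_equiv eH, Module.rankAtStalk_baseChange, Pi.one_apply, rankAtStalk_eq_fibreRank,
    ← FlatCxLib.dRank_eq_fibreRank Q hQ.flat (show (0 : ℤ) + 1 = 1 from rfl) (show (-1 : ℤ) + 1 = 0 from rfl)]
  let x := PrimeSpectrum.comap φ b
  have hz : hV.fromSpec x ∈ V := by
    rw [← SetLike.mem_coe, ← hV.range_fromSpec]; exact ⟨x, rfl⟩
  have hx : hV.primeIdealOf ⟨_, hz⟩ = x :=
    hV.fromSpec.isOpenEmbedding.injective (hV.fromSpec_primeIdealOf ⟨_, hz⟩)
  have := (hQ.hRank _ hz 0).1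
  rw [h0 _ hz, PrimeSpectrum.comap_id] at this
  exact (congrArg (CohIII.dRank Q 0) hx).symm.trans this.symm


theorem good_of_flat_coker {V : S.Opens} {hV : IsAffineOpen V}
    {Q : ChainComplex (ModuleCat.{u} Γ(S, V)) ℤ} (hQ : IsModel f hV (RingHom.id Γ(S, V)) Q)
    (hC0 : Module.Flat Γ(S, V) (FlatCxLib.Coker Q 0 (-1)))
    (hC1 : Module.Flat Γ(S, V) (FlatCxLib.Coker Q (-1) (-2)))
    (h0 : ∀ y ∈ V, Models.hRank ↥(S.residueField y) (f.fiber y) (f.fiberToSpecResidueField y)
      (Coh.structureModule (f.fiber y)) 0 = 1) :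
    Good f hV := by
  haveI := hC0
  haveI := hC1
  obtain ⟨hH1f, hH1p⟩ := hom'_finite_projective hQ.1 hQ.2.1 0 (-1) (-2) hC0 hC1
  refine ⟨functions_of_flat_coker hQ hC0 h0, ⟨ModuleCat.of _ (FlatCxLib.Hom' Q 0 (-1) (-2)), hH1f, hH1p,
    fun B _ φ X' g pB h => ?_⟩⟩
  letI := φ.toAlgebra
  letI := QCoh.modHH (Coh.toGlobal pB) (Coh.structureModule X') 1
  obtain ⟨e⟩ := hQ.2.2.2 B φ X' g pB h 1
  obtain ⟨e'⟩ := FlatCxLib.nonempty_homology_bcCx_equiv_aux Q φ hQ.flat (show (-1 : ℤ) + 1 = 0 from rfl)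
    (show (-2 : ℤ) + 1 = -1 from rfl) _ rfl
  exact ⟨e.trans e'.symm⟩

/-- The constant functions spread to a neighbourhood. -/
theorem exists_open_h0 (f : X ⟶ S) [Flat f] [IsProper f] [LocallyOfFinitePresentation f] (y : S)
    (hy : Models.hRank ↥(S.residueField y) (f.fiber y) (f.fiberToSpecResidueField y)
      (Coh.structureModule (f.fiber y)) 0 = 1) :
    ∃ (O : Set S) (w : ↥(f.fiber y)), IsOpen O ∧ y ∈ O ∧ f (f.fiberι y w) = y ∧
      ∀ s ∈ O, Models.hRank ↥(S.residueField s) (f.fiber s) (f.fiberToSpecResidueField s)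
        (Coh.structureModule (f.fiber s)) 0 = 1 := by
  let O : Set S := {s | Models.hRank ↥(S.residueField s) (f.fiber s) (f.fiberToSpecResidueField s)
      (Coh.structureModule (f.fiber s)) 0 < 2} ∩ Set.range f
  have hne : Nonempty ↥(f.fiber y) := by
    by_contra hn
    rw [not_nonempty_iff] at hn
    letI : Algebra ↥(S.residueField y) Γ(f.fiber y, ⊤) :=
      ((f.fiberToSpecResidueField y).appTop.hom.comp
        (Scheme.ΓSpecIso (CommRingCat.of ↥(S.residueField y))).inv.hom).toAlgebra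
    haveI : Subsingleton Γ(f.fiber y, ⊤) := inferInstance
    have h := (finrank_sections f y).2
    rw [hy, Module.finrank_zero_of_subsingleton] at h
    exact zero_ne_one h
  obtain ⟨w⟩ := hne
  have hw : f (f.fiberι y w) = y := by
    have := congr($(pullback.condition (f := f) (g := S.fromSpecResidueField y)) w)
    exact this.trans (S.fromSpecResidueField_apply y _)
  have hyO : y ∈ O := ⟨show _ < 2 by omega, _, hw⟩
  have hO : IsOpen O := (isOpen_hRank_lt f 0 2).inter f.isOpenMap.isOpen_range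
  have h0 : ∀ s ∈ O, Models.hRank ↥(S.residueField s) (f.fiber s) (f.fiberToSpecResidueField s)
      (Coh.structureModule (f.fiber s)) 0 = 1 := by
    rintro s ⟨h2, x, hx⟩
    letI : Algebra ↥(S.residueField s) Γ(f.fiber s, ⊤) :=
      ((f.fiberToSpecResidueField s).appTop.hom.comp
        (Scheme.ΓSpecIso (CommRingCat.of ↥(S.residueField s))).inv.hom).toAlgebra
    obtain ⟨hfin, hr⟩ := finrank_sections f s
    obtain ⟨x', -⟩ := (f.range_fiberι s).superset (show x ∈ f ⁻¹' {s} from hx)
    haveI : Nontrivial Γ(f.fiber s, ⊤) := @Scheme.component_nontrivial (f.fiber s) ⊤ ⟨⟨x', trivial⟩⟩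
    have h3 : 0 < Module.finrank ↥(S.residueField s) Γ(f.fiber s, ⊤) := Module.finrank_pos
    have h2' : Models.hRank ↥(S.residueField s) (f.fiber s) (f.fiberToSpecResidueField s)
      (Coh.structureModule (f.fiber s)) 0 < 2 := h2
    omega
  exact ⟨O, w, hO, hyO, hw, h0⟩

/-- The middle cokernel is free near a point with constant functions. -/
theorem exists_flat_coker_zero (f : X ⟶ S) [Flat f] [IsProper f] [LocallyOfFinitePresentation f]
    {V₁ : S.Opens} {hV₁ : IsAffineOpen V₁} {Q : ChainComplex (ModuleCat.{u} Γ(S, V₁)) ℤ}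
    (hQ : IsModel f hV₁ (RingHom.id Γ(S, V₁)) Q) (y : S) (hyV₁ : y ∈ V₁)
    (hy : Models.hRank ↥(S.residueField y) (f.fiber y) (f.fiberToSpecResidueField y)
      (Coh.structureModule (f.fiber y)) 0 = 1) (w : ↥(f.fiber y)) (hw : f (f.fiberι y w) = y) :
    ∃ a₁ : Γ(S, V₁), y ∈ S.basicOpen a₁ ∧
      Module.Flat Γ(S, S.basicOpen a₁) (FlatCxLib.Coker (CohIII.bcCx
        ((S.presheaf.map (homOfLE (S.basicOpen_le a₁)).op).hom.comp (RingHom.id Γ(S, V₁))) Q) 0 (-1)) := by
  let q₁ := hV₁.primeIdealOf ⟨y, hyV₁⟩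
  let R := Localization.AtPrime q₁.asIdeal
  let L := QCoh.locCx Q q₁
  have hflL := FlatCxLib.flat_bcCx_X (B := R) Q hQ.flat
  haveI hL1 : Module.Flat R (FlatCxLib.Coker L 1 0) :=
    flat_coker_one hflL (fun M => isZero_T_bcCx _ (hQ.2.2.1 1 one_pos) M)
  have hdL : CohIII.dRank L 0 (IsLocalRing.closedPoint R) = 1 := by
    rw [QCoh.dRank_locCx_closedPoint]
    have h := (hQ.hRank y hyV₁ 0).1
    rw [PrimeSpectrum.comap_id, hy] at h
    exact h.symm
  let b := Spec.map (CommRingCat.ofHom (algebraMap Γ(S, V₁) R)) ≫ hV₁.fromSpec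
  let W := pullback f b
  let pR : W ⟶ Spec (CommRingCat.of R) := pullback.snd f b
  have hb : b (IsLocalRing.closedPoint R) = y := by
    have h1 : PrimeSpectrum.comap (algebraMap Γ(S, V₁) R) (IsLocalRing.closedPoint R) = q₁ :=
      PrimeSpectrum.ext (IsLocalization.AtPrime.under_maximalIdeal _ q₁.asIdeal)
    show hV₁.fromSpec (PrimeSpectrum.comap (algebraMap Γ(S, V₁) R) (IsLocalRing.closedPoint R)) = y
    rw [h1]
    exact hV₁.fromSpec_primeIdealOf _
  obtain ⟨z, -, hz⟩ := Scheme.Pullback.exists_preimage_pullback (f := f) (g := b) (f.fiberι y w)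
    (IsLocalRing.closedPoint R) (hw.trans hb.symm)
  haveI : Flat pR := MorphismProperty.pullback_snd _ _ inferInstance
  letI := QCoh.modHH (Coh.toGlobal pR) (Coh.structureModule W) 0
  obtain ⟨eW⟩ := hQ.2.2.2 R (algebraMap Γ(S, V₁) R) W (pullback.fst f b) pR (IsPullback.of_hasPullback _ _) 0
  let eW' : Coh.HH W (Coh.structureModule W) 0 ≃ₗ[R] L.homology 0 := eW
  letI : Algebra R Γ(W, ⊤) := (pR.appTop.hom.comp (Scheme.ΓSpecIso (CommRingCat.of R)).inv.hom).toAlgebra
  have hann : ∀ r : R, r • eW' ((h0Equiv pR).symm 1) = 0 → r = 0 := fun r hr => by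
    rw [← map_smul, LinearEquiv.map_eq_zero_iff, ← map_smul, LinearEquiv.map_eq_zero_iff, Algebra.smul_def,
      mul_one] at hr
    exact toGlobal_injective pR z hz (hr.trans (map_zero _).symm)
  have hR0 := H0Alg.flat_coker_zero L (QCoh.finite_bcCx_X_aux Q _ hQ.1) hflL hdL _ hann
  haveI := finitePresentation_coker hQ.1 hQ.2.1 0 (-1)
  have hq₁ : q₁ ∈ Module.freeLocus Γ(S, V₁) (FlatCxLib.Coker Q 0 (-1)) :=
    (FlatCxLib.flat_localization_iff_mem_freeLocus _ q₁).1 ((FlatCxLib.flat_coker_bcCx_iff Q 0 (-1)).1 hR0)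
  obtain ⟨_, ⟨a₁, rfl⟩, ha₁, hsub₁⟩ := PrimeSpectrum.isTopologicalBasis_basic_opens.exists_subset_of_mem_open
    hq₁ Module.isOpen_freeLocus
  haveI hproj₁ := Module.basicOpen_subset_freeLocus_iff.1 hsub₁
  let V₂ := S.basicOpen a₁
  let res₂ := (S.presheaf.map (homOfLE (S.basicOpen_le a₁)).op).hom
  refine ⟨a₁, (QCoh.mem_basicOpen_iff_notMem hV₁ hyV₁ _).2 ha₁, ?_⟩
  refine (FlatCxLib.flat_coker_bcCx_iff_aux Q _ 0 (-1) (res₂.comp (RingHom.id _)).toAlgebra rfl).2 ?_
  haveI := hV₁.isLocalization_basicOpen a₁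
  let lft : Localization.Away a₁ →+* Γ(S, V₂) := IsLocalization.Away.lift (S := Localization.Away a₁)
    (g := res₂.comp (RingHom.id _)) a₁ (IsLocalization.Away.algebraMap_isUnit (S := Γ(S, V₂)) a₁)
  have hl : lft.comp (algebraMap Γ(S, V₁) (Localization.Away a₁)) = res₂.comp (RingHom.id _) :=
    IsLocalization.Away.lift_comp (S := Localization.Away a₁) a₁ _
  have h := flat_baseChange_comp (algebraMap Γ(S, V₁) (Localization.Away a₁)) lft
    (FlatCxLib.Coker Q 0 (-1)) (by
      rw [show (algebraMap Γ(S, V₁) (Localization.Away a₁)).toAlgebra =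
        (inferInstance : Algebra Γ(S, V₁) (Localization.Away a₁)) from Algebra.algebra_ext _ _ fun _ => rfl]
      exact Module.Flat.of_linearEquiv
        (LocalizedModule.equivTensorProduct (Submonoid.powers a₁) (FlatCxLib.Coker Q 0 (-1))).symm)
  rw [hl] at h
  exact h

/-- Functions near a point with constant functions on the fibre. -/
theorem exists_functions (f : X ⟶ S) [Flat f] [IsProper f] [LocallyOfFinitePresentation f] (y : S)
    (hy : Models.hRank ↥(S.residueField y) (f.fiber y) (f.fiberToSpecResidueField y)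
      (Coh.structureModule (f.fiber y)) 0 = 1) :
    ∃ (V : S.Opens) (hV : IsAffineOpen V), y ∈ V ∧ ∀ (B : Type u) [CommRing B] (φ : Γ(S, V) →+* B)
      (X' : Scheme.{u}) (g : X' ⟶ X) (pB : X' ⟶ Spec (CommRingCat.of B)),
      IsPullback g pB f (Spec.map (CommRingCat.ofHom φ) ≫ hV.fromSpec) → Function.Bijective (Coh.toGlobal pB) := by
  obtain ⟨O, w, hO, hyO, hw, h0⟩ := exists_open_h0 f y hy
  obtain ⟨_, ⟨V, hV, rfl⟩, hyV, hVO⟩ := S.isBasis_affineOpens.exists_subset_of_mem_open hyO hO
  have hV : IsAffineOpen V := hV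
  obtain ⟨A₀, _, _, ι, P, hP⟩ := exists_isModel f hV
  have hQ := hP.restrict hV le_rfl
  obtain ⟨a₁, ha₁, hC⟩ := exists_flat_coker_zero f hQ y hyV hy w hw
  exact ⟨_, hV.basicOpen a₁, ha₁, functions_of_flat_coker (hQ.restrict (hV.basicOpen a₁) (S.basicOpen_le _)) hC
    fun s hs => h0 s (hVO (S.basicOpen_le _ hs))⟩

/-- The exchange property near a point with a fibre of dimension at most one with constant functions. -/
theorem exists_good (f : X ⟶ S) [Flat f] [IsProper f] [LocallyOfFinitePresentation f] (y : S)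
    (hdim : topologicalKrullDim ↥(f.fiber y) ≤ 1)
    (hy : Models.hRank ↥(S.residueField y) (f.fiber y) (f.fiberToSpecResidueField y)
      (Coh.structureModule (f.fiber y)) 0 = 1) :
    ∃ (V : S.Opens) (hV : IsAffineOpen V), y ∈ V ∧ Good f hV := by
  classical
  obtain ⟨O, w, hO, hyO, hw, h0⟩ := exists_open_h0 f y hy
  obtain ⟨_, ⟨V, hV, rfl⟩, hyV, hVO⟩ := S.isBasis_affineOpens.exists_subset_of_mem_open hyO hO
  have hV : IsAffineOpen V := hV
  obtain ⟨A₀, _, _, ι, P, hP⟩ := exists_isModel f hV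
  let q := hV.primeIdealOf ⟨y, hyV⟩
  let x := PrimeSpectrum.comap ι q
  -- the top cokernel is free near `x`
  have hd2 : CohIII.dRank P (-2) x = 0 := by
    have h := (hP.hRank y hyV 2).1
    haveI : IsProper (f.fiberToSpecResidueField y) := MorphismProperty.pullback_snd _ _ inferInstance
    haveI : IsLocallyNoetherian (f.fiber y) :=
      LocallyOfFiniteType.isLocallyNoetherian (f.fiberToSpecResidueField y)
    haveI : CompactSpace ↥(f.fiber y) :=
      QuasiCompact.compactSpace_of_compactSpace (f.fiberToSpecResidueField y)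
    haveI : IsNoetherian (f.fiber y) := {}
    haveI : (f.fiber y).IsSeparated := ⟨by
      rw [← Limits.terminal.comp_from (f.fiberToSpecResidueField y)]
      infer_instance⟩
    letI := QCoh.modHH (A := ↥(S.residueField y)) (Coh.toGlobal (A := ↥(S.residueField y))
      (f.fiberToSpecResidueField y)) (Coh.structureModule (f.fiber y)) 2
    haveI : Subsingleton (Coh.HH (f.fiber y) (Coh.structureModule (f.fiber y)) 2) :=
      Snapper.subsingleton_HH_of_dim_le (d := 1) (by exact_mod_cast hdim) (QCoh.isQCoh_structureModule) one_lt_two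
    refine h.symm.trans ?_
    exact Module.finrank_zero_of_subsingleton
  haveI hfpP : ∀ a b : ℤ, Module.FinitePresentation A₀ (FlatCxLib.Coker P a b) :=
    fun a b => finitePresentation_coker hP.1 hP.2.1 a b
  have hx2 : x ∈ Module.freeLocus A₀ (FlatCxLib.Coker P (-1) (-2)) := by
    let L := QCoh.locCx P x
    have hflL := FlatCxLib.flat_bcCx_X (B := Localization.AtPrime x.asIdeal) P hP.flat
    obtain ⟨-, hz⟩ := FlatCxLib.isZero_of_isZero_residue hflL (QCoh.finite_bcCx_X_aux P _ hP.1)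
      (QCoh.isZero_T_residue (QCoh.finite_bcCx_X_aux P _ hP.1) ((QCoh.dRank_locCx_closedPoint P x (-2)).trans hd2))
    exact (FlatCxLib.flat_localization_iff_mem_freeLocus _ x).1
      ((FlatCxLib.preservesMono_bcCx_iff P hP.flat (show (-2 : ℤ) + 1 = -1 from rfl)).1
        (QCoh.isExactT_of_isZero hz).1)
  obtain ⟨_, ⟨a₀, rfl⟩, ha₀, hsub⟩ := PrimeSpectrum.isTopologicalBasis_basic_opens.exists_subset_of_mem_open
    hx2 Module.isOpen_freeLocus
  haveI hproj := Module.basicOpen_subset_freeLocus_iff.1 hsub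
  let V₁ := S.basicOpen (ι a₀)
  have hV₁ : IsAffineOpen V₁ := hV.basicOpen _
  have hyV₁ : y ∈ V₁ := (QCoh.mem_basicOpen_iff_notMem hV hyV _).2 ha₀
  let res := (S.presheaf.map (homOfLE (S.basicOpen_le (ι a₀))).op).hom
  let Q := CohIII.bcCx (res.comp ι) P
  have hQ : IsModel f hV₁ (RingHom.id _) Q := hP.restrict hV₁ (S.basicOpen_le _)
  have hQ1 : Module.Flat Γ(S, V₁) (FlatCxLib.Coker Q (-1) (-2)) := by
    refine (FlatCxLib.flat_coker_bcCx_iff_aux P (res.comp ι) (-1) (-2) (res.comp ι).toAlgebra rfl).2 ?_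
    haveI := hV.isLocalization_basicOpen (ι a₀)
    let lft : Localization.Away a₀ →+* Γ(S, V₁) := IsLocalization.Away.lift (S := Localization.Away a₀)
      (g := res.comp ι) a₀ (IsLocalization.Away.algebraMap_isUnit (S := Γ(S, V₁)) (ι a₀))
    have hl : lft.comp (algebraMap A₀ (Localization.Away a₀)) = res.comp ι :=
      IsLocalization.Away.lift_comp (S := Localization.Away a₀) a₀ _
    have h := flat_baseChange_comp (algebraMap A₀ (Localization.Away a₀)) lft (FlatCxLib.Coker P (-1) (-2)) (by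
      rw [show (algebraMap A₀ (Localization.Away a₀)).toAlgebra =
        (inferInstance : Algebra A₀ (Localization.Away a₀)) from Algebra.algebra_ext _ _ fun _ => rfl]
      exact Module.Flat.of_linearEquiv
        (LocalizedModule.equivTensorProduct (Submonoid.powers a₀) (FlatCxLib.Coker P (-1) (-2))).symm)
    rw [hl] at h
    exact h
  obtain ⟨a₁, ha₁, hC⟩ := exists_flat_coker_zero f hQ y hyV₁ hy w hw
  let V₂ := S.basicOpen a₁
  have hV₂ : IsAffineOpen V₂ := hV₁.basicOpen _
  let res₂ := (S.presheaf.map (homOfLE (S.basicOpen_le a₁)).op).hom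
  refine ⟨V₂, hV₂, ha₁,
    good_of_flat_coker (hQ.restrict hV₂ (S.basicOpen_le _)) hC ?_ fun s hs => h0 s (hVO ((S.basicOpen_le _) ((S.basicOpen_le _) hs)))⟩
  refine (FlatCxLib.flat_coker_bcCx_iff_aux Q _ (-1) (-2) (res₂.comp (RingHom.id _)).toAlgebra rfl).2 ?_
  letI := (res₂.comp (RingHom.id Γ(S, V₁))).toAlgebra
  haveI := hQ1
  infer_instance

end Groth.Agent.H26.FibModel
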