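import Groth.Agent.H26.InterSymm
import Groth.Agent.H26.CompList

/-!
# The intersection form on the closed fibre
-/

set_option autoImplicit false
set_option linter.style.haveILetI false
set_option backward.isDefEq.respectTransparency false
set_option backward.isDefEq.respectTransparency.types false
set_option maxHeartbeats 1000000

universe u

open CategoryTheory CategoryTheory.Limits AlgebraicGeometry TopologicalSpace

noncomputable section

namespace Groth.Agent.H26.InterForm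

section Abstract

variable {ι : Type*} [Fintype ι] (A : ι → ι → ℚ) (m : ι → ℚ)
  (hsym : ∀ i j, A i j = A j i) (hoff : ∀ i j, i ≠ j → 0 ≤ A i j)
  (hrow : ∀ i, ∑ j, m j * A i j = 0) (hm : ∀ i, 0 < m i)

/-- The quadratic form. -/
def form (a : ι → ℚ) : ℚ := ∑ i, ∑ j, a i * a j * A i j

include hsym hrow hm in
theorem two_mul_form (a : ι → ℚ) :
    2 * form A a = -∑ i, ∑ j, m i * m j * A i j * (a i / m i - a j / m j) ^ 2 := by
  have h1 : ∀ i, ∑ j, m i * m j * A i j * (a i / m i) ^ 2 = 0 := fun i => by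
    rw [← Finset.sum_mul]
    simp only [mul_assoc (m i)]
    rw [← Finset.mul_sum, hrow i, mul_zero, zero_mul]
  have h2 : ∀ j, ∑ i, m i * m j * A i j * (a j / m j) ^ 2 = 0 := fun j => by
    rw [← Finset.sum_mul]
    have : ∑ i, m i * m j * A i j = m j * ∑ i, m i * A j i := by
      rw [Finset.mul_sum]
      exact Finset.sum_congr rfl fun i _ => by rw [hsym i j]; ring
    rw [this, hrow j, mul_zero, zero_mul]
  have h3 : ∀ i j, m i * m j * A i j * (a i / m i - a j / m j) ^ 2 =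
      m i * m j * A i j * (a i / m i) ^ 2 + m i * m j * A i j * (a j / m j) ^ 2 - 2 * (a i * a j * A i j) := by
    intro i j
    have := (hm i).ne'
    have := (hm j).ne'
    field_simp
    ring
  simp only [h3, Finset.sum_sub_distrib, Finset.sum_add_distrib]
  rw [Finset.sum_comm (f := fun i j => m i * m j * A i j * (a j / m j) ^ 2)]
  simp only [h1, h2, Finset.sum_const_zero, form, Finset.mul_sum]
  ring

include hoff hm in
theorem term_nonneg (a : ι → ℚ) (i j : ι) : 0 ≤ m i * m j * A i j * (a i / m i - a j / m j) ^ 2 := by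
  by_cases h : i = j
  · subst h
    simp
  · have := hoff i j h
    have := hm i
    have := hm j
    positivity

include hsym hoff hrow hm in
theorem form_nonpos (a : ι → ℚ) : form A a ≤ 0 := by
  have h := two_mul_form A m hsym hrow hm a
  have : 0 ≤ ∑ i, ∑ j, m i * m j * A i j * (a i / m i - a j / m j) ^ 2 :=
    Finset.sum_nonneg fun i _ => Finset.sum_nonneg fun j _ => term_nonneg A m hoff hm a i j
  linarith

include hrow in
theorem form_eq_zero_of_propto {a : ι → ℚ} {c : ℚ} (ha : ∀ i, a i = c * m i) :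
    (∀ i, ∑ j, a j * A i j = 0) ∧ form A a = 0 := by
  have h : ∀ i, ∑ j, a j * A i j = 0 := fun i => by
    simp only [ha, mul_assoc]
    rw [← Finset.mul_sum, hrow i, mul_zero]
  refine ⟨h, ?_⟩
  simp only [form, mul_assoc, ← Finset.mul_sum, h, mul_zero, Finset.sum_const_zero]

include hsym hoff hrow hm in
theorem propto_of_form_eq_zero
    (hconn : ∀ S : Finset ι, S.Nonempty → S ≠ Finset.univ → ∃ i ∈ S, ∃ j ∉ S, A i j ≠ 0)
    {a : ι → ℚ} (ha : form A a = 0) : ∃ c : ℚ, ∀ i, a i = c * m i := by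
  classical
  rcases isEmpty_or_nonempty ι with h | ⟨⟨i₀⟩⟩
  · exact ⟨0, fun i => isEmptyElim i⟩
  have h := two_mul_form A m hsym hrow hm a
  rw [ha, mul_zero, eq_comm, neg_eq_zero,
    Finset.sum_eq_zero_iff_of_nonneg fun i _ => Finset.sum_nonneg fun j _ => term_nonneg A m hoff hm a i j] at h
  let S : Finset ι := Finset.univ.filter fun i => a i / m i = a i₀ / m i₀
  have hS : S = Finset.univ := by
    by_contra hne
    obtain ⟨i, hi, j, hj, hA⟩ := hconn S ⟨i₀, by simp [S]⟩ hne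
    have h2 := (Finset.sum_eq_zero_iff_of_nonneg fun j _ => term_nonneg A m hoff hm a i j).1
      (h i (Finset.mem_univ i)) j (Finset.mem_univ j)
    simp only [mul_eq_zero, (hm i).ne', (hm j).ne', hA, false_or, or_self, ne_eq, OfNat.ofNat_ne_zero,
      not_false_eq_true, pow_eq_zero_iff, sub_eq_zero] at h2
    simp only [S, Finset.mem_filter, Finset.mem_univ, true_and] at hi hj
    exact hj (h2.symm.trans hi)
  refine ⟨a i₀ / m i₀, fun i => ?_⟩
  have hi : i ∈ S := hS ▸ Finset.mem_univ i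
  simp only [S, Finset.mem_filter, Finset.mem_univ, true_and] at hi
  rw [← hi, div_mul_cancel₀ _ (hm i).ne']

include hsym hoff hrow hm in
theorem kernel_iff
    (hconn : ∀ S : Finset ι, S.Nonempty → S ≠ Finset.univ → ∃ i ∈ S, ∃ j ∉ S, A i j ≠ 0)
    (a : ι → ℚ) : (∀ i, ∑ j, a j * A i j = 0) ↔ ∃ c : ℚ, ∀ i, a i = c * m i := by
  refine ⟨fun h => propto_of_form_eq_zero A m hsym hoff hrow hm hconn ?_,
    fun ⟨c, hc⟩ => (form_eq_zero_of_propto A m hrow hc).1⟩
  simp only [form, mul_assoc, ← Finset.mul_sum, h, mul_zero, Finset.sum_const_zero]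

end Abstract

variable {R : Type u} [CommRing R] [IsDomain R] [IsDiscreteValuationRing R]
  {X : Over (Spec (CommRingCat.of R))}

theorem genPt_eq_of_range {Γ₁ Γ₂ : ArSurf.VertComp R X} (h : Set.range Γ₁.ι.base = Set.range Γ₂.ι.base) :
    Models.genPtOf R X Γ₁ = Models.genPtOf R X Γ₂ := by
  have h1 := InterSymm.range_eq_closure Γ₁
  rw [h, InterSymm.range_eq_closure Γ₂] at h1
  have hg : IsGenericPoint (Models.genPtOf R X Γ₂) (closure {Models.genPtOf R X Γ₁}) := h1
  exact (show IsGenericPoint (Models.genPtOf R X Γ₁) (closure {Models.genPtOf R X Γ₁}) from rfl).eq hg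

theorem ker_eq_of_range {Γ₁ Γ₂ : ArSurf.VertComp R X} (h : Set.range Γ₁.ι.base = Set.range Γ₂.ι.base) :
    Γ₁.ι.ker = Γ₂.ι.ker := by
  have hg : Γ₁.ι (genericPoint Γ₁.curve.left) = Γ₂.ι (genericPoint Γ₂.curve.left) := genPt_eq_of_range h
  refine Scheme.IdealSheafData.ext (funext fun U => ?_)
  rcases FibreIdeal.ker_ideal_cases Γ₁.ι U with ⟨h1, e1⟩ | ⟨h1, e1⟩ <;>
    rcases FibreIdeal.ker_ideal_cases Γ₂.ι U with ⟨h2, e2⟩ | ⟨h2, e2⟩
  · rw [e1, e2]
  · exact absurd (hg ▸ h2) h1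
  · exact absurd (hg ▸ h1) h2
  · rw [e1, e2]
    exact congrArg (fun x : U.1 => (U.2.primeIdealOf x).asIdeal) (Subtype.ext hg)

theorem mult_eq_of_range {Γ₁ Γ₂ : ArSurf.VertComp R X} (h : Set.range Γ₁.ι.base = Set.range Γ₂.ι.base) :
    Models.mult R X Γ₁ = Models.mult R X Γ₂ := by
  have key : ∀ x y : X.left, x = y →
      Module.length (X.left.presheaf.stalk x) (X.left.presheaf.stalk x ⧸
        Ideal.map (Models.stalkHom R X x) (IsLocalRing.maximalIdeal R)) =
      Module.length (X.left.presheaf.stalk y) (X.left.presheaf.stalk y ⧸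
        Ideal.map (Models.stalkHom R X y) (IsLocalRing.maximalIdeal R)) := by
    rintro x _ rfl
    rfl
  exact congrArg ENat.toNat (key _ _ (genPt_eq_of_range h))

variable {n : ℕ} {Γc : Fin n → ArSurf.VertComp R X} (hΓ : Models.IsComponentList R X Γc)

include hΓ in
theorem mult_pos [Flat X.hom] [LocallyOfFiniteType X.hom]
    (hreg : ∀ x : X.left, IsRegularLocalRing (X.left.presheaf.stalk x)) (i : Fin n) :
    0 < Models.mult R X (Γc i) := by
  haveI : IsLocallyNoetherian X.left := LocallyOfFiniteType.isLocallyNoetherian X.hom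
  obtain ⟨ϖ, hirr⟩ := IsDiscreteValuationRing.exists_irreducible R
  have hϖ := hirr.maximalIdeal_eq
  set x := Models.genPtOf R X (Γc i)
  have hs := FibreIdeal.genPt_mem X Γc hΓ i
  have hfb : DimFormula.fb X.hom x = 0 := (DimFormula.fb_eq_zero_iff X.hom x).2 fun w hw he =>
    FibreIdeal.genPt_maximal X Γc hΓ i hw (he.trans hs)
  have hc : DimFormula.codim x ≤ 1 := by
    have h := DimFormula.codim_le_add X.hom x
    have h' := FibDimOne.codim_le_one (R := R) (X.hom x)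
    rw [hfb] at h
    omega
  have hdim : ringKrullDim (X.left.presheaf.stalk x) ≤ 1 := by
    rw [DimFormula.ringKrullDim_stalk]
    exact_mod_cast hc
  haveI : IsDomain (X.left.presheaf.stalk x) := (@RegUFD.ufd _ _ (hreg x)).1
  haveI : Ring.KrullDimLE 1 (X.left.presheaf.stalk x) := Ring.krullDimLE_iff.2 hdim
  obtain ⟨U, hU, hxU, -⟩ := exists_isAffineOpen_mem_and_subset (x := x) (U := ⊤) trivial
  letI := TopCat.Presheaf.algebra_section_stalk X.left.presheaf (⟨x, hxU⟩ : U)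
  haveI := hU.isLocalization_stalk ⟨x, hxU⟩
  have e : Ideal.map (Models.stalkHom R X x) (IsLocalRing.maximalIdeal R) =
      Ideal.span {algebraMap Γ(X.left, U) (X.left.presheaf.stalk x) (FibreIdeal.unifOn X ϖ U)} := by
    rw [hϖ, Ideal.map_span, Set.image_singleton]
    congr 2
    exact (X.left.presheaf.germ_res_apply (homOfLE (le_top : U ≤ ⊤)) x hxU _).symm
  rw [Models.mult, Nat.pos_iff_ne_zero, ne_eq, ENat.toNat_eq_zero, not_or]
  refine ⟨?_, ?_⟩
  · rw [Module.length_eq_zero_iff, not_subsingleton_iff_nontrivial]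
    refine Ideal.Quotient.nontrivial_iff.2 (ne_top_of_le_ne_top (IsLocalRing.maximalIdeal.isMaximal _).ne_top ?_)
    rw [e, Ideal.span_singleton_le_iff_mem]
    exact (IsLocalization.AtPrime.to_map_mem_maximal_iff (X.left.presheaf.stalk x)
      (hU.primeIdealOf ⟨x, hxU⟩).asIdeal _).2 ((FibreIdeal.mem_fibre_iff X hϖ hU x hxU).1 hs)
  · rw [FibreIdeal.length_congr e]
    refine Module.length_ne_top_iff.2 (isFiniteLength_quotient_span_singleton _ ?_)
    refine mem_nonZeroDivisors_of_ne_zero fun h0 => ?_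
    obtain ⟨c, hc⟩ := (IsLocalization.map_eq_zero_iff (hU.primeIdealOf ⟨x, hxU⟩).asIdeal.primeCompl _ _).1 h0
    exact c.2 ((mem_nonZeroDivisors_iff_right.1
      (FibreIdeal.unifOn_mem_nonZeroDivisors X hirr.ne_zero hU) _ hc).symm ▸ Ideal.zero_mem _)

variable (L : Fin n → X.left.Modules) (hL : ∀ i, ClSub.IsInverseOf (L i) (ClSub.idealMod (Γc i).ι.ker))

include hΓ hL in
theorem inter_symm [IsProper X.hom] [Flat X.hom]
    (hreg : ∀ x : X.left, IsRegularLocalRing (X.left.presheaf.stalk x)) (i j : Fin n) :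
    ArSurf.inter R X (L j) (Γc i) = ArSurf.inter R X (L i) (Γc j) := by
  have heff := (FibreIdeal.result X Γc hΓ hreg).1
  by_cases hij : i = j
  · rw [hij]
  · exact InterSymm.inter_symm (Γc i) (Γc j) (fun h => hij (hΓ.1 h)) (heff i) (heff j) (hL i) (hL j)

include hΓ hL in
theorem inter_offDiag [IsProper X.hom] [Flat X.hom]
    (hreg : ∀ x : X.left, IsRegularLocalRing (X.left.presheaf.stalk x)) {i j : Fin n} (hij : i ≠ j) :
    0 ≤ ArSurf.inter R X (L j) (Γc i) ∧ (ArSurf.inter R X (L j) (Γc i) = 0 ↔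
      Disjoint (Set.range (Γc i).ι.base) (Set.range (Γc j).ι.base)) := by
  have hs : ((Γc j).ι.ker.support : Set X.left) = Set.range (Γc j).ι.base := by
    rw [Scheme.Hom.support_ker]
    exact (Γc j).ι.isClosedEmbedding.isClosed_range.closure_eq
  have h := InterDiv.inter_nonneg_and_eq_zero_iff (Γc i) ((FibreIdeal.result X Γc hΓ hreg).1 j)
    (by rw [hs]; exact InterSymm.genPt_notMem (Γc i) (Γc j) fun h => hij (hΓ.1 h)) (hL j)
  rwa [hs] at h

include hΓ hL in
theorem exists_inter_ne_zero [IsProper X.hom] [Flat X.hom]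
    (hreg : ∀ x : X.left, IsRegularLocalRing (X.left.presheaf.stalk x))
    (hconn : _root_.IsConnected (Models.specialFibreSet R X)) (S : Finset (Fin n)) (hS : S.Nonempty)
    (hS' : S ≠ Finset.univ) : ∃ i ∈ S, ∃ j ∉ S, ArSurf.inter R X (L j) (Γc i) ≠ 0 := by
  classical
  by_contra hcon
  simp only [not_exists, not_and, ne_eq, not_not] at hcon
  have hcl : ∀ T : Finset (Fin n), IsClosed (⋃ i ∈ T, Set.range (Γc i).ι.base) := fun T =>
    T.finite_toSet.isClosed_biUnion fun i _ => (Γc i).ι.isClosedEmbedding.isClosed_range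
  have hsub : ∀ i, Set.range (Γc i).ι.base ⊆ Models.specialFibreSet R X := fun i =>
    (show Set.range (Γc i).ι.base ∈ Models.fibreComponents R X from hΓ.2 ▸ ⟨i, rfl⟩).1.2
  have hcov : Models.specialFibreSet R X ⊆
      (⋃ i ∈ S, Set.range (Γc i).ι.base) ∪ ⋃ i ∈ Sᶜ, Set.range (Γc i).ι.base := by
    intro x hx
    haveI : IsLocallyNoetherian X.left := LocallyOfFiniteType.isLocallyNoetherian X.hom
    obtain ⟨U, hUmem, hxU⟩ : ∃ C ∈ Models.fibreComponents R X, x ∈ C := by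
      let Z : Set (Set X.left) := {T | IsIrreducible T ∧ T ⊆ Models.specialFibreSet R X}
      obtain ⟨C, hsubC, hC⟩ := zorn_subset_nonempty Z (fun c hc hchain hne => by
        refine ⟨⋃₀ c, ⟨⟨?_, ?_⟩, Set.sUnion_subset fun T hT => (hc hT).2⟩, fun T hT => Set.subset_sUnion_of_mem hT⟩
        · obtain ⟨T, hT⟩ := hne
          exact (hc hT).1.1.mono (Set.subset_sUnion_of_mem hT)
        · intro u v hu hv ⟨a, ⟨T, hT, haT⟩, hau⟩ ⟨b, ⟨T', hT', hbT'⟩, hbv⟩
          rcases hchain.total hT hT' with h | h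
          · obtain ⟨q, hq, hq'⟩ := (hc hT').1.2 u v hu hv ⟨a, h haT, hau⟩ ⟨b, hbT', hbv⟩
            exact ⟨q, ⟨T', hT', hq⟩, hq'⟩
          · obtain ⟨q, hq, hq'⟩ := (hc hT).1.2 u v hu hv ⟨a, haT, hau⟩ ⟨b, h hbT', hbv⟩
            exact ⟨q, ⟨T, hT, hq⟩, hq'⟩) {x} ⟨isIrreducible_singleton, Set.singleton_subset_iff.2 hx⟩
      exact ⟨C, hC, hsubC rfl⟩
    rw [← hΓ.2] at hUmem
    obtain ⟨i, rfl⟩ := hUmem
    by_cases hi : i ∈ S
    · exact Or.inl (Set.mem_biUnion hi hxU)
    · exact Or.inr (Set.mem_biUnion (Finset.mem_compl.2 hi) hxU)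
  obtain ⟨i₀, hi₀⟩ := hS
  obtain ⟨j₀, hj₀⟩ : ∃ j, j ∉ S := by
    by_contra h
    simp only [not_exists, not_not] at h
    exact hS' (Finset.eq_univ_iff_forall.2 h)
  have hne : ∀ (T : Finset (Fin n)) (k), k ∈ T →
      (Models.specialFibreSet R X ∩ ⋃ i ∈ T, Set.range (Γc i).ι.base).Nonempty := fun T k hk =>
    ⟨_, hsub k ⟨genericPoint _, rfl⟩, Set.mem_biUnion hk ⟨genericPoint _, rfl⟩⟩
  obtain ⟨x, -, hx1, hx2⟩ := isPreconnected_closed_iff.1 hconn.isPreconnected _ _ (hcl S) (hcl Sᶜ) hcov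
    (hne S i₀ hi₀) (hne Sᶜ j₀ (Finset.mem_compl.2 hj₀))
  simp only [Set.mem_iUnion] at hx1 hx2
  obtain ⟨i, hi, hxi⟩ := hx1
  obtain ⟨j, hj, hxj⟩ := hx2
  have hj' := Finset.mem_compl.1 hj
  have hij : i ≠ j := fun h => hj' (h ▸ hi)
  exact Set.disjoint_left.1 ((inter_offDiag hΓ L hL hreg hij).2.1 (hcon i hi j hj')) hxi hxj

/-- The intersection matrix. -/
def mat (Γc : Fin n → ArSurf.VertComp R X) (L : Fin n → X.left.Modules) (i j : Fin n) : ℚ :=
  (ArSurf.inter R X (L j) (Γc i) : ℚ)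

include hΓ hL in
theorem mat_spec [IsProper X.hom] [Flat X.hom]
    (hreg : ∀ x : X.left, IsRegularLocalRing (X.left.presheaf.stalk x)) :
    (∀ i j, mat Γc L i j = mat Γc L j i) ∧ (∀ i j, i ≠ j → 0 ≤ mat Γc L i j) ∧
      (∀ i, ∑ j, (Models.mult R X (Γc j) : ℚ) * mat Γc L i j = 0) ∧
      ∀ i, (0 : ℚ) < (Models.mult R X (Γc i) : ℚ) := by
  refine ⟨fun i j => by rw [mat, mat, inter_symm hΓ L hL hreg i j], fun i j h => ?_, fun i => ?_,
    fun i => by exact_mod_cast mult_pos hΓ hreg i⟩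
  · exact Int.cast_nonneg (inter_offDiag hΓ L hL hreg h).1
  · have h := congrArg (fun z : ℤ => (z : ℚ)) (ArInter.sum_mult_mul_inter X Γc hreg hΓ L hL i)
    simp only [Int.cast_sum, Int.cast_mul, Int.cast_natCast, Int.cast_zero] at h
    exact h

theorem cast_sum_eq_form (a : Fin n → ℤ) :
    ((∑ q : Fin n × Fin n, a q.1 * a q.2 * ArSurf.inter R X (L q.2) (Γc q.1) : ℤ) : ℚ) =
      form (mat Γc L) (fun i => (a i : ℚ)) := by
  rw [Fintype.sum_prod_type]
  simp only [Int.cast_sum, Int.cast_mul, form, mat]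

include hΓ hL in
theorem sum_nonpos [IsProper X.hom] [Flat X.hom]
    (hreg : ∀ x : X.left, IsRegularLocalRing (X.left.presheaf.stalk x)) (a : Fin n → ℤ) :
    (∑ q : Fin n × Fin n, a q.1 * a q.2 * ArSurf.inter R X (L q.2) (Γc q.1)) ≤ 0 := by
  obtain ⟨h1, h2, h3, h4⟩ := mat_spec hΓ L hL hreg
  rw [← Int.cast_nonpos (R := ℚ), cast_sum_eq_form L a]
  exact form_nonpos _ _ h1 h2 h3 h4 _

include hΓ hL in
theorem sum_eq_zero_iff [IsProper X.hom] [Flat X.hom]
    (hreg : ∀ x : X.left, IsRegularLocalRing (X.left.presheaf.stalk x))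
    (hconn : _root_.IsConnected (Models.specialFibreSet R X)) (a : Fin n → ℤ) :
    (∑ q : Fin n × Fin n, a q.1 * a q.2 * ArSurf.inter R X (L q.2) (Γc q.1)) = 0 ↔
      ∃ c : ℚ, ∀ i, (a i : ℚ) = c * (Models.mult R X (Γc i) : ℚ) := by
  obtain ⟨h1, h2, h3, h4⟩ := mat_spec hΓ L hL hreg
  rw [← Int.cast_eq_zero (α := ℚ), cast_sum_eq_form L a]
  refine ⟨fun h => propto_of_form_eq_zero _ _ h1 h2 h3 h4 (fun S hS hS' => ?_) h,
    fun ⟨c, hc⟩ => (form_eq_zero_of_propto _ _ h3 hc).2⟩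
  obtain ⟨i, hi, j, hj, h⟩ := exists_inter_ne_zero hΓ L hL hreg hconn S hS hS'
  exact ⟨i, hi, j, hj, Int.cast_ne_zero.2 h⟩

include hΓ hL in
theorem kernel_iff_propto [IsProper X.hom] [Flat X.hom]
    (hreg : ∀ x : X.left, IsRegularLocalRing (X.left.presheaf.stalk x))
    (hconn : _root_.IsConnected (Models.specialFibreSet R X)) (a : Fin n → ℤ) :
    (∀ i, ∑ j, a j * ArSurf.inter R X (L j) (Γc i) = 0) ↔
      ∃ c : ℚ, ∀ i, (a i : ℚ) = c * (Models.mult R X (Γc i) : ℚ) := by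
  obtain ⟨h1, h2, h3, h4⟩ := mat_spec hΓ L hL hreg
  rw [← kernel_iff (mat Γc L) _ h1 h2 h3 h4 fun S hS hS' => by
    obtain ⟨i, hi, j, hj, h⟩ := exists_inter_ne_zero hΓ L hL hreg hconn S hS hS'
    exact ⟨i, hi, j, hj, Int.cast_ne_zero.2 h⟩]
  refine forall_congr' fun i => ?_
  simp only [mat, ← Int.cast_mul, ← Int.cast_sum, Int.cast_eq_zero]

end Groth.Agent.H26.InterForm
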