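import Groth.Prelude.Def_Lef
import Groth.Agent.QCoh.Devissage

/-!
# Clopen subsets and idempotent functions; functions on formal neighbourhoods
-/

set_option autoImplicit false
set_option linter.style.haveILetI false
set_option backward.isDefEq.respectTransparency false
set_option backward.isDefEq.respectTransparency.types false

universe u

open CategoryTheory AlgebraicGeometry TopologicalSpace Opposite

namespace Groth.Agent.H26.LefIdem

variable {T : Scheme.{u}}

theorem basicOpen_disjoint {e : Γ(T, ⊤)} (he : IsIdempotentElem e) :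
    T.basicOpen e ⊓ T.basicOpen (1 - e) = ⊥ := by
  rw [← Scheme.basicOpen_mul, mul_sub, mul_one, he, sub_self, Scheme.basicOpen_zero]

theorem basicOpen_cover (e : Γ(T, ⊤)) : T.basicOpen e ⊔ T.basicOpen (1 - e) = ⊤ := by
  refine eq_top_iff.mpr fun w _ => ?_
  by_contra hw
  simp only [Opens.mem_sup, Scheme.mem_basicOpen_top, not_or] at hw
  have hsum : T.presheaf.germ ⊤ w trivial e + T.presheaf.germ ⊤ w trivial (1 - e) = 1 := by
    rw [← map_add, add_sub_cancel, map_one]
  rcases IsLocalRing.isUnit_or_isUnit_of_add_one hsum with h | h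
  · exact hw.1 h
  · exact hw.2 h

theorem isClopen_basicOpen {e : Γ(T, ⊤)} (he : IsIdempotentElem e) :
    IsClopen (T.basicOpen e : Set T) := by
  refine ⟨?_, (T.basicOpen e).isOpen⟩
  have : (T.basicOpen e : Set T) = ((T.basicOpen (1 - e) : T.Opens) : Set T)ᶜ := by
    ext w
    refine ⟨fun h h' => ?_, fun h => ?_⟩
    · exact (basicOpen_disjoint he ▸ ⟨h, h'⟩ : w ∈ (⊥ : T.Opens))
    · rcases ((basicOpen_cover e).ge (show w ∈ (⊤ : T.Opens) from trivial)) with h1 | h1
      · exact h1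
      · exact absurd h1 h
  rw [this]
  exact (T.basicOpen (1 - e)).isOpen.isClosed_compl

theorem germ_eq_one {e : Γ(T, ⊤)} (he : IsIdempotentElem e) {w : T} (hw : w ∈ T.basicOpen e) :
    T.presheaf.germ ⊤ w trivial e = 1 := by
  have hu : IsUnit (T.presheaf.germ ⊤ w trivial e) := (Scheme.mem_basicOpen_top ..).1 hw
  refine hu.mul_left_cancel ?_
  rw [mul_one, ← map_mul, he]

theorem germ_eq_zero {e : Γ(T, ⊤)} (he : IsIdempotentElem e) {w : T} (hw : w ∉ T.basicOpen e) :
    T.presheaf.germ ⊤ w trivial e = 0 := by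
  have h : w ∈ T.basicOpen (1 - e) :=
    ((basicOpen_cover e).ge (show w ∈ (⊤ : T.Opens) from trivial)).resolve_left hw
  have := germ_eq_one he.one_sub h
  rwa [map_sub, map_one, sub_eq_self] at this

theorem ext_of_basicOpen {e f : Γ(T, ⊤)} (he : IsIdempotentElem e) (hf : IsIdempotentElem f)
    (h : T.basicOpen e = T.basicOpen f) : e = f := by
  refine TopCat.Presheaf.section_ext T.sheaf ⊤ e f fun w hw => ?_
  by_cases hwe : w ∈ T.basicOpen e
  · exact (germ_eq_one he hwe).trans (germ_eq_one hf (h ▸ hwe)).symm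
  · exact (germ_eq_zero he hwe).trans (germ_eq_zero hf (h ▸ hwe)).symm

theorem exists_idempotent {C : Set T} (hC : IsClopen C) :
    ∃ e : Γ(T, ⊤), IsIdempotentElem e ∧ (T.basicOpen e : Set T) = C := by
  let A : T.Opens := ⟨C, hC.isOpen⟩
  let B : T.Opens := ⟨Cᶜ, hC.compl.isOpen⟩
  let U : ULift.{u} Bool → T.Opens := fun b => if b.down then A else B
  let s : ∀ b, Γ(T, U b) := fun b => if b.down then 1 else 0
  have hdis : ∀ w, w ∈ A → w ∈ B → False := fun w h h' => h' h
  obtain ⟨e, he, -⟩ := T.sheaf.existsUnique_gluing' U ⊤ (fun b => homOfLE le_top) (fun w _ => by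
      rw [Opens.mem_iSup]
      by_cases h : w ∈ C
      · exact ⟨⟨true⟩, h⟩
      · exact ⟨⟨false⟩, h⟩) s (fun a b => by
      refine TopCat.Presheaf.section_ext T.sheaf _ _ _ fun w hw => ?_
      obtain ⟨a⟩ := a
      obtain ⟨b⟩ := b
      rcases a with _ | _ <;> rcases b with _ | _
      · rfl
      · exact absurd hw.1 (fun h => hdis w hw.2 h)
      · exact absurd hw.2 (fun h => hdis w hw.1 h)
      · rfl)
  have hgerm : ∀ (b : ULift.{u} Bool) (w : T) (hw : w ∈ U b),
      T.presheaf.germ ⊤ w trivial e = T.presheaf.germ (U b) w hw (s b) := fun b w hw => by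
    rw [← he b]
    exact (TopCat.Presheaf.germ_res_apply T.presheaf (homOfLE le_top) w hw e).symm
  have h1 : ∀ w ∈ C, T.presheaf.germ ⊤ w trivial e = 1 := fun w hw => by
    rw [hgerm ⟨true⟩ w hw]; simp [s]
  have h0 : ∀ w ∉ C, T.presheaf.germ ⊤ w trivial e = 0 := fun w hw => by
    rw [hgerm ⟨false⟩ w hw]; simp [s]
  refine ⟨e, ?_, ?_⟩
  · refine TopCat.Presheaf.section_ext T.sheaf ⊤ _ _ fun w hw => ?_
    show T.presheaf.germ ⊤ w trivial (e * e) = T.presheaf.germ ⊤ w trivial e
    by_cases h : w ∈ C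
    · rw [map_mul, h1 w h, mul_one]
    · rw [map_mul, h0 w h, mul_zero]
  · ext w
    rw [SetLike.mem_coe, Scheme.mem_basicOpen_top]
    refine ⟨fun hu => by_contra fun h => ?_, fun h => by rw [h1 w h]; exact isUnit_one⟩
    rw [h0 w h] at hu
    exact not_isUnit_zero hu

theorem eq_one_or_zero_of_connected [ConnectedSpace T] {e : Γ(T, ⊤)} (he : IsIdempotentElem e) :
    e = 0 ∨ e = 1 := by
  rcases isClopen_iff.mp (isClopen_basicOpen he) with h | h
  · exact .inl (ext_of_basicOpen he IsIdempotentElem.zero (by rw [Scheme.basicOpen_zero]; ext1; exact h))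
  · exact .inr (ext_of_basicOpen he IsIdempotentElem.one (by rw [Scheme.basicOpen_of_isUnit _ isUnit_one]; ext1; exact h))

/-! ### Homomorphisms out of the structure sheaf -/

variable {U : Scheme.{u}}

theorem app_homOfTop {P : U.Modules} (t : Γ(P, ⊤)) :
    (QCoh.homOfTop t).app ⊤ (1 : Γ(U, ⊤)) = t := by
  rw [QCoh.homOfTop_app, one_smul]
  exact congrArg (fun f => P.presheaf.map f t) (Subsingleton.elim _ (𝟙 (op ⊤))) |>.trans (by simp)

theorem hom_ext_one {P : U.Modules} (φ ψ : Coh.structureModule U ⟶ P)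
    (h : φ.app ⊤ (1 : Γ(U, ⊤)) = ψ.app ⊤ (1 : Γ(U, ⊤))) : φ = ψ := by
  have key : ∀ (χ : Coh.structureModule U ⟶ P) (W : U.Opens) (a : Γ(U, W)),
      χ.app W a = a • P.presheaf.map (homOfLE (le_top : W ≤ ⊤)).op (χ.app ⊤ (1 : Γ(U, ⊤))) := by
    intro χ W a
    have h1 : χ.app W (1 : Γ(U, W)) = P.presheaf.map (homOfLE (le_top : W ≤ ⊤)).op (χ.app ⊤ (1 : Γ(U, ⊤))) := by
      refine Eq.trans ?_ (PresheafOfModules.naturality_apply χ.val (homOfLE (le_top : W ≤ ⊤)).op (1 : Γ(U, ⊤)))
      show χ.app W (1 : Γ(U, W)) = χ.app W (U.presheaf.map (homOfLE (le_top : W ≤ ⊤)).op (1 : Γ(U, ⊤)))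
      exact congrArg (χ.app W) (map_one (U.presheaf.map (homOfLE (le_top : W ≤ ⊤)).op).hom).symm
    refine (congrArg _ (mul_one a).symm).trans ?_
    rw [← h1]
    exact Scheme.Modules.Hom.app_smul (M := Coh.structureModule U) χ a (1 : Γ(U, W))
  refine Scheme.Modules.hom_ext φ ψ (fun W => ?_)
  ext a
  exact (key φ W a).trans ((congrArg (fun t => (show Γ(U, W) from a) • P.presheaf.map (homOfLE (le_top : W ≤ ⊤)).op t) h).trans (key ψ W a).symm)

end Groth.Agent.H26.LefIdem
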