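import Groth.Agent.S6845
import Groth.Agent.FComplLib.OshSurj
import Groth.Prelude.Def_FSch5
import Mathlib.RingTheory.AdicCompletion.AsTensorProduct
import Mathlib.RingTheory.AdicCompletion.Algebra
import Mathlib.RingTheory.Flat.EquationalCriterion
import Mathlib.RingTheory.RingHom.Flat
import Mathlib.Topology.Sheaves.Stalks

/-!
# The completion of a locally Noetherian scheme is flat over it
-/

noncomputable section

set_option linter.style.haveILetI false
set_option backward.isDefEq.respectTransparency false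
set_option backward.isDefEq.respectTransparency.types false

universe u

open CategoryTheory CategoryTheory.Limits TopologicalSpace Opposite AlgebraicGeometry

namespace Groth.Agent.H26.ComplFlat

section Stalk

variable {X Y : TopCat.{u}} (f : X ⟶ Y) (hind : Topology.IsInducing f)
  (OX : TopCat.Sheaf CommRingCat.{u} X) (OY : TopCat.Sheaf CommRingCat.{u} Y)
  (c : OY ⟶ ((Opens.map f).sheafPushforwardContinuous CommRingCat.{u}
    (Opens.grothendieckTopology Y) (Opens.grothendieckTopology X)).obj OX)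
  (B : Set (Opens Y)) (hB : Opens.IsBasis B) (hflat : ∀ U ∈ B, (c.hom.app (op U)).hom.Flat)

include hind hB hflat in
theorem flat_stalk (x : X) : ((TopCat.Presheaf.stalkFunctor CommRingCat.{u} (f x)).map
      (show OY.presheaf ⟶ (TopCat.Presheaf.pushforward CommRingCat.{u} f).obj OX.presheaf from c.hom) ≫
    TopCat.Presheaf.stalkPushforward CommRingCat.{u} f OX.presheaf x).hom.Flat := by
  classical
  let cf : OY.presheaf ⟶ (TopCat.Presheaf.pushforward CommRingCat.{u} f).obj OX.presheaf := c.hom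
  let φ : OY.presheaf.stalk (f x) →+* OX.presheaf.stalk x := ((TopCat.Presheaf.stalkFunctor CommRingCat.{u} (f x)).map cf ≫
    TopCat.Presheaf.stalkPushforward CommRingCat.{u} f OX.presheaf x).hom
  letI := φ.toAlgebra
  show Module.Flat (OY.presheaf.stalk (f x)) (OX.presheaf.stalk x)
  have hφ : ∀ (U : Opens Y) (hU : f x ∈ U) (a : OY.presheaf.obj (op U)),
      φ ((OY.presheaf.germ U (f x) hU).hom a) =
        (OX.presheaf.germ ((Opens.map f).obj U) x hU).hom ((cf.app (op U)).hom a) := fun U hU a => by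
    have h1 : OY.presheaf.germ U (f x) hU ≫ (TopCat.Presheaf.stalkFunctor CommRingCat.{u} (f x)).map cf ≫
        TopCat.Presheaf.stalkPushforward CommRingCat.{u} f OX.presheaf x =
        cf.app (op U) ≫ OX.presheaf.germ ((Opens.map f).obj U) x hU := by
      rw [TopCat.Presheaf.stalkFunctor_map_germ_assoc, TopCat.Presheaf.stalkPushforward_germ]
    exact ConcreteCategory.congr_hom h1 a
  -- small neighbourhoods pulled back from the base
  have hsmall : ∀ W : Opens X, x ∈ W → ∀ V : Opens Y, f x ∈ V →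
      ∃ U ∈ B, f x ∈ U ∧ U ≤ V ∧ (Opens.map f).obj U ≤ W := fun W hW V hV => by
    obtain ⟨T, hT, hTW⟩ := hind.isOpen_iff.1 W.2
    obtain ⟨U, hU, hxU, hle⟩ := Opens.isBasis_iff_nbhd.1 hB (U := V ⊓ ⟨T, hT⟩) (x := f x)
      ⟨hV, show x ∈ f ⁻¹' T by rw [hTW]; exact hW⟩
    refine ⟨U, hU, hxU, fun z hz => (hle hz).1, fun z hz => ?_⟩
    have hz' : z ∈ f ⁻¹' T := (hle hz).2
    rwa [hTW] at hz' 
  refine Module.Flat.iff_forall_isTrivialRelation.2 fun {l a z} hrel => ?_
  choose Va hVa a' ha' using fun i => TopCat.Presheaf.exists_germ_eq (F := OY.presheaf) (a i)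
  choose Wz hWz z' hz' using fun i => TopCat.Presheaf.exists_germ_eq (F := OX.presheaf) (z i)
  obtain ⟨U, hU, hxU, hUV, hUW⟩ := hsmall (⟨⋂ i, (Wz i : Set X), isOpen_iInter_of_finite fun i => (Wz i).2⟩)
    (Set.mem_iInter.2 hWz) (⟨⋂ i, (Va i : Set Y), isOpen_iInter_of_finite fun i => (Va i).2⟩) (Set.mem_iInter.2 hVa)
  let a₁ : Fin l → OY.presheaf.obj (op U) := fun i =>
    (OY.presheaf.map (homOfLE (fun y hy => Set.mem_iInter.1 (hUV hy) i : U ≤ Va i)).op).hom (a' i)
  let z₁ : Fin l → OX.presheaf.obj (op ((Opens.map f).obj U)) := fun i =>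
    (OX.presheaf.map (homOfLE (fun y hy => Set.mem_iInter.1 (hUW hy) i : (Opens.map f).obj U ≤ Wz i)).op).hom (z' i)
  have ha₁ : ∀ i, (OY.presheaf.germ U (f x) hxU).hom (a₁ i) = a i := fun i =>
    (TopCat.Presheaf.germ_res_apply OY.presheaf _ (f x) hxU (a' i)).trans (ha' i)
  have hz₁ : ∀ i, (OX.presheaf.germ ((Opens.map f).obj U) x hxU).hom (z₁ i) = z i := fun i =>
    (TopCat.Presheaf.germ_res_apply OX.presheaf _ x hxU (z' i)).trans (hz' i)
  let cfr : ∀ V : Opens Y, OY.presheaf.obj (op V) →+* OX.presheaf.obj (op ((Opens.map f).obj V)) :=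
    fun V => (cf.app (op V)).hom
  have hsum : (OX.presheaf.germ ((Opens.map f).obj U) x hxU).hom (∑ i, cfr U (a₁ i) * z₁ i) =
      (OX.presheaf.germ ((Opens.map f).obj U) x hxU).hom 0 := by
    rw [map_zero, map_sum, ← hrel]
    refine Finset.sum_congr rfl fun i _ => ?_
    rw [map_mul, show (OX.presheaf.germ ((Opens.map f).obj U) x hxU).hom (cfr U (a₁ i)) = φ (a i) from
      by rw [← ha₁, hφ U hxU]; rfl, hz₁]
    rfl
  obtain ⟨W₀, hxW₀, i₁, i₂, he⟩ := OX.presheaf.germ_eq x hxU hxU _ _ hsum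
  obtain ⟨U', hU', hxU', hU'U, hU'W⟩ := hsmall W₀ hxW₀ U hxU
  let R := OY.presheaf.obj (op U')
  let S := OX.presheaf.obj (op ((Opens.map f).obj U'))
  letI : Algebra R S := (cfr U').toAlgebra
  haveI : Module.Flat R S := hflat U' hU'
  let a₂ : Fin l → R := fun i => (OY.presheaf.map (homOfLE hU'U).op).hom (a₁ i)
  let z₂ : Fin l → S := fun i => (OX.presheaf.map ((Opens.map f).map (homOfLE hU'U)).op).hom (z₁ i)
  have hrel' : ∑ i, a₂ i • z₂ i = 0 := by
    have h := congrArg (OX.presheaf.map (homOfLE hU'W).op).hom he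
    simp only [← RingHom.comp_apply, ← CommRingCat.hom_comp, ← Functor.map_comp, map_zero] at h
    rw [show ∑ i, a₂ i • z₂ i = (OX.presheaf.map ((Opens.map f).map (homOfLE hU'U)).op).hom
        (∑ i, cfr U (a₁ i) * z₁ i) from ?_]
    · exact h
    rw [map_sum]
    refine Finset.sum_congr rfl fun i _ => ?_
    rw [map_mul]
    exact congrArg (fun t => t * z₂ i) (ConcreteCategory.congr_hom (cf.naturality (homOfLE hU'U).op) (a₁ i))
  obtain ⟨k, m, y, h1, h2⟩ := Module.Flat.isTrivialRelation_of_sum_smul_eq_zero (R := R) (M := S) (f := a₂) (x := z₂) hrel'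
  let gY := (OY.presheaf.germ U' (f x) hxU').hom
  let gX := (OX.presheaf.germ ((Opens.map f).obj U') x hxU').hom
  refine ⟨k, fun i j => gY (m i j), fun j => gX (y j), fun i => ?_, fun j => ?_⟩
  · have hz₂ : gX (z₂ i) = z i :=
      (TopCat.Presheaf.germ_res_apply OX.presheaf _ x hxU' (z₁ i)).trans (hz₁ i)
    rw [← hz₂, h1, map_sum]
    refine Finset.sum_congr rfl fun j _ => ?_
    show gX (cfr U' (m i j) * y j) = φ (gY (m i j)) * gX (y j)
    rw [map_mul, hφ]
    rfl
  · have ha₂ : ∀ i, gY (a₂ i) = a i := fun i =>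
      (TopCat.Presheaf.germ_res_apply OY.presheaf _ (f x) hxU' (a₁ i)).trans (ha₁ i)
    simp only [← ha₂, ← map_mul, ← map_sum]
    rw [h2 j, map_zero]

end Stalk

theorem appLE_closedImmersion {Z X : Scheme.{u}} (i : Z ⟶ X) [IsClosedImmersion i] (W : X.affineOpens)
    (V : Z.Opens) (hV : V = i ⁻¹ᵁ W.1) :
    Function.Surjective (i.appLE W.1 V hV.le).hom ∧ RingHom.ker (i.appLE W.1 V hV.le).hom = i.ker.ideal W := by
  subst hV
  rw [← Scheme.Hom.app_eq_appLE]
  exact ⟨i.app_surjective _ W.2, (Scheme.Hom.ker_apply i W).symm⟩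

theorem map_eq_of_step (F : ℕᵒᵖ ⥤ Type u) (v : ∀ j, F.obj j)
    (hv : ∀ n : ℕ, F.map (homOfLE (Nat.le_add_right n 1)).op (v (op (n + 1))) = v (op n))
    {a b : ℕᵒᵖ} (r : a ⟶ b) : F.map r (v a) = v b := by
  obtain ⟨a⟩ := a
  obtain ⟨b⟩ := b
  have hb : b ≤ a := r.unop.le
  rw [show r = (homOfLE hb).op from Subsingleton.elim _ _]
  clear r
  induction a, hb using Nat.le_induction with
  | base =>
    rw [show (homOfLE (le_refl b)).op = 𝟙 (op b) from rfl, F.map_id]
    rfl
  | succ a hba ih =>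
    rw [show (homOfLE (hba.trans (Nat.le_add_right a 1))).op =
      (homOfLE (Nat.le_add_right a 1)).op ≫ (homOfLE hba).op from rfl, F.map_comp]
    exact (congrArg (F.map (homOfLE hba).op) (hv a)).trans ih

theorem OshProj_levelMap (𝔛 : FSch.Sys.{u}) (h : 𝔛.IsFormal) (n : ℕ) :
    𝔛.OshProj h (n + 1) ≫ 𝔛.levelMap h n = 𝔛.OshProj h n := by
  have := limit.w (𝔛.levelRing h) (homOfLE (Nat.le_add_right n 1)).op
  rw [FSch.Sys.levelRing_map_succ] at this
  exact this

variable (X : Scheme.{u}) [IsLocallyNoetherian X] (𝓘 : X.IdealSheafData)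
  (h : (FSch.completionAlong X 𝓘).IsFormal)

theorem flat_sections (W : X.affineOpens) :
    ((FSch.schSharp (FSch.completionAlong X 𝓘) h (FSch.completionToX X 𝓘) (FSch.completionToX_comm X 𝓘)).hom.app
      (op W.1)).hom.Flat := by
  classical
  let 𝔛 := FSch.completionAlong X 𝓘
  let U : (𝔛.X 0).Opens := (FSch.completionToX X 𝓘 0) ⁻¹ᵁ W.1
  let A := Γ(X, W.1)
  haveI : IsNoetherianRing A := IsLocallyNoetherian.component_noetherian W
  let I : Ideal A := 𝓘.ideal W
  let sharp := (FSch.schSharp 𝔛 h (FSch.completionToX X 𝓘) (FSch.completionToX_comm X 𝓘)).hom.app (op W.1)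
  let S : CommRingCat.{u} := (𝔛.Osh h).obj.obj (op U)
  let π : ∀ n, S ⟶ (𝔛.levelObj h n).obj.obj (op U) := fun n => (𝔛.OshProj h n).hom.app (op U)
  let lev : ∀ n, A →+* ↥((𝔛.levelObj h n).obj.obj (op U)) := fun n =>
    ((FSch.schLevel 𝔛 h (FSch.completionToX X 𝓘) (FSch.completionToX_comm X 𝓘) n).hom.app (op W.1)).hom
  have hfac : ∀ n a, (π n).hom (sharp.hom a) = lev n a := fun n a =>
    ConcreteCategory.congr_hom (congrArg (fun t => t.hom.app (op W.1))
      (FSch.schSharp_proj 𝔛 h (FSch.completionToX X 𝓘) (FSch.completionToX_comm X 𝓘) n)) a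
  have hlev : ∀ n, Function.Surjective (lev n) ∧ RingHom.ker (lev n) = I ^ (n + 1) := fun n => by
    haveI : IsClosedImmersion (FSch.completionToX X 𝓘 n) :=
      inferInstanceAs (IsClosedImmersion (𝓘 ^ (n + 1)).subschemeι)
    obtain ⟨h1, h2⟩ := appLE_closedImmersion (FSch.completionToX X 𝓘 n) W _
      (FSch.lvU_p 𝔛 h (FSch.completionToX X 𝓘) (FSch.completionToX_comm X 𝓘) n W.1).symm
    refine ⟨h1, h2.trans ?_⟩
    show ((𝓘 ^ (n + 1)).subschemeι).ker.ideal W = _
    rw [Scheme.IdealSheafData.ker_subschemeι]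
    rfl
  let e : ∀ n, (A ⧸ I ^ (n + 1)) ≃+* ↥((𝔛.levelObj h n).obj.obj (op U)) := fun n =>
    (Ideal.quotEquivOfEq (hlev n).2.symm).trans (RingHom.quotientKerEquivOfSurjective (hlev n).1)
  have he : ∀ n a, e n (Ideal.Quotient.mk _ a) = lev n a := fun n a => rfl
  have hdown : ∀ (n : ℕ) (s : S) (a : A), (π n).hom s = lev n a → ∀ m, m ≤ n → (π m).hom s = lev m a := by
    intro n s a ha m hm
    induction n, hm using Nat.le_induction with
    | base => exact ha
    | succ n hmn ih =>
      refine ih ?_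
      have hproj : (π n).hom s = ((𝔛.levelMap h n).hom.app (op U)).hom ((π (n + 1)).hom s) :=
        (ConcreteCategory.congr_hom (congrArg (fun t => t.hom.app (op U)) (OshProj_levelMap 𝔛 h n)) s).symm
      rw [hproj, ha]
      exact ConcreteCategory.congr_hom (congrArg (fun t => t.hom.app (op W.1))
        (FSch.schLevel_levelMap 𝔛 h (FSch.completionToX X 𝓘) (FSch.completionToX_comm X 𝓘) n)) a
  let g : ∀ n, S →+* A ⧸ I ^ n := fun n =>
    (Ideal.Quotient.factorPow I (Nat.le_succ n)).comp ((e n).symm.toRingHom.comp (π n).hom)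
  have hgeval : ∀ n (s : S) (a : A), (π n).hom s = lev n a → ∀ m, m ≤ n + 1 → g m s = Ideal.Quotient.mk _ a := by
    intro n s a ha m hm
    rcases hm.eq_or_lt with rfl | hlt
    · obtain ⟨b, hb⟩ := (hlev (n + 1)).1 ((π (n + 1)).hom s)
      have hab : lev n b = lev n a := ((hdown (n + 1) s b hb.symm n (Nat.le_succ n)).symm.trans ha)
      show Ideal.Quotient.factorPow I (Nat.le_succ (n + 1)) ((e (n + 1)).symm ((π (n + 1)).hom s)) = _
      rw [← hb, ← he, RingEquiv.symm_apply_apply]
      show Ideal.Quotient.mk _ b = _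
      rw [Ideal.Quotient.eq, ← (hlev n).2, RingHom.mem_ker, map_sub, hab, sub_self]
    · show Ideal.Quotient.factorPow I (Nat.le_succ m) ((e m).symm ((π m).hom s)) = _
      rw [hdown n s a ha m (by omega), ← he, RingEquiv.symm_apply_apply]
      rfl
  have hg : ∀ {m n : ℕ} (hle : m ≤ n), (Ideal.Quotient.factorPow I hle).comp (g n) = g m := by
    intro m n hle
    refine RingHom.ext fun s => ?_
    obtain ⟨a, ha⟩ := (hlev n).1 ((π n).hom s)
    rw [RingHom.comp_apply, hgeval n s a ha.symm n (Nat.le_succ n), hgeval n s a ha.symm m (by omega)]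
    rfl
  let Φ : S →+* AdicCompletion I A := AdicCompletion.liftRingHom I g hg
  have hΦ : ∀ n (s : S) (a : A), (π n).hom s = lev n a → AdicCompletion.evalₐ I (n + 1) (Φ s) = Ideal.Quotient.mk _ a :=
    fun n s a ha => (AdicCompletion.evalₐ_liftRingHom _ _ _ (n + 1) s).trans (hgeval n s a ha _ le_rfl)
  let G : Sheaf (Opens.grothendieckTopology (𝔛.X 0)) CommRingCat.{u} ⥤ Type u :=
    sheafToPresheaf _ _ ⋙ (evaluation _ _).obj (op U) ⋙ CategoryTheory.forget CommRingCat.{u}
  have hlim : IsLimit (G.mapCone (limit.cone (𝔛.levelRing h))) :=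
    isLimitOfPreserves G (limit.isLimit _)
  have hext : ∀ s t : S, (∀ n, (π n).hom s = (π n).hom t) → s = t := fun s t hst =>
    (Types.isLimitEquivSections hlim).injective (Subtype.ext (funext fun n => hst n.unop))
  have hinj : Function.Injective Φ := fun s t hst => hext s t fun n => by
    obtain ⟨a, ha⟩ := (hlev n).1 ((π n).hom s)
    obtain ⟨b, hb⟩ := (hlev n).1 ((π n).hom t)
    have hab := (hΦ n s a ha.symm).symm.trans ((congrArg _ hst).trans (hΦ n t b hb.symm))
    rw [Ideal.Quotient.eq, ← (hlev n).2, RingHom.mem_ker, map_sub, sub_eq_zero] at hab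
    rw [← ha, ← hb, hab]
  have hsurj : Function.Surjective Φ := fun y => by
    obtain ⟨y', rfl⟩ := AdicCompletion.mk_surjective I A y
    let v : ∀ j : ℕᵒᵖ, (𝔛.levelRing h ⋙ G).obj j := fun j => lev j.unop (y'.1 (j.unop + 1))
    have hv : ∀ n : ℕ, (𝔛.levelRing h ⋙ G).map (homOfLE (Nat.le_add_right n 1)).op (v (op (n + 1))) = v (op n) := by
      intro n
      rw [Functor.comp_map, FSch.Sys.levelRing_map_succ]
      refine (ConcreteCategory.congr_hom (congrArg (fun t => t.hom.app (op W.1))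
        (FSch.schLevel_levelMap 𝔛 h (FSch.completionToX X 𝓘) (FSch.completionToX_comm X 𝓘) n)) _).trans ?_
      have hm : y'.1 (n + 1 + 1) - y'.1 (n + 1) ∈ RingHom.ker (lev n) := by
        have h1 := SModEq.sub_mem.1 (y'.2 (Nat.le_succ (n + 1))).symm
        rw [(hlev n).2]
        simpa using h1
      rw [RingHom.mem_ker, map_sub, sub_eq_zero] at hm
      exact hm
    let s₀ : S := (Types.isLimitEquivSections hlim).symm ⟨v, fun {a b} r => map_eq_of_step (𝔛.levelRing h ⋙ G) v hv r⟩
    have h1 : ∀ n, (π n).hom s₀ = lev n (y'.1 (n + 1)) := fun n =>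
      Types.isLimitEquivSections_symm_apply hlim ⟨v, fun {a b} r => map_eq_of_step (𝔛.levelRing h ⋙ G) v hv r⟩ (op n)
    refine ⟨s₀, AdicCompletion.ext_evalₐ fun n => ?_⟩
    match n with
    | 0 =>
      haveI : Subsingleton (A ⧸ I ^ 0) := by rw [pow_zero, Ideal.one_eq_top]; infer_instance
      exact Subsingleton.elim _ _
    | n + 1 => rw [hΦ n s₀ _ (h1 n), AdicCompletion.evalₐ_mk]
  letI : Algebra A S := sharp.hom.toAlgebra
  have hcomm : ∀ a : A, Φ (sharp.hom a) = algebraMap A (AdicCompletion I A) a :=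
    fun a => AdicCompletion.ext_evalₐ fun n => by
        rw [AlgHom.commutes]
        rcases n with _ | n
        · haveI : Subsingleton (A ⧸ I ^ 0) := by rw [pow_zero, Ideal.one_eq_top]; infer_instance
          exact Subsingleton.elim _ _
        · exact hΦ n _ a (hfac n a)
  let Ψ : S →ₐ[A] AdicCompletion I A := { Φ with commutes' := hcomm }
  show Module.Flat A S
  exact Module.Flat.of_linearEquiv (AlgEquiv.ofBijective Ψ ⟨hinj, hsurj⟩).toLinearEquiv

/-- The morphism from the completion to the scheme is flat. -/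
theorem isFlat_toSchemeMor :
    ModSite.RMor.IsFlat (FSch.toSchemeMor (FSch.completionAlong X 𝓘) h (FSch.completionToX X 𝓘)
      (FSch.completionToX_comm X 𝓘)) := by
  refine Groth.Agent.S6845.result (X := ((FSch.completionAlong X 𝓘).X 0).toPresheafedSpace.carrier)
    (Y := X.toPresheafedSpace.carrier) (FSch.completionToX X 𝓘 0).base ((FSch.completionAlong X 𝓘).Osh h) X.sheaf
    (FSch.schSharp (FSch.completionAlong X 𝓘) h (FSch.completionToX X 𝓘) (FSch.completionToX_comm X 𝓘)) ?_
  exact flat_stalk _ ((𝓘 ^ (0 + 1)).subschemeι.isClosedEmbedding.isInducing) _ _ _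
    X.affineOpens X.isBasis_affineOpens fun W hW => flat_sections X 𝓘 h ⟨W, hW⟩

end Groth.Agent.H26.ComplFlat
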