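import Groth.Agent.SchDenseLib.Hom
import Groth.Agent.SchDenseLib.FlatNoeth
import Mathlib.AlgebraicGeometry.SpreadingOut
import Mathlib.AlgebraicGeometry.Noetherian
import Mathlib.AlgebraicGeometry.Morphisms.Flat
import Mathlib.Topology.NoetherianSpace

/-!
# Extending morphisms from schematically dense opens is flat local
-/

set_option autoImplicit false
set_option linter.style.haveILetI false

universe u

open CategoryTheory CategoryTheory.Limits AlgebraicGeometry TopologicalSpace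

namespace Groth.Agent.H26.DescentExt

/-- In a Noetherian space, an open subset of an open `W` containing all generalizations of `y` in `W`
is the trace on `W` of a neighbourhood of `y`. -/
theorem exists_nhd {X : Type u} [TopologicalSpace X] [NoetherianSpace X] [QuasiSober X] {W A : Set X}
    (hW : IsOpen W) (hA : IsOpen A) (y : X) (h : ∀ z ∈ W, z ⤳ y → z ∈ A) :
    ∃ V : Opens X, y ∈ V ∧ (V : Set X) ∩ W ⊆ A := by
  set Z := W \ A with hZ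
  refine ⟨⟨(closure Z)ᶜ, isClosed_closure.isOpen_compl⟩, fun hy => ?_, fun z hz => ?_⟩
  · obtain ⟨S, hSf, hSc, hSi, hSu⟩ :=
      NoetherianSpace.exists_finite_set_isClosed_irreducible (isClosed_closure (s := Z))
    let T := {t ∈ S | (t ∩ W).Nonempty}
    have hT : closure Z ⊆ ⋃₀ T := by
      refine closure_minimal (fun z hz => ?_)
        (Set.sUnion_eq_biUnion ▸ (hSf.subset (Set.sep_subset _ _)).isClosed_biUnion fun t ht => hSc t ht.1)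
      obtain ⟨t, ht, hzt⟩ := hSu.le (subset_closure hz)
      exact ⟨t, ⟨ht, z, hzt, hz.1⟩, hzt⟩
    obtain ⟨t, ⟨htS, z, hzt, hzW⟩, hyt⟩ := hT hy
    obtain ⟨η, hη⟩ := QuasiSober.sober (hSi t htS) (hSc t htS)
    have hηW : η ∈ W := (hη.specializes hzt).mem_open hW hzW
    have hηc : η ∈ closure Z := hSu.ge ⟨t, htS, hη.mem⟩
    have hηA : η ∈ A := h η hηW (hη.specializes hyt)
    obtain ⟨a, ha, haZ⟩ := mem_closure_iff.1 hηc A hA hηA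
    exact haZ.2 ha
  · by_contra hzA
    exact hz.1 (subset_closure ⟨hz.2, hzA⟩)

theorem quasiCompact_SpecMap {A B : CommRingCat.{u}} (φ : A ⟶ B) : QuasiCompact (Spec.map φ) :=
  inferInstance

variable {Y Y' N S : Scheme.{u}} [IsLocallyNoetherian Y] (π : Y' ⟶ Y) [Flat π] [Surjective π]
  (pY : Y ⟶ S) (pN : N ⟶ S) [IsSeparated pN] [LocallyOfFiniteType pN]
  (W : Y.Opens) (h : (W : Scheme.{u}) ⟶ N) (g' : Y' ⟶ N)

theorem flat_fromSpecStalk {Y : Scheme.{u}} (y : Y) : Flat (Y.fromSpecStalk y) := by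
  obtain ⟨_, ⟨V : Y.Opens, hV, rfl⟩, hyV, -⟩ :=
    Y.isBasis_affineOpens.exists_subset_of_mem_open (Set.mem_univ y) isOpen_univ
  rw [← hV.fromSpecStalk_eq_fromSpecStalk hyV]
  show Flat (Spec.map (Y.presheaf.germ V y hyV) ≫ hV.fromSpec)
  haveI : Flat (Spec.map (Y.presheaf.germ V y hyV)) := by
    rw [Flat.SpecMap_iff]
    letI : Algebra Γ(Y, V) (Y.presheaf.stalk y) := (Y.presheaf.germ V y hyV).hom.toAlgebra
    haveI := hV.isLocalization_stalk ⟨y, hyV⟩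
    show (algebraMap Γ(Y, V) (Y.presheaf.stalk y)).Flat
    rw [RingHom.flat_algebraMap_iff]
    exact IsLocalization.flat _ (hV.primeIdealOf ⟨y, hyV⟩).asIdeal.primeCompl
  haveI : IsOpenImmersion hV.fromSpec := hV.isOpenImmersion_fromSpec
  haveI : Flat hV.fromSpec := inferInstance
  exact MorphismProperty.comp_mem @Flat _ _ ‹_› ‹_›

/-- Descent over a local ring. -/
theorem exists_stalk (hW : CInt.IsSchematicallyDense W) (hg'S : g' ≫ pN = π ≫ pY)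
    (hg'W : (π ⁻¹ᵁ W).ι ≫ g' = (π ∣_ W) ≫ h) (y : Y) :
    ∃ gy : Spec (Y.presheaf.stalk y) ⟶ N, (Y.fromSpecStalk y ⁻¹ᵁ W).ι ≫ gy = (Y.fromSpecStalk y ∣_ W) ≫ h ∧
      gy ≫ pN = Y.fromSpecStalk y ≫ pY := by
  obtain ⟨y', rfl⟩ := π.surjective y
  -- descent over the local ring
  let A := Y.presheaf.stalk (π y')
  let e : Spec A ⟶ Y := Y.fromSpecStalk (π y')
  let φ : Spec (Y'.presheaf.stalk y') ⟶ Spec A := Spec.map (π.stalkMap y')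
  haveI hflat : (π.stalkMap y').hom.Flat := Flat.stalkMap π y'
  haveI : Flat φ := Flat.SpecMap_iff.2 hflat
  haveI : Surjective φ := ⟨by
    algebraize [(π.stalkMap y').hom]
    haveI : Module.Flat A (Y'.presheaf.stalk y') := hflat
    haveI : IsLocalHom (algebraMap A (Y'.presheaf.stalk y')) := inferInstanceAs (IsLocalHom (π.stalkMap y').hom)
    haveI : Module.FaithfullyFlat A (Y'.presheaf.stalk y') := Module.FaithfullyFlat.of_flat_of_isLocalHom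
    exact PrimeSpectrum.comap_surjective_of_faithfullyFlat⟩
  haveI : Flat e := flat_fromSpecStalk (π y')
  haveI : IsLocallyNoetherian Y := ‹_›
  have hφe : φ ≫ e = Y'.fromSpecStalk y' ≫ π := Scheme.SpecMap_stalkMap_fromSpecStalk π
  have hdense : CInt.IsSchematicallyDense ((pullback.fst φ φ) ⁻¹ᵁ (φ ⁻¹ᵁ (e ⁻¹ᵁ W))) :=
    SchDenseLib.preimage_of_isLocallyNoetherian (pullback.fst φ φ ≫ φ ≫ e) W hW
  have hU : (φ ⁻¹ᵁ (e ⁻¹ᵁ W)).ι ≫ Y'.fromSpecStalk y' ≫ g' = (φ ∣_ (e ⁻¹ᵁ W)) ≫ (e ∣_ W) ≫ h := by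
    have hle : φ ⁻¹ᵁ (e ⁻¹ᵁ W) ≤ (Y'.fromSpecStalk y') ⁻¹ᵁ (π ⁻¹ᵁ W) := by
      rw [← Scheme.Hom.comp_preimage, ← Scheme.Hom.comp_preimage, hφe]
    let j := (Y'.fromSpecStalk y').resLE _ _ hle
    have hj : j ≫ (π ⁻¹ᵁ W).ι = (φ ⁻¹ᵁ (e ⁻¹ᵁ W)).ι ≫ Y'.fromSpecStalk y' := Scheme.Hom.resLE_comp_ι _ _
    rw [← reassoc_of% hj, hg'W]
    simp only [← Category.assoc]
    congr 1
    rw [← cancel_mono W.ι]
    simp only [Category.assoc, morphismRestrict_ι, morphismRestrict_ι_assoc]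
    rw [reassoc_of% hj, hφe]
  obtain ⟨gy, hgyW, hgyS⟩ := SchDenseLib.extends_of_faithfullyFlat (e ≫ pY) pN φ (e ⁻¹ᵁ W) hdense
    ((e ∣_ W) ≫ h) (Y'.fromSpecStalk y' ≫ g') (by rw [Category.assoc, hg'S, reassoc_of% hφe]) hU
  exact ⟨gy, hgyW, hgyS⟩

omit [IsLocallyNoetherian Y] [IsSeparated pN] [LocallyOfFiniteType pN] in
theorem stalk_agree {V : Scheme.{u}} (jv : V ⟶ Y) (y₂ : V) (f₂ : V ⟶ N)
    (gy : Spec (Y.presheaf.stalk (jv y₂)) ⟶ N)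
    (hgyW : (Y.fromSpecStalk (jv y₂) ⁻¹ᵁ W).ι ≫ gy = (Y.fromSpecStalk (jv y₂) ∣_ W) ≫ h)
    (hf2 : V.fromSpecStalk y₂ ≫ f₂ = Spec.map (jv.stalkMap y₂) ≫ gy)
    (z : (jv ⁻¹ᵁ W).toScheme) (hz : (jv ⁻¹ᵁ W).ι z ⤳ y₂) :
    (jv ⁻¹ᵁ W).toScheme.fromSpecStalk z ≫ (jv ⁻¹ᵁ W).ι ≫ f₂ =
      (jv ⁻¹ᵁ W).toScheme.fromSpecStalk z ≫ (jv ∣_ W) ≫ h := by
  let q : Spec ((jv ⁻¹ᵁ W).toScheme.presheaf.stalk z) ⟶ Spec (V.presheaf.stalk y₂) :=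
    Spec.map ((jv ⁻¹ᵁ W).ι.stalkMap z) ≫ Spec.map (V.presheaf.stalkSpecializes hz)
  have hq : (jv ⁻¹ᵁ W).toScheme.fromSpecStalk z ≫ (jv ⁻¹ᵁ W).ι = q ≫ V.fromSpecStalk y₂ := by
    simp only [q, Category.assoc, Scheme.SpecMap_stalkSpecializes_fromSpecStalk,
      Scheme.SpecMap_stalkMap_fromSpecStalk]
  let q' := q ≫ Spec.map (jv.stalkMap y₂)
  let e := Y.fromSpecStalk (jv y₂)
  have hq' : q' ≫ e = (jv ⁻¹ᵁ W).toScheme.fromSpecStalk z ≫ (jv ⁻¹ᵁ W).ι ≫ jv := by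
    rw [reassoc_of% hq]
    simp only [q', e, Category.assoc, Scheme.SpecMap_stalkMap_fromSpecStalk]
  have hr : Set.range q' ⊆ Set.range (e ⁻¹ᵁ W).ι := by
    rintro _ ⟨t, rfl⟩
    rw [Scheme.Opens.range_ι]
    show e (q' t) ∈ W
    rw [← Scheme.Hom.comp_apply, hq']
    exact ((jv ⁻¹ᵁ W).toScheme.fromSpecStalk z t).2
  let l := IsOpenImmersion.lift (e ⁻¹ᵁ W).ι q' hr
  have hl : l ≫ (e ⁻¹ᵁ W).ι = q' := IsOpenImmersion.lift_fac _ _ _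
  have ha : (jv ⁻¹ᵁ W).toScheme.fromSpecStalk z ≫ (jv ⁻¹ᵁ W).ι ≫ f₂ = l ≫ (e ∣_ W) ≫ h := by
    rw [reassoc_of% hq, hf2, ← hgyW, reassoc_of% hl]
    simp only [q', Category.assoc]
  rw [ha]
  simp only [← Category.assoc]
  congr 1
  rw [← cancel_mono W.ι]
  simp only [Category.assoc, morphismRestrict_ι]
  rw [reassoc_of% hl, hq']

omit [IsLocallyNoetherian Y] in
theorem fromSpecStalk_homOfLE {V₁ V₂ : Y.Opens} (hle : V₂ ≤ V₁) (y₂ : V₂.toScheme) :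
    V₂.toScheme.fromSpecStalk y₂ ≫ Y.homOfLE hle =
      Spec.map (V₂.ι.stalkMap y₂) ≫ V₁.fromSpecStalkOfMem (V₂.ι y₂) (hle y₂.2) := by
  rw [← cancel_mono V₁.ι, Category.assoc, Category.assoc, Scheme.Opens.fromSpecStalkOfMem_ι,
    Scheme.homOfLE_ι]
  exact (Scheme.SpecMap_stalkMap_fromSpecStalk V₂.ι).symm

set_option maxHeartbeats 400000 in
/-- Local extension. -/
theorem exists_local (y : Y) (gy : Spec (Y.presheaf.stalk y) ⟶ N)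
    (hgyW : (Y.fromSpecStalk y ⁻¹ᵁ W).ι ≫ gy = (Y.fromSpecStalk y ∣_ W) ≫ h)
    (hgyS : gy ≫ pN = Y.fromSpecStalk y ≫ pY) :
    ∃ (V : Y.Opens) (f : (V : Scheme.{u}) ⟶ N), y ∈ V ∧ f ≫ pN = V.ι ≫ pY ∧
      (V.ι ⁻¹ᵁ W).ι ≫ f = (V.ι ∣_ W) ≫ h := by
  let A := Y.presheaf.stalk y
  let e : Spec A ⟶ Y := Y.fromSpecStalk y
  -- spreading out
  obtain ⟨V₁, hyV₁, f₁, hf₁, hf₁S⟩ := spread_out_of_isGermInjective' pY pN gy hgyS
  obtain ⟨_, ⟨V₂ : Y.Opens, hV₂, rfl⟩, hyV₂, (hV₂₁ : V₂ ≤ V₁)⟩ :=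
    Y.isBasis_affineOpens.exists_subset_of_mem_open hyV₁ V₁.isOpen
  haveI : IsAffine V₂ := hV₂
  haveI : IsLocallyNoetherian V₂.toScheme := isLocallyNoetherian_of_isOpenImmersion V₂.ι
  haveI : IsNoetherian V₂.toScheme := { }
  let f₂ : (V₂ : Scheme.{u}) ⟶ N := Y.homOfLE hV₂₁ ≫ f₁
  let W₂ : V₂.toScheme.Opens := V₂.ι ⁻¹ᵁ W
  let a : (W₂ : Scheme.{u}) ⟶ N := W₂.ι ≫ f₂
  let b : (W₂ : Scheme.{u}) ⟶ N := (V₂.ι ∣_ W) ≫ h
  haveI : IsLocallyNoetherian W₂.toScheme := isLocallyNoetherian_of_isOpenImmersion W₂.ι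
  let y₂ : V₂.toScheme := ⟨y, hyV₂⟩
  have hstalk : ∀ z : W₂.toScheme, W₂.ι z ⤳ y₂ →
      ∃ O : W₂.toScheme.Opens, z ∈ O ∧ O.ι ≫ a = O.ι ≫ b := by
    intro z hz
    refine spread_out_unique_of_isGermInjective' a b (stalk_agree W h V₂.ι y₂ f₂ gy hgyW ?_ z hz)
    show V₂.toScheme.fromSpecStalk y₂ ≫ Y.homOfLE hV₂₁ ≫ f₁ = _
    refine ((Category.assoc _ _ _).symm.trans ((congrArg (· ≫ f₁) (fromSpecStalk_homOfLE hV₂₁ y₂)).trans ?_))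
    rw [Category.assoc]
    exact congrArg (fun t => Spec.map (V₂.ι.stalkMap y₂) ≫ t) hf₁.symm
  choose O hOz hO using hstalk
  obtain ⟨V₃, hyV₃, hV₃⟩ := exists_nhd (X := V₂.toScheme) W₂.isOpen
    (isOpen_iUnion fun z => isOpen_iUnion fun hz => (W₂.ι ''ᵁ O z hz).isOpen) y₂
    (fun z hzW hz => Set.mem_iUnion₂.2 ⟨⟨z, hzW⟩, hz, ⟨z, hzW⟩, hOz _ _, rfl⟩)
  refine ⟨V₂.ι ''ᵁ V₃, Y.homOfLE (V₂.ι_image_le V₃) ≫ f₂, ⟨y₂, hyV₃, rfl⟩, ?_, ?_⟩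
  · rw [Category.assoc, show f₂ ≫ pN = V₂.ι ≫ pY by rw [Category.assoc, hf₁S, Scheme.homOfLE_ι_assoc],
      Scheme.homOfLE_ι_assoc]
  · let V₄ := V₂.ι ''ᵁ V₃
    let m := Y.homOfLE (V₂.ι_image_le V₃)
    have hle : V₄.ι ⁻¹ᵁ W ≤ m ⁻¹ᵁ W₂ := by
      show V₄.ι ⁻¹ᵁ W ≤ (m ≫ V₂.ι) ⁻¹ᵁ W
      rw [Scheme.homOfLE_ι]
    let j := m.resLE _ _ hle
    have hj : j ≫ W₂.ι = (V₄.ι ⁻¹ᵁ W).ι ≫ m := Scheme.Hom.resLE_comp_ι _ _
    have hb : (V₄.ι ∣_ W) ≫ h = j ≫ b := by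
      simp only [b, ← Category.assoc]
      congr 1
      rw [← cancel_mono W.ι]
      simp only [Category.assoc, morphismRestrict_ι]
      rw [reassoc_of% hj, Scheme.homOfLE_ι]
    show (V₄.ι ⁻¹ᵁ W).ι ≫ m ≫ f₂ = _
    rw [hb, ← reassoc_of% hj]
    show j ≫ a = j ≫ b
    refine Scheme.hom_ext_of_forall _ _ fun t => ?_
    have hjt : W₂.ι (j t) = m ((V₄.ι ⁻¹ᵁ W).ι t) := by
      rw [← Scheme.Hom.comp_apply, hj, Scheme.Hom.comp_apply]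
    have ht3 : W₂.ι (j t) ∈ V₃ := by
      obtain ⟨v, hv, hv'⟩ := ((V₄.ι ⁻¹ᵁ W).ι t).2
      rw [hjt, show m ((V₄.ι ⁻¹ᵁ W).ι t) = _ from V₂.ι.isOpenEmbedding.injective ((congrArg (fun φ : (V₄ : Scheme.{u}) ⟶ Y =>
        φ ((V₄.ι ⁻¹ᵁ W).ι t)) (Scheme.homOfLE_ι Y (V₂.ι_image_le V₃))).trans hv'.symm)]
      exact hv
    obtain ⟨z, hz, w, hw, hw'⟩ := Set.mem_iUnion₂.1 (hV₃ ⟨ht3, (j t).2⟩)
    refine ⟨j ⁻¹ᵁ O z hz, ?_, ?_⟩
    · show j t ∈ O z hz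
      rwa [← W₂.ι.isOpenEmbedding.injective hw']
    · rw [← morphismRestrict_ι_assoc, hO, morphismRestrict_ι_assoc]

/-- Extensions exist if they exist over every local ring. -/
theorem exists_ext_of_stalks
    (huniq : ∀ (P : Scheme.{u}) (p : P ⟶ Y) [IsOpenImmersion p] (a b : P ⟶ N), a ≫ pN = p ≫ pY →
      b ≫ pN = p ≫ pY → (p ⁻¹ᵁ W).ι ≫ a = (p ⁻¹ᵁ W).ι ≫ b → a = b) (gy : ∀ y : Y, Spec (Y.presheaf.stalk y) ⟶ N)
    (hgyW : ∀ y, (Y.fromSpecStalk y ⁻¹ᵁ W).ι ≫ gy y = (Y.fromSpecStalk y ∣_ W) ≫ h)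
    (hgyS : ∀ y, gy y ≫ pN = Y.fromSpecStalk y ≫ pY) :
    ∃ g : Y ⟶ N, g ≫ pN = pY ∧ W.ι ≫ g = h := by
  choose V f hyV hfS hfW using fun y => exists_local pY pN W h y (gy y) (hgyW y) (hgyS y)
  let 𝒰 : Y.OpenCover := Y.openCoverOfIsOpenCover V
    (.mk (top_unique fun y _ => Opens.mem_iSup.2 ⟨y, hyV y⟩))
  have hcompat : ∀ i j, pullback.fst (V i).ι (V j).ι ≫ f i = pullback.snd _ _ ≫ f j := by
    intro i j
    let P := pullback (V i).ι (V j).ι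
    let p : P ⟶ Y := pullback.fst (V i).ι (V j).ι ≫ (V i).ι
    haveI : IsOpenImmersion p := inferInstanceAs (IsOpenImmersion (_ ≫ _))
    refine huniq P p _ _ (by rw [Category.assoc, hfS]; rfl)
      (by rw [Category.assoc, hfS, ← pullback.condition_assoc]; rfl) ?_
    have hp2 : p = pullback.snd (V i).ι (V j).ι ≫ (V j).ι := pullback.condition
    have h1 : p ⁻¹ᵁ W ≤ pullback.fst (V i).ι (V j).ι ⁻¹ᵁ ((V i).ι ⁻¹ᵁ W) := le_rfl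
    have h2 : p ⁻¹ᵁ W ≤ pullback.snd (V i).ι (V j).ι ⁻¹ᵁ ((V j).ι ⁻¹ᵁ W) := by
      rw [hp2]; rfl
    rw [← Scheme.Hom.resLE_comp_ι_assoc _ h1, ← Scheme.Hom.resLE_comp_ι_assoc _ h2, hfW, hfW]
    simp only [← Category.assoc]
    congr 1
    rw [← cancel_mono W.ι]
    simp only [Category.assoc, morphismRestrict_ι, Scheme.Hom.resLE_comp_ι_assoc]
    rw [← hp2]
  let g : Y ⟶ N := 𝒰.glueMorphisms f hcompat
  have hg : ∀ i, (V i).ι ≫ g = f i := fun i => Scheme.Cover.ι_glueMorphisms 𝒰 f hcompat i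
  refine ⟨g, Scheme.hom_ext_of_forall _ _ fun y => ⟨V y, hyV y, by rw [reassoc_of% (hg y), hfS]⟩,
    Scheme.hom_ext_of_forall _ _ fun w => ⟨W.ι ⁻¹ᵁ V (W.ι w), hyV (W.ι w), ?_⟩⟩
  set i := W.ι w
  have hle : W.ι ⁻¹ᵁ V i ≤ (W.ι ≫ 𝟙 Y) ⁻¹ᵁ V i := by rw [Category.comp_id]
  let j₀ : ((W.ι ⁻¹ᵁ V i : W.toScheme.Opens) : Scheme.{u}) ⟶ (V i : Scheme.{u}) := W.ι ∣_ V i
  have hj₀ : Set.range j₀ ⊆ Set.range ((V i).ι ⁻¹ᵁ W).ι := by
    rintro _ ⟨t, rfl⟩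
    rw [Scheme.Opens.range_ι]
    show (V i).ι (j₀ t) ∈ W
    rw [← Scheme.Hom.comp_apply, morphismRestrict_ι, Scheme.Hom.comp_apply]
    exact ((W.ι ⁻¹ᵁ V i).ι t).2
  let j := IsOpenImmersion.lift ((V i).ι ⁻¹ᵁ W).ι j₀ hj₀
  have hj : j ≫ ((V i).ι ⁻¹ᵁ W).ι = j₀ := IsOpenImmersion.lift_fac _ _ _
  rw [← morphismRestrict_ι_assoc, hg, show W.ι ∣_ V i = j ≫ _ from hj.symm, Category.assoc, hfW, ← Category.assoc]
  congr 1
  rw [← cancel_mono W.ι, Category.assoc, morphismRestrict_ι, reassoc_of% hj, morphismRestrict_ι]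

/-- Existence of extensions is flat local on the source. -/
theorem exists_ext (hW : CInt.IsSchematicallyDense W) (hg'S : g' ≫ pN = π ≫ pY)
    (hg'W : (π ⁻¹ᵁ W).ι ≫ g' = (π ∣_ W) ≫ h) :
    ∃ g : Y ⟶ N, g ≫ pN = pY ∧ W.ι ≫ g = h := by
  choose gy hgyW hgyS using exists_stalk π pY pN W h g' hW hg'S hg'W
  exact exists_ext_of_stalks pY pN W h (fun P p _ a b ha hb hab => SchDenseLib.hom_ext
    (SchDenseLib.preimage_of_isLocallyNoetherian p W hW) pN a b (ha.trans hb.symm) hab) gy hgyW hgyS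

end Groth.Agent.H26.DescentExt
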