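import Groth.Agent.Hensel.QuasiFiniteSplit
import Groth.Agent.Hensel.Local
import Mathlib.RingTheory.ZariskisMainTheorem
import Mathlib

/-!
# Horizontal principal divisors over a henselian discrete valuation ring, algebraically
-/

set_option autoImplicit false
set_option linter.style.haveILetI false

universe u

namespace Groth.Agent.H26.HorizCartier

open IsLocalRing

variable {R : Type u} [CommRing R] [IsDomain R] [IsDiscreteValuationRing R]
  {A : Type u} [CommRing A] [IsDomain A] [IsNoetherianRing A] [Algebra R A]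

/-- A prime isolated among the primes containing the uniformizer is a point of quasi-finiteness. -/
theorem quasiFiniteAt_of_isolated {S : Type u} [CommRing S] [IsNoetherianRing S] [Algebra R S]
    [Algebra.FiniteType R S] {ϖ : R} (hϖ : maximalIdeal R = Ideal.span {ϖ}) (M : Ideal S) [M.IsMaximal]
    (hmin : M ∈ (Ideal.span {algebraMap R S ϖ}).minimalPrimes) : Algebra.QuasiFiniteAt R M := by
  classical
  let q : PrimeSpectrum S := ⟨M, inferInstance⟩
  show Algebra.QuasiFiniteAt R q.asIdeal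
  rw [Algebra.quasiFiniteAt_iff_isOpen_singleton_fiber]
  let s := {p ∈ (Ideal.span {algebraMap R S ϖ}).minimalPrimes | p ≠ M}
  have hs : s.Finite := (Ideal.span {algebraMap R S ϖ}).finite_minimalPrimes_of_isNoetherianRing.subset
    fun p hp => hp.1
  have hc : IsOpen (⋃ p ∈ s, PrimeSpectrum.zeroLocus (p : Set S))ᶜ :=
    (hs.isClosed_biUnion fun p _ => PrimeSpectrum.isClosed_zeroLocus _).isOpen_compl
  have hm : ϖ ∈ (q.comap (algebraMap R S)).asIdeal :=
    hmin.1.2 (Ideal.mem_span_singleton_self _)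
  refine isOpen_induced_iff.2 ⟨_, hc, ?_⟩
  ext ⟨p, hp⟩
  constructor
  · intro hpc
    have hπ : Ideal.span {algebraMap R S ϖ} ≤ p.asIdeal := (Ideal.span_singleton_le_iff_mem _).2 (by
      have h : ϖ ∈ (PrimeSpectrum.comap (algebraMap R S) p).asIdeal := by
        rw [show PrimeSpectrum.comap (algebraMap R S) p = q.comap (algebraMap R S) from hp]
        exact hm
      exact h)
    obtain ⟨p0, hp0, hle⟩ := Ideal.exists_minimalPrimes_le hπ
    have : p0 = M := by
      by_contra hne
      exact hpc (Set.mem_biUnion (x := p0) ⟨hp0, hne⟩ hle)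
    refine Subtype.ext (PrimeSpectrum.ext ?_)
    exact ((‹M.IsMaximal›).eq_of_le p.isPrime.ne_top (this ▸ hle)).symm
  · intro h
    obtain rfl : p = q := congrArg Subtype.val h
    simp only [Set.mem_preimage, Set.mem_compl_iff, Set.mem_iUnion, not_exists]
    rintro p0 ⟨hp0, hne⟩ hle
    exact hne (le_antisymm hle (hmin.2 hp0.1 hle))

/-- The divisor of a function isolated on the closed fibre at a closed point. -/
theorem finite_divisor_of_isolated [HenselianLocalRing R] [Algebra.FiniteType R A]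
    {ϖ : R} (hϖ : maximalIdeal R = Ideal.span {ϖ}) (hπ0 : algebraMap R A ϖ ≠ 0)
    (M : Ideal A) [hM : M.IsMaximal] (hπM : algebraMap R A ϖ ∈ M) {f : A} (hfM : f ∈ M)
    (hiso : ∀ q : Ideal A, q.IsPrime → f ∈ q → algebraMap R A ϖ ∈ q → q ≤ M → q = M)
    (hf : ∀ p ∈ (Ideal.span {algebraMap R A ϖ}).minimalPrimes, p ≤ M → f ∉ p) :
    ∃ g : A, g ∉ M ∧ ∀ (L : Type u) [CommRing L] [Algebra A L] [Algebra R L]
      [IsScalarTower R A L] [IsLocalization.Away g L],
      Module.Finite R (L ⧸ Ideal.span {algebraMap A L f}) ∧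
      IsLocalRing (L ⧸ Ideal.span {algebraMap A L f}) ∧
      ∀ p ∈ minimalPrimes (L ⧸ Ideal.span {algebraMap A L f}), algebraMap R _ ϖ ∉ p := by
  classical
  set π := algebraMap R A ϖ
  -- the divisor cut out by `f`
  let S := A ⧸ Ideal.span {f}
  let φ : A →+* S := Ideal.Quotient.mk _
  have hker : RingHom.ker φ ≤ M := by
    rw [Ideal.mk_ker]; exact (Ideal.span_singleton_le_iff_mem _).2 hfM
  haveI hMS : (M.map φ).IsMaximal :=
    (Ideal.map_eq_top_or_isMaximal_of_surjective φ Ideal.Quotient.mk_surjective hM).resolve_left fun h => by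
      have := congrArg (Ideal.comap φ) h
      rw [Ideal.comap_map_of_surjective φ Ideal.Quotient.mk_surjective, Ideal.comap_top, ← RingHom.ker_eq_comap_bot,
        sup_eq_left.2 hker] at this
      exact hM.ne_top this
  have hcM : (M.map φ).comap φ = M := by
    rw [Ideal.comap_map_of_surjective φ Ideal.Quotient.mk_surjective, ← RingHom.ker_eq_comap_bot,
      sup_eq_left.2 hker]
  have hminS : M.map φ ∈ (Ideal.span {algebraMap R S ϖ}).minimalPrimes := by
    refine ⟨⟨inferInstance, (Ideal.span_singleton_le_iff_mem _).2 (Ideal.mem_map_of_mem φ hπM)⟩,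
      fun q hq hle => ?_⟩
    haveI := hq.1
    have h := hiso (q.comap φ) inferInstance
      (Ideal.mem_comap.2 ((Ideal.Quotient.eq_zero_iff_mem.2 (Ideal.mem_span_singleton_self f)).symm ▸ q.zero_mem))
      (hq.2 (Ideal.mem_span_singleton_self _)) (hcM ▸ Ideal.comap_mono hle)
    rw [← Ideal.map_comap_of_surjective φ Ideal.Quotient.mk_surjective q, h]
  haveI hqf : Algebra.QuasiFiniteAt R (M.map φ) := quasiFiniteAt_of_isolated hϖ _ hminS
  obtain ⟨e, he, hefin, henq⟩ := Groth.Agent.Hensel.exists_finite_split R S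
  have heM : e ∉ M.map φ := fun h => by
    let ψ : S →ₐ[R] S ⧸ Ideal.span {e} := Ideal.Quotient.mkₐ R _
    have hψ : Function.Surjective ψ := Ideal.Quotient.mk_surjective
    have hk : RingHom.ker ψ.toRingHom ≤ M.map φ := by
      show RingHom.ker (Ideal.Quotient.mk (Ideal.span {e})) ≤ _
      rw [Ideal.mk_ker]; exact (Ideal.span_singleton_le_iff_mem _).2 h
    haveI : ((M.map φ).map ψ.toRingHom).IsPrime := Ideal.map_isPrime_of_surjective hψ hk
    have hcomap : M.map φ = ((M.map φ).map ψ.toRingHom).comap ψ.toRingHom := by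
      rw [Ideal.comap_map_of_surjective ψ.toRingHom hψ, ← RingHom.ker_eq_comap_bot, sup_eq_left.2 hk]
    refine henq _ ⟨?_⟩ (Algebra.QuasiFiniteAt.of_surjectiveOnStalks (M.map φ) ψ
      (RingHom.surjectiveOnStalks_of_surjective hψ) _ hcomap)
    refine (maximalIdeal.isMaximal R).eq_of_le (Ideal.IsPrime.ne_top inferInstance) ?_
    rw [hϖ, Ideal.span_singleton_le_iff_mem]
    refine Ideal.mem_comap.2 ?_
    rw [← ψ.commutes]
    exact Ideal.mem_map_of_mem ψ.toRingHom (Ideal.mem_map_of_mem φ hπM)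
  -- split the finite part
  let S₁ := S ⧸ Ideal.span {1 - e}
  let ψ₁ : S →+* S₁ := Ideal.Quotient.mk _
  have hk₁ : RingHom.ker ψ₁ ≤ M.map φ := by
    rw [Ideal.mk_ker, Ideal.span_singleton_le_iff_mem]
    have : e * (1 - e) ∈ M.map φ := by rw [mul_sub, mul_one, he.eq, sub_self]; exact zero_mem _
    exact ((hMS.isPrime.mem_or_mem this).resolve_left heM)
  haveI hM₁ : ((M.map φ).map ψ₁).IsMaximal :=
    (Ideal.map_eq_top_or_isMaximal_of_surjective ψ₁ Ideal.Quotient.mk_surjective hMS).resolve_left fun h => by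
      have := congrArg (Ideal.comap ψ₁) h
      rw [Ideal.comap_map_of_surjective ψ₁ Ideal.Quotient.mk_surjective, Ideal.comap_top, ← RingHom.ker_eq_comap_bot,
        sup_eq_left.2 hk₁] at this
      exact hMS.ne_top this
  haveI : Module.Finite R S₁ := hefin
  obtain ⟨_, E, hE, hEM⟩ := Groth.Agent.Hensel.exists_idempotents_of_henselian R S₁
  let m₀ : MaximalSpectrum S₁ := ⟨(M.map φ).map ψ₁, hM₁⟩
  obtain ⟨t, ht⟩ := Ideal.Quotient.mk_surjective (E m₀)
  obtain ⟨g, hg⟩ := Ideal.Quotient.mk_surjective (e * t : S)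
  have hg₁ : ψ₁ (φ g) = E m₀ := by
    rw [show φ g = e * t from hg, map_mul]
    have : ψ₁ e = 1 := (Ideal.Quotient.eq.2 (Ideal.mem_span_singleton'.2 ⟨-1, by ring⟩)).trans (map_one _)
    rw [this, one_mul]; exact ht
  refine ⟨g, fun hgM => (hEM m₀).1 (hg₁ ▸ Ideal.mem_map_of_mem ψ₁ (Ideal.mem_map_of_mem φ hgM)),
    fun L _ _ _ _ _ => ?_⟩
  -- the localized divisor is the local factor
  let B := L ⧸ Ideal.span {algebraMap A L f}
  let ι : A →+* B := (Ideal.Quotient.mk _).comp (algebraMap A L)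
  have hιf : ι f = 0 := Ideal.Quotient.eq_zero_iff_mem.2 (Ideal.mem_span_singleton_self _)
  let σ : S →+* B := Ideal.Quotient.lift _ ι fun a ha => by
    obtain ⟨c, rfl⟩ := Ideal.mem_span_singleton'.1 ha
    rw [map_mul, hιf, mul_zero]
  have hσu : IsUnit (σ e) := by
    have h : IsUnit (σ (φ g)) := ((IsLocalization.Away.algebraMap_isUnit g).map (Ideal.Quotient.mk _) : IsUnit (ι g))
    rw [show φ g = e * t from hg, map_mul] at h
    exact isUnit_of_mul_isUnit_left h
  have hσe : σ e = 1 := hσu.mul_left_cancel (by rw [mul_one, ← map_mul, he.eq])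
  let τ : S₁ →+* B := Ideal.Quotient.lift _ σ fun a ha => by
    obtain ⟨c, rfl⟩ := Ideal.mem_span_singleton'.1 ha
    rw [map_mul, map_sub, map_one, hσe, sub_self, mul_zero]
  have hτg : τ (E m₀) = 1 := by
    have hu : IsUnit (τ (E m₀)) := by
      rw [← hg₁]
      exact ((IsLocalization.Away.algebraMap_isUnit g).map (Ideal.Quotient.mk _) : IsUnit (ι g))
    exact hu.mul_left_cancel (by rw [mul_one, ← map_mul, (hE.idem m₀).eq])
  have hτA : ∀ a, τ (ψ₁ (φ a)) = ι a := fun a => rfl
  have hτ : Function.Surjective τ := fun b => by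
    obtain ⟨l, rfl⟩ := Ideal.Quotient.mk_surjective b
    obtain ⟨⟨a, ⟨_, k, rfl⟩⟩, hl⟩ := IsLocalization.surj (Submonoid.powers g) l
    refine ⟨ψ₁ (φ a), ?_⟩
    have hι1 : ι g = 1 := by rw [← hτA, hg₁, hτg]
    rw [hτA]
    have := congrArg (Ideal.Quotient.mk (Ideal.span {algebraMap A L f})) hl.symm
    rw [map_mul] at this
    refine this.trans ?_
    rw [show Ideal.Quotient.mk (Ideal.span {algebraMap A L f}) (algebraMap A L (g ^ k)) = ι g ^ k from map_pow ι g k,
      hι1, one_pow, mul_one]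
  have hτc : ∀ r, τ (algebraMap R S₁ r) = algebraMap R B r := fun r => by
    show τ (ψ₁ (φ (algebraMap R A r))) = Ideal.Quotient.mk _ (algebraMap R L r)
    rw [hτA, IsScalarTower.algebraMap_apply R A L r]
    rfl
  let τ' : S₁ →ₐ[R] B := { τ with commutes' := hτc }
  haveI : Module.Finite R B := Module.Finite.of_surjective τ'.toLinearMap hτ
  have hgM : g ∉ M := fun hgM =>
    (hEM m₀).1 (hg₁ ▸ Ideal.mem_map_of_mem ψ₁ (Ideal.mem_map_of_mem φ hgM))
  have hsurjι : Function.Surjective ι := fun b => by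
    obtain ⟨s, rfl⟩ := hτ b
    obtain ⟨s, rfl⟩ := Ideal.Quotient.mk_surjective s
    obtain ⟨a, rfl⟩ := Ideal.Quotient.mk_surjective s
    exact ⟨a, rfl⟩
  have hkι : ∀ q : Ideal A, q.IsPrime → f ∈ q → g ∉ q → RingHom.ker ι ≤ q := fun q hq hfq hgq a ha => by
    obtain ⟨c, hc⟩ := Ideal.mem_span_singleton'.1 (Ideal.Quotient.eq_zero_iff_mem.1 ha)
    obtain ⟨⟨a', ⟨_, k, rfl⟩⟩, hl⟩ := IsLocalization.surj (Submonoid.powers g) c
    have h1 : algebraMap A L (a * g ^ k) = algebraMap A L (a' * f) := by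
      rw [map_mul, map_mul, ← hl, ← hc]; ring
    obtain ⟨⟨_, j, rfl⟩, hj⟩ := (IsLocalization.eq_iff_exists (Submonoid.powers g) L).1 h1
    have : g ^ j * (a * g ^ k) ∈ q := by
      rw [show g ^ j * (a * g ^ k) = g ^ j * (a' * f) from hj]
      exact q.mul_mem_left _ (q.mul_mem_left _ hfq)
    rcases hq.mem_or_mem this with h | h
    · exact absurd (hq.mem_of_pow_mem _ h) hgq
    · exact (hq.mem_or_mem h).resolve_right fun h => hgq (hq.mem_of_pow_mem _ h)
  have hkM := hkι M hM.isPrime hfM hgM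
  haveI hMB : (M.map ι).IsMaximal :=
    (Ideal.map_eq_top_or_isMaximal_of_surjective ι hsurjι hM).resolve_left fun h => by
      have := congrArg (Ideal.comap ι) h
      rw [Ideal.comap_map_of_surjective ι hsurjι, Ideal.comap_top, ← RingHom.ker_eq_comap_bot,
        sup_eq_left.2 hkM] at this
      exact hM.ne_top this
  haveI : Nontrivial B := ⟨⟨0, 1, fun h => hMB.ne_top ((Ideal.eq_top_iff_one _).2 (h ▸ zero_mem _))⟩⟩
  have hloc : IsLocalRing B := by
    haveI := Groth.Agent.Hensel.isLocalRing_quotient_one_sub hE.idem hEM m₀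
    let τ₀ : S₁ ⧸ Ideal.span {1 - E m₀} →+* B := Ideal.Quotient.lift _ τ fun a ha => by
      obtain ⟨c, rfl⟩ := Ideal.mem_span_singleton'.1 ha
      rw [map_mul, map_sub, map_one, hτg, sub_self, mul_zero]
    have hs : Function.Surjective τ₀ := fun b => by
      obtain ⟨c, hc⟩ := hτ b
      exact ⟨Ideal.Quotient.mk _ c, hc⟩
    refine IsLocalRing.of_isUnit_or_isUnit_one_sub_self fun b => ?_
    obtain ⟨c, rfl⟩ := hs b
    rcases IsLocalRing.isUnit_or_isUnit_one_sub_self c with h | h
    · exact Or.inl (h.map τ₀)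
    · right
      have h2 := h.map τ₀
      rwa [map_sub, map_one] at h2
  refine ⟨inferInstance, hloc, fun p hp hπp => ?_⟩
  haveI : p.IsPrime := Ideal.minimalPrimes_isPrime hp
  have hpM : p.comap ι ≤ M := by
    have h := @IsLocalRing.le_maximalIdeal B _ hloc p Ideal.IsPrime.ne_top'
    rw [← @IsLocalRing.eq_maximalIdeal B _ hloc _ hMB] at h
    refine (Ideal.comap_mono h).trans ?_
    rw [Ideal.comap_map_of_surjective ι hsurjι, ← RingHom.ker_eq_comap_bot, sup_eq_left.2 hkM]
  -- a minimal prime of `B` is minimal over `f` in `A`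
  obtain ⟨q, hq, hqp⟩ := Ideal.exists_minimalPrimes_le (I := Ideal.span {f}) (J := p.comap ι)
    ((Ideal.span_singleton_le_iff_mem _).2 (show ι f ∈ p from hιf ▸ zero_mem _))
  haveI := hq.1.1
  have hgq : g ∉ q := fun h => hgM (hpM (hqp h))
  have hkι := hkι q inferInstance (hq.1.2 (Ideal.mem_span_singleton_self _)) hgq
  haveI : (q.map ι).IsPrime := Ideal.map_isPrime_of_surjective hsurjι hkι
  have hqe : (q.map ι).comap ι = q := by
    rw [Ideal.comap_map_of_surjective ι hsurjι, ← RingHom.ker_eq_comap_bot, sup_eq_left.2 hkι]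
  have hpe : q.map ι = p := le_antisymm ((Ideal.map_mono hqp).trans Ideal.map_comap_le)
    (hp.2 ⟨inferInstance, bot_le⟩ ((Ideal.map_mono hqp).trans Ideal.map_comap_le))
  have hqπ : π ∈ q := by
    rw [← hqe, hpe, Ideal.mem_comap]
    convert hπp using 1
    show Ideal.Quotient.mk _ (algebraMap A L (algebraMap R A ϖ)) = Ideal.Quotient.mk _ (algebraMap R L ϖ)
    rw [← IsScalarTower.algebraMap_apply]
  -- Krull's principal ideal theorem
  obtain ⟨p₁, hp₁, hp₁q⟩ := Ideal.exists_minimalPrimes_le (I := Ideal.span {π}) (J := q)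
    ((Ideal.span_singleton_le_iff_mem _).2 hqπ)
  haveI := hp₁.1.1
  have hqh : q.height ≤ 1 := Ideal.height_le_one_of_isPrincipal_of_mem_minimalPrimes _ _ hq
  rcases lt_or_eq_of_le hp₁q with hlt | heq
  · have h1 : p₁.height = 0 := by
      have := Ideal.height_strict_mono_of_isPrime hlt
      exact (ENat.lt_one_iff_eq_zero.1 (this.trans_le hqh))
    rw [Ideal.height_eq_zero_iff_eq_bot] at h1
    exact hπ0 ((Ideal.mem_bot).1 (h1 ▸ hp₁.1.2 (Ideal.mem_span_singleton_self _)))
  · exact hf p₁ hp₁ (hp₁q.trans (hqp.trans hpM)) (heq ▸ hq.1.2 (Ideal.mem_span_singleton_self _))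


/-- The local principal divisor at a closed point of the closed fibre. -/
theorem exists_finite_divisor [HenselianLocalRing R] [Algebra.FiniteType R A] (hA : ringKrullDim A ≤ 2)
    {ϖ : R} (hϖ : maximalIdeal R = Ideal.span {ϖ}) (hπ0 : algebraMap R A ϖ ≠ 0)
    (M : Ideal A) [hM : M.IsMaximal] (hπM : algebraMap R A ϖ ∈ M)
    (hnmin : M ∉ (Ideal.span {algebraMap R A ϖ}).minimalPrimes) :
    ∃ f g : A, f ≠ 0 ∧ f ∈ M ∧ g ∉ M ∧ ∀ (L : Type u) [CommRing L] [Algebra A L] [Algebra R L]
      [IsScalarTower R A L] [IsLocalization.Away g L],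
      Module.Finite R (L ⧸ Ideal.span {algebraMap A L f}) ∧
      IsLocalRing (L ⧸ Ideal.span {algebraMap A L f}) ∧
      ∀ p ∈ minimalPrimes (L ⧸ Ideal.span {algebraMap A L f}), algebraMap R _ ϖ ∉ p := by
  classical
  set π := algebraMap R A ϖ
  -- avoid the components of the closed fibre through the point
  have hfinmin := (Ideal.span {π}).finite_minimalPrimes_of_isNoetherianRing
  obtain ⟨f, hfM, hf⟩ : ∃ f ∈ M, ∀ p ∈ (Ideal.span {π}).minimalPrimes, f ∉ p := by
    by_contra h
    push Not at h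
    have hsub : (M : Set A) ⊆ ⋃ p ∈ (hfinmin.toFinset : Set (Ideal A)), (p : Set A) := fun a ha => by
      obtain ⟨p, hp, hap⟩ := h a ha
      exact Set.mem_biUnion (hfinmin.mem_toFinset.2 hp) hap
    obtain ⟨p, hp, hle⟩ := (Ideal.subset_union_prime (f := id) ⊥ ⊥
      fun p hp _ _ => (hfinmin.mem_toFinset.1 hp).1.1).1 hsub
    have hp' := hfinmin.mem_toFinset.1 hp
    exact hnmin ((hM.eq_of_le hp'.1.1.ne_top hle).symm ▸ hp')
  have hf0 : f ≠ 0 := fun h0 => by
    obtain ⟨p, hp, -⟩ := Ideal.exists_minimalPrimes_le (I := Ideal.span {π}) (J := M)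
      ((Ideal.span_singleton_le_iff_mem _).2 hπM)
    exact hf p hp (h0 ▸ p.zero_mem)
  -- no prime strictly below the point contains both functions
  have hiso : ∀ q : Ideal A, q.IsPrime → f ∈ q → π ∈ q → q ≤ M → q = M := fun q hq hfq hπq hqM => by
    by_contra hne
    obtain ⟨p, hp, hpq⟩ := Ideal.exists_minimalPrimes_le (I := Ideal.span {π}) (J := q)
      ((Ideal.span_singleton_le_iff_mem _).2 hπq)
    haveI := hp.1.1
    have hp0 : (⊥ : Ideal A) < p := bot_lt_iff_ne_bot.2 fun h =>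
      hπ0 ((Ideal.mem_bot).1 (h ▸ hp.1.2 (Ideal.mem_span_singleton_self _)))
    have hpq' : p < q := lt_of_le_of_ne hpq fun h => hf p hp (h ▸ hfq)
    have hqM' : q < M := lt_of_le_of_ne hqM hne
    let s : LTSeries (PrimeSpectrum A) :=
      (((RelSeries.singleton _ (⟨⊥, Ideal.isPrime_bot⟩ : PrimeSpectrum A)).snoc ⟨p, inferInstance⟩ hp0).snoc
        ⟨q, hq⟩ (by rw [RelSeries.last_snoc]; exact hpq')).snoc ⟨M, inferInstance⟩ (by rw [RelSeries.last_snoc]; exact hqM')
    have := (Order.LTSeries.length_le_krullDim s).trans hA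
    have h3 : s.length = 3 := rfl
    rw [h3] at this
    exact absurd this (by decide)
  obtain ⟨g, hg, h⟩ := finite_divisor_of_isolated hϖ hπ0 M hπM hfM hiso fun p hp _ => hf p hp
  exact ⟨f, g, hf0, hfM, hg, h⟩

end Groth.Agent.H26.HorizCartier
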