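import Groth.Prelude.Def_ArSurf
import Groth.Agent.S7919

/-!
# Arithmetic surfaces are proper
-/

set_option autoImplicit false

universe u

open CategoryTheory CategoryTheory.Limits AlgebraicGeometry

namespace Groth.Agent.H26

theorem isProper_of_isArithSurface {R : Type u} [CommRing R] [IsDomain R] {X : Over (Spec (CommRingCat.of R))}
    (hX : ArSurf.IsArithSurface R X) : IsProper X.hom := by
  obtain ⟨n, i, hi, hiw⟩ := hX.2.2.2.2
  haveI := hi
  haveI := Groth.Agent.PnCoh.Chow.isProper_toSpec n (ULift.{u} ℤ)
  haveI : IsProper (CohB1.ProjSpaceOver.toBase n (Spec (CommRingCat.of R))) :=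
    MorphismProperty.of_isPullback (IsPullback.of_hasPullback (CohB1.ProjSpace.toSpec n (ULift.{u} ℤ))
      (specULiftZIsTerminal.from (Spec (CommRingCat.of R)))) ‹_›
  rw [← hiw]
  infer_instance

end Groth.Agent.H26
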