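import Groth.Agent.H26.FibModel
import Groth.Agent.SchTop.ZeroDim
import Mathlib.AlgebraicGeometry.Morphisms.UniversallyOpen
import Mathlib.RingTheory.Finiteness.Basic

/-!
# The locus of one-dimensional fibres with only constant functions
-/

set_option autoImplicit false
set_option backward.isDefEq.respectTransparency false
set_option backward.isDefEq.respectTransparency.types false
set_option linter.style.haveILetI false

universe u

open CategoryTheory CategoryTheory.Limits AlgebraicGeometry

namespace Groth.Agent.H26.FibModel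

/-- `H⁰` of the structure sheaf is the ring of global sections. -/
noncomputable def h0Equiv {A : Type u} [CommRing A] {W : Scheme.{u}} (q : W ⟶ Spec (CommRingCat.of A)) :
    letI := QCoh.modHH (Coh.toGlobal q) (Coh.structureModule W) 0
    letI : Algebra A Γ(W, ⊤) := (q.appTop.hom.comp (Scheme.ΓSpecIso (CommRingCat.of A)).inv.hom).toAlgebra
    Coh.HH W (Coh.structureModule W) 0 ≃ₗ[A] Γ(W, ⊤) :=
  letI := QCoh.modHH (Coh.toGlobal q) (Coh.structureModule W) 0
  letI : Algebra A Γ(W, ⊤) := (q.appTop.hom.comp (Scheme.ΓSpecIso (CommRingCat.of A)).inv.hom).toAlgebra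
  let e : Coh.HH W (Coh.structureModule W) 0 ≃+ Γ(W, ⊤) :=
    Sheaf.H.equiv₀ (Coh.toAb (Coh.structureModule W)) isTerminalTop
  have he : ∀ (r : Coh.Γtop W) (x : Coh.HH W (Coh.structureModule W) 0),
      e (r • x) = (show Γ(W, ⊤) from r) * e x := by
    intro r x
    have h := (Sheaf.H.equiv₀_naturality isTerminalTop (Coh.smulAb (Coh.structureModule W) r) x).symm
    refine (show e (r • x) = _ from h).trans ?_
    show (show Γ(W, ⊤) from Coh.resTop W (Opposite.op ⊤) r) * e x = _
    congr 1
    show (W.presheaf.map (homOfLE le_top).op).hom r = r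
    rw [show (homOfLE le_top).op = 𝟙 (Opposite.op (⊤ : W.Opens)) from rfl, W.presheaf.map_id]
    rfl
  { e with map_smul' := fun c x => he _ x }

theorem dim_le_zero (d : WithBot ℕ∞) (h : d < 1) : d ≤ 0 := by
  induction d with
  | bot => exact bot_le
  | coe a => exact WithBot.coe_le_coe.2 (ENat.lt_one_iff_eq_zero.1 (WithBot.coe_lt_coe.1 h)).le

variable {X S : Scheme.{u}} (f : X ⟶ S) [Flat f] [IsProper f] [LocallyOfFinitePresentation f]

/-- The global functions on the fibres form finite-dimensional algebras of dimension `hRank`. -/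
theorem finrank_sections (s : S) :
    letI : Algebra ↥(S.residueField s) Γ(f.fiber s, ⊤) :=
      ((f.fiberToSpecResidueField s).appTop.hom.comp
        (Scheme.ΓSpecIso (CommRingCat.of ↥(S.residueField s))).inv.hom).toAlgebra
    Module.Finite ↥(S.residueField s) Γ(f.fiber s, ⊤) ∧
      Module.finrank ↥(S.residueField s) Γ(f.fiber s, ⊤) =
        Models.hRank ↥(S.residueField s) (f.fiber s) (f.fiberToSpecResidueField s)
          (Coh.structureModule (f.fiber s)) 0 := by
  letI : Algebra ↥(S.residueField s) Γ(f.fiber s, ⊤) :=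
    ((f.fiberToSpecResidueField s).appTop.hom.comp
      (Scheme.ΓSpecIso (CommRingCat.of ↥(S.residueField s))).inv.hom).toAlgebra
  letI := QCoh.modHH (A := ↥(S.residueField s)) (Coh.toGlobal (A := ↥(S.residueField s))
    (f.fiberToSpecResidueField s)) (Coh.structureModule (f.fiber s)) 0
  obtain ⟨_, ⟨V, hV, rfl⟩, hsV, -⟩ :=
    S.isBasis_affineOpens.exists_subset_of_mem_open (Set.mem_univ s) isOpen_univ
  obtain ⟨A₀, _, _, ι, P, hP⟩ := exists_isModel f (V := V) hV
  haveI := (hP.hRank s hsV 0).2
  let e := h0Equiv (A := ↥(S.residueField s)) (f.fiberToSpecResidueField s)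
  exact ⟨Module.Finite.equiv e, e.finrank_eq.symm⟩

/-- A fibre of dimension zero with only constant functions is the spectrum of the residue field. -/
theorem isIso_fiberToSpec_of_dim_le_zero (s : S) (hd : topologicalKrullDim ↥(f.fiber s) ≤ 0)
    (h0 : Models.hRank ↥(S.residueField s) (f.fiber s) (f.fiberToSpecResidueField s)
      (Coh.structureModule (f.fiber s)) 0 = 1) :
    IsIso (f.fiberToSpecResidueField s) := by
  letI : Algebra ↥(S.residueField s) Γ(f.fiber s, ⊤) :=
    ((f.fiberToSpecResidueField s).appTop.hom.comp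
      (Scheme.ΓSpecIso (CommRingCat.of ↥(S.residueField s))).inv.hom).toAlgebra
  obtain ⟨hfin, hr⟩ := finrank_sections f s
  rw [h0] at hr
  haveI : Nontrivial Γ(f.fiber s, ⊤) :=
    Module.nontrivial_of_finrank_pos (R := ↥(S.residueField s)) (by omega)
  have hbij : Function.Bijective (algebraMap ↥(S.residueField s) Γ(f.fiber s, ⊤)) := by
    refine ⟨RingHom.injective _, fun z => ?_⟩
    obtain ⟨c, hc⟩ := exists_smul_eq_of_finrank_eq_one hr (one_ne_zero : (1 : Γ(f.fiber s, ⊤)) ≠ 0) z
    exact ⟨c, by rw [Algebra.algebraMap_eq_smul_one]; exact hc⟩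
  haveI : IsProper (f.fiberToSpecResidueField s) := MorphismProperty.pullback_snd _ _ inferInstance
  haveI : CompactSpace ↥(f.fiber s) :=
    QuasiCompact.compactSpace_of_compactSpace (f.fiberToSpecResidueField s)
  haveI : QuasiSeparatedSpace ↥(f.fiber s) :=
    quasiSeparatedSpace_of_quasiSeparated (f.fiberToSpecResidueField s)
  haveI : IsAffine (f.fiber s) := by
    have h : IsAffineOpen (⊤ : (f.fiber s).Opens) :=
      SchTop.isAffineOpen_of_isCompact hd isCompact_univ
    haveI : IsAffine ((⊤ : (f.fiber s).Opens) : Scheme.{u}) := h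
    exact IsAffine.of_isIso (f.fiber s).topIso.inv
  haveI : IsIso (CommRingCat.ofHom (algebraMap ↥(S.residueField s) Γ(f.fiber s, ⊤))) :=
    (ConcreteCategory.isIso_iff_bijective _).2 hbij
  haveI : IsIso (f.fiberToSpecResidueField s).appTop := by
    have e : (f.fiberToSpecResidueField s).appTop =
        (Scheme.ΓSpecIso (CommRingCat.of ↥(S.residueField s))).hom ≫
          CommRingCat.ofHom (algebraMap ↥(S.residueField s) Γ(f.fiber s, ⊤)) := by
      rw [← Iso.inv_comp_eq]
      rfl
    rw [e]
    infer_instance
  exact (MorphismProperty.arrow_mk_iso_iff (MorphismProperty.isomorphisms Scheme.{u})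
    (arrowIsoSpecΓOfIsAffine (f.fiberToSpecResidueField s))).2
    (inferInstanceAs (IsIso (Spec.map (f.fiberToSpecResidueField s).appTop)))

omit [Flat f] [IsProper f] [LocallyOfFinitePresentation f] in
/-- Over a point with fibre `Spec` of the residue field there is nothing off the diagonal. -/
theorem mem_range_diagonal (s : S) (h : IsIso (f.fiberToSpecResidueField s)) (z : ↥(pullback f f))
    (hz : (pullback.fst f f ≫ f) z = s) : z ∈ Set.range (pullback.diagonal f) := by
  subst hz
  let P := pullback f f
  let t := P.fromSpecResidueField z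
  let g := pullback.fst f f ≫ f
  have ht : t ≫ g = Spec.map (g.residueFieldMap z) ≫ S.fromSpecResidueField (g z) :=
    (g.SpecMap_residueFieldMap_fromSpecResidueField z).symm
  let a : Spec (P.residueField z) ⟶ f.fiber (g z) :=
    pullback.lift (t ≫ pullback.fst f f) (Spec.map (g.residueFieldMap z)) (by rw [Category.assoc]; exact ht)
  let b : Spec (P.residueField z) ⟶ f.fiber (g z) :=
    pullback.lift (t ≫ pullback.snd f f) (Spec.map (g.residueFieldMap z))
      (by rw [Category.assoc, ← pullback.condition]; exact ht)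
  have hab : a = b := by
    haveI := h
    rw [← cancel_mono (f.fiberToSpecResidueField (g z))]
    exact (pullback.lift_snd _ _ _).trans (pullback.lift_snd _ _ _).symm
  have e : t ≫ pullback.fst f f = t ≫ pullback.snd f f := by
    have h1 : a ≫ f.fiberι (g z) = t ≫ pullback.fst f f := pullback.lift_fst _ _ _
    have h2 : b ≫ f.fiberι (g z) = t ≫ pullback.snd f f := pullback.lift_fst _ _ _
    rw [← h1, hab, h2]
  have e2 : (t ≫ pullback.fst f f) ≫ pullback.diagonal f = t := by
    apply pullback.hom_ext
    · rw [Category.assoc, pullback.diagonal_fst, Category.comp_id]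
    · rw [Category.assoc, pullback.diagonal_snd, Category.comp_id, e]
  refine ⟨(t ≫ pullback.fst f f) (IsLocalRing.closedPoint _), ?_⟩
  have h3 := congr($e2 (IsLocalRing.closedPoint (P.residueField z)))
  exact h3.trans (P.fromSpecResidueField_apply z _)

/-- The locus of one-dimensional fibres with only constant functions is open. -/
theorem isOpen_dim_one_h0_one (hdim : ∀ s : S, topologicalKrullDim ↥(f.fiber s) ≤ 1) :
    IsOpen {s : S | topologicalKrullDim ↥(f.fiber s) = 1 ∧
      Models.hRank ↥(S.residueField s) (f.fiber s) (f.fiberToSpecResidueField s)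
        (Coh.structureModule (f.fiber s)) 0 = 1} := by
  haveI : Flat (pullback.fst f f ≫ f) := inferInstance
  haveI : LocallyOfFinitePresentation (pullback.fst f f ≫ f) := inferInstance
  let O : Set S := (pullback.fst f f ≫ f) '' (Set.range (pullback.diagonal f))ᶜ
  have hO : IsOpen O := (pullback.fst f f ≫ f).isOpenMap _
    (pullback.diagonal f).isClosedEmbedding.isClosed_range.isOpen_compl
  convert hO.inter (isOpen_hRank_lt f 0 2) using 1
  ext s
  constructor
  · rintro ⟨hd, h0⟩
    refine ⟨?_, show _ < 2 by omega⟩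
    have hnt : Nontrivial ↥(f.fiber s) := by
      by_contra hn
      rw [not_nontrivial_iff_subsingleton] at hn
      have h := topologicalKrullDim_zero_of_discreteTopology ↥(f.fiber s)
      rw [hd] at h
      exact not_le.2 zero_lt_one h
    obtain ⟨x, y, hxy⟩ := exists_pair_ne ↥(f.fiber s)
    have hs : ∀ w : ↥(f.fiber s), f (f.fiberι s w) = s := fun w => by
      have := congr($(pullback.condition (f := f) (g := S.fromSpecResidueField s)) w)
      exact this.trans (S.fromSpecResidueField_apply s _)
    obtain ⟨z, hz1, hz2⟩ := Scheme.Pullback.exists_preimage_pullback (f := f) (g := f)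
      (f.fiberι s x) (f.fiberι s y) ((hs x).trans (hs y).symm)
    refine ⟨z, fun hz => hxy ((f.fiberι s).isEmbedding.injective ?_), ?_⟩
    · obtain ⟨w, rfl⟩ := hz
      rw [← hz1, ← hz2, ← Scheme.Hom.comp_apply, ← Scheme.Hom.comp_apply, pullback.diagonal_fst,
        pullback.diagonal_snd]
    · show f (pullback.fst f f z) = s
      rw [hz1, hs]
  · rintro ⟨⟨z, hz, rfl⟩, h2⟩
    let s := (pullback.fst f f ≫ f) z
    obtain ⟨x, hx⟩ : ∃ x : ↥(f.fiber s), True := by
      obtain ⟨x, -⟩ := (f.range_fiberι s).superset (show pullback.fst f f z ∈ f ⁻¹' {s} from rfl)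
      exact ⟨x, trivial⟩
    have h1 : Models.hRank ↥(S.residueField s) (f.fiber s) (f.fiberToSpecResidueField s)
        (Coh.structureModule (f.fiber s)) 0 = 1 := by
      letI : Algebra ↥(S.residueField s) Γ(f.fiber s, ⊤) :=
        ((f.fiberToSpecResidueField s).appTop.hom.comp
          (Scheme.ΓSpecIso (CommRingCat.of ↥(S.residueField s))).inv.hom).toAlgebra
      obtain ⟨hfin, hr⟩ := finrank_sections f s
      haveI : Nonempty ↥(f.fiber s) := ⟨x⟩
      haveI : Nontrivial Γ(f.fiber s, ⊤) := @Scheme.component_nontrivial (f.fiber s) ⊤ ⟨⟨x, trivial⟩⟩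
      have h3 : 0 < Module.finrank ↥(S.residueField s) Γ(f.fiber s, ⊤) := Module.finrank_pos
      have h2' : Models.hRank ↥(S.residueField s) (f.fiber s) (f.fiberToSpecResidueField s)
        (Coh.structureModule (f.fiber s)) 0 < 2 := h2
      omega
    refine ⟨?_, h1⟩
    by_contra hne
    refine hz (mem_range_diagonal f s ?_ z rfl)
    exact isIso_fiberToSpec_of_dim_le_zero f s
      (dim_le_zero _ (lt_of_le_of_ne (hdim s) hne)) h1

end Groth.Agent.H26.FibModel
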