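import Groth.Prelude
import Groth.Agent.MorLib.Thick.Affine
import Groth.Agent.QCoh.Support

/-!
# Affine opens of a nilpotent thickening
-/

set_option autoImplicit false
set_option backward.isDefEq.respectTransparency.types false
set_option linter.style.haveILetI false

universe u

open CategoryTheory CategoryTheory.Limits AlgebraicGeometry TopologicalSpace

namespace Groth.Agent.H26.CartThick

theorem surjective_of_nilpotent {T Tc : Scheme.{u}} (i : T ⟶ Tc) [IsClosedImmersion i]
    (hnil : ∃ n : ℕ, ∀ V : Tc.affineOpens, i.ker.ideal V ^ n = ⊥) : Surjective i := by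
  obtain ⟨n, hn⟩ := hnil
  refine ⟨fun x => ?_⟩
  obtain ⟨_, ⟨V, hV, rfl⟩, hxV, -⟩ := Tc.isBasis_affineOpens.exists_subset_of_mem_open (Set.mem_univ x) isOpen_univ
  have hx : x ∈ (i.ker.support : Set Tc) := by
    refine ((i.ker.coe_support_inter ⟨V, hV⟩).ge ⟨?_, hxV⟩).1
    rw [Scheme.mem_zeroLocus_iff]
    intro a ha hxa
    have h0 : a ^ (n + 1) = 0 := by
      have h1 : a ^ n = 0 := Ideal.mem_bot.1 (hn ⟨V, hV⟩ ▸ Ideal.pow_mem_pow ha n)
      rw [pow_succ, h1, zero_mul]
    rw [← Tc.basicOpen_pow a (n := n + 1) (Nat.succ_pos n), h0, Scheme.basicOpen_zero] at hxa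
    exact hxa
  rw [Scheme.Hom.support_ker] at hx
  rwa [i.isClosedEmbedding.isClosed_range.closure_eq] at hx

/-- The preimage of an affine open is affine. -/
theorem isAffineOpen_preimage {T Tc U : Scheme.{u}} (i : T ⟶ Tc) [IsClosedImmersion i]
    (hnil : ∃ n : ℕ, ∀ V : Tc.affineOpens, i.ker.ideal V ^ n = ⊥)
    (u : T ⟶ U) [IsAffineHom u] (g : Tc.carrier ⟶ U.carrier) (hg : i.base ≫ g = u.base)
    {W : U.Opens} (hW : IsAffineOpen W) : IsAffineOpen ((Opens.map g).obj W : Tc.Opens) := by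
  haveI := surjective_of_nilpotent i hnil
  let O : Tc.Opens := (Opens.map g).obj W
  have hO : i ⁻¹ᵁ O = u ⁻¹ᵁ W := by
    ext z
    show g (i.base z) ∈ W ↔ u.base z ∈ W
    rw [← hg]
    rfl
  haveI : IsAffine (i ⁻¹ᵁ O : Scheme.{u}) := by rw [hO]; exact hW.preimage u
  haveI : IsClosedImmersion (i ∣_ O) := IsZariskiLocalAtTarget.restrict ‹IsClosedImmersion i› _
  haveI : Surjective (i ∣_ O) := IsZariskiLocalAtTarget.restrict ‹Surjective i› _
  exact MorLib.Thick.isAffine_of_thickening (i ∣_ O) (i ∣_ O).surjective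

end Groth.Agent.H26.CartThick
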