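import Groth.Agent.H26.H1Chain
import Groth.Agent.H26.VertApply
import Groth.Agent.GeomField.GlobalFunctions

/-!
# Fields of constants over an algebraically closed residue field
-/

set_option autoImplicit false
set_option linter.style.haveILetI false
set_option linter.unusedSectionVars false
set_option backward.isDefEq.respectTransparency false
set_option backward.isDefEq.respectTransparency.types false
set_option maxHeartbeats 1000000

universe u

open CategoryTheory CategoryTheory.Limits AlgebraicGeometry

noncomputable section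

namespace Groth.Agent.H26.ClosedConst

variable {R : Type u} [CommRing R] [IsDomain R] [IsDiscreteValuationRing R]
  {X : Over (Spec (CommRingCat.of R))} [IsProper X.hom]

/-- A field of constants finite over `R` is the residue field when that is algebraically closed. -/
theorem lengthH_zero_eq_one [IsAlgClosed (IsLocalRing.ResidueField R)] {J : X.left.IdealSheafData}
    (hJ : Chain.Fld J) : Models.lengthH R X (ClSub.quotMod J) 0 = 1 := by
  obtain ⟨hf, hfin⟩ := hJ
  letI := (Chain.rho X J).toAlgebra
  letI := hf.toField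
  haveI : Module.Finite R Γ(J.subscheme, ⊤) := hfin
  haveI : Algebra.IsIntegral R Γ(J.subscheme, ⊤) := Algebra.IsIntegral.of_finite R _
  have hker : RingHom.ker (algebraMap R Γ(J.subscheme, ⊤)) = IsLocalRing.maximalIdeal R := by
    refine IsLocalRing.eq_maximalIdeal ?_
    rw [RingHom.ker_eq_comap_bot]
    haveI : (⊥ : Ideal Γ(J.subscheme, ⊤)).IsMaximal := Ideal.bot_isMaximal
    exact Ideal.isMaximal_comap_of_isIntegral_of_isMaximal (R := R) _
  let ψ : IsLocalRing.ResidueField R →+* Γ(J.subscheme, ⊤) :=
    Ideal.Quotient.lift _ (algebraMap R Γ(J.subscheme, ⊤)) fun a ha => by rw [← RingHom.mem_ker, hker]; exact ha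
  letI := ψ.toAlgebra
  haveI : IsScalarTower R (IsLocalRing.ResidueField R) Γ(J.subscheme, ⊤) := IsScalarTower.of_algebraMap_eq fun _ => rfl
  haveI : Module.Finite (IsLocalRing.ResidueField R) Γ(J.subscheme, ⊤) :=
    Module.Finite.of_restrictScalars_finite R _ _
  haveI : Algebra.IsIntegral (IsLocalRing.ResidueField R) Γ(J.subscheme, ⊤) := Algebra.IsIntegral.of_finite _ _
  have hsurj : Function.Surjective (algebraMap R Γ(J.subscheme, ⊤)) := fun x => by
    obtain ⟨c, hc⟩ := (IsAlgClosed.algebraMap_bijective_of_isIntegral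
      (k := IsLocalRing.ResidueField R) (K := Γ(J.subscheme, ⊤))).2 x
    obtain ⟨r, rfl⟩ := IsLocalRing.residue_surjective c
    exact ⟨r, hc⟩
  letI : J.subscheme.Over (Spec (CommRingCat.of R)) := ⟨J.subschemeι ≫ X.hom⟩
  obtain ⟨a⟩ := PnCoh.exists_linearEquiv_push R J.subschemeι (P := X.left) rfl
    (QCoh.isQCoh_structureModule (X := J.subscheme)) 0
  have h1 : Module.length R Γ(J.subscheme, ⊤) = 1 := by
    haveI : IsScalarTower R Γ(J.subscheme, ⊤) Γ(J.subscheme, ⊤) := IsScalarTower.of_algebraMap_smul fun _ _ => rfl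
    rw [Module.length_eq_of_surjective (R := Γ(J.subscheme, ⊤)) hsurj]
    haveI : IsSimpleModule Γ(J.subscheme, ⊤) Γ(J.subscheme, ⊤) := inferInstance
    exact Module.length_eq_one Γ(J.subscheme, ⊤) _
  show (Module.length R (Coh.HH X.left (ClSub.quotMod J) 0)).toNat = 1
  rw [← a.length_eq, ← H1Chain.length_HH_zero (A := R) (W := J.subscheme)]
  exact (congrArg ENat.toNat h1).trans rfl

/-- A single global function up to scalars: the structure map is bijective on global functions. -/
theorem bijective_appTop_of_hRank {K : Type u} [Field K] {C : Scheme.{u}} (f : C ⟶ Spec (CommRingCat.of K))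
    (h : Models.hRank K C f (Coh.structureModule C) 0 = 1) : Function.Bijective f.appTop := by
  letI : C.Over (Spec (CommRingCat.of K)) := ⟨f⟩
  letI := GeomField.globalAlgebra K C
  have h1 : Module.finrank K Γ(C, ⊤) = 1 := by rw [← GeomField.finrank_HH_zero K C]; exact h
  haveI : Nontrivial Γ(C, ⊤) := Module.nontrivial_of_finrank_eq_succ h1
  haveI : Module.Finite K Γ(C, ⊤) := Module.finite_of_finrank_eq_succ h1
  have hb : Function.Bijective (Algebra.linearMap K Γ(C, ⊤)) := by
    have hinj : Function.Injective (Algebra.linearMap K Γ(C, ⊤)) := (algebraMap K Γ(C, ⊤)).injective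
    exact ⟨hinj, (LinearMap.injective_iff_surjective_of_finrank_eq_finrank ((Module.finrank_self K).trans h1.symm)).1 hinj⟩
  have e : ∀ x, f.appTop x = Algebra.linearMap K Γ(C, ⊤) ((Scheme.ΓSpecIso (CommRingCat.of K)).hom x) := fun x => by
    show _ = f.appTop ((Scheme.ΓSpecIso (CommRingCat.of K)).inv ((Scheme.ΓSpecIso (CommRingCat.of K)).hom x))
    rw [← CommRingCat.comp_apply (Scheme.ΓSpecIso (CommRingCat.of K)).hom, Iso.hom_inv_id]
    rfl
  rw [show (f.appTop : _ → _) = _ from funext e]
  exact hb.comp (Scheme.ΓSpecIso (CommRingCat.of K)).commRingCatIsoToRingEquiv.bijective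

end Groth.Agent.H26.ClosedConst
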