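import Groth.Agent.GrpSchLib.FieldAllComp
import Groth.Agent.S4112
import Mathlib.AlgebraicGeometry.AlgClosed.Basic
import Mathlib.AlgebraicGeometry.Morphisms.Etale
import Mathlib.AlgebraicGeometry.Morphisms.UniversallyOpen

/-!
# Points and components of a commutative group scheme over an algebraically closed field
-/

set_option autoImplicit false

universe u

open CategoryTheory CategoryTheory.Limits AlgebraicGeometry MonoidalCategory CartesianMonoidalCategory MonObj GrpObj
open TopologicalSpace

noncomputable section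

namespace Groth.Agent.H26.CompPts

open Groth.Agent.GrpSchLib

variable {k : Type u} [Field k] {G : Over (Spec (CommRingCat.of k))} [GrpObj G]

/-- The point of a section. -/
abbrev pt (x : 𝟙_ (Over (Spec (CommRingCat.of k))) ⟶ G) : G.left := x.left.base (IsLocalRing.closedPoint k)

/-- The point of the unit. -/
abbrev e₀ (G : Over (Spec (CommRingCat.of k))) [GrpObj G] : G.left := pt (η[G])

theorem pt_one : pt (1 : 𝟙_ (Over (Spec (CommRingCat.of k))) ⟶ G) = e₀ G := by
  rw [Hom.one_def, toUnit_unique (toUnit _) (𝟙 _), Category.id_comp]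

/-- Translation. -/
def trans (a : 𝟙_ (Over (Spec (CommRingCat.of k))) ⟶ G) : G ⟶ G := (toUnit G ≫ a) * 𝟙 G

theorem comp_trans (a x : 𝟙_ (Over (Spec (CommRingCat.of k))) ⟶ G) : x ≫ trans a = a * x := by
  rw [trans, MonObj.comp_mul, Category.comp_id, ← Category.assoc, toUnit_unique (x ≫ toUnit G) (𝟙 _),
    Category.id_comp]

theorem trans_apply (a x : 𝟙_ (Over (Spec (CommRingCat.of k))) ⟶ G) : (trans a).left (pt x) = pt (a * x) :=
  (left_comp_apply x (trans a) _).symm.trans (congrArg (fun f => pt f) (comp_trans a x))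

/-- `x` and `y` lie on one component. -/
def Same (x y : 𝟙_ (Over (Spec (CommRingCat.of k))) ⟶ G) : Prop := pt y ∈ connectedComponent (pt x)

theorem same_refl (x : 𝟙_ (Over (Spec (CommRingCat.of k))) ⟶ G) : Same x x := mem_connectedComponent

theorem same_iff {x y : 𝟙_ (Over (Spec (CommRingCat.of k))) ⟶ G} :
    Same x y ↔ connectedComponent (pt x) = connectedComponent (pt y) :=
  ⟨fun h => connectedComponent_eq h, fun h => by unfold Same; rw [h]; exact mem_connectedComponent⟩

theorem Same.mul_left {x y : 𝟙_ (Over (Spec (CommRingCat.of k))) ⟶ G} (h : Same x y)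
    (a : 𝟙_ (Over (Spec (CommRingCat.of k))) ⟶ G) : Same (a * x) (a * y) := by
  show pt (a * y) ∈ connectedComponent (pt (a * x))
  rw [← trans_apply, ← trans_apply]
  exact (trans a).left.continuous.image_connectedComponent_subset _ ⟨_, h, rfl⟩

/-- The sections lying on the component of the unit. -/
def neutral (G : Over (Spec (CommRingCat.of k))) [GrpObj G] :
    Subgroup (𝟙_ (Over (Spec (CommRingCat.of k))) ⟶ G) where
  carrier := {x | Same 1 x}
  one_mem' := same_refl 1
  mul_mem' := fun {a b} ha hb => by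
    have h := hb.mul_left a
    rw [_root_.mul_one] at h
    exact same_iff.2 ((same_iff.1 ha).trans (same_iff.1 h))
  inv_mem' := fun {a} ha => by
    have h := ha.mul_left a⁻¹
    rw [_root_.mul_one, inv_mul_cancel] at h
    exact same_iff.2 (same_iff.1 h).symm

theorem mem_neutral {x : 𝟙_ (Over (Spec (CommRingCat.of k))) ⟶ G} :
    x ∈ neutral G ↔ pt x ∈ connectedComponent (e₀ G) := by
  show pt x ∈ connectedComponent (pt 1) ↔ _
  rw [pt_one]

theorem inv_mul_mem_neutral {x y : 𝟙_ (Over (Spec (CommRingCat.of k))) ⟶ G} :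
    x⁻¹ * y ∈ neutral G ↔ pt y ∈ connectedComponent (pt x) := by
  refine ⟨fun h => ?_, fun h => ?_⟩
  · have h' : Same (x * 1) (x * (x⁻¹ * y)) := (show Same 1 (x⁻¹ * y) from h).mul_left x
    rwa [_root_.mul_one, mul_inv_cancel_left] at h'
  · have h' := (show Same x y from h).mul_left x⁻¹
    rwa [inv_mul_cancel] at h'

theorem isIrreducible_component (x : G.left) : IsIrreducible (connectedComponent x) := by
  obtain ⟨c, hc, hcx⟩ := exists_isMaxPt x
  rw [connectedComponent_eq_closure hc hcx]
  exact isIrreducible_singleton.closure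

theorem finite_components [LocallyOfFiniteType G.hom] [QuasiCompact G.hom] :
    (Set.range fun x : G.left => connectedComponent x).Finite := by
  haveI : IsLocallyNoetherian G.left := LocallyOfFiniteType.isLocallyNoetherian G.hom
  haveI : CompactSpace G.left := QuasiCompact.compactSpace_of_compactSpace G.hom
  obtain ⟨t, ht⟩ := isCompact_univ.elim_finite_subcover (fun x : G.left => connectedComponent x)
    (fun x => isOpen_connectedComponent x) (fun x _ => Set.mem_iUnion.2 ⟨x, mem_connectedComponent⟩)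
  refine (t.finite_toSet.image fun x => connectedComponent x).subset ?_
  rintro _ ⟨x, rfl⟩
  obtain ⟨z, hz, hxz⟩ := Set.mem_iUnion₂.1 (ht (Set.mem_univ x))
  exact ⟨z, hz, connectedComponent_eq hxz⟩

/-- Some power of every section lies on the neutral component. -/
theorem exists_pow_mem [LocallyOfFiniteType G.hom] [QuasiCompact G.hom]
    (x : 𝟙_ (Over (Spec (CommRingCat.of k))) ⟶ G) : ∃ n, 0 < n ∧ x ^ n ∈ neutral G := by
  haveI := (finite_components (G := G)).to_subtype
  obtain ⟨a, b, hab, h⟩ := Finite.exists_ne_map_eq_of_infinite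
    fun n : ℕ => (⟨connectedComponent (pt (x ^ n)), ⟨_, rfl⟩⟩ :
      Set.range fun x : G.left => connectedComponent x)
  wlog hlt : a < b generalizing a b
  · exact this b a (Ne.symm hab) h.symm (lt_of_le_of_ne (not_lt.1 hlt) (Ne.symm hab))
  have h1 : (x ^ a)⁻¹ * x ^ b ∈ neutral G :=
    inv_mul_mem_neutral.2 (same_iff.2 (congrArg Subtype.val h))
  refine ⟨b - a, by omega, ?_⟩
  rwa [show x ^ b = x ^ a * x ^ (b - a) by rw [← pow_add, Nat.add_sub_cancel' hlt.le], inv_mul_cancel_left] at h1

variable [IsAlgClosed k] [LocallyOfFiniteType G.hom]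

theorem pt_injective {x y : 𝟙_ (Over (Spec (CommRingCat.of k))) ⟶ G} (h : pt x = pt y) : x = y := by
  have hx : x.left ≫ G.hom = 𝟙 _ := Over.w x
  have hy : y.left ≫ G.hom = 𝟙 _ := Over.w y
  have := (pointEquivClosedPoint G.hom).injective (a₁ := ⟨x.left, hx⟩) (a₂ := ⟨y.left, hy⟩) (Subtype.ext h)
  exact Over.OverMorphism.ext (congrArg Subtype.val this)

theorem exists_pt {z : G.left} (hz : IsClosed ({z} : Set G.left)) :
    ∃ x : 𝟙_ (Over (Spec (CommRingCat.of k))) ⟶ G, pt x = z :=
  ⟨Over.homMk (pointOfClosedPoint G.hom z hz) (pointOfClosedPoint_comp _ _ _), pointOfClosedPoint_apply _ _ _ _⟩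

/-- The neutral sections are divisible by integers invertible in the field. -/
theorem exists_pow_eq [IsCommMonObj G] [QuasiCompact G.hom] {m : ℕ} (hm : (m : k) ≠ 0)
    {y : 𝟙_ (Over (Spec (CommRingCat.of k))) ⟶ G} (hy : y ∈ neutral G) :
    ∃ w ∈ neutral G, w ^ m = y := by
  haveI : IsLocallyNoetherian G.left := LocallyOfFiniteType.isLocallyNoetherian G.hom
  haveI : JacobsonSpace G.left := LocallyOfFiniteType.jacobsonSpace G.hom
  let f := ((𝟙 G : G ⟶ G) ^ m).left
  haveI : Etale f := Groth.Agent.S4112.result k G m hm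
  let C := connectedComponent (e₀ G)
  have hC : IsOpen C := isOpen_connectedComponent _
  have hO : IsOpen (f '' C) := f.isOpenMap _ hC
  have hf : ∀ x : 𝟙_ (Over (Spec (CommRingCat.of k))) ⟶ G, f (pt x) = pt (x ^ m) := fun x => by
    refine (left_comp_apply x ((𝟙 G : G ⟶ G) ^ m) _).symm.trans ?_
    rw [MonObj.comp_pow, Category.comp_id]
  have he : f (e₀ G) = e₀ G := by
    rw [← pt_one, hf, one_pow]
  have hOC : f '' C ⊆ C := by
    refine (f.continuous.image_connectedComponent_subset _).trans ?_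
    rw [he]
  let t := trans y
  haveI : IsIso t := ⟨trans y⁻¹, by
    simp only [t, trans]
    rw [MonObj.comp_mul, Category.comp_id, ← Category.assoc, comp_toUnit, ← _root_.mul_assoc,
      ← MonObj.comp_mul, inv_mul_cancel, MonObj.comp_one, _root_.one_mul], by
    simp only [t, trans]
    rw [MonObj.comp_mul, Category.comp_id, ← Category.assoc, comp_toUnit, ← _root_.mul_assoc,
      ← MonObj.comp_mul, mul_inv_cancel, MonObj.comp_one, _root_.one_mul]⟩
  haveI : IsIso t.left := ((Over.forget _).mapIso (asIso t)).isIso_hom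
  have hO' : IsOpen (t.left '' (f '' C)) := t.left.isOpenEmbedding.isOpenMap _ hO
  have hty : t.left (e₀ G) = pt y := by rw [← pt_one, trans_apply, _root_.mul_one]
  have hO'C : t.left '' (f '' C) ⊆ C := by
    refine (Set.image_mono hOC).trans ((t.left.continuous.image_connectedComponent_subset _).trans ?_)
    rw [hty, ← connectedComponent_eq (mem_neutral.1 hy)]
  have hmemO : e₀ G ∈ f '' C := ⟨e₀ G, mem_connectedComponent, he⟩
  have hne : (C ∩ (f '' C ∩ t.left '' (f '' C))).Nonempty := by
    refine (isIrreducible_component _).2 _ _ hO hO' ⟨e₀ G, mem_connectedComponent, hmemO⟩ ?_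
    exact ⟨t.left (e₀ G), hO'C ⟨_, hmemO, rfl⟩, _, hmemO, rfl⟩
  obtain ⟨z, hz, hzc⟩ := nonempty_inter_closedPoints (hne.mono Set.inter_subset_right)
    (hO.inter hO').isLocallyClosed
  obtain ⟨hz1, hz2⟩ := hz
  obtain ⟨c, hc⟩ := exists_pt (G := G) hzc
  have hpre : ∀ {z' : G.left}, IsClosed ({z'} : Set G.left) → z' ∈ f '' C →
      ∃ a ∈ neutral G, pt (a ^ m) = z' := fun {z'} hz' ⟨a₀, ha₀, hfa⟩ => by
    obtain ⟨a', ha', hac⟩ := nonempty_inter_closedPoints (Z := C ∩ f ⁻¹' {z'}) ⟨a₀, ha₀, hfa⟩
      (hC.isLocallyClosed.inter (hz'.preimage f.continuous).isLocallyClosed)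
    obtain ⟨a, rfl⟩ := exists_pt (G := G) hac
    exact ⟨a, mem_neutral.2 ha'.1, (hf a).symm.trans ha'.2⟩
  obtain ⟨w₂, hw₂, rfl⟩ := hz2
  have hw₂c : IsClosed ({w₂} : Set G.left) := by
    have h2 := hzc.preimage t.left.continuous
    rwa [show ((t.left : G.left → G.left)) ⁻¹' {t.left w₂} = {w₂} from
      Set.ext fun w => ⟨fun h => t.left.isOpenEmbedding.injective h, fun h => congrArg t.left h⟩] at h2
  obtain ⟨b, hb, hb'⟩ := hpre hw₂c hw₂
  obtain ⟨a, ha, ha'⟩ := hpre hzc hz1
  have hab : a ^ m = y * b ^ m := pt_injective (by rw [ha', ← hb', trans_apply])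
  letI := Hom.commGroup (X := 𝟙_ (Over (Spec (CommRingCat.of k)))) (G := G)
  refine ⟨a * b⁻¹, mul_mem ha (inv_mem hb), ?_⟩
  rw [_root_.mul_pow, inv_pow, hab, mul_inv_cancel_right]

end Groth.Agent.H26.CompPts
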