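import Groth.Agent.H26.CompPts
import Mathlib.GroupTheory.OrderOfElement
import Mathlib.RingTheory.Int.Basic

/-!
# Splitting the component group reduces to its `p`-part
-/

set_option autoImplicit false

universe u

open CategoryTheory CategoryTheory.Limits AlgebraicGeometry MonoidalCategory CartesianMonoidalCategory MonObj GrpObj

noncomputable section

namespace Groth.Agent.H26.CompSplit

open CompPts

attribute [local instance] Hom.commGroup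

variable {k : Type u} [Field k] [IsAlgClosed k] {G : Over (Spec (CommRingCat.of k))} [GrpObj G] [IsCommMonObj G]
  [LocallyOfFiniteType G.hom] [QuasiCompact G.hom]

theorem exists_lift (p : ℕ) [hp : Fact p.Prime] [CharP k p] (x : 𝟙_ (Over (Spec (CommRingCat.of k))) ⟶ G)
    (hpart : ∀ z : 𝟙_ (Over (Spec (CommRingCat.of k))) ⟶ G, (∃ r : ℕ, z ^ p ^ r ∈ neutral G) →
      ∃ y, z⁻¹ * y ∈ neutral G ∧ ∀ n : ℕ, y ^ n = 1 ↔ z ^ n ∈ neutral G) :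
    ∃ y, x⁻¹ * y ∈ neutral G ∧ ∀ n : ℕ, y ^ n = 1 ↔ x ^ n ∈ neutral G := by
  let Q := (𝟙_ (Over (Spec (CommRingCat.of k))) ⟶ G) ⧸ neutral G
  have hmem : ∀ n : ℕ, x ^ n ∈ neutral G ↔ orderOf ((x : Q)) ∣ n := fun n => by
    rw [orderOf_dvd_iff_pow_eq_one, ← QuotientGroup.mk_pow, QuotientGroup.eq_one_iff]
  obtain ⟨n₀, hn₀, hx₀⟩ := exists_pow_mem x
  have hd : orderOf ((x : Q)) ≠ 0 := fun h => by
    have := (hmem n₀).1 hx₀
    rw [h, zero_dvd_iff] at this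
    omega
  obtain ⟨a, m, hm, hdm⟩ := Nat.exists_eq_pow_mul_and_not_dvd hd p hp.out.ne_one
  have hmk : (m : k) ≠ 0 := fun h => hm ((CharP.cast_eq_zero_iff k p m).1 h)
  have hcop : Nat.Coprime (p ^ a) m := ((hp.out.coprime_iff_not_dvd.2 hm).pow_left a)
  obtain ⟨v, w, huv⟩ := Int.isCoprime_iff_nat_coprime.2
    (show Nat.Coprime (Int.natAbs (p ^ a : ℕ)) (Int.natAbs (m : ℕ)) from by simpa using hcop)
  let x₁ := x ^ (w * (m : ℤ))
  let x₂ := x ^ (v * ((p ^ a : ℕ) : ℤ))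
  have hx : x = x₁ * x₂ := by
    rw [← zpow_add, add_comm, huv, zpow_one]
  have hxd : x ^ (p ^ a * m) ∈ neutral G := (hmem _).2 (dvd_of_eq hdm)
  have hz : ∀ z : ℤ, ((p ^ a * m : ℕ) : ℤ) ∣ z → x ^ z ∈ neutral G := by
    rintro _ ⟨c, rfl⟩
    rw [zpow_mul, zpow_natCast]
    exact (neutral G).zpow_mem hxd c
  obtain ⟨y₁, hy₁, hy₁'⟩ := hpart x₁ ⟨a, by
    rw [← zpow_natCast, ← zpow_mul]
    exact hz _ ⟨w, by push_cast; ring⟩⟩
  obtain ⟨w₂, hw₂, hw₂m⟩ := exists_pow_eq hmk (y := x₂ ^ m) (by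
    rw [← zpow_natCast, ← zpow_mul]
    exact hz _ ⟨v, by push_cast; ring⟩)
  have hy₂ : (x₂ * w₂⁻¹) ^ m = 1 := by rw [mul_pow, inv_pow, hw₂m, mul_inv_cancel]
  have hcl : x⁻¹ * (y₁ * (x₂ * w₂⁻¹)) ∈ neutral G := by
    rw [show x⁻¹ * (y₁ * (x₂ * w₂⁻¹)) = (x₁⁻¹ * y₁) * w₂⁻¹ by
      rw [hx, _root_.mul_inv_rev, mul_comm x₂⁻¹, mul_left_comm y₁ x₂, _root_.mul_assoc, inv_mul_cancel_left, _root_.mul_assoc]]
    exact mul_mem hy₁ (inv_mem hw₂)
  refine ⟨y₁ * (x₂ * w₂⁻¹), hcl, fun n => ⟨fun h => ?_, fun h => ?_⟩⟩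
  · have h1 := (neutral G).pow_mem hcl n
    rw [mul_pow, h, _root_.mul_one, inv_pow] at h1
    exact inv_mem_iff.1 h1
  · have hdn : p ^ a * m ∣ n := hdm ▸ (hmem n).1 h
    have h1 : y₁ ^ n = 1 := (hy₁' n).2 (by
      rw [← zpow_natCast, ← zpow_mul]
      exact hz _ ((Int.natCast_dvd_natCast.2 hdn).mul_left _))
    obtain ⟨c, hc⟩ := (dvd_mul_left m (p ^ a)).trans hdn
    rw [mul_pow, h1, _root_.one_mul, hc, pow_mul, hy₂, one_pow]

end Groth.Agent.H26.CompSplit
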