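import Groth.Agent.H26.CompPts
import Groth.Agent.GrpSchLib.IdentityComp
import Groth.Agent.GrpSchLib.HomClosedRange

/-!
# Components killed by a power of `p` contain `p`-power torsion sections
-/

set_option autoImplicit false

universe u

open CategoryTheory CategoryTheory.Limits AlgebraicGeometry MonoidalCategory CartesianMonoidalCategory MonObj GrpObj
open TopologicalSpace

noncomputable section

namespace Groth.Agent.H26.CompTorsion

open CompPts Groth.Agent.GrpSchLib

attribute [local instance] Hom.commGroup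

variable {k : Type u} [Field k] {G : Over (Spec (CommRingCat.of k))} [GrpObj G] [IsCommMonObj G]

theorem isMonHom_pow (n : ℕ) : IsMonHom ((𝟙 G : G ⟶ G) ^ n) := by
  refine ⟨?_, ?_⟩
  · rw [MonObj.comp_pow, Category.comp_id, show η[G] = (1 : 𝟙_ _ ⟶ G) by
      rw [Hom.one_def, toUnit_unique (toUnit _) (𝟙 _), Category.id_comp], one_pow]
  · rw [MonObj.comp_pow, Category.comp_id]
    conv_lhs => rw [show μ[G] = fst G G * snd G G by rw [Hom.mul_def, lift_fst_snd, Category.id_comp], mul_pow]
    rw [show μ[G] = fst G G * snd G G by rw [Hom.mul_def, lift_fst_snd, Category.id_comp], MonObj.comp_mul,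
      tensorHom_fst, tensorHom_snd, MonObj.comp_pow, MonObj.comp_pow, Category.comp_id, Category.comp_id]

variable [IsAlgClosed k] [LocallyOfFiniteType G.hom] [QuasiCompact G.hom]

theorem pow_apply (n : ℕ) (x : 𝟙_ (Over (Spec (CommRingCat.of k))) ⟶ G) :
    ((𝟙 G : G ⟶ G) ^ n).left (pt x) = pt (x ^ n) := by
  refine (left_comp_apply x ((𝟙 G : G ⟶ G) ^ n) _).symm.trans ?_
  rw [MonObj.comp_pow, Category.comp_id]

theorem exists_torsion (p : ℕ) (x : 𝟙_ (Over (Spec (CommRingCat.of k))) ⟶ G) (r : ℕ)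
    (hx : x ^ p ^ r ∈ neutral G) : ∃ y, x⁻¹ * y ∈ neutral G ∧ ∃ s : ℕ, y ^ p ^ s = 1 := by
  haveI : IsLocallyNoetherian G.left := LocallyOfFiniteType.isLocallyNoetherian G.hom
  haveI : CompactSpace G.left := QuasiCompact.compactSpace_of_compactSpace G.hom
  haveI : AlgebraicGeometry.IsNoetherian G.left := {}
  haveI : JacobsonSpace G.left := LocallyOfFiniteType.jacobsonSpace G.hom
  obtain ⟨G₀, _, incl, _, hci, -, hrange, -, -⟩ := exists_identityComponent (G := G)
  haveI := hci
  haveI : LocallyOfFiniteType G₀.hom := by rw [← Over.w incl]; infer_instance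
  haveI : QuasiCompact G₀.hom := by rw [← Over.w incl]; infer_instance
  let f : ℕ → (G ⟶ G) := fun s => (𝟙 G : G ⟶ G) ^ p ^ s
  let C := connectedComponent (e₀ G)
  have hcl : ∀ s, IsClosed ((f s).left '' C) := fun s => by
    haveI := isMonHom_pow (G := G) (p ^ s)
    have h : Set.range (incl ≫ f s).left = (f s).left '' C := by
      rw [show C = Set.range incl.left from hrange.symm, ← Set.range_comp]
      rfl
    rw [← h]
    haveI : QuasiCompact ((incl ≫ f s).left ≫ G.hom) := by rw [Over.w]; infer_instance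
    haveI : QuasiCompact (incl ≫ f s).left := QuasiCompact.of_comp (incl ≫ f s).left G.hom
    exact Groth.Agent.GrpSchLib.HomClosedRange.isClosed_range (incl ≫ f s)
  have hsub : ∀ t, (f t).left '' C ⊆ C := fun t => by
    refine ((f t).left.continuous.image_connectedComponent_subset _).trans ?_
    rw [show (f t).left (e₀ G) = e₀ G by rw [← pt_one, pow_apply, one_pow]]
  have hanti : ∀ s t, s ≤ t → (f t).left '' C ⊆ (f s).left '' C := fun s t hst => by
    have e : f t = f (t - s) ≫ f s := by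
      show _ = ((𝟙 G : G ⟶ G) ^ p ^ (t - s)) ≫ ((𝟙 G : G ⟶ G) ^ p ^ s)
      rw [MonObj.comp_pow, Category.comp_id, ← pow_mul, ← pow_add, Nat.sub_add_cancel hst]
    rw [e, Over.comp_left, show ((f (t - s)).left ≫ (f s).left : _ → G.left) = (f s).left ∘ (f (t - s)).left from rfl,
      Set.image_comp]
    exact Set.image_mono (hsub _)
  obtain ⟨s, hs⟩ : ∃ s, ∀ t, s ≤ t → (f s).left '' C ⊆ (f t).left '' C := by
    obtain ⟨_, ⟨s, rfl⟩, hmin⟩ := (wellFounded_lt (α := Closeds G.left)).has_min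
      (Set.range fun s => (⟨_, hcl s⟩ : Closeds G.left)) (Set.range_nonempty _)
    refine ⟨s, fun t hst => ?_⟩
    by_contra hne
    exact hmin ⟨_, hcl t⟩ ⟨t, rfl⟩ (lt_of_le_not_ge (hanti s t hst) hne)
  -- the power of `x` is a power of a neutral section
  obtain ⟨z, hz, hzeq⟩ := hs (s + r) (Nat.le_add_right _ _) ⟨_, mem_neutral.1 hx, rfl⟩
  have hclosed : IsClosed ({(f s).left (pt (x ^ p ^ r))} : Set G.left) := by
    rw [pow_apply]
    let q : {q : Spec (CommRingCat.of k) ⟶ G.left // q ≫ G.hom = 𝟙 _} := ⟨((x ^ p ^ r) ^ p ^ s).left, Over.w _⟩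
    exact (pointEquivClosedPoint G.hom q).2
  obtain ⟨z', hz', hzc⟩ := nonempty_inter_closedPoints
    (Z := C ∩ (f (s + r)).left ⁻¹' {(f s).left (pt (x ^ p ^ r))}) ⟨z, hz, hzeq⟩
    ((isOpen_connectedComponent _).isLocallyClosed.inter (hclosed.preimage (f (s + r)).left.continuous).isLocallyClosed)
  obtain ⟨w, rfl⟩ := exists_pt (G := G) hzc
  have hw : w ^ p ^ (s + r) = (x ^ p ^ r) ^ p ^ s := pt_injective (by
    rw [← pow_apply, ← pow_apply]
    exact hz'.2)
  refine ⟨x * w⁻¹, ?_, s + r, ?_⟩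
  · rw [inv_mul_cancel_left]
    exact inv_mem (mem_neutral.2 hz'.1)
  · rw [mul_pow, inv_pow, hw, ← pow_mul, ← pow_add, Nat.add_comm s r, mul_inv_cancel]

end Groth.Agent.H26.CompTorsion
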