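import Groth.Agent.H26.VertDiv
import Groth.Agent.H26.InterRange
import Groth.Agent.NQF.ModelConn

/-!
# The group of vertical divisor classes
-/

set_option autoImplicit false
set_option linter.style.haveILetI false
set_option backward.isDefEq.respectTransparency false
set_option backward.isDefEq.respectTransparency.types false
set_option maxHeartbeats 1000000

universe u

open CategoryTheory CategoryTheory.Limits AlgebraicGeometry TopologicalSpace Opposite
open Groth.Agent.H23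
open scoped Groth.Agent.H23.PicMul

noncomputable section

namespace Groth.Agent.H26.VertClass

variable {R : Type u} [CommRing R] [IsDomain R] [IsDiscreteValuationRing R]
  (X : Over (Spec (CommRingCat.of R))) {n : ℕ} (Γc : Fin n → ArSurf.VertComp R X)

/-- The classes involved: regular, flat, proper, with a component list and inverses of the ideals. -/
structure Data where
  L : Fin n → X.left.Modules
  hΓ : Models.IsComponentList R X Γc
  flat : Flat X.hom
  proper : IsProper X.hom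
  hreg : ∀ x : X.left, IsRegularLocalRing (X.left.presheaf.stalk x)
  hL : ∀ i, ClSub.IsInverseOf (L i) (ClSub.idealMod (Γc i).ι.ker)

variable {X Γc} (D : Data X Γc)
include D

theorem Data.heff (i : Fin n) : BlowUp.IsEffCartierIdeal (Γc i).ι.ker :=
  haveI := D.flat
  haveI := D.proper
  (FibreIdeal.result X Γc D.hΓ D.hreg).1 i

theorem Data.isInvertible (i : Fin n) : PicF.IsInvertible (D.L i) :=
  ArInter.isInvertible_of_inverse (IdealCl.isInvertible_idealMod (D.heff i)) (D.hL i)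

/-- The class of `O(Γ_i)`. -/
def Data.gen (i : Fin n) : (PicF.Cl X.left)ˣ where
  val := PicF.cl (D.L i)
  inv := PicF.cl (ClSub.idealMod (Γc i).ι.ker)
  val_inv := by rw [← PicMul.cl_tensor]; exact PicMul.cl_eq_iff.2 (D.hL i)
  inv_val := by rw [mul_comm, ← PicMul.cl_tensor]; exact PicMul.cl_eq_iff.2 (D.hL i)

/-- The multiplicities. -/
def Data.m (_ : Data X Γc) (i : Fin n) : ℤ := (Models.mult R X (Γc i) : ℤ)

/-- The class of a vertical divisor. -/
def Data.P (a : Fin n → ℤ) : (PicF.Cl X.left)ˣ := ∏ i, D.gen i ^ a i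

theorem Data.P_add (a b : Fin n → ℤ) : D.P (a + b) = D.P a * D.P b := by
  simp only [Data.P, Pi.add_apply, zpow_add, Finset.prod_mul_distrib]

theorem Data.P_zero : D.P 0 = 1 := by simp [Data.P]

theorem Data.P_neg (a : Fin n → ℤ) : D.P (-a) = (D.P a)⁻¹ := by
  simp only [Data.P, Pi.neg_apply, zpow_neg, Finset.prod_inv_distrib]

theorem Data.P_smul (a : Fin n → ℤ) (k : ℤ) : D.P (fun i => k * a i) = D.P a ^ k := by
  simp only [Data.P, ← Finset.prod_zpow, ← zpow_mul, mul_comm k]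

theorem Data.P_natCast (a : Fin n → ℕ) :
    ((D.P fun i => (a i : ℤ)) : PicF.Cl X.left) = PicF.cl (FGA.multiTwist D.L a) := by
  rw [IdealCl.cl_multiTwist]
  simp only [Data.P, Units.coe_prod, zpow_natCast, Units.val_pow_eq_pow_val]
  rfl

theorem Data.P_mult : D.P D.m = 1 := by
  haveI := D.flat
  haveI := D.proper
  refine Units.ext ?_
  simp only [Data.P, Data.m, Units.coe_prod, zpow_natCast, Units.val_pow_eq_pow_val]
  exact (ArInter.multiTwist_mult X Γc D.hreg D.hΓ D.L D.hL).2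

theorem Data.P_mult_mul (k : ℤ) : D.P (fun i => k * D.m i) = 1 := by
  rw [D.P_smul, D.P_mult, one_zpow]

theorem Data.m_pos (i : Fin n) : 0 < D.m i := by
  haveI := D.flat
  haveI := D.proper
  exact Int.natCast_pos.2 (InterForm.mult_pos D.hΓ D.hreg i)

theorem Data.exists_shift (z : Fin n → ℤ) :
    ∃ (N : ℤ) (a : Fin n → ℕ), ∀ i, (a i : ℤ) = z i + N * D.m i := by
  refine ⟨∑ j, |z j|, fun i => (z i + (∑ j, |z j|) * D.m i).toNat, fun i => Int.toNat_of_nonneg ?_⟩
  have h1 : |z i| ≤ ∑ j, |z j| := Finset.single_le_sum (fun j _ => abs_nonneg (z j)) (Finset.mem_univ i)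
  have h2 : (∑ j, |z j|) ≤ (∑ j, |z j|) * D.m i :=
    le_mul_of_one_le_right (Finset.sum_nonneg fun j _ => abs_nonneg _) (D.m_pos i)
  have h3 := neg_abs_le (z i)
  linarith

theorem Data.P_eq_of_shift {z : Fin n → ℤ} {N : ℤ} {a : Fin n → ℕ} (h : ∀ i, (a i : ℤ) = z i + N * D.m i) :
    ((D.P z) : PicF.Cl X.left) = PicF.cl (FGA.multiTwist D.L a) := by
  rw [← D.P_natCast, show (fun i => (a i : ℤ)) = z + fun i => N * D.m i from funext h, D.P_add, D.P_mult_mul,
    mul_one]

theorem Data.inter_eq {z : Fin n → ℤ} {M : X.left.Modules} (hM : PicF.IsInvertible M)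
    (h : PicF.cl M = ((D.P z) : PicF.Cl X.left)) (i : Fin n) :
    ArSurf.inter R X M (Γc i) = ∑ j, z j * ArSurf.inter R X (D.L j) (Γc i) := by
  haveI := D.flat
  haveI := D.proper
  obtain ⟨N, a, ha⟩ := D.exists_shift z
  rw [D.P_eq_of_shift ha] at h
  rw [ArInter.inter_congr (Γc i) hM h, ArInter.inter_multiTwist (Γc i) D.isInvertible]
  simp only [ha, add_mul, Finset.sum_add_distrib, mul_assoc, ← Finset.mul_sum]
  rw [show (∑ j, D.m j * ArSurf.inter R X (D.L j) (Γc i)) = 0 from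
    ArInter.sum_mult_mul_inter X Γc D.hreg D.hΓ D.L D.hL i, mul_zero, add_zero]

/-- A vertical divisor is principal only if it is a multiple of the fibre. -/
theorem Data.exists_of_prod_eq_one (happ : Function.Bijective X.hom.appTop) {e : Fin n → ℕ}
    (h : ∏ i, PicF.cl (ClSub.idealMod (Γc i).ι.ker) ^ e i = 1) :
    ∃ k : ℕ, ∀ i, e i = k * Models.mult R X (Γc i) := by
  classical
  haveI := D.flat
  haveI := D.proper
  haveI : IsLocallyNoetherian X.left := LocallyOfFiniteType.isLocallyNoetherian X.hom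
  obtain ⟨ϖ, hirr⟩ := IsDiscreteValuationRing.exists_irreducible R
  have hϖ := hirr.maximalIdeal_eq
  obtain ⟨hJ, hcl⟩ := IdealCl.eff_and_cl_prod Finset.univ (fun i => (Γc i).ι.ker) D.heff e
  obtain ⟨ι⟩ := PicMul.cl_eq_iff.1 (((hcl.trans h).trans PicMul.one_def).symm)
  set J := ∏ i, (Γc i).ι.ker ^ e i with hJdef
  obtain ⟨t, ht⟩ : ∃ t : Γ(ClSub.idealMod J, ⊤), InvX.IsFrame t :=
    ⟨_, (InvX.isFrame_one (X := X.left) ⊤).map_iso ι⟩
  obtain ⟨r, hr⟩ : ∃ r : R, Coh.toGlobal X.hom r = OmegaSh.idealSect J ⊤ t :=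
    (happ.comp (Scheme.ΓSpecIso (CommRingCat.of R)).symm.commRingCatIsoToRingEquiv.bijective).2 _
  have hspan : ∀ W : X.left.affineOpens, J.ideal W = Ideal.span {FibreIdeal.unifOn X r W.1} := fun W => by
    have hW : OmegaSh.idealSect J W.1 (AModX.res _ (le_top : W.1 ≤ ⊤) t) = FibreIdeal.unifOn X r W.1 := by
      rw [show OmegaSh.idealSect J W.1 (AModX.res _ (le_top : W.1 ≤ ⊤) t) = _ from OmegaLib.idealSect_map J _ t, ← hr]
      rfl
    refine le_antisymm (fun g hg => ?_) ?_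
    · obtain ⟨k, hk⟩ := OmegaLib.exists_of_mem J W g hg
      obtain ⟨c, hc⟩ := ht.exists_coord (le_top : W.1 ≤ ⊤) k
      rw [← hk, hc, OmegaLib.idealSect_smul, hW]
      exact Ideal.mul_mem_left _ c (Ideal.mem_span_singleton_self _)
    · rw [Ideal.span_singleton_le_iff_mem, ← hW]
      exact OmegaLib.idealSect_mem J W _
  rcases isEmpty_or_nonempty (Fin n) with hn | ⟨⟨i₀⟩⟩
  · exact ⟨0, fun i => isEmptyElim i⟩
  have hr0 : r ≠ 0 := fun h0 => by
    obtain ⟨U, hxU, c, hc, hU⟩ := hJ (Models.genPtOf R X (Γc i₀))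
    haveI : Nontrivial Γ(X.left, U.1) :=
      haveI : Nonempty U.1 := ⟨⟨_, hxU⟩⟩
      Scheme.component_nontrivial _ U.1
    refine nonZeroDivisors.ne_zero hc (Ideal.span_singleton_eq_bot.1 ?_)
    rw [← hU, hspan U, h0, FibreIdeal.unifOn, map_zero, map_zero, Ideal.span_singleton_eq_bot]
  obtain ⟨k, v, rfl⟩ := IsDiscreteValuationRing.eq_unit_mul_pow_irreducible hr0 hirr
  refine ⟨k, fun i => ?_⟩
  -- localize at the generic point of the component
  set x := Models.genPtOf R X (Γc i)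
  obtain ⟨U, hU, hxU, -⟩ := exists_isAffineOpen_mem_and_subset (x := x) (U := ⊤) trivial
  let W : X.left.affineOpens := ⟨U, hU⟩
  have hJW : J.ideal W = (Models.specialFibreIdeal R X).ideal W ^ k := by
    rw [hspan W, FibreIdeal.specialFibreIdeal_ideal X hϖ W, Ideal.span_singleton_pow]
    simp only [FibreIdeal.unifOn, map_mul, map_pow]
    exact Ideal.span_singleton_mul_left_unit (((v.isUnit.map (Coh.toGlobal X.hom))).map _) _
  letI := TopCat.Presheaf.algebra_section_stalk X.left.presheaf (⟨x, hxU⟩ : U)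
  haveI := hU.isLocalization_stalk ⟨x, hxU⟩
  let ψ := algebraMap Γ(X.left, U) (X.left.presheaf.stalk x)
  let F : X.left.IdealSheafData →* Ideal (X.left.presheaf.stalk x) :=
    { toFun := fun I => (I.ideal W).map ψ, map_one' := by simp [Ideal.map_top],
      map_mul' := fun I J => Ideal.map_mul ψ _ _ }
  have hF : ∀ j, j ≠ i → F (Γc j).ι.ker = ⊤ := fun j hj => by
    show ((Γc j).ι.ker.ideal W).map ψ = ⊤
    rcases FibreIdeal.ker_ideal_cases (Γc j).ι W with ⟨-, h'⟩ | ⟨h', e'⟩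
    · rw [h', Ideal.map_top]
    · have hnle : ¬ (W.2.primeIdealOf ⟨_, h'⟩).asIdeal ≤ (hU.primeIdealOf ⟨x, hxU⟩).asIdeal := fun hle => by
        refine hj (FibreIdeal.genPt_injective X Γc D.hΓ ?_)
        refine (FibreIdeal.genPt_maximal X Γc D.hΓ i ?_ (FibreIdeal.genPt_mem X Γc D.hΓ j))
        have h2 := ((PrimeSpectrum.le_iff_specializes _ _).1 hle).map hU.fromSpec.continuous
        rwa [hU.fromSpec_primeIdealOf, hU.fromSpec_primeIdealOf] at h2
      obtain ⟨z, hzj, hzi⟩ := SetLike.not_le_iff_exists.1 hnle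
      rw [e']
      exact Ideal.eq_top_of_isUnit_mem _ (Ideal.mem_map_of_mem ψ hzj)
        (IsLocalization.map_units (X.left.presheaf.stalk x) (⟨z, hzi⟩ : (hU.primeIdealOf ⟨x, hxU⟩).asIdeal.primeCompl))
  have hFi : F (Γc i).ι.ker = IsLocalRing.maximalIdeal (X.left.presheaf.stalk x) := by
    show ((Γc i).ι.ker.ideal W).map ψ = _
    rcases FibreIdeal.ker_ideal_cases (Γc i).ι W with ⟨h', -⟩ | ⟨h', e'⟩
    · exact absurd hxU h'
    · rw [e']
      exact IsLocalization.AtPrime.map_eq_maximalIdeal (hU.primeIdealOf ⟨x, hxU⟩).asIdeal (X.left.presheaf.stalk x)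
  have hFp : ∀ b : Fin n → ℕ, F (∏ j, (Γc j).ι.ker ^ b j) =
      IsLocalRing.maximalIdeal (X.left.presheaf.stalk x) ^ b i := fun b => by
    rw [map_prod, ← Finset.mul_prod_erase _ _ (Finset.mem_univ i), map_pow, hFi,
      Finset.prod_eq_one fun j hj => by
        rw [map_pow, hF j (Finset.ne_of_mem_erase hj), ← Ideal.one_eq_top, one_pow], mul_one]
  have hpow : IsLocalRing.maximalIdeal (X.left.presheaf.stalk x) ^ e i =
      IsLocalRing.maximalIdeal (X.left.presheaf.stalk x) ^ (k * Models.mult R X (Γc i)) := by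
    have h1 : F J = F (Models.specialFibreIdeal R X) ^ k := by
      show (J.ideal W).map ψ = ((Models.specialFibreIdeal R X).ideal W).map ψ ^ k
      rw [hJW, Ideal.map_pow]
    rw [hJdef, hFp, (FibreIdeal.result X Γc D.hΓ D.hreg).2, hFp, ← pow_mul] at h1
    rw [h1, mul_comm]
  haveI : IsDomain (X.left.presheaf.stalk x) := (@RegUFD.ufd _ _ (D.hreg x)).1
  haveI : IsNoetherianRing (X.left.presheaf.stalk x) := inferInstance
  have hne : IsLocalRing.maximalIdeal (X.left.presheaf.stalk x) ≠ ⊥ := fun hbot => by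
    have hmem : ψ (FibreIdeal.unifOn X ϖ U) ∈ IsLocalRing.maximalIdeal (X.left.presheaf.stalk x) :=
      (IsLocalization.AtPrime.to_map_mem_maximal_iff (X.left.presheaf.stalk x)
        (hU.primeIdealOf ⟨x, hxU⟩).asIdeal _).2
        ((FibreIdeal.mem_fibre_iff X hϖ hU x hxU).1 (FibreIdeal.genPt_mem X Γc D.hΓ i))
    rw [hbot, Ideal.mem_bot] at hmem
    obtain ⟨c, hc⟩ := (IsLocalization.map_eq_zero_iff (hU.primeIdealOf ⟨x, hxU⟩).asIdeal.primeCompl _ _).1 hmem
    exact c.2 ((mem_nonZeroDivisors_iff_right.1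
      (FibreIdeal.unifOn_mem_nonZeroDivisors X hirr.ne_zero hU) _ hc).symm ▸ Ideal.zero_mem _)
  set 𝔪 := IsLocalRing.maximalIdeal (X.left.presheaf.stalk x)
  have key : ∀ p q : ℕ, p < q → 𝔪 ^ p ≠ 𝔪 ^ q := fun p q hpq heq => by
    refine pow_ne_zero p hne (Submodule.eq_bot_of_le_smul_of_le_jacobson_bot 𝔪 (𝔪 ^ p)
      (IsNoetherian.noetherian _) ?_ (IsLocalRing.maximalIdeal_le_jacobson _))
    calc 𝔪 ^ p = 𝔪 ^ q := heq
      _ ≤ 𝔪 ^ (p + 1) := Ideal.pow_le_pow_right hpq
      _ = 𝔪 • 𝔪 ^ p := by rw [pow_succ', smul_eq_mul]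
  rcases lt_trichotomy (e i) (k * Models.mult R X (Γc i)) with h' | h' | h'
  · exact absurd hpow (key _ _ h')
  · exact h'
  · exact absurd hpow.symm (key _ _ h')

theorem Data.P_eq_one_iff (happ : Function.Bijective X.hom.appTop) (z : Fin n → ℤ) :
    D.P z = 1 ↔ ∃ c : ℤ, ∀ i, z i = c * D.m i := by
  refine ⟨fun h => ?_, fun ⟨c, hc⟩ => by rw [show z = fun i => c * D.m i from funext hc, D.P_mult_mul]⟩
  obtain ⟨N, a, ha⟩ := D.exists_shift (-z)
  have h1 : (D.P fun i => (a i : ℤ)) = 1 := by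
    rw [show (fun i => (a i : ℤ)) = (-z) + fun i => N * D.m i from funext ha, D.P_add, D.P_mult_mul, D.P_neg, h,
      inv_one, mul_one]
  have h2 : ∏ i, PicF.cl (ClSub.idealMod (Γc i).ι.ker) ^ a i = 1 := by
    have h3 := congrArg (fun u : (PicF.Cl X.left)ˣ => ((u⁻¹ : (PicF.Cl X.left)ˣ) : PicF.Cl X.left)) h1
    simp only [Data.P, zpow_natCast, ← Finset.prod_inv_distrib, Units.coe_prod, inv_one, Units.val_one,
      ← inv_pow, Units.val_pow_eq_pow_val] at h3
    exact h3
  obtain ⟨k, hk⟩ := D.exists_of_prod_eq_one happ h2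
  refine ⟨N - k, fun i => ?_⟩
  have h4 := ha i
  rw [hk i, Pi.neg_apply] at h4
  simp only [Data.m] at h4 ⊢
  push_cast at h4
  linarith

variable {C : Scheme.{u}} {f : C ⟶ Spec (CommRingCat.of (FractionRing R))} {g : C ⟶ X.left}
  (sq : IsPullback g f X.hom (Spec.map (CommRingCat.ofHom (algebraMap R (FractionRing R)))))

include sq in
theorem Data.pullback_P (z : Fin n → ℤ) : PicMul.pullHom g ((D.P z) : PicF.Cl X.left) = 1 := by
  haveI := D.flat
  haveI := D.proper
  obtain ⟨ϖ, hirr⟩ := IsDiscreteValuationRing.exists_irreducible R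
  have hgen : ∀ i, Units.map (PicMul.pullHom g) (D.gen i) = 1 := fun i => by
    have hI : PicMul.pullHom g (PicF.cl (ClSub.idealMod (Γc i).ι.ker)) = 1 := by
      obtain ⟨e, he⟩ := VertDiv.exists_frame_ideal X Γc D.hΓ D.hreg hirr.maximalIdeal_eq i
      exact PicMul.cl_eq_iff.2 (VertDiv.nonempty_pullback_trivial X sq hirr he)
    refine inv_eq_one.1 (Units.ext ?_)
    rw [← map_inv]
    exact hI
  have h : Units.map (PicMul.pullHom g) (D.P z) = 1 := by
    simp only [Data.P, map_prod, map_zpow, hgen, one_zpow, Finset.prod_const_one]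
  exact congrArg (fun u : (PicF.Cl C)ˣ => (u : PicF.Cl C)) h

include sq in
theorem Data.exists_P_of_trivial {M : X.left.Modules} (hM : PicF.IsInvertible M)
    (h : Nonempty ((Scheme.Modules.pullback g).obj M ≅ Coh.structureModule C)) :
    ∃ a : Fin n → ℕ, PicF.cl M = PicF.cl (FGA.multiTwist D.L a) := by
  haveI := D.flat
  haveI := D.proper
  obtain ⟨ϖ, hirr⟩ := IsDiscreteValuationRing.exists_irreducible R
  obtain ⟨e, he⟩ := VertDiv.exists_frame_genOpen X sq hirr h
  obtain ⟨a, ha⟩ := VertDiv.exists_exponents X Γc D.hΓ D.hreg hirr hM he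
  refine ⟨a, ?_⟩
  rw [← D.P_natCast]
  have h2 : ((D.P fun i => (a i : ℤ))⁻¹ : (PicF.Cl X.left)ˣ).val =
      ∏ i, PicF.cl (ClSub.idealMod (Γc i).ι.ker) ^ a i := by
    simp only [Data.P, zpow_natCast, ← Finset.prod_inv_distrib, Units.coe_prod, ← inv_pow,
      Units.val_pow_eq_pow_val]
    rfl
  rw [← h2] at ha
  calc PicF.cl M = PicF.cl M * ((D.P fun i => (a i : ℤ))⁻¹ : (PicF.Cl X.left)ˣ).val *
        ((D.P fun i => (a i : ℤ)) : PicF.Cl X.left) := by rw [mul_assoc, Units.inv_mul, mul_one]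
    _ = _ := by rw [ha, one_mul]

end Groth.Agent.H26.VertClass
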