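import Mathlib
import Groth.Agent.H26.GenDeg
import Groth.Agent.GrLib8.Kunz
import Groth.Agent.AvramovLib.Ps
import Groth.Agent.MorLib.IndQA
import Groth.Agent.H23.AffineFinset
import Groth.Agent.DimFormula.Open

/-!
# Finite fibres of morphisms of regular varieties of the same dimension
-/

set_option autoImplicit false

universe u

open AlgebraicGeometry CategoryTheory Limits TopologicalSpace

namespace Groth.Agent.H26.DegBound

variable {X Y : Scheme.{u}}

theorem finite_discrete_fibre (f : X ⟶ Y) (y : Y) [IsFinite (pullback.snd f (Y.fromSpecResidueField y))] :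
    DiscreteTopology ↥(f.fiber y) ∧ Finite ↥(f.fiber y) := by
  haveI : IsFinite (f.fiberToSpecResidueField y) := ‹_›
  haveI : IsLocallyArtinian (f.fiber y) := IsLocallyArtinian.of_locallyQuasiFinite (f.fiberToSpecResidueField y)
  haveI : CompactSpace ↥(f.fiber y) := QuasiCompact.compactSpace_of_compactSpace (f.fiberToSpecResidueField y)
  exact ⟨inferInstance, finite_of_compact_of_discrete⟩

theorem eq_of_specializes (f : X ⟶ Y) {y : Y} [DiscreteTopology ↥(f.fiber y)] {z x : X} (h : z ⤳ x)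
    (hz : f z = y) (hx : f x = y) : z = x := by
  haveI : DiscreteTopology ↥(f ⁻¹' {y}) := (f.fiberHomeo y).discreteTopology
  have : (⟨z, hz⟩ : ↥(f ⁻¹' {y})) ⤳ ⟨x, hx⟩ := subtype_specializes_iff _ _ |>.2 h
  exact congrArg Subtype.val this.eq

theorem rd_eq_zero (f : X ⟶ Y) [LocallyOfFiniteType f] {y : Y} [DiscreteTopology ↥(f.fiber y)] {x : X}
    (hx : f x = y) : FibDim.rd f x = 0 := by
  obtain ⟨z, rfl⟩ : x ∈ Set.range (f.fiberι y) := by rw [Scheme.Hom.range_fiberι]; exact hx
  rw [← FibDim.deg_fiber]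
  have h := VarDim.height_eq_deg (k := Y.residueField y) (f.fiberToSpecResidueField y) z
  rw [Order.height_eq_zero.2 (fun w hw => (Specializes.eq (x := z) (y := w) hw).le)] at h
  exact_mod_cast h.symm

/-- Miracle flatness at a point isolated in its fibre. -/
theorem flat_stalkMap {k : Type u} [Field k] [IsIntegral X] [IsIntegral Y] (f : X ⟶ Y) [IsDominant f]
    (p : X ⟶ Spec (CommRingCat.of k)) (q : Y ⟶ Spec (CommRingCat.of k)) [LocallyOfFiniteType p]
    [LocallyOfFiniteType q] [LocallyOfFiniteType f] (hf : f ≫ q = p)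
    (hdim : topologicalKrullDim X = topologicalKrullDim Y)
    (x : X) [IsRegularLocalRing (X.presheaf.stalk x)] [IsRegularLocalRing (Y.presheaf.stalk (f x))]
    [DiscreteTopology ↥(f.fiber (f x))] : (f.stalkMap x).hom.Flat := by
  haveI := AvramovLib.isCM_of_regular (X.presheaf.stalk x)
  refine GrLib8.Kunz.flat_of_primary (f.stalkMap x).hom ?_ ?_
  · rw [Ideal.radical_eq_sInf]
    refine le_sInf fun P ⟨hP, hPp⟩ => ?_
    haveI := hPp
    let P' : PrimeSpectrum (X.presheaf.stalk x) := ⟨P, hPp⟩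
    have hz : X.fromSpecStalk x P' ⤳ x := by
      have : X.fromSpecStalk x P' ∈ Set.range (X.fromSpecStalk x) := ⟨_, rfl⟩
      rwa [Scheme.range_fromSpecStalk] at this
    have hfz : f (X.fromSpecStalk x P') = f x := by
      have h1 : f (X.fromSpecStalk x P') =
          Y.fromSpecStalk (f x) (PrimeSpectrum.comap (f.stalkMap x).hom P') := by
        show (X.fromSpecStalk x ≫ f) _ = _
        rw [← Scheme.SpecMap_stalkMap_fromSpecStalk f]
        rfl
      rw [h1, show PrimeSpectrum.comap (f.stalkMap x).hom P' = IsLocalRing.closedPoint _ from PrimeSpectrum.ext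
        ((IsLocalRing.maximalIdeal.isMaximal _).eq_of_le (Ideal.IsPrime.ne_top inferInstance)
          (Ideal.map_le_iff_le_comap.1 hP)).symm, Scheme.fromSpecStalk_closedPoint]
    have := eq_of_specializes f hz hfz rfl
    have h2 : P' = IsLocalRing.closedPoint _ := (X.fromSpecStalk x).isEmbedding.injective
      (this.trans Scheme.fromSpecStalk_closedPoint.symm)
    exact (congrArg PrimeSpectrum.asIdeal h2).ge
  · obtain ⟨a, ha, ⟨η, hη, hηa⟩, hle⟩ := VarDim.exists_deg_add_stalk p x
    obtain ⟨b, hb, ⟨η', hη', hηb⟩, hle'⟩ := VarDim.exists_deg_add_stalk q (f x)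
    rw [ha, hb]
    suffices a = b by rw [this]
    have hX : ∀ z, VarDim.deg p z ≤ VarDim.deg p (genericPoint X) := fun z =>
      VarDim.deg_le_of_specializes p (genericPoint_specializes z)
    have hY : ∀ z, VarDim.deg q z ≤ VarDim.deg q (genericPoint Y) := fun z =>
      VarDim.deg_le_of_specializes q (genericPoint_specializes z)
    have hdeg : ∀ {Z : Scheme.{u}} (s : Z ⟶ Spec (CommRingCat.of k)) [LocallyOfFiniteType s] (z : Z),
        VarDim.deg s z = FibDim.rd s z := fun s _ z => by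
      have e := (VarDim.deg_eq_tdeg s z).trans (VarDim.tdeg_eq_rdeg s z)
      rw [← FibDim.rd_eq_rdeg] at e
      exact_mod_cast e
    have hx : VarDim.deg p x = VarDim.deg q (f x) := by
      have h := FibDim.rd_comp f q x
      simp only [hf] at h
      rw [rd_eq_zero f rfl, add_zero, ← hdeg, ← hdeg] at h
      exact h
    rw [GenDeg.topologicalKrullDim_eq_rd p, GenDeg.topologicalKrullDim_eq_rd q, ← hdeg, ← hdeg] at hdim
    have hd := (Nat.cast_inj (R := ℕ∞)).1 (WithBot.coe_inj.1 hdim)
    have h1 := hX η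
    have h2 := hle _ (genericPoint_specializes x)
    have h3 := hY η'
    have h4 := hle' _ (genericPoint_specializes (f x))
    omega

/-- Finitely many points of a finite fibre lie in a common affine open. -/
theorem exists_affine_fibre (f : X ⟶ Y) [LocallyOfFiniteType f] [IsSeparated f] [IsLocallyNoetherian X]
    [CompactSpace X] {V : Y.Opens} (hV : IsAffineOpen V) {y : Y} (hyV : y ∈ V)
    [DiscreteTopology ↥(f.fiber y)] [Finite ↥(f.fiber y)] :
    ∃ W : X.Opens, IsAffineOpen W ∧ W ≤ f ⁻¹ᵁ V ∧ f ⁻¹' {y} ⊆ W := by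
  classical
  have hqf : ∀ x, f x = y → x ∈ f.quasiFiniteLocus := by
    rintro x rfl
    exact Scheme.Hom.quasiFiniteAt_iff_isOpen_singleton_asFiber.mpr (isOpen_discrete _)
  let W₀ : X.Opens := f.quasiFiniteLocus ⊓ f ⁻¹ᵁ V
  haveI : IsNoetherian X := ⟨⟩
  haveI : CompactSpace (W₀ : Scheme.{u}) :=
    isCompact_iff_compactSpace.mp (NoetherianSpace.isCompact _)
  haveI : IsAffine (V : Scheme.{u}) := hV
  let g := f.resLE V W₀ inf_le_right
  haveI : IsSeparated g := by
    show IsSeparated (f.resLE V W₀ inf_le_right)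
    delta Scheme.Hom.resLE; infer_instance
  haveI : LocallyOfFiniteType g := by
    show LocallyOfFiniteType (f.resLE V W₀ inf_le_right)
    delta Scheme.Hom.resLE; infer_instance
  haveI : LocallyQuasiFinite g := by
    have h : LocallyQuasiFinite (g ≫ V.ι) := by
      rw [Scheme.Hom.resLE_comp_ι,
        ← Scheme.homOfLE_ι X (inf_le_left : W₀ ≤ f.quasiFiniteLocus), Category.assoc]
      infer_instance
    exact LocallyQuasiFinite.of_comp g V.ι
  haveI := MorLib.IQA.qa_of_locallyQuasiFinite g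
  haveI : Finite ↥(f ⁻¹' {y}) := Finite.of_equiv _ (f.fiberHomeo y).toEquiv
  let F : Finset (W₀ : Scheme.{u}) :=
    ((Set.finite_coe_iff.1 (inferInstance : Finite ↥(f ⁻¹' {y}))).preimage
      W₀.ι.isOpenEmbedding.injective.injOn).toFinset
  let φ := (W₀ : Scheme.{u}).toSpecΓ
  obtain ⟨a, hale, haF⟩ := H23.AffineFinset.exists_basicOpen_le (isAffineOpen_top _) φ.opensRange
    (F.image φ) (fun _ _ => trivial) (fun z hz => by
      obtain ⟨w, -, rfl⟩ := Finset.mem_image.1 hz
      exact ⟨w, rfl⟩)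
  have haff : IsAffineOpen (φ ⁻¹ᵁ ((Spec Γ((W₀ : Scheme.{u}), ⊤)).basicOpen a)) :=
    ((isAffineOpen_top _).basicOpen a).preimage_of_isOpenImmersion φ hale
  refine ⟨W₀.ι ''ᵁ (φ ⁻¹ᵁ ((Spec Γ((W₀ : Scheme.{u}), ⊤)).basicOpen a)), haff.image_of_isOpenImmersion _, ?_, ?_⟩
  · rintro _ ⟨w, -, rfl⟩
    exact w.2.2
  · intro x hx
    have hxW : x ∈ W₀ := ⟨hqf x hx, show f x ∈ V by rw [show f x = y from hx]; exact hyV⟩
    exact ⟨⟨x, hxW⟩, haF _ (Finset.mem_image_of_mem _ ((Set.Finite.mem_toFinset _).2 hx)), rfl⟩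

end Groth.Agent.H26.DegBound
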