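import Mathlib

/-!
# The fibre rank of an algebra flat along a finite fibre is at most the generic rank
-/

set_option autoImplicit false

universe u

open TensorProduct

namespace Groth.Agent.H26.FibRank

open scoped nonZeroDivisors

theorem finrank_fibre_le {A R B L F : Type u} [CommRing A] [IsDomain A] [CommRing R] [IsLocalRing R] [Algebra A R]
    (q : Ideal A) [q.IsPrime] [IsLocalization.AtPrime R q]
    [CommRing B] [IsDomain B] [Algebra A B] [Field L] [Algebra A L] [IsFractionRing A L]
    [Field F] [Algebra B F] [Algebra A F] [IsScalarTower A B F] [FaithfulSMul B F]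
    [Algebra L F] [IsScalarTower A L F] [Module.Finite L F]
    [Module.Finite (IsLocalRing.ResidueField R) (IsLocalRing.ResidueField R ⊗[A] B)]
    (hflat : ∀ Q : Ideal (IsLocalRing.ResidueField R ⊗[A] B), ∀ [Q.IsPrime], Module.Flat A (Localization.AtPrime (Q.comap
      (Algebra.TensorProduct.includeRight : B →ₐ[A] IsLocalRing.ResidueField R ⊗[A] B).toRingHom))) :
    Module.finrank (IsLocalRing.ResidueField R) (IsLocalRing.ResidueField R ⊗[A] B) ≤ Module.finrank L F := by
  classical
  let K := IsLocalRing.ResidueField R
  let T := K ⊗[A] B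
  let φ : B →ₐ[A] T := Algebra.TensorProduct.includeRight
  let S : Submonoid B := (IsUnit.submonoid T).comap φ.toRingHom
  let M := Localization S
  haveI : IsArtinianRing T := IsArtinianRing.of_finite K T
  haveI : Fintype (PrimeSpectrum T) := Fintype.ofFinite _
  have hM : Module.Flat A M := by
    refine Module.flat_of_isLocalized_maximal (R := A) M M (fun P _ => Localization.AtPrime P)
      (fun P _ => Algebra.linearMap M (Localization.AtPrime P)) fun P _ => ?_
    let P₀ : Ideal B := P.comap (algebraMap B M)
    have hdis : ∀ b ∈ P₀, b ∉ S := fun b hb hbS =>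
      Ideal.IsPrime.ne_top (I := P) inferInstance (P.eq_top_of_isUnit_mem hb (IsLocalization.map_units M ⟨b, hbS⟩))
    have hcover : (P₀ : Set B) ⊆ ⋃ Q ∈ (↑(Finset.univ (α := PrimeSpectrum T)) : Set (PrimeSpectrum T)),
        ((Q.asIdeal.comap φ.toRingHom : Ideal B) : Set B) := fun b hb => by
      obtain ⟨m, hm, hbm⟩ := exists_max_ideal_of_mem_nonunits (a := φ b) (hdis b hb)
      exact Set.mem_biUnion (x := (⟨m, hm.isPrime⟩ : PrimeSpectrum T)) (Finset.mem_coe.2 (Finset.mem_univ _)) hbm
    obtain ⟨Q₀, -⟩ : ∃ Q : PrimeSpectrum T, Q ∈ Finset.univ := by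
      obtain ⟨m, hm, -⟩ := exists_max_ideal_of_mem_nonunits (a := φ 0) (hdis 0 (P₀.zero_mem))
      exact ⟨⟨m, hm.isPrime⟩, Finset.mem_univ _⟩
    obtain ⟨Q, -, hQ⟩ := (Ideal.subset_union_prime Q₀ Q₀ (fun i _ _ _ => Ideal.IsPrime.comap _)).1 hcover
    let Q' : Ideal B := Q.asIdeal.comap φ.toRingHom
    haveI : Module.Flat A (Localization.AtPrime Q') := hflat Q.asIdeal
    haveI : P₀.IsPrime := Ideal.IsPrime.comap _
    haveI hPloc : IsLocalization.AtPrime (Localization.AtPrime P) P₀ :=
      IsLocalization.isLocalization_isLocalization_atPrime_isLocalization S _ P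
    letI : Algebra (Localization.AtPrime Q') (Localization.AtPrime P) := (IsLocalization.lift (M := Q'.primeCompl)
      (g := algebraMap B (Localization.AtPrime P))
      fun y => IsLocalization.map_units (Localization.AtPrime P) (⟨y.1, fun h => y.2 (hQ h)⟩ : P₀.primeCompl)).toAlgebra
    haveI : IsScalarTower B (Localization.AtPrime Q') (Localization.AtPrime P) := .of_algebraMap_eq fun b => by
      rw [RingHom.algebraMap_toAlgebra, IsLocalization.lift_eq]
    haveI : IsScalarTower A (Localization.AtPrime Q') (Localization.AtPrime P) := .of_algebraMap_eq fun a => by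
      rw [IsScalarTower.algebraMap_apply A B (Localization.AtPrime Q'), ← IsScalarTower.algebraMap_apply B,
        ← IsScalarTower.algebraMap_apply A B]
    haveI : IsLocalization (P₀.primeCompl.map (algebraMap B (Localization.AtPrime Q'))) (Localization.AtPrime P) :=
      IsLocalization.isLocalization_of_submonoid_le (Localization.AtPrime Q') (Localization.AtPrime P)
        Q'.primeCompl P₀.primeCompl fun b hb h => hb (hQ h)
    haveI : Module.Flat (Localization.AtPrime Q') (Localization.AtPrime P) :=
      IsLocalization.flat _ (P₀.primeCompl.map (algebraMap B (Localization.AtPrime Q')))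
    exact Module.Flat.trans A (Localization.AtPrime Q') (Localization.AtPrime P)
  -- `M` is an algebra over `R`
  have hRM : ∀ a : q.primeCompl, IsUnit (algebraMap A M a) := fun a => by
    rw [IsScalarTower.algebraMap_apply A B M]
    refine IsLocalization.map_units M (⟨algebraMap A B a, ?_⟩ : S)
    show IsUnit (φ (algebraMap A B a))
    rw [AlgHom.commutes, IsScalarTower.algebraMap_apply A R T]
    exact (IsLocalization.map_units R a).map _
  letI : Algebra R M := (IsLocalization.lift hRM).toAlgebra
  haveI : IsScalarTower A R M := .of_algebraMap_eq fun a => by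
    rw [RingHom.algebraMap_toAlgebra, IsLocalization.lift_eq]
  haveI : Module.Flat R M := (Module.flat_iff_of_isLocalization R q.primeCompl M).2 hM
  let ψ : M →ₐ[A] T := IsLocalization.liftAlgHom (M := S) (f := φ) fun y => y.2
  have hψ : ∀ b, ψ (algebraMap B M b) = φ b := fun b => IsLocalization.lift_eq _ b
  have hψR : ∀ (r : R) (m : M), ψ (r • m) = r • ψ m := fun r m => by
    let ψ' : M →ₗ[R] T := LinearMap.extendScalarsOfIsLocalization q.primeCompl R ψ.toLinearMap
    exact ψ'.map_smul r m
  -- a basis of the fibre lifted to `B`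
  obtain ⟨κ, a, -, hsp, hli⟩ := exists_linearIndependent' K (fun b : B => φ b)
  have htop : Submodule.span K (Set.range fun b : B => φ b) = ⊤ := by
    refine top_le_iff.1 fun t ht => ?_
    clear ht
    induction t using TensorProduct.induction_on with
    | zero => exact zero_mem _
    | tmul c b =>
      rw [show c ⊗ₜ[A] b = c • ((1 : K) ⊗ₜ[A] b) by rw [TensorProduct.smul_tmul', smul_eq_mul, mul_one]]
      exact Submodule.smul_mem _ _ (Submodule.subset_span ⟨b, rfl⟩)
    | add x y hx hy => exact add_mem hx hy
  let bas := Module.Basis.mk hli (by rw [hsp, htop])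
  let v : κ → M := fun i => algebraMap B M (a i)
  let Ψ : K ⊗[R] M →ₗ[K] T := LinearMap.liftBaseChange K
    ({ toFun := ψ, map_add' := map_add ψ, map_smul' := hψR } : M →ₗ[R] T)
  have hliM : LinearIndependent R v := by
    refine Module.IsLocalRing.linearIndependent_of_flat v (LinearIndependent.of_comp Ψ ?_)
    convert! hli using 1
    funext i
    symm
    show φ (a i) = Ψ ((1 : K) ⊗ₜ[R] algebraMap B M (a i))
    rw [LinearMap.liftBaseChange_tmul, one_smul]
    exact (hψ (a i)).symm
  have hinj : Function.Injective (algebraMap A R) :=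
    IsLocalization.injective R q.primeCompl_le_nonZeroDivisors
  have hliB : LinearIndependent A (fun i => (a i : B)) :=
    LinearIndependent.of_comp (IsScalarTower.toAlgHom A B M).toLinearMap
      (hliM.restrict_scalars (by
        intro x y h
        refine hinj ?_
        simpa [Algebra.smul_def] using h))
  have hliF : LinearIndependent L (fun i => algebraMap B F (a i)) :=
    (LinearIndependent.iff_fractionRing A L).1
      (hliB.map' (IsScalarTower.toAlgHom A B F).toLinearMap
        (LinearMap.ker_eq_bot.2 (FaithfulSMul.algebraMap_injective B F)))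
  haveI : Fintype κ := FiniteDimensional.fintypeBasisIndex bas
  rw [Module.finrank_eq_card_basis bas]
  exact hliF.fintype_card_le_finrank

end Groth.Agent.H26.FibRank
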