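import Mathlib
import Groth.Agent.H26.DegBoundLocal
import Groth.Agent.H26.FibRank

/-!
# The rank of a finite fibre is at most the generic degree
-/

set_option autoImplicit false

universe u

open AlgebraicGeometry CategoryTheory Limits TopologicalSpace TensorProduct

namespace Groth.Agent.H26.DegBound

variable {X Y : Scheme.{u}}

theorem isFractionRing_residueField [IsIntegral Y] {U : Y.Opens} (hU : IsAffineOpen U) (η : Y)
    (hη : η = genericPoint Y) (hm : η ∈ U) :
    letI := (Y.evaluation U η hm).hom.toAlgebra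
    IsFractionRing Γ(Y, U) (Y.residueField η) := by
  subst hη
  letI := (Y.evaluation U (genericPoint Y) hm).hom.toAlgebra
  haveI : Nonempty U := ⟨⟨_, hm⟩⟩
  haveI := functionField_isFractionRing_of_isAffineOpen (X := Y) U hU
  haveI : IsIso (Y.residue (genericPoint Y)) := by
    letI : Field (Y.presheaf.stalk (genericPoint Y)) := inferInstanceAs (Field Y.functionField)
    exact (ConcreteCategory.isIso_iff_bijective _).2
      ⟨RingHom.injective (Y.residue (genericPoint Y)).hom, Y.residue_surjective _⟩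
  let e : Y.functionField ≃ₐ[Γ(Y, U)] Y.residueField (genericPoint Y) :=
    AlgEquiv.ofRingEquiv (f := (asIso (Y.residue (genericPoint Y))).commRingCatIsoToRingEquiv) fun a => rfl
  exact IsLocalization.isLocalization_of_algEquiv _ e

/-- The rank of a finite scheme over a field, from an isomorphic spectrum. -/
theorem finrank_eq_of_iso (K T : Type u) [Field K] [CommRing T] [Algebra K T] [Nontrivial K]
    {P : Scheme.{u}} (j : Spec (CommRingCat.of T) ⟶ P) [IsIso j] (s : P ⟶ Spec (CommRingCat.of K))
    [IsFinite s] (e : j ≫ s = Spec.map (CommRingCat.ofHom (algebraMap K T))) :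
    Module.Finite K T ∧ (letI := ((Scheme.ΓSpecIso (CommRingCat.of K)).inv ≫ s.appTop).hom.toAlgebra
      Module.finrank K Γ(P, ⊤)) = Module.finrank K T := by
  have hfin : IsFinite (Spec.map (CommRingCat.ofHom (algebraMap K T))) := by rw [← e]; infer_instance
  haveI : Module.Finite K T := RingHom.finite_algebraMap.1 ((IsFinite.SpecMap_iff _).1 hfin)
  haveI : Flat s := by
    rw [← MorphismProperty.cancel_left_of_respectsIso @Flat j, e, Flat.SpecMap_iff]
    exact RingHom.flat_algebraMap_iff.2 inferInstance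
  refine ⟨inferInstance, ?_⟩
  rw [GenDeg.finrank_global K s default, ← Scheme.Hom.finrank_comp_left_of_isIso j s, e,
    Scheme.Hom.finrank_SpecMap_algebraMap, Module.rankAtStalk_eq_finrank_of_free]
  rfl

theorem finrank_fibre_le [IsIntegral X] [IsIntegral Y] (f : X ⟶ Y)
    (hη : f (genericPoint X) = genericPoint Y) {V : Y.Opens} (hV : IsAffineOpen V) {W : X.Opens}
    (hW : IsAffineOpen W) (hWV : W ≤ f ⁻¹ᵁ V) {y : Y} (hy : y ∈ V) (hfib : f ⁻¹' {y} ⊆ W)
    (hflat : ∀ x, f x = y → (f.stalkMap x).hom.Flat)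
    (hgenfin : (f.residueFieldMap (genericPoint X)).hom.Finite)
    [IsFinite (pullback.snd f (Y.fromSpecResidueField y))] [Nonempty W] :
    (letI := ((Scheme.ΓSpecIso (CommRingCat.of (Y.residueField y))).inv ≫
        (pullback.snd f (Y.fromSpecResidueField y)).appTop).hom.toAlgebra
     Module.finrank (Y.residueField y) Γ(pullback f (Y.fromSpecResidueField y), ⊤)) ≤
      (letI := (f.residueFieldMap (genericPoint X)).hom.toAlgebra
       Module.finrank (Y.residueField (f (genericPoint X))) (X.residueField (genericPoint X))) := by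
  letI aAB : Algebra Γ(Y, V) Γ(X, W) := (f.appLE V W hWV).hom.toAlgebra
  letI aAR : Algebra Γ(Y, V) (Y.presheaf.stalk y) := TopCat.Presheaf.algebra_section_stalk Y.presheaf (⟨y, hy⟩ : V)
  haveI : IsLocalization.AtPrime (Y.presheaf.stalk y) (hV.primeIdealOf ⟨y, hy⟩).asIdeal := hV.isLocalization_stalk ⟨y, hy⟩
  haveI : IsDomain Γ(Y, V) := by
    haveI : Nonempty V := ⟨⟨y, hy⟩⟩
    infer_instance
  have hη' : genericPoint X ∈ W :=
    ((genericPoint_spec X).mem_open_set_iff W.isOpen).mpr (by simpa using (inferInstance : Nonempty W))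
  have hηV : f (genericPoint X) ∈ V := hWV hη'
  letI aAL : Algebra Γ(Y, V) (Y.residueField (f (genericPoint X))) := (Y.evaluation V _ hηV).hom.toAlgebra
  letI aBF : Algebra Γ(X, W) (X.residueField (genericPoint X)) := (X.evaluation W _ hη').hom.toAlgebra
  letI aLF : Algebra (Y.residueField (f (genericPoint X))) (X.residueField (genericPoint X)) :=
    (f.residueFieldMap (genericPoint X)).hom.toAlgebra
  letI aAF : Algebra Γ(Y, V) (X.residueField (genericPoint X)) :=
    (f.appLE V W hWV ≫ X.evaluation W _ hη').hom.toAlgebra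
  haveI : IsScalarTower Γ(Y, V) Γ(X, W) (X.residueField (genericPoint X)) := .of_algebraMap_eq fun _ => rfl
  haveI : IsScalarTower Γ(Y, V) (Y.residueField (f (genericPoint X))) (X.residueField (genericPoint X)) :=
    .of_algebraMap_eq' (congrArg CommRingCat.Hom.hom (show f.appLE V W hWV ≫ X.evaluation W _ hη' =
      Y.evaluation V _ hηV ≫ f.residueFieldMap (genericPoint X) by
        rw [Scheme.evaluation_naturality, Scheme.Hom.appLE, Category.assoc]
        simp [Scheme.evaluation]))
  haveI : IsFractionRing Γ(Y, V) (Y.residueField (f (genericPoint X))) :=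
    isFractionRing_residueField hV _ hη hηV
  haveI : IsFractionRing Γ(X, W) (X.residueField (genericPoint X)) :=
    isFractionRing_residueField hW _ rfl hη'
  haveI : FaithfulSMul Γ(X, W) (X.residueField (genericPoint X)) :=
    (faithfulSMul_iff_algebraMap_injective _ _).2 (IsFractionRing.injective _ _)
  haveI : Module.Finite (Y.residueField (f (genericPoint X))) (X.residueField (genericPoint X)) := hgenfin
  -- the fibre is the spectrum of `κ(y) ⊗ B`
  let K := IsLocalRing.ResidueField (Y.presheaf.stalk y)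
  let a : Spec (CommRingCat.of (K ⊗[Γ(Y, V)] Γ(X, W))) ⟶ Spec (Y.residueField y) :=
    Spec.map (CommRingCat.ofHom Algebra.TensorProduct.includeLeftRingHom)
  let b : Spec (CommRingCat.of (K ⊗[Γ(Y, V)] Γ(X, W))) ⟶ Spec Γ(X, W) :=
    Spec.map (CommRingCat.ofHom Algebra.TensorProduct.includeRight.toRingHom)
  let ψ : Γ(Y, V) ⟶ Y.residueField y := CommRingCat.ofHom (algebraMap Γ(Y, V) K)
  have sq : IsPullback a b (Spec.map ψ) (Spec.map (f.appLE V W hWV)) :=
    isPullback_SpecMap_of_isPushout _ _ _ _ (CommRingCat.isPushout_tensorProduct Γ(Y, V) K Γ(X, W))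
  have hψ : Spec.map ψ ≫ hV.fromSpec = Y.fromSpecResidueField y := by
    rw [Scheme.fromSpecResidueField, ← hV.fromSpecStalk_eq_fromSpecStalk hy, IsAffineOpen.fromSpecStalk,
      ← Category.assoc, ← Spec.map_comp]
    rfl
  let P := pullback f (Y.fromSpecResidueField y)
  let j : Spec (CommRingCat.of (K ⊗[Γ(Y, V)] Γ(X, W))) ⟶ P := pullback.lift (b ≫ hW.fromSpec) a (by
    rw [Category.assoc, ← IsAffineOpen.SpecMap_appLE_fromSpec f hV hW hWV, ← sq.w_assoc, hψ])
  have hr : Set.range (pullback.fst f (Y.fromSpecResidueField y)) ⊆ Set.range hW.fromSpec := by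
    rw [hW.range_fromSpec]
    rintro _ ⟨t, rfl⟩
    refine hfib ?_
    show f _ = y
    rw [← Scheme.Hom.comp_apply, pullback.condition, Scheme.Hom.comp_apply, Scheme.fromSpecResidueField_apply]
  let l := IsOpenImmersion.lift hW.fromSpec (pullback.fst f (Y.fromSpecResidueField y)) hr
  have hl : l ≫ hW.fromSpec = pullback.fst f (Y.fromSpecResidueField y) := IsOpenImmersion.lift_fac _ _ _
  let i : P ⟶ Spec (CommRingCat.of (K ⊗[Γ(Y, V)] Γ(X, W))) := sq.lift (pullback.snd f _) l (by
    rw [← cancel_mono hV.fromSpec, Category.assoc, Category.assoc, hψ,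
      IsAffineOpen.SpecMap_appLE_fromSpec f hV hW hWV, ← Category.assoc, hl]
    exact pullback.condition.symm)
  haveI : IsIso j := ⟨i, by
    apply sq.hom_ext
    · rw [Category.assoc, sq.lift_fst, pullback.lift_snd, Category.id_comp]
    · rw [← cancel_mono hW.fromSpec, Category.id_comp]
      simp only [Category.assoc]
      rw [sq.lift_snd_assoc, hl]
      exact pullback.lift_fst _ _ _, by
    apply pullback.hom_ext
    · rw [Category.assoc, pullback.lift_fst, Category.id_comp, sq.lift_snd_assoc, hl]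
    · rw [Category.assoc, pullback.lift_snd, Category.id_comp, sq.lift_fst]⟩
  let s : P ⟶ Spec (CommRingCat.of K) := pullback.snd f (Y.fromSpecResidueField y)
  haveI : IsFinite s := ‹IsFinite (pullback.snd f (Y.fromSpecResidueField y))›
  obtain ⟨hfinT, hrank⟩ := finrank_eq_of_iso K (K ⊗[Γ(Y, V)] Γ(X, W)) j s (pullback.lift_snd _ _ _)
  refine hrank.trans_le ?_
  haveI := hfinT
  refine FibRank.finrank_fibre_le (hV.primeIdealOf ⟨y, hy⟩).asIdeal fun Q _ => ?_
  set Q' : Ideal Γ(X, W) := Q.comap
    (Algebra.TensorProduct.includeRight : Γ(X, W) →ₐ[Γ(Y, V)] K ⊗[Γ(Y, V)] Γ(X, W)).toRingHom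
  let q : Spec (CommRingCat.of (K ⊗[Γ(Y, V)] Γ(X, W))) := ⟨Q, inferInstance⟩
  let x : X := hW.fromSpec (b q)
  have hxW : x ∈ W := by
    have : x ∈ Set.range hW.fromSpec := ⟨_, rfl⟩
    rwa [hW.range_fromSpec] at this
  have hxy : f x = y := by
    have h1 : b ≫ hW.fromSpec ≫ f = a ≫ Y.fromSpecResidueField y := by
      rw [← IsAffineOpen.SpecMap_appLE_fromSpec f hV hW hWV, ← sq.w_assoc, hψ]
    show (b ≫ hW.fromSpec ≫ f) q = y
    rw [h1, Scheme.Hom.comp_apply, Scheme.fromSpecResidueField_apply]
  letI aBS : Algebra Γ(X, W) (X.presheaf.stalk x) := TopCat.Presheaf.algebra_section_stalk X.presheaf (⟨x, hxW⟩ : W)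
  have hQ : (hW.primeIdealOf ⟨x, hxW⟩).asIdeal = Q' := by
    have : hW.primeIdealOf ⟨x, hxW⟩ = b q := hW.fromSpec.isOpenEmbedding.injective
      (hW.fromSpec_primeIdealOf ⟨x, hxW⟩)
    rw [this]
    rfl
  haveI : IsLocalization.AtPrime (X.presheaf.stalk x) Q' := by
    have := hW.isLocalization_stalk ⟨x, hxW⟩
    simp only [hQ] at this
    exact this
  letI aAS : Algebra Γ(Y, V) (X.presheaf.stalk x) :=
    ((algebraMap Γ(X, W) (X.presheaf.stalk x)).comp (algebraMap Γ(Y, V) Γ(X, W))).toAlgebra
  haveI : IsScalarTower Γ(Y, V) Γ(X, W) (X.presheaf.stalk x) := .of_algebraMap_eq fun _ => rfl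
  haveI : Module.Flat Γ(Y, V) (X.presheaf.stalk x) := by
    have e : (algebraMap Γ(Y, V) (X.presheaf.stalk x)) =
        (f.stalkMap x).hom.comp (Y.presheaf.germ V (f x) (hWV hxW)).hom := by
      show (f.appLE V W hWV ≫ X.presheaf.germ W x hxW).hom = (Y.presheaf.germ V (f x) (hWV hxW) ≫ f.stalkMap x).hom
      rw [Scheme.Hom.germ_stalkMap, Scheme.Hom.appLE, Category.assoc]
      simp
    rw [← RingHom.flat_algebraMap_iff, e]
    refine RingHom.Flat.comp ?_ (hflat x hxy)
    letI := TopCat.Presheaf.algebra_section_stalk Y.presheaf (⟨f x, hWV hxW⟩ : V)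
    haveI := hV.isLocalization_stalk ⟨f x, hWV hxW⟩
    exact RingHom.flat_algebraMap_iff.2
      (IsLocalization.flat (Y.presheaf.stalk (f x)) (hV.primeIdealOf ⟨f x, hWV hxW⟩).asIdeal.primeCompl)
  exact Module.Flat.of_linearEquiv
    (((IsLocalization.algEquiv Q'.primeCompl (Localization.AtPrime Q') (X.presheaf.stalk x)).restrictScalars
      Γ(Y, V)).toLinearEquiv)

theorem fibreRank_le_degree {k : Type u} [Field k] [IsIntegral X] [IsIntegral Y] (f : X ⟶ Y) [IsDominant f]
    (p : X ⟶ Spec (CommRingCat.of k)) (q : Y ⟶ Spec (CommRingCat.of k)) [LocallyOfFiniteType p]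
    [LocallyOfFiniteType q] [QuasiCompact p] [LocallyOfFiniteType f] [IsSeparated f] (hf : f ≫ q = p)
    (hdim : topologicalKrullDim X = topologicalKrullDim Y)
    (hX : ∀ x : X, IsRegularLocalRing (X.presheaf.stalk x))
    (hY : ∀ y : Y, IsRegularLocalRing (Y.presheaf.stalk y)) (y : Y)
    [IsFinite (pullback.snd f (Y.fromSpecResidueField y))] :
    (letI := ((Scheme.ΓSpecIso (CommRingCat.of (Y.residueField y))).inv ≫
        (pullback.snd f (Y.fromSpecResidueField y)).appTop).hom.toAlgebra
     Module.finrank (Y.residueField y) Γ(pullback f (Y.fromSpecResidueField y), ⊤)) ≤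
      (letI := (f.residueFieldMap (genericPoint X)).hom.toAlgebra
       Module.finrank (Y.residueField (f (genericPoint X))) (X.residueField (genericPoint X))) := by
  haveI : IsLocallyNoetherian X := LocallyOfFiniteType.isLocallyNoetherian p
  haveI : CompactSpace X := QuasiCompact.compactSpace_of_compactSpace p
  obtain ⟨hd, hfin⟩ := finite_discrete_fibre f y
  obtain ⟨V, hV, hyV, -⟩ := exists_isAffineOpen_mem_and_subset (x := y) (U := ⊤) trivial
  obtain ⟨W, hW, hWV, hfib⟩ := exists_affine_fibre f hV hyV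
  by_cases hne : Nonempty W
  · refine finrank_fibre_le f (GenDeg.apply_genericPoint f) hV hW hWV hyV hfib (fun x hx => ?_) ?_
    · subst hx
      haveI := hX x
      haveI := hY (f x)
      exact flat_stalkMap f p q hf hdim x
    · exact CycLib.finite_residueFieldMap_of_rd_eq_zero f _ (GenDeg.rd_genericPoint_eq_zero f p q hf hdim)
  · haveI : IsEmpty ↥(pullback f (Y.fromSpecResidueField y) : Scheme.{u}) := ⟨fun t =>
      hne ⟨⟨pullback.fst f (Y.fromSpecResidueField y) t, hfib (by
        show f _ = y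
        rw [← Scheme.Hom.comp_apply, pullback.condition, Scheme.Hom.comp_apply,
          Scheme.fromSpecResidueField_apply])⟩⟩⟩
    letI := ((Scheme.ΓSpecIso (CommRingCat.of (Y.residueField y))).inv ≫
        (pullback.snd f (Y.fromSpecResidueField y)).appTop).hom.toAlgebra
    haveI : Subsingleton Γ(pullback f (Y.fromSpecResidueField y), ⊤) := inferInstance
    rw [Module.finrank_zero_of_subsingleton]
    exact Nat.zero_le _

end Groth.Agent.H26.DegBound
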