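import Groth.Agent.H9Misc.TelLocal
import Mathlib.CategoryTheory.Functor.Derived.PointwiseRightDerived

/-!
# Exact adjunctions on derived categories, objectwise
-/

noncomputable section

set_option linter.style.haveILetI false

universe w w' v v' u u'

open CategoryTheory CategoryTheory.Category CategoryTheory.Limits

namespace Groth.Agent.H26.DerivedAdj

variable {A : Type u} [Category.{v} A] [Abelian A] [HasDerivedCategory.{w} A]
  {B : Type u'} [Category.{v'} B] [Abelian B] [HasDerivedCategory.{w'} B]

omit [HasDerivedCategory.{w} A] [HasDerivedCategory.{w'} B] in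
/-- A transformation of exact functors which is invertible on homology is a quasi-isomorphism. -/
theorem quasiIso_app {F G : A ⥤ B} [F.Additive] [G.Additive]
    [PreservesFiniteLimits F] [PreservesFiniteColimits F] [PreservesFiniteLimits G] [PreservesFiniteColimits G]
    (τ : F ⟶ G) (K : CochainComplex A ℤ) (h : ∀ i, IsIso (τ.app (K.homology i))) :
    QuasiIso ((NatTrans.mapHomologicalComplex τ (ComplexShape.up ℤ)).app K) := by
  refine ⟨fun i => ?_⟩
  rw [quasiIsoAt_iff_isIso_homologyMap]
  have e := NatTrans.app_homology τ (K.sc i)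
  haveI : IsIso (τ.app (K.sc i).homology) := h i
  have h2 : ShortComplex.homologyMap ((K.sc i).mapNatTrans τ) =
      ((K.sc i).mapHomologyIso F).hom ≫ τ.app (K.sc i).homology ≫ ((K.sc i).mapHomologyIso G).inv := by
    rw [e]; simp
  show IsIso (ShortComplex.homologyMap ((K.sc i).mapNatTrans τ))
  rw [h2]
  infer_instance

variable (F : A ⥤ B) [F.Additive] [PreservesFiniteLimits F] [PreservesFiniteColimits F]

/-- An exact functor on derived categories is the total right derived functor. -/
theorem nonempty_totalRightDerived_iso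
    [(F.mapHomotopyCategory (ComplexShape.up ℤ) ⋙ DerivedCategory.Qh).HasRightDerivedFunctor
      (HomotopyCategory.quasiIso A (ComplexShape.up ℤ))] :
    Nonempty (F.mapDerivedCategory ≅ (F.mapHomotopyCategory (ComplexShape.up ℤ) ⋙ DerivedCategory.Qh).totalRightDerived
      DerivedCategory.Qh (HomotopyCategory.quasiIso A (ComplexShape.up ℤ))) := by
  let Φ := F.mapHomotopyCategory (ComplexShape.up ℤ) ⋙ DerivedCategory.Qh
  let W := HomotopyCategory.quasiIso A (ComplexShape.up ℤ)
  haveI := Functor.isRightDerivedFunctor_of_inverts (L := DerivedCategory.Qh) (F := Φ) W F.mapDerivedCategory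
    F.mapDerivedCategoryFactorsh
  exact ⟨Functor.rightDerivedUnique _ _ F.mapDerivedCategoryFactorsh.inv
    (Φ.totalRightDerivedUnit DerivedCategory.Qh W) W⟩

variable {F} {G : B ⥤ A} (adj : F ⊣ G) [G.Additive] [PreservesFiniteLimits G] [PreservesFiniteColimits G]

/-- The derived counit at an object whose cohomology has invertible counit. -/
theorem isIso_counit (Y : DerivedCategory B)
    (h : ∀ i, IsIso (adj.counit.app ((DerivedCategory.homologyFunctor B i).obj Y))) :
    IsIso ((H9Misc.TelLocal.derivedAdjunction adj).counit.app Y) := by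
  haveI := Localization.essSurj (DerivedCategory.Q (C := B)) (HomologicalComplex.quasiIso B (ComplexShape.up ℤ))
  let K := DerivedCategory.Q.objPreimage Y
  let eY : DerivedCategory.Q.obj K ≅ Y := DerivedCategory.Q.objObjPreimageIso Y
  have hK : ∀ i, IsIso (adj.counit.app (K.homology i)) := fun i => by
    let e : K.homology i ≅ (DerivedCategory.homologyFunctor B i).obj Y :=
      ((DerivedCategory.homologyFunctorFactors B i).app K).symm ≪≫ (DerivedCategory.homologyFunctor B i).mapIso eY
    exact ((MorphismProperty.isomorphisms B).arrow_mk_iso_iff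
      (Arrow.isoMk ((G ⋙ F).mapIso e) e (adj.counit.naturality e.hom))).2 (h i)
  have hq := quasiIso_app adj.counit K hK
  letI : CatCommSq (F.mapHomotopyCategory (ComplexShape.up ℤ)) DerivedCategory.Qh DerivedCategory.Qh
    F.mapDerivedCategory := ⟨F.mapDerivedCategoryFactorsh.symm⟩
  letI : CatCommSq (G.mapHomotopyCategory (ComplexShape.up ℤ)) DerivedCategory.Qh DerivedCategory.Qh
    G.mapDerivedCategory := ⟨G.mapDerivedCategoryFactorsh.symm⟩
  let KK := (HomotopyCategory.quotient B (ComplexShape.up ℤ)).obj K
  have e2 := Adjunction.localization_counit_app (H9Misc.SerreDerived.adjHtpy (ComplexShape.up ℤ) adj) DerivedCategory.Qh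
    (HomotopyCategory.quasiIso A (ComplexShape.up ℤ)) DerivedCategory.Qh
    (HomotopyCategory.quasiIso B (ComplexShape.up ℤ)) F.mapDerivedCategory G.mapDerivedCategory KK
  let c : (F.mapHomologicalComplex (ComplexShape.up ℤ)).obj ((G.mapHomologicalComplex (ComplexShape.up ℤ)).obj K) ⟶ K :=
    { f := fun i => adj.counit.app (K.X i)
      comm' := fun i j _ => (adj.counit.naturality (K.d i j)).symm }
  haveI : QuasiIso c := hq
  haveI : IsIso (DerivedCategory.Qh.map ((H9Misc.SerreDerived.adjHtpy (ComplexShape.up ℤ) adj).counit.app KK)) :=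
    inferInstanceAs (IsIso (DerivedCategory.Q.map c))
  have h3 : IsIso ((H9Misc.TelLocal.derivedAdjunction adj).counit.app (DerivedCategory.Q.obj K)) := by
    change IsIso (((H9Misc.SerreDerived.adjHtpy (ComplexShape.up ℤ) adj).localization DerivedCategory.Qh
      (HomotopyCategory.quasiIso A (ComplexShape.up ℤ)) DerivedCategory.Qh
      (HomotopyCategory.quasiIso B (ComplexShape.up ℤ)) F.mapDerivedCategory G.mapDerivedCategory).counit.app
        (DerivedCategory.Qh.obj KK))
    rw [e2]
    infer_instance
  exact ((MorphismProperty.isomorphisms (DerivedCategory B)).arrow_mk_iso_iff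
    (Arrow.isoMk ((G.mapDerivedCategory ⋙ F.mapDerivedCategory).mapIso eY) eY
      ((H9Misc.TelLocal.derivedAdjunction adj).counit.naturality eY.hom))).1 h3

end Groth.Agent.H26.DerivedAdj
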