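import Groth.Agent.H26.DerivedAdj

/-!
# Derived units of exact adjunctions, objectwise
-/

noncomputable section

set_option linter.style.haveILetI false

universe w w' v v' u u'

open CategoryTheory CategoryTheory.Category CategoryTheory.Limits

namespace Groth.Agent.H26.DerivedAdj

variable {A : Type u} [Category.{v} A] [Abelian A] [HasDerivedCategory.{w} A]
  {B : Type u'} [Category.{v'} B] [Abelian B] [HasDerivedCategory.{w'} B]
  {F : A ⥤ B} [F.Additive] [PreservesFiniteLimits F] [PreservesFiniteColimits F]
  {G : B ⥤ A} (adj : F ⊣ G) [G.Additive] [PreservesFiniteLimits G] [PreservesFiniteColimits G]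

/-- The derived unit at an object whose cohomology has invertible unit. -/
theorem isIso_unit (Y : DerivedCategory A)
    (h : ∀ i, IsIso (adj.unit.app ((DerivedCategory.homologyFunctor A i).obj Y))) :
    IsIso ((H9Misc.TelLocal.derivedAdjunction adj).unit.app Y) := by
  haveI := Localization.essSurj (DerivedCategory.Q (C := A)) (HomologicalComplex.quasiIso A (ComplexShape.up ℤ))
  let K := DerivedCategory.Q.objPreimage Y
  let eY : DerivedCategory.Q.obj K ≅ Y := DerivedCategory.Q.objObjPreimageIso Y
  have hK : ∀ i, IsIso (adj.unit.app (K.homology i)) := fun i => by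
    let e : K.homology i ≅ (DerivedCategory.homologyFunctor A i).obj Y :=
      ((DerivedCategory.homologyFunctorFactors A i).app K).symm ≪≫ (DerivedCategory.homologyFunctor A i).mapIso eY
    exact ((MorphismProperty.isomorphisms A).arrow_mk_iso_iff
      (Arrow.isoMk e ((F ⋙ G).mapIso e) (adj.unit.naturality e.hom))).2 (h i)
  have hq := quasiIso_app adj.unit K hK
  letI : CatCommSq (F.mapHomotopyCategory (ComplexShape.up ℤ)) DerivedCategory.Qh DerivedCategory.Qh
    F.mapDerivedCategory := ⟨F.mapDerivedCategoryFactorsh.symm⟩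
  letI : CatCommSq (G.mapHomotopyCategory (ComplexShape.up ℤ)) DerivedCategory.Qh DerivedCategory.Qh
    G.mapDerivedCategory := ⟨G.mapDerivedCategoryFactorsh.symm⟩
  let KK := (HomotopyCategory.quotient A (ComplexShape.up ℤ)).obj K
  have e2 := Adjunction.localization_unit_app (H9Misc.SerreDerived.adjHtpy (ComplexShape.up ℤ) adj) DerivedCategory.Qh
    (HomotopyCategory.quasiIso A (ComplexShape.up ℤ)) DerivedCategory.Qh
    (HomotopyCategory.quasiIso B (ComplexShape.up ℤ)) F.mapDerivedCategory G.mapDerivedCategory KK
  let c : K ⟶ (G.mapHomologicalComplex (ComplexShape.up ℤ)).obj ((F.mapHomologicalComplex (ComplexShape.up ℤ)).obj K) :=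
    { f := fun i => adj.unit.app (K.X i)
      comm' := fun i j _ => (adj.unit.naturality (K.d i j)).symm }
  haveI : QuasiIso c := hq
  haveI : IsIso (DerivedCategory.Qh.map ((H9Misc.SerreDerived.adjHtpy (ComplexShape.up ℤ) adj).unit.app KK)) :=
    inferInstanceAs (IsIso (DerivedCategory.Q.map c))
  have h3 : IsIso ((H9Misc.TelLocal.derivedAdjunction adj).unit.app (DerivedCategory.Q.obj K)) := by
    change IsIso (((H9Misc.SerreDerived.adjHtpy (ComplexShape.up ℤ) adj).localization DerivedCategory.Qh
      (HomotopyCategory.quasiIso A (ComplexShape.up ℤ)) DerivedCategory.Qh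
      (HomotopyCategory.quasiIso B (ComplexShape.up ℤ)) F.mapDerivedCategory G.mapDerivedCategory).unit.app
        (DerivedCategory.Qh.obj KK))
    rw [e2]
    infer_instance
  exact ((MorphismProperty.isomorphisms (DerivedCategory A)).arrow_mk_iso_iff
    (Arrow.isoMk eY ((F.mapDerivedCategory ⋙ G.mapDerivedCategory).mapIso eY)
      ((H9Misc.TelLocal.derivedAdjunction adj).unit.naturality eY.hom))).1 h3

end Groth.Agent.H26.DerivedAdj
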