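import Groth.Agent.H26.HorizDiv
import Groth.Agent.H26.InterDiv
import Groth.Agent.H26.InterSymm
import Groth.Agent.H26.RedFibre
import Groth.Agent.CurveEmbed.Points
import Groth.Agent.Lib.CurveRR
import Groth.Agent.SmoothReg.Scheme
import Groth.Agent.RegLoc6.Normal

/-!
# A horizontal divisor meeting one component once
-/

set_option autoImplicit false
set_option linter.style.haveILetI false
set_option linter.unusedSectionVars false
set_option backward.isDefEq.respectTransparency false
set_option backward.isDefEq.respectTransparency.types false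
set_option maxHeartbeats 1000000

universe u

open CategoryTheory CategoryTheory.Limits AlgebraicGeometry TopologicalSpace
open Groth.Agent.H23
open scoped Groth.Agent.H23.PicMul

attribute [local instance] Curv2.resAlgebra

noncomputable section

namespace Groth.Agent.H26.DualPoint

variable {Y : Scheme.{u}}

/-- A prime over an ideal gives a point of the support. -/
theorem fromSpec_mem_support (J : Y.IdealSheafData) (W : Y.affineOpens) (q : PrimeSpectrum Γ(Y, W.1))
    (h : J.ideal W ≤ q.asIdeal) : W.2.fromSpec q ∈ (J.support : Set Y) := by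
  have hqW : W.2.fromSpec q ∈ W.1 := by
    have : W.2.fromSpec q ∈ Set.range W.2.fromSpec := ⟨q, rfl⟩
    rwa [W.2.range_fromSpec] at this
  rw [SetLike.mem_coe, Scheme.IdealSheafData.mem_support_iff_of_mem hqW, Scheme.mem_zeroLocus_iff]
  intro a ha hb
  have e : W.2.primeIdealOf ⟨W.2.fromSpec q, hqW⟩ = q :=
    W.2.fromSpec.isOpenEmbedding.injective (W.2.fromSpec_primeIdealOf ⟨_, hqW⟩)
  have h2 := (QCoh.mem_basicOpen_iff_notMem W.2 hqW a).1 hb
  rw [e] at h2
  exact h2 (h ha)

/-- An ideal vanishing only at a point where it is generated by a uniformizer is the ideal of that point. -/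
theorem eq_ptIdeal (J : Y.IdealSheafData) {c : Y} (hc : IsClosed ({c} : Set Y)) (hsupp : (J.support : Set Y) = {c})
    (W : Y.affineOpens) (hcW : c ∈ W.1) (t : Γ(Y, W.1)) (hJ : J.ideal W = Ideal.span {t})
    (hmax : IsLocalRing.maximalIdeal (Y.presheaf.stalk c) = Ideal.span {Y.presheaf.germ W.1 c hcW t}) :
    J = CurvePoint.ptIdeal c hc := by
  have htop : ∀ (K : Y.IdealSheafData), (K.support : Set Y) = {c} → ∀ V : Y.affineOpens, c ∉ V.1 → K.ideal V = ⊤ :=
    fun K hK V hcV => by
      by_contra hne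
      obtain ⟨m, hm, hle⟩ := Ideal.exists_le_maximal _ hne
      have h1 := fromSpec_mem_support K V ⟨m, hm.isPrime⟩ hle
      rw [hK] at h1
      refine hcV ?_
      rw [← Set.mem_singleton_iff.1 h1]
      have : V.2.fromSpec ⟨m, hm.isPrime⟩ ∈ Set.range V.2.fromSpec := ⟨_, rfl⟩
      rwa [V.2.range_fromSpec] at this
  let P := W.2.primeIdealOf ⟨c, hcW⟩
  have hpt : (CurvePoint.ptIdeal c hc).ideal W = P.asIdeal := by
    show PrimeSpectrum.vanishingIdeal (W.2.fromSpec ⁻¹' {c}) = _
    have h1 : W.2.fromSpec ⁻¹' {c} = {P} := by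
      ext q
      refine ⟨fun hq => W.2.fromSpec.isOpenEmbedding.injective
        ((hq : _ = c).trans (W.2.fromSpec_primeIdealOf ⟨c, hcW⟩).symm), ?_⟩
      rintro rfl
      exact W.2.fromSpec_primeIdealOf ⟨c, hcW⟩
    rw [h1, PrimeSpectrum.vanishingIdeal_singleton]
  have hW : J.ideal W = (CurvePoint.ptIdeal c hc).ideal W := by
    rw [hpt, hJ]
    letI := Y.presheaf.algebra_section_stalk (⟨c, hcW⟩ : W.1)
    haveI := W.2.isLocalization_stalk ⟨c, hcW⟩
    refine le_antisymm ((Ideal.span_singleton_le_iff_mem _).2 ?_) fun a ha => ?_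
    · exact (IsLocalization.AtPrime.to_map_mem_maximal_iff (Y.presheaf.stalk c) P.asIdeal t).1
        (hmax ▸ Ideal.mem_span_singleton_self _)
    · have h1 : algebraMap Γ(Y, W.1) (Y.presheaf.stalk c) a ∈ Ideal.span {algebraMap Γ(Y, W.1) (Y.presheaf.stalk c) t} := by
        have := (IsLocalization.AtPrime.to_map_mem_maximal_iff (Y.presheaf.stalk c) P.asIdeal a).2 ha
        rw [hmax] at this
        exact this
      obtain ⟨b, hb⟩ := Ideal.mem_span_singleton'.1 h1
      obtain ⟨⟨b', s⟩, hs⟩ := IsLocalization.surj P.asIdeal.primeCompl b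
      have h2 : algebraMap Γ(Y, W.1) (Y.presheaf.stalk c) (a * s.1) = algebraMap Γ(Y, W.1) (Y.presheaf.stalk c) (b' * t) := by
        rw [map_mul, map_mul, ← hb, ← hs]; ring
      obtain ⟨r, hr⟩ := (IsLocalization.eq_iff_exists P.asIdeal.primeCompl _).1 h2
      have hunit : Ideal.span {t} ⊔ Ideal.span {r.1 * s.1} = ⊤ := by
        by_contra hne
        obtain ⟨m, hm, hle⟩ := Ideal.exists_le_maximal _ hne
        have h3 := fromSpec_mem_support J W ⟨m, hm.isPrime⟩ (hJ ▸ le_sup_left.trans hle)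
        rw [hsupp] at h3
        have h4 : (⟨m, hm.isPrime⟩ : PrimeSpectrum Γ(Y, W.1)) = P := W.2.fromSpec.isOpenEmbedding.injective
          ((Set.mem_singleton_iff.1 h3).trans (W.2.fromSpec_primeIdealOf ⟨c, hcW⟩).symm)
        exact (r * s).2 ((congrArg PrimeSpectrum.asIdeal h4).le (hle (Ideal.mem_sup_right (Ideal.mem_span_singleton_self _))))
      obtain ⟨x₁, hx₁, x₂, hx₂, hsum⟩ := Submodule.mem_sup.1 (hunit ▸ Submodule.mem_top : (1 : Γ(Y, W.1)) ∈ _)
      obtain ⟨v, rfl⟩ := Ideal.mem_span_singleton'.1 hx₂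
      rw [← mul_one a, ← hsum, mul_add]
      refine Ideal.add_mem _ (Ideal.mul_mem_left _ _ hx₁) ?_
      have e : a * (v * (r.1 * s.1)) = v * (r.1 * (b' * t)) := by rw [← hr]; ring
      rw [e]
      exact Ideal.mul_mem_left _ _ (Ideal.mul_mem_left _ _ (Ideal.mul_mem_left _ _ (Ideal.mem_span_singleton_self t)))
  choose V hV hyV hVsub using fun y : {y : Y // y ≠ c} => exists_isAffineOpen_mem_and_subset
    (x := y.1) (U := (⟨{c}ᶜ, hc.isOpen_compl⟩ : Y.Opens)) y.2
  refine Scheme.IdealSheafData.ext_of_iSup_eq_top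
    (fun o : Option {y : Y // y ≠ c} => o.elim W fun y => (⟨V y, hV y⟩ : Y.affineOpens))
    (eq_top_iff.2 fun y _ => Opens.mem_iSup.2 ?_) fun o => ?_
  · by_cases hy : y = c
    · exact ⟨none, hy ▸ hcW⟩
    · exact ⟨some ⟨y, hy⟩, hyV ⟨y, hy⟩⟩
  · cases o with
    | none => exact hW
    | some y =>
      show J.ideal ⟨V y, hV y⟩ = (CurvePoint.ptIdeal c hc).ideal ⟨V y, hV y⟩
      rw [htop J hsupp _ fun h => hVsub y h rfl, htop _ (CurvePoint.support_ptIdeal c hc) _ fun h => hVsub y h rfl]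

variable {R : Type u} [CommRing R] [IsDomain R] [IsDiscreteValuationRing R] {X : Over (Spec (CommRingCat.of R))}
  {n : ℕ} {Γc : Fin n → ArSurf.VertComp R X}

/-- A closed point on one component only, regular on it. -/
theorem exists_good_point [IsProper X.hom] [PerfectField (IsLocalRing.ResidueField R)]
    (hΓ : Models.IsComponentList R X Γc) (i : Fin n) :
    ∃ c : (Γc i).curve.left, IsClosed ({c} : Set (Γc i).curve.left) ∧
      IsIntegrallyClosed ((Γc i).curve.left.presheaf.stalk c) ∧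
      ∀ j, (Γc i).ι c ∈ Set.range (Γc j).ι.base → j = i := by
  classical
  haveI := ArInter.isProper_curve (Γc i)
  haveI : IsProper (Γc i).curve.hom := ArInter.isProper_curve (Γc i)
  let O : (Γc i).curve.left.Opens := ⟨(⋃ j ∈ ({j | j ≠ i} : Set (Fin n)), (Γc i).ι.base ⁻¹' Set.range (Γc j).ι.base)ᶜ,
    ((Set.toFinite _).isClosed_biUnion fun j _ =>
      (Γc j).ι.isClosedEmbedding.isClosed_range.preimage (Γc i).ι.continuous).isOpen_compl⟩
  have hd := (Γc i).curve.hom.dense_smoothLocus_of_perfectField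
  have hηO : genericPoint (Γc i).curve.left ∈ O := by
    intro h
    obtain ⟨j, hj, hjr⟩ := Set.mem_iUnion₂.1 h
    exact InterSymm.genPt_notMem (Γc i) (Γc j) (fun e => hj (hΓ.1 e).symm) hjr
  obtain ⟨z, hzO, hzS⟩ := hd.inter_open_nonempty O O.2 ⟨_, hηO⟩
  haveI : JacobsonSpace (Γc i).curve.left := LocallyOfFiniteType.jacobsonSpace (Γc i).curve.hom
  obtain ⟨c, hcW, hcc⟩ := nonempty_inter_closedPoints (Z := (↑(O ⊓ (Γc i).curve.hom.smoothLocus) : Set (Γc i).curve.left))
    ⟨z, hzO, hzS⟩ (O ⊓ (Γc i).curve.hom.smoothLocus).2.isLocallyClosed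
  haveI := SmoothReg.isRegularLocalRing_stalk_of_mem_smoothLocus (f := (Γc i).curve.hom) hcW.2
  refine ⟨c, hcc, RegLoc6.isIntegrallyClosed_of_isRegularLocalRing _, fun j hj => ?_⟩
  by_contra hne
  exact hcW.1 (Set.mem_iUnion₂.2 ⟨j, hne, hj⟩)

/-- A divisor with intersection numbers one on a chosen component and zero on the others. -/
theorem exists_dual [HenselianLocalRing R] [IsAlgClosed (IsLocalRing.ResidueField R)] [IsIntegral X.left]
    [IsProper X.hom] [Flat X.hom] (hΓ : Models.IsComponentList R X Γc) (i : Fin n) :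
    ∃ M : X.left.Modules, PicF.IsInvertible M ∧
      ∀ j : Fin n, ArSurf.inter R X M (Γc j) = if j = i then 1 else 0 := by
  classical
  haveI : IsLocallyNoetherian X.left := LocallyOfFiniteType.isLocallyNoetherian X.hom
  haveI := ArInter.isProper_curve (Γc i)
  haveI : CompactSpace (Γc i).curve.left := (CurveCohLib.isNoetherian_of_proper (k := IsLocalRing.ResidueField R) (X := (Γc i).curve.left)).toCompactSpace
  obtain ⟨c, hc, hcn, honly⟩ := exists_good_point hΓ i
  let k := IsLocalRing.ResidueField R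
  let Γ := Γc i
  haveI := CurveEmbed.isDVR_of_normal k Γ.dim_eq hc hcn
  let x := Γ.ι c
  have hx : IsClosed ({x} : Set X.left) := by
    have := Γ.ι.isClosedEmbedding.isClosedMap _ hc
    rwa [Set.image_singleton] at this
  have hsub : ∀ j, Set.range (Γc j).ι.base ⊆ Models.specialFibreSet R X := fun j => by
    have h : Set.range (Γc j).ι.base ∈ Models.fibreComponents R X := hΓ.2 ▸ ⟨j, rfl⟩
    exact h.1.2
  have hxs : x ∈ Models.specialFibreSet R X := hsub i ⟨c, rfl⟩
  set η := genericPoint Γ.curve.left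
  have hηc : c ≠ η := fun h => CurveEmbed.genericPoint_not_closed Γ.dim_eq (by
    have h2 := hc; rw [h] at h2; exact h2)
  have hwη : Γ.ι η ≠ x := fun h => hηc (Γ.ι.isEmbedding.injective h).symm
  have hηx : Γ.ι η ⤳ x := (genericPoint_specializes c).map Γ.ι.continuous
  -- lift a uniformizer
  obtain ⟨ϖc, hϖc⟩ := IsDiscreteValuationRing.exists_irreducible (Γ.curve.left.presheaf.stalk c)
  obtain ⟨U, hU, hxU, -⟩ := exists_isAffineOpen_mem_and_subset (x := x) (U := ⊤) trivial
  obtain ⟨b, hb⟩ := Γ.ι.stalkMap_surjective c ϖc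
  letI := X.left.presheaf.algebra_section_stalk (⟨x, hxU⟩ : U)
  haveI := hU.isLocalization_stalk ⟨x, hxU⟩
  obtain ⟨⟨f, s⟩, hs⟩ := IsLocalization.surj (hU.primeIdealOf ⟨x, hxU⟩).asIdeal.primeCompl b
  let W₀ : Γ.curve.left.Opens := Γ.ι ⁻¹ᵁ U
  have hW₀ : IsAffineOpen W₀ := hU.preimage Γ.ι
  have hgerm : IsLocalRing.maximalIdeal (Γ.curve.left.presheaf.stalk c) =
      Ideal.span {Γ.curve.left.presheaf.germ W₀ c hxU (Γ.ι.app U f)} := by
    rw [hϖc.maximalIdeal_eq]
    refine Ideal.span_singleton_eq_span_singleton.2 ?_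
    have e : Γ.curve.left.presheaf.germ W₀ c hxU (Γ.ι.app U f) = Γ.ι.stalkMap c (X.left.presheaf.germ U x hxU f) :=
      (Scheme.Hom.germ_stalkMap_apply Γ.ι U c hxU f).symm
    rw [e, show X.left.presheaf.germ U x hxU f = algebraMap _ _ f from rfl, ← hs, map_mul, hb]
    exact (associated_mul_unit_right ϖc _ ((IsLocalization.map_units (X.left.presheaf.stalk x) s).map _))
  have hfx : x ∉ X.left.basicOpen f := fun h => by
    have h2 : c ∈ Γ.curve.left.basicOpen (Γ.ι.app U f) := by
      rw [← Scheme.preimage_basicOpen]; exact h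
    have h3 := (Scheme.mem_basicOpen _ _ c hxU).1 h2
    exact (IsLocalRing.mem_maximalIdeal _).1 (hgerm.ge (Ideal.mem_span_singleton_self _)) h3
  have hηf : Γ.ι η ∈ X.left.basicOpen f := by
    have hne : Γ.ι.app U f ≠ 0 := fun h0 => hϖc.ne_zero (by
      have := hgerm
      rw [h0, map_zero, hϖc.maximalIdeal_eq, Ideal.span_singleton_eq_span_singleton] at this
      exact associated_zero_iff_eq_zero _ |>.1 this)
    have h2 : η ∈ Γ.curve.left.basicOpen (Γ.ι.app U f) := by
      refine ((genericPoint_spec Γ.curve.left).mem_open_set_iff (Γ.curve.left.basicOpen _).isOpen).2 ?_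
      simp only [Set.univ_inter]
      by_contra hne'
      exact hne ((basicOpen_eq_bot_iff (X := Γ.curve.left) _).1 (SetLike.coe_injective (Set.not_nonempty_iff_eq_empty.1 hne')))
    rw [← Scheme.preimage_basicOpen] at h2
    exact h2
  have hiso : ∀ w : X.left, w ⤳ x → w ∈ Models.specialFibreSet R X → w ≠ x → w ∈ X.left.basicOpen f := by
    intro w hw hws hwx
    obtain ⟨j, hj⟩ := RedFibre.exists_mem_component hΓ hws
    have hji : j = i := honly j (hw.mem_closed (Γc j).ι.isClosedEmbedding.isClosed_range hj)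
    subst hji
    obtain ⟨c', rfl⟩ := hj
    by_cases hc' : IsClosed ({c'} : Set Γ.curve.left)
    · have hsp : c' ⤳ c := Γ.ι.isEmbedding.isInducing.specializes_iff.1 hw
      exact absurd (congrArg Γ.ι (Set.mem_singleton_iff.1 (hsp.mem_closed hc' (Set.mem_singleton c')))).symm hwx
    · rw [CurveCohLib.eq_genericPoint_of_not_isClosed Γ.dim_eq hc']
      exact hηf
  obtain ⟨D, d, hd, hI, -, hDs, V, hxV, hVU, hV⟩ := HorizDiv.exists_divisor hx hxs hU hxU f hfx hiso
    ⟨_, hηx, hsub i ⟨η, rfl⟩, hwη⟩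
  haveI := hd
  have hsupp : (d.ker.support : Set X.left) = Set.range d := by
    rw [Scheme.Hom.support_ker, d.isClosedEmbedding.isClosed_range.closure_eq]
  have hgen : ∀ j, (Γc j).ι.base (genericPoint (Γc j).curve.left) ∉ (d.ker.support : Set X.left) := fun j h => by
    rw [hsupp] at h
    have h2 : (Γc j).ι.base (genericPoint (Γc j).curve.left) ∈ ({x} : Set X.left) := hDs.le ⟨h, hsub j ⟨_, rfl⟩⟩
    have hji : j = i := honly j ⟨_, h2⟩
    subst hji
    exact hwη h2
  obtain ⟨M, hM, ⟨eM⟩⟩ := PicInv.exists_inverse (IdealCl.isInvertible_idealMod hI)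
  have hMinv : ClSub.IsInverseOf M (ClSub.idealMod d.ker) := by
    obtain ⟨cm⟩ := PicMul.comm M (ClSub.idealMod d.ker)
    first
      | exact ⟨eM⟩
      | exact ⟨cm ≪≫ eM⟩
  refine ⟨M, hM, fun j => ?_⟩
  by_cases hji : j = i
  · subst hji
    rw [if_pos rfl]
    have hI' := InterDiv.isEffCartier_comap Γ hI (hgen _)
    have hsuppJ : ((d.ker.comap Γ.ι).support : Set Γ.curve.left) = {c} := by
      rw [Scheme.IdealSheafData.support_comap]
      ext z
      constructor
      · intro hz
        have hz' : Γ.ι z ∈ Set.range d := hsupp ▸ hz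
        exact Γ.ι.isEmbedding.injective (hDs.le ⟨hz', hsub _ ⟨z, rfl⟩⟩ : Γ.ι z = x)
      · rintro rfl
        show Γ.ι z ∈ (d.ker.support : Set X.left)
        rw [hsupp]
        exact (hDs.ge rfl).1
    let W : Γ.curve.left.affineOpens := ⟨Γ.ι ⁻¹ᵁ V.1, V.2.preimage Γ.ι⟩
    have hJ : d.ker.comap Γ.ι = CurvePoint.ptIdeal c hc := by
      refine eq_ptIdeal _ hc hsuppJ W hxV (Γ.curve.left.presheaf.map (homOfLE (Γ.ι.preimage_mono hVU)).op (Γ.ι.app U f)) ?_ ?_
      · rw [ModPairLib.ideal_comap _ Γ.ι V W le_rfl, hV, Ideal.map_span, Set.image_singleton]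
        congr 2
        show Γ.ι.appLE V.1 W.1 le_rfl (X.left.presheaf.map (homOfLE hVU).op f) = _
        rw [← Scheme.Hom.app_eq_appLE]
        exact ConcreteCategory.congr_hom (Γ.ι.naturality (homOfLE hVU).op) f
      · rw [hgerm, Γ.curve.left.presheaf.germ_res_apply]
    have hpL := PicClLib.isInvertible_pullback Γ.ι hM
    have hpt := CurveEmbed.isInvertible_point k Γ.dim_eq hc hcn
    obtain ⟨e1⟩ := InterDiv.nonempty_pullback_idealMod Γ.ι d.ker hI hI'
    rw [hJ] at e1
    obtain ⟨e2⟩ := PicMul.pull Γ.ι M (ClSub.idealMod d.ker)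
    obtain ⟨e3⟩ := PicClLib.nonempty_pullback_structureModule Γ.ι
    obtain ⟨e4⟩ := hMinv
    have hinv : Nonempty (CohB1.tensorMod ((Scheme.Modules.pullback Γ.ι).obj M) (CurvePoint.ptMod c hc) ≅
        Coh.structureModule Γ.curve.left) := by
      refine PicMul.cl_eq_iff.1 ?_
      rw [PicMul.cl_tensor, ← PicMul.cl_eq_iff.2 ⟨e1⟩, ← PicMul.cl_tensor, ← PicMul.cl_eq_iff.2 ⟨e2⟩]
      exact PicMul.cl_eq_iff.2 ⟨(Scheme.Modules.pullback Γ.ι).mapIso e4 ≪≫ e3⟩
    obtain ⟨e5⟩ := hinv
    have h1 := CurveRR.deg_tensor k Γ.dim_eq hpL hpt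
    have h2 : Curv2.deg k Γ.curve.left
        ((DCoh.tensorBi.obj ((Scheme.Modules.pullback Γ.ι).obj M)).obj (CurvePoint.ptMod c hc)) 1 = 0 :=
      (CurveRR.deg_congr k e5 1).trans (CurveDeg.deg_structureModule k)
    have hdeg1 : Module.finrank k (Γ.curve.left.residueField c) = 1 := by
      rw [← (LinearEquiv.ofBijective (Algebra.linearMap k (Γ.curve.left.residueField c))
        ⟨(algebraMap k (Γ.curve.left.residueField c)).injective, CurveSection.surjective_resMap k hc⟩).finrank_eq,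
        Module.finrank_self]
    rw [h2, CurveEmbed.deg_point k hc, hdeg1] at h1
    unfold ArSurf.inter
    rw [ArInter.curveDeg_eq Γ hpL]
    simp only [k] at h1
    push_cast at h1
    linarith
  · rw [if_neg hji]
    refine (InterDiv.inter_nonneg_and_eq_zero_iff (Γc j) hI (hgen j) hMinv).2.2 (Set.disjoint_left.2 ?_)
    intro z hz hzD
    rw [hsupp] at hzD
    have : z ∈ ({x} : Set X.left) := hDs.le ⟨hzD, hsub j hz⟩
    rw [Set.mem_singleton_iff] at this
    rw [this] at hz
    exact hji (honly j hz)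

end Groth.Agent.H26.DualPoint
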