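import Groth.Agent.Snapper.DimVanish
import Groth.Agent.Algz7.CohFormal
import Groth.Agent.FFun.Basic
import Mathlib.Topology.KrullDimension
import Groth.Prelude.Def_Canon
import Groth.Prelude.Def_Models
import Groth.Prelude.Def_Formal
import Mathlib.AlgebraicGeometry.Morphisms.Proper
import Mathlib.RingTheory.DiscreteValuationRing.Basic

/-!
# Dualizing modules in degree one extend across finitely many closed points
-/

noncomputable section

set_option linter.style.haveILetI false
set_option backward.isDefEq.respectTransparency false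
set_option backward.isDefEq.respectTransparency.types false

universe u

open CategoryTheory CategoryTheory.Limits AlgebraicGeometry TopologicalSpace Opposite
open CategoryTheory.Abelian

namespace Groth.Agent.H26.DualS2

open Groth.Agent

theorem toSheaf_smulMod {A : Type u} [CommRing A] {X : Scheme.{u}} [X.Over (Spec (CommRingCat.of A))]
    (M : X.Modules) (a : A) (n : ℕ) (x : Coh.HH X M n) :
    Canon.HHlin A (Formal.smulMod A M a) n x = a • x := rfl

theorem HHlin_comp {A : Type u} [CommRing A] {X : Scheme.{u}} [X.Over (Spec (CommRingCat.of A))]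
    {M N L : X.Modules} (φ : M ⟶ N) (ψ : N ⟶ L) (n : ℕ) (x : Coh.HH X M n) :
    Canon.HHlin A (φ ≫ ψ) n x = Canon.HHlin A ψ n (Canon.HHlin A φ n x) := by
  show Sheaf.H.map ((SheafOfModules.toSheaf X.ringCatSheaf).map (φ ≫ ψ)) n x = _
  rw [Functor.map_comp, Sheaf.H.map_comp_apply]
  rfl

theorem surjective_H_of_subsingleton {Y : TopCat.{u}} {T : ShortComplex (CohTop.Ab Y)} (hT : T.ShortExact)
    (n : ℕ) (h₃ : Subsingleton (CohTop.H T.X₃ n)) : Function.Surjective (Sheaf.H.map T.f n) := fun y => by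
  obtain ⟨z, hz⟩ := Ext.covariant_sequence_exact₂ _ hT y (h₃.elim _ _)
  exact ⟨z, hz⟩

theorem surjective_HH_of_subsingleton {X : Scheme.{u}} {S : ShortComplex X.Modules} (hS : S.ShortExact)
    (n : ℕ) (h₃ : Subsingleton (Coh.HH X S.X₃ n)) :
    Function.Surjective (Sheaf.H.map ((SheafOfModules.toSheaf X.ringCatSheaf).map S.f) n :
      Coh.HH X S.X₁ n → Coh.HH X S.X₂ n) :=
  surjective_H_of_subsingleton (Y := X.toPresheafedSpace.carrier) (T := S.map (QCoh.toAbFunctor X))
    (QCoh.toAb_shortExact hS) n h₃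

theorem isZero_restrict {X : Scheme.{u}} (U : X.Opens) {G : X.Modules} (hG : Coh.IsQCoh G)
    (hsupp : CohB1.support G ⊆ (U : Set X)ᶜ) : IsZero (G.restrict U.ι) := by
  refine QCoh.isZero_of_app_eq_zero (QCoh.isQCoh_restrict U.ι hG) fun W s => ?_
  refine TopCat.Presheaf.section_ext ⟨G.presheaf, G.isSheaf⟩ (U.ι ''ᵁ W.1)
    (show Γ(G, U.ι ''ᵁ W.1) from s) 0 fun y hy => ?_
  haveI : Subsingleton (G.presheaf.stalk y) := not_not.1 fun hy' => by
    obtain ⟨z, -, rfl⟩ := hy
    exact hsupp hy' z.2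
  exact Subsingleton.elim _ _

theorem eq_zero_of_support {X : Scheme.{u}} (U : X.Opens) {G : X.Modules} (hG : Coh.IsQCoh G)
    (hsupp : CohB1.support G ⊆ (U : Set X)ᶜ) (B : (U : Scheme.{u}).Modules)
    (g : G ⟶ (Scheme.Modules.pushforward U.ι).obj B) : g = 0 := by
  let e := (Scheme.Modules.restrictAdjunction U.ι).homEquiv G B
  have h : e.symm g = e.symm 0 := (isZero_restrict U hG hsupp).eq_of_src _ _
  exact e.symm.injective h

section

variable {R : Type u} [CommRing R] [IsDomain R] {X : Scheme.{u}} [X.Over (Spec (CommRingCat.of R))]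
  [IsNoetherian X] [X.IsSeparated]
  {ω : X.Modules} {tr : Coh.HH X ω 1 →ₗ[R] R}

variable (U : X.Opens) (hdim : topologicalKrullDim ↥((U : Set X)ᶜ) < ((1 : ℕ) : WithBot ℕ∞))

include hdim in
theorem subsingleton_HH_one {G : X.Modules} (hG : Coh.IsQCoh G)
    (hs : CohB1.support G ⊆ (U : Set X)ᶜ) : Subsingleton (Coh.HH X G 1) :=
  Snapper.subsingleton_HH_of_dim_lt 1 ⟨(U : Set X)ᶜ, U.2.isClosed_compl⟩ hdim G hG hs 1 le_rfl

include hdim in
theorem mono_resMap (hω : Canon.IsRDualOver R X 1 ω tr) : Mono (Snapper.resMap U ω) := by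
  have hP : Coh.IsQCoh ((Scheme.Modules.pushforward U.ι).obj (ω.restrict U.ι)) :=
    QCoh.isQCoh_pushforward U.ι (QCoh.isQCoh_restrict U.ι hω.1)
  have hK := QCoh.isQCoh_kernel hω.1 hP (Snapper.resMap U ω)
  haveI := subsingleton_HH_one U hdim hK (Snapper.support_subset_compl (Snapper.isoOn_resMap U ω)).1
  refine Preadditive.mono_of_kernel_zero ?_
  exact (hω.2 _ hK).1 (LinearMap.ext fun x => by rw [Subsingleton.elim x 0, map_zero, map_zero])

include hdim in
theorem isIso_resMap (hω : Canon.IsRDualOver R X 1 ω tr) (ϖ : R) (hϖ : ϖ ≠ 0)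
    (hZ : ∀ x : X, x ∉ U → x ∉ X.basicOpen (Coh.toGlobal (X ↘ Spec (CommRingCat.of R)) ϖ)) :
    IsIso (Snapper.resMap U ω) := by
  haveI := mono_resMap U hdim hω
  let P := (Scheme.Modules.pushforward U.ι).obj (ω.restrict U.ι)
  let φ : ω ⟶ P := Snapper.resMap U ω
  have hP : Coh.IsQCoh P := QCoh.isQCoh_pushforward U.ι (QCoh.isQCoh_restrict U.ι hω.1)
  have hQ : Coh.IsQCoh (cokernel φ) := QCoh.isQCoh_cokernel hω.1 hP φ
  have hsQ := (Snapper.support_subset_compl (Snapper.isoOn_resMap U ω)).2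
  let Q := cokernel φ
  let p : P ⟶ Q := cokernel.π φ
  -- the torsion levels split
  have key : ∀ n : ℕ, kernel.ι (p ≫ Formal.smulMod R Q (ϖ ^ n)) ≫ p = 0 := by
    intro n
    let s := Formal.smulMod R Q (ϖ ^ n)
    let F := kernel (p ≫ s)
    let a : ω ⟶ F := kernel.lift (p ≫ s) φ (by rw [cokernel.condition_assoc, zero_comp])
    have ha : a ≫ kernel.ι _ = φ := kernel.lift_ι _ _ _
    haveI : Mono a := mono_of_mono_fac ha
    have hF : Coh.IsQCoh F := QCoh.isQCoh_kernel hP hQ _
    have hQa := QCoh.isQCoh_cokernel hω.1 hF a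
    have hsa : CohB1.support (cokernel a) ⊆ (U : Set X)ᶜ := fun x hx hxU => by
      haveI := Snapper.isoOn_resMap U ω x hxU
      let S := DerSch.stalkFunctor X x
      haveI : IsIso (S.map a ≫ S.map (kernel.ι (p ≫ s))) := by rw [← S.map_comp, ha]; infer_instance
      haveI : Mono (S.map (kernel.ι (p ≫ s))) := inferInstance
      haveI : IsSplitEpi (S.map (kernel.ι (p ≫ s))) :=
        IsSplitEpi.mk' ⟨inv (S.map a ≫ S.map (kernel.ι (p ≫ s))) ≫ S.map a, by
          rw [Category.assoc, IsIso.inv_hom_id]⟩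
      haveI : IsIso (S.map (kernel.ι (p ≫ s))) := isIso_of_mono_of_isSplitEpi _
      haveI : IsIso (S.map a) := IsIso.of_isIso_comp_right (S.map a) (S.map (kernel.ι (p ≫ s)))
      exact Snapper.notMem_support_cokernel a inferInstance hx
    -- `ϖ ^ n` factors through `ω`
    obtain ⟨b, hb⟩ : ∃ b : F ⟶ ω, b ≫ φ = kernel.ι (p ≫ s) ≫ Formal.smulMod R P (ϖ ^ n) := by
      refine ⟨Abelian.monoLift φ (kernel.ι (p ≫ s) ≫ Formal.smulMod R P (ϖ ^ n)) ?_, Abelian.monoLift_comp _ _ _⟩
      show (kernel.ι (p ≫ s) ≫ Formal.smulMod R P (ϖ ^ n)) ≫ p = 0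
      rw [Category.assoc, ← Algz7.smulMod_naturality, kernel.condition]
    have hab : a ≫ b = Formal.smulMod R ω (ϖ ^ n) := by
      rw [← cancel_mono φ, Category.assoc, hb, reassoc_of% ha, Algz7.smulMod_naturality]
    -- cohomology
    let S₁ := ShortComplex.mk a (cokernel.π a) (cokernel.condition a)
    have hS₁ : S₁.ShortExact :=
      { exact := ShortComplex.exact_of_g_is_cokernel _ (cokernelIsCokernel a) }
    have hsurj : Function.Surjective (Canon.HHlin R a 1) := fun y =>
      surjective_HH_of_subsingleton hS₁ 1 (subsingleton_HH_one U hdim hQa hsa) y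
    have hker : LinearMap.ker (Canon.HHlin R a 1) ≤ LinearMap.ker tr := fun x hx => by
      have h1 : (ϖ ^ n) • x = 0 := by
        rw [← toSheaf_smulMod, ← hab, HHlin_comp, LinearMap.mem_ker.1 hx, map_zero]
      have h2 := congrArg tr h1
      rw [map_smul, map_zero, smul_eq_mul] at h2
      exact LinearMap.mem_ker.2 ((mul_eq_zero.1 h2).resolve_left (pow_ne_zero _ hϖ))
    let L : Coh.HH X F 1 →ₗ[R] R :=
      (Submodule.liftQ _ tr hker).comp ((Canon.HHlin R a 1).quotKerEquivOfSurjective hsurj).symm.toLinearMap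
    obtain ⟨ψ, hψ⟩ := (hω.2 F hF).2 L
    have hsplit : a ≫ ψ = 𝟙 ω := by
      refine (hω.2 ω hω.1).1 (LinearMap.ext fun x => ?_)
      show tr (Canon.HHlin R (a ≫ ψ) 1 x) = tr (Canon.HHlin R (𝟙 ω) 1 x)
      rw [HHlin_comp]
      have h3 : tr (Canon.HHlin R ψ 1 (Canon.HHlin R a 1 x)) = L (Canon.HHlin R a 1 x) :=
        LinearMap.congr_fun hψ _
      rw [h3]
      show Submodule.liftQ _ tr hker (((Canon.HHlin R a 1).quotKerEquivOfSurjective hsurj).symm _) = _
      rw [LinearMap.quotKerEquivOfSurjective_symm_apply, Submodule.liftQ_apply]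
      congr 1
      show x = Sheaf.H.map ((SheafOfModules.toSheaf X.ringCatSheaf).map (𝟙 ω)) 1 x
      rw [CategoryTheory.Functor.map_id, Sheaf.H.map_id_apply]
    have he : (𝟙 F - ψ ≫ a) ≫ kernel.ι (p ≫ s) = 0 := by
      have hd : a ≫ ((𝟙 F - ψ ≫ a) ≫ kernel.ι (p ≫ s)) = 0 := by
        rw [Preadditive.sub_comp, Preadditive.comp_sub, Category.id_comp, Category.assoc,
          reassoc_of% hsplit, sub_self]
      rw [← cokernel.π_desc a _ hd, eq_zero_of_support U hQa hsa _ (cokernel.desc a _ hd), comp_zero]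
    rw [Preadditive.sub_comp, sub_eq_zero, Category.id_comp, Category.assoc, ha] at he
    rw [he, Category.assoc, cokernel.condition, comp_zero]
  -- injectivity of multiplication
  have hmono : ∀ n : ℕ, Mono (Formal.smulMod R Q (ϖ ^ n)) := fun n => by
    refine Preadditive.mono_of_cancel_zero _ fun {T} g hg => ?_
    have h1 : pullback.fst p g ≫ p ≫ Formal.smulMod R Q (ϖ ^ n) = 0 := by
      rw [pullback.condition_assoc, hg, comp_zero]
    have h2 : pullback.fst p g ≫ p = 0 := by
      rw [← kernel.lift_ι (p ≫ Formal.smulMod R Q (ϖ ^ n)) (pullback.fst p g) h1, Category.assoc, key n, comp_zero]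
    rw [← cancel_epi (pullback.snd p g), comp_zero, ← pullback.condition, h2]
  have hQ0 : IsZero Q := QCoh.isZero_of_app_eq_zero hQ fun W m => by
    let g : Γ(X, W.1) := X.presheaf.map (homOfLE le_top).op (Coh.toGlobal (X ↘ Spec (CommRingCat.of R)) ϖ)
    have hm : Q.presheaf.map (homOfLE (X.basicOpen_le g)).op m = 0 := by
      refine TopCat.Presheaf.section_ext ⟨Q.presheaf, Q.isSheaf⟩ _ _ _ fun y hy => ?_
      haveI : Subsingleton (Q.presheaf.stalk y) := not_not.1 fun hy' => by
        refine hZ y (hsQ hy') ?_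
        exact ((Scheme.basicOpen_res _ _ _).le.trans inf_le_right) hy
      exact Subsingleton.elim _ _
    obtain ⟨n, hn⟩ := QCoh.exists_pow_smul_eq_zero hQ W.2 g m hm
    haveI := hmono n
    have hinj : Function.Injective ((Formal.smulMod R Q (ϖ ^ n)).app W.1) := QCoh.app_injective _ _
    refine hinj ?_
    rw [map_zero]
    rw [FFun.smulMod_app, map_pow, map_pow]
    exact hn
  haveI : Epi φ := Preadditive.epi_of_cokernel_zero (hQ0.eq_of_tgt _ _)
  exact isIso_of_mono_of_epi φ

end

/-- Sections of a dualizing module extend across finitely many closed points of the closed fibre. -/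
theorem restrict_bijective (R : Type u) [CommRing R] [IsDomain R] [IsDiscreteValuationRing R]
    (X : Scheme.{u}) [X.Over (Spec (CommRingCat.of R))] [IsProper (X ↘ Spec (CommRingCat.of R))]
    (ω : X.Modules) (tr : Coh.HH X ω 1 →ₗ[R] R) (hω : Canon.IsRDualOver R X 1 ω tr)
    (U : X.Opens) (hfin : ((U : Set X)ᶜ).Finite) (hcl : ∀ x : X, x ∉ U → IsClosed ({x} : Set X))
    (V : X.Opens) :
    Function.Bijective (ω.presheaf.map (homOfLE (inf_le_left : V ⊓ U ≤ V)).op).hom := by
  let f : X ⟶ Spec (CommRingCat.of R) := X ↘ Spec (CommRingCat.of R)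
  haveI : IsLocallyNoetherian X := LocallyOfFiniteType.isLocallyNoetherian f
  haveI : CompactSpace X := QuasiCompact.compactSpace_of_compactSpace f
  haveI : IsNoetherian X := ⟨⟩
  haveI : X.IsSeparated := ⟨by
    rw [← terminal.comp_from f]
    infer_instance⟩
  have hdim : topologicalKrullDim ↥((U : Set X)ᶜ) < ((1 : ℕ) : WithBot ℕ∞) := by
    haveI : T1Space ↥((U : Set X)ᶜ) := ⟨fun z => by
      have : ({z} : Set ↥((U : Set X)ᶜ)) = Subtype.val ⁻¹' {z.1} := by ext w; simp [Subtype.ext_iff]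
      rw [this]
      exact (hcl z.1 z.2).preimage continuous_subtype_val⟩
    haveI := hfin.to_subtype
    haveI : DiscreteTopology ↥((U : Set X)ᶜ) := inferInstance
    exact lt_of_le_of_lt (topologicalKrullDim_zero_of_discreteTopology _) (by exact_mod_cast zero_lt_one)
  obtain ⟨ϖ, hϖ⟩ := IsDiscreteValuationRing.exists_irreducible R
  have hZ : ∀ x : X, x ∉ U → x ∉ X.basicOpen (Coh.toGlobal f ϖ) := fun x hx hmem => by
    have hfx : IsClosed ({f x} : Set (Spec (CommRingCat.of R))) := by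
      simpa using f.isClosedMap _ (hcl x hx)
    haveI hmax : (f x).asIdeal.IsMaximal := (PrimeSpectrum.isClosed_singleton_iff_isMaximal _).1 hfx
    have h1 : x ∈ f ⁻¹ᵁ ((Spec (CommRingCat.of R)).basicOpen ((Scheme.ΓSpecIso (CommRingCat.of R)).inv ϖ)) := by
      rw [Scheme.preimage_basicOpen]
      exact hmem
    rw [basicOpen_eq_of_affine', Iso.inv_hom_id_apply] at h1
    refine h1 ?_
    rw [IsLocalRing.eq_maximalIdeal hmax, hϖ.maximalIdeal_eq]
    exact Ideal.mem_span_singleton_self ϖ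
  haveI := isIso_resMap U hdim hω ϖ hϖ.ne_zero hZ
  have hb : Function.Bijective ((Snapper.resMap U ω).app V) := ConcreteCategory.bijective_of_isIso _
  have hU : U.ι ''ᵁ (U.ι ⁻¹ᵁ V) = V ⊓ U := by
    rw [U.ι.image_preimage_eq_opensRange_inf, Scheme.Opens.opensRange_ι, inf_comm]
  have key : ∀ (W : X.Opens) (_ : W = V ⊓ U) (hle : W ≤ V),
      Function.Bijective (ω.presheaf.map (homOfLE hle).op).hom →
      Function.Bijective (ω.presheaf.map (homOfLE (inf_le_left : V ⊓ U ≤ V)).op).hom := by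
    rintro _ rfl hle h; exact h
  refine key _ hU (U.ι.image_preimage_le V) ?_
  exact hb

end Groth.Agent.H26.DualS2
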