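import Mathlib
import Groth.Prelude
import Groth.Agent.MorLib.IdealFG2
import Groth.Agent.MorLib.BaseChangeLim
import Groth.Agent.H26.ArSurfProper

/-!
# A projective scheme over a DVR descends to a DVR in a finite subextension
-/

set_option autoImplicit false
set_option backward.isDefEq.respectTransparency.types false
universe u

open CategoryTheory CategoryTheory.Limits AlgebraicGeometry

namespace Groth.Agent.H26.DvrDescent

variable {OK OL K L : Type u} [CommRing OK] [IsDomain OK] [IsDiscreteValuationRing OK]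
  [CommRing OL] [IsDomain OL] [IsDiscreteValuationRing OL] [Field K] [Field L]
  [Algebra OK K] [IsFractionRing OK K] [Algebra OL L] [IsFractionRing OL L]
  [Algebra OK OL] [Algebra K L] [Algebra OK L] [IsScalarTower OK OL L] [IsScalarTower OK K L]

/-- The trace of `OL` on a subextension. -/
abbrev trace (OL : Type u) [CommRing OL] [Algebra OL L] (K' : IntermediateField K L) : Subring L :=
  (algebraMap OL L).range ⊓ K'.toSubring

theorem algebraMap_injective : Function.Injective (algebraMap OL L) :=
  IsFractionRing.injective OL L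

/-- The inclusion of the trace into `OL`. -/
noncomputable def toOL (K' : IntermediateField K L) : ↥(trace OL K') →+* OL :=
  (RingEquiv.ofBijective (algebraMap OL L).rangeRestrict
    ⟨fun _ _ h => algebraMap_injective (congrArg Subtype.val h), RingHom.rangeRestrict_surjective _⟩).symm.toRingHom.comp
      (Subring.inclusion inf_le_left)

theorem algebraMap_toOL (K' : IntermediateField K L) (x : ↥(trace OL K')) :
    algebraMap OL L (toOL K' x) = (x : L) :=
  congrArg Subtype.val (RingEquiv.apply_symm_apply (RingEquiv.ofBijective (algebraMap OL L).rangeRestrict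
    ⟨fun _ _ h => algebraMap_injective (congrArg Subtype.val h), RingHom.rangeRestrict_surjective _⟩) _)

theorem isDiscreteValuationRing_trace (hinj : Function.Injective (algebraMap OK OL))
    (hloc : IsLocalHom (algebraMap OK OL)) (K' : IntermediateField K L) :
    IsDiscreteValuationRing ↥(trace OL K') := by
  classical
  let φ := toOL (OL := OL) K'
  have hφ : ∀ x, algebraMap OL L (φ x) = (x : L) := algebraMap_toOL K'
  have hφinj : Function.Injective φ := fun x y h => Subtype.ext (by rw [← hφ, ← hφ, h])
  -- divisibility is that of `OL`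
  have hdiv : ∀ x y : ↥(trace OL K'), φ x ∣ φ y → x ∣ y := by
    rintro x y ⟨c, hc⟩
    by_cases hx : x = 0
    · subst hx
      rw [map_zero, zero_mul] at hc
      rw [hφinj (hc.trans (map_zero φ).symm)]
    · have hx' : (x : L) ≠ 0 := fun h => hx (Subtype.ext h)
      have hc' : algebraMap OL L c = (y : L) / (x : L) := by
        rw [eq_div_iff hx', ← hφ, ← hφ, ← map_mul, hc, mul_comm]
      refine ⟨⟨algebraMap OL L c, ⟨c, rfl⟩, ?_⟩, Subtype.ext ?_⟩
      · rw [hc']
        exact K'.div_mem y.2.2 x.2.2
      · show (y : L) = (x : L) * algebraMap OL L c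
        rw [hc', mul_div_cancel₀ _ hx']
  have hunit : ∀ x : ↥(trace OL K'), IsUnit (φ x) → IsUnit x := fun x hx =>
    isUnit_iff_dvd_one.2 (hdiv x 1 (by rw [map_one]; exact isUnit_iff_dvd_one.1 hx))
  haveI : IsLocalRing ↥(trace OL K') := by
    refine IsLocalRing.of_nonunits_add fun a b ha hb hab => ?_
    rcases IsLocalRing.isUnit_or_isUnit_of_isUnit_add ((map_add φ a b) ▸ hab.map φ) with h | h
    · exact ha (hunit a h)
    · exact hb (hunit b h)
  haveI : IsPrincipalIdealRing ↥(trace OL K') := ⟨fun I => by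
    by_cases hI : I = ⊥
    · subst hI
      exact bot_isPrincipal
    · obtain ⟨ϖ, hϖ⟩ := IsDiscreteValuationRing.exists_irreducible OL
      have hne : ∃ n, ∃ x ∈ I, Associated (φ x) (ϖ ^ n) := by
        obtain ⟨x, hx, hx0⟩ := Submodule.exists_mem_ne_zero_of_ne_bot hI
        obtain ⟨n, hn⟩ := IsDiscreteValuationRing.associated_pow_irreducible
          (fun h => hx0 (hφinj (h.trans (map_zero φ).symm))) hϖ
        exact ⟨n, x, hx, hn⟩
      obtain ⟨x, hx, hxn⟩ := Nat.find_spec hne
      refine ⟨x, le_antisymm (fun y hy => ?_) ((Submodule.span_singleton_le_iff_mem _ _).2 hx)⟩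
      refine Ideal.mem_span_singleton.2 (hdiv x y ?_)
      by_cases hy0 : φ y = 0
      · rw [hy0]; exact dvd_zero _
      · obtain ⟨m, hm⟩ := IsDiscreteValuationRing.associated_pow_irreducible hy0 hϖ
        exact hxn.dvd.trans ((pow_dvd_pow ϖ (Nat.find_min' hne ⟨y, hy, hm⟩)).trans hm.symm.dvd)⟩
  obtain ⟨t, ht⟩ := IsDiscreteValuationRing.exists_irreducible OK
  let tt : ↥(trace OL K') := ⟨algebraMap OK L t, ⟨algebraMap OK OL t,
      (IsScalarTower.algebraMap_apply OK OL L t).symm⟩, by
    rw [IsScalarTower.algebraMap_apply OK K L]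
    exact K'.algebraMap_mem _⟩
  have htt : φ tt = algebraMap OK OL t := algebraMap_injective (OL := OL) (L := L) (by
    rw [hφ, ← IsScalarTower.algebraMap_apply OK OL L])
  refine { not_a_field' := fun hmax => ?_ }
  have h0 : tt = 0 := by
    have : tt ∈ IsLocalRing.maximalIdeal ↥(trace OL K') := fun hu =>
      ht.not_isUnit (hloc.1 t (htt ▸ hu.map φ))
    rwa [hmax, Ideal.mem_bot] at this
  refine ht.ne_zero (hinj ?_)
  rw [map_zero, ← htt, h0, map_zero]

section Diagram

variable (K OL L)

/-- The subextension generated by finitely many elements of `OL`. -/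
noncomputable def ext (s : Finset OL) : IntermediateField K L :=
  IntermediateField.adjoin K (algebraMap OL L '' (s : Set OL))

theorem ext_mono {s t : Finset OL} (h : s ≤ t) : ext OL K L s ≤ ext OL K L t :=
  IntermediateField.adjoin.mono K _ _ (Set.image_mono (Finset.coe_subset.2 h))

theorem mem_ext (z : OL) : algebraMap OL L z ∈ ext OL K L {z} :=
  IntermediateField.subset_adjoin K _ ⟨z, Finset.mem_singleton_self z, rfl⟩

variable {ι : Type u} [Preorder ι] (F : ι → IntermediateField K L) (hF : Monotone F)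

/-- The traces on a family of subextensions. -/
noncomputable def famRings : ι ⥤ CommRingCat.{u} where
  obj s := CommRingCat.of ↥(trace OL (F s))
  map {s t} h := CommRingCat.ofHom (Subring.inclusion
    (fun _ hx => ⟨hx.1, hF (leOfHom h) hx.2⟩ : trace OL (F s) ≤ trace OL (F t)))
  map_id s := CommRingCat.hom_ext (RingHom.ext fun _ => Subtype.ext rfl)
  map_comp _ _ := CommRingCat.hom_ext (RingHom.ext fun _ => Subtype.ext rfl)

/-- The cocone of the inclusions into `OL`. -/
noncomputable def famCocone : Cocone (famRings OL K L F hF) where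
  pt := CommRingCat.of OL
  «ι» :=
    { app := fun s => CommRingCat.ofHom (toOL (F s))
      naturality := fun s t h => by
        refine CommRingCat.hom_ext (RingHom.ext fun x => ?_)
        exact algebraMap_injective (OL := OL) (L := L)
          ((algebraMap_toOL _ _).trans (algebraMap_toOL _ x).symm) }

/-- A covering family gives a colimit. -/
noncomputable def famIsColimit [IsDirectedOrder ι] [Nonempty ι]
    (hcov : ∀ z : OL, ∃ s, algebraMap OL L z ∈ F s) : IsColimit (famCocone OL K L F hF) := by
  classical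
  haveI : ReflectsColimit (famRings OL K L F hF) (forget CommRingCat.{u}) :=
    reflectsColimit_of_reflectsIsomorphisms _ _
  refine isColimitOfReflects (forget CommRingCat.{u}) ?_
  refine Types.FilteredColimit.isColimitOf' _ _ (fun z => ?_) fun s x y h => ?_
  · obtain ⟨t, ht⟩ := hcov z
    refine ⟨t, ⟨algebraMap OL L z, ⟨z, rfl⟩, ht⟩, ?_⟩
    exact algebraMap_injective (OL := OL) (L := L)
      (algebraMap_toOL (OL := OL) (F t) ⟨algebraMap OL L z, ⟨z, rfl⟩, ht⟩).symm
  · refine ⟨s, 𝟙 s, ?_⟩
    have h' : toOL (F s) x = toOL (F s) y := h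
    exact congrArg _ (Subtype.ext (by
      rw [← algebraMap_toOL (OL := OL), ← algebraMap_toOL (OL := OL) _ y, h']))

/-- The traces on the finitely generated subextensions. -/
noncomputable abbrev rings : Finset OL ⥤ CommRingCat.{u} :=
  famRings OL K L (ext OL K L) (fun _ _ h => ext_mono OL K L h)

/-- The cocone of the inclusions. -/
noncomputable abbrev cocone : Cocone (rings OL K L) :=
  famCocone OL K L (ext OL K L) (fun _ _ h => ext_mono OL K L h)

/-- `OL` is the colimit of the traces. -/
noncomputable def isColimit : IsColimit (cocone OL K L) := by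
  classical
  exact famIsColimit OL K L (ext OL K L) (fun _ _ h => ext_mono OL K L h)
    (fun z => ⟨{z}, mem_ext OL K L z⟩)

/-- The spectra. -/
noncomputable def diagram : (Finset OL)ᵒᵖ ⥤ Scheme.{u} := (rings OL K L).op ⋙ Scheme.Spec

/-- The limit cone. -/
noncomputable def cone : Cone (diagram OL K L) := Scheme.Spec.mapCone (cocone OL K L).op

/-- `Spec OL` is the limit. -/
noncomputable def isLimit : IsLimit (cone OL K L) :=
  isLimitOfPreserves Scheme.Spec (isColimit OL K L).op

instance isAffine_obj (i : (Finset OL)ᵒᵖ) : IsAffine ((diagram OL K L).obj i) :=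
  isAffine_Spec (CommRingCat.of ↥(trace OL (ext OL K L i.unop)))

instance isAffineHom_map {i j : (Finset OL)ᵒᵖ} (f : i ⟶ j) : IsAffineHom ((diagram OL K L).map f) :=
  isAffineHom_of_isAffine _

end Diagram

/-- The descent. -/
theorem exists_descent [Algebra.IsAlgebraic K L] {X : Scheme.{u}} (p : X ⟶ Spec (CommRingCat.of OL))
    (hp : Neron.IsProjectiveOver OL (Over.mk p)) :
    ∃ (K' : IntermediateField K L) (_ : FiniteDimensional K K') (X' : Scheme.{u})
      (p' : X' ⟶ Spec (CommRingCat.of ↥(trace OL K')))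
      (_ : Neron.IsProjectiveOver ↥(trace OL K') (Over.mk p'))
      (e : X ≅ pullback p' (Spec.map (CommRingCat.ofHom (toOL K')))),
      e.hom ≫ pullback.snd p' (Spec.map (CommRingCat.ofHom (toOL K'))) = p := by
  classical
  obtain ⟨n, i, hi, hic⟩ := hp
  haveI := hi
  let D := diagram OL K L
  let c := cone OL K L
  let i₀ : (Finset OL)ᵒᵖ := Opposite.op ∅
  let S₀ : Scheme.{u} := Spec (CommRingCat.of ↥(trace OL (ext OL K L (∅ : Finset OL))))
  let xi : CohB1.ProjSpaceOver n S₀ ⟶ D.obj i₀ := CohB1.ProjSpaceOver.toBase n S₀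
  let P := CohB1.ProjSpaceOver n (Spec (CommRingCat.of OL))
  let pP : P ⟶ c.pt := CohB1.ProjSpaceOver.toBase n (Spec (CommRingCat.of OL))
  let a : P ⟶ CohB1.ProjSpace n (ULift.{u} ℤ) := pullback.fst _ _
  let q : P ⟶ CohB1.ProjSpaceOver n S₀ := pullback.lift a (pP ≫ c.π.app i₀) (specULiftZIsTerminal.hom_ext _ _)
  have hY : IsPullback q pP xi (c.π.app i₀) := by
    refine IsPullback.of_right ?_ (pullback.lift_snd _ _ _) (IsPullback.of_hasPullback
      (CohB1.ProjSpace.toSpec n (ULift.{u} ℤ)) (specULiftZIsTerminal.from S₀))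
    convert! IsPullback.of_hasPullback (CohB1.ProjSpace.toSpec n (ULift.{u} ℤ))
      (specULiftZIsTerminal.from (Spec (CommRingCat.of OL))) using 1
    · exact pullback.lift_fst _ _ _
    · exact specULiftZIsTerminal.hom_ext _ _
  haveI := Groth.Agent.PnCoh.Chow.isProper_toSpec n (ULift.{u} ℤ)
  haveI : ∀ S : Scheme.{u}, IsProper (CohB1.ProjSpaceOver.toBase n S) := fun S =>
    MorphismProperty.of_isPullback (IsPullback.of_hasPullback (CohB1.ProjSpace.toSpec n (ULift.{u} ℤ))
      (specULiftZIsTerminal.from S)) inferInstance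
  haveI : IsLocallyNoetherian P :=
    LocallyOfFiniteType.isLocallyNoetherian (CohB1.ProjSpaceOver.toBase n (Spec (CommRingCat.of OL)))
  haveI : CompactSpace ↥(CohB1.ProjSpaceOver n S₀) :=
    QuasiCompact.compactSpace_of_compactSpace (CohB1.ProjSpaceOver.toBase n S₀)
  haveI : QuasiSeparatedSpace ↥(CohB1.ProjSpaceOver n S₀) :=
    quasiSeparatedSpace_of_quasiSeparated (CohB1.ProjSpaceOver.toBase n S₀)
  haveI : ∀ {k l : (Finset OL)ᵒᵖ} (f : k ⟶ l), IsAffineHom (D.map f) := fun f => isAffineHom_map OL K L f
  haveI : ∀ k : Over i₀, CompactSpace ((MorLib.BC.diag D xi).obj k) := fun k =>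
    MorLib.BC.compactSpace_obj D xi k
  haveI : ∀ k : Over i₀, QuasiSeparatedSpace ((MorLib.BC.diag D xi).obj k) := fun k =>
    MorLib.BC.quasiSeparatedSpace_obj D xi k
  haveI : ∀ {k l : Over i₀} (f : k ⟶ l), IsAffineHom ((MorLib.BC.diag D xi).map f) := fun f =>
    MorLib.BC.isAffineHom_map D xi f
  let i' : X ⟶ P := i
  obtain ⟨k, -, J, -, hJ⟩ := MorLib.IdealFG.exists_comap_eq
    (MorLib.BC.isLimitCone D xi hY (isLimit OL K L)) (Over.mk (𝟙 i₀)) i'.ker
    (fun U => (isNoetherianRing_iff_ideal_fg _).1 (IsLocallyNoetherian.component_noetherian (X := P) U) _)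
  let s : Finset OL := k.left.unop
  haveI : Finite ↥(algebraMap OL L '' (s : Set OL)) := (s.finite_toSet.image _).to_subtype
  haveI : FiniteDimensional K ↥(ext OL K L s) :=
    IntermediateField.finiteDimensional_adjoin fun x _ => (Algebra.IsAlgebraic.isAlgebraic x).isIntegral
  let S : Scheme.{u} := Spec (CommRingCat.of ↥(trace OL (ext OL K L s)))
  have hQ : IsPullback (pullback.fst xi (D.map k.hom) ≫ pullback.fst _ _)
      (pullback.snd xi (D.map k.hom)) (CohB1.ProjSpace.toSpec n (ULift.{u} ℤ))
      (specULiftZIsTerminal.from S) := by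
    convert! (IsPullback.of_hasPullback xi (D.map k.hom)).paste_horiz
      (IsPullback.of_hasPullback (CohB1.ProjSpace.toSpec n (ULift.{u} ℤ))
        (specULiftZIsTerminal.from S₀)) using 1
    exact specULiftZIsTerminal.hom_ext _ _
  let eQ : (MorLib.BC.diag D xi).obj k ≅ CohB1.ProjSpaceOver n S := hQ.isoPullback
  let p' : J.subscheme ⟶ S := J.subschemeι ≫ pullback.snd xi (D.map k.hom)
  have hproj : Neron.IsProjectiveOver ↥(trace OL (ext OL K L s)) (Over.mk p') :=
    ⟨n, J.subschemeι ≫ eQ.hom, inferInstance, by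
      show (J.subschemeι ≫ eQ.hom) ≫ pullback.snd _ _ = p'
      rw [Category.assoc]
      exact congrArg (J.subschemeι ≫ ·) hQ.isoPullback_hom_snd⟩
  let π : P ⟶ (MorLib.BC.diag D xi).obj k := MorLib.BC.proj D xi hY k
  have hker : J.subschemeι.ker.comap π = i'.ker := by rw [Scheme.IdealSheafData.ker_subschemeι]; exact hJ
  have hle : J.subschemeι.ker ≤ (i' ≫ π).ker := by
    rw [← Scheme.IdealSheafData.map_ker, Scheme.IdealSheafData.le_map_iff_comap_le]
    exact hker.le
  let Zf : X ⟶ J.subscheme := IsClosedImmersion.lift J.subschemeι (i' ≫ π) hle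
  have h1 : IsPullback i' Zf π J.subschemeι :=
    isPullback_of_isClosedImmersion i' J.subschemeι Zf π (IsClosedImmersion.lift_fac _ _ _).symm hker
  have h2 := h1.flip.paste_vert (MorLib.BC.isPullback_proj D xi hY k)
  have hX : IsPullback Zf p p' (Spec.map (CommRingCat.ofHom (toOL (ext OL K L s)))) := by
    have e : i' ≫ pP = p := hic
    rw [e] at h2
    exact h2
  exact ⟨ext OL K L s, inferInstance, J.subscheme, p', hproj, hX.isoPullback,
    IsPullback.isoPullback_hom_snd _⟩

end Groth.Agent.H26.DvrDescent
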