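import Groth.Agent.H26.GcdOne
import Groth.Agent.H26.FibreQuot
import Groth.Agent.H26.FibreSeq
import Groth.Agent.H23.RigidGamma
import Groth.Agent.QCoh.Extension
import Groth.Agent.RegBlow6.Geometry
import Groth.Prelude.Def_Omega4

/-!
# Constants of a proper flat scheme over a discrete valuation ring with connected reduced closed fibre
-/

set_option autoImplicit false

universe u

open CategoryTheory CategoryTheory.Limits AlgebraicGeometry TopologicalSpace Opposite

namespace Groth.Agent.H26.FibreConst

variable {R : Type u} [CommRing R] [IsDomain R] [IsDiscreteValuationRing R] {X : Scheme.{u}}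
  (f : X ⟶ Spec (CommRingCat.of R))
  {Xs : Scheme.{u}} (gs : Xs ⟶ X) (fs : Xs ⟶ Spec (CommRingCat.of (IsLocalRing.ResidueField R)))

theorem bijective_of_connected {k : Type u} [Field k] [IsAlgClosed k] {W : Scheme.{u}}
    (w : W ⟶ Spec (CommRingCat.of k)) [UniversallyClosed w] [ConnectedSpace W] [IsReduced W] :
    Function.Bijective w.appTop := by
  let ψ : CommRingCat.of k ⟶ Γ(W, ⊤) := (Scheme.ΓSpecIso _).inv ≫ w.appTop
  have hψ : Function.Bijective ψ.hom := by
    have : ψ.hom.IsIntegral := (RingHom.isIntegral_of_surjective _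
      (ConcreteCategory.bijective_of_isIso (Scheme.ΓSpecIso (CommRingCat.of k)).inv).2).trans _ _
      (isIntegral_appTop_of_universallyClosed w)
    algebraize [ψ.hom]
    have hne : Nonempty W := ConnectedSpace.toNonempty
    have : Nonempty (⊤ : W.Opens) := ⟨⟨hne.some, trivial⟩⟩
    have : Nontrivial Γ(W, ⊤) := inferInstance
    exact ⟨ψ.hom.injective, H23.RigidGamma.surjective_of_isIntegral H23.RigidGamma.eq_zero_or_one_of_idem⟩
  exact (Function.Bijective.of_comp_iff w.appTop
    (ConcreteCategory.bijective_of_isIso (Scheme.ΓSpecIso (CommRingCat.of k)).inv)).1 hψ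

/-- The closed fibre is the closed subscheme of the fibre ideal. -/
theorem exists_factor (hs : IsPullback gs fs f (Spec.map (CommRingCat.ofHom (IsLocalRing.residue R)))) :
    ∃ t : (Models.specialFibreIdeal R (Over.mk f)).subscheme ⟶ Xs,
      t ≫ gs = (Models.specialFibreIdeal R (Over.mk f)).subschemeι := by
  let i₀ := Spec.map (CommRingCat.ofHom (IsLocalRing.residue R))
  haveI : IsClosedImmersion i₀ :=
    IsClosedImmersion.spec_of_surjective _ (IsLocalRing.residue_surjective (R := R))
  let J := Models.specialFibreIdeal R (Over.mk f)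
  let I₀ := Curv2.idealSheaf R (IsLocalRing.maximalIdeal R)
  have hker : i₀.ker = I₀ := RegBlow6.ker_specMk (IsLocalRing.maximalIdeal R)
  have hle : i₀.ker ≤ (J.subschemeι ≫ f).ker := by
    rw [hker, Scheme.Hom.ker_comp]
    rw [Scheme.IdealSheafData.le_map_iff_comap_le, Scheme.IdealSheafData.ker_subschemeι]
    exact le_refl _
  let l := IsClosedImmersion.lift i₀ (J.subschemeι ≫ f) hle
  exact ⟨hs.lift J.subschemeι l (IsClosedImmersion.lift_fac _ _ _).symm, hs.lift_fst _ _ _⟩

variable [IsProper f] [Flat f]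
  (hs : IsPullback gs fs f (Spec.map (CommRingCat.ofHom (IsLocalRing.residue R))))

include hs in
theorem bijective_appTop (hk : Function.Bijective fs.appTop) : Function.Bijective f.appTop := by
  let X' : Over (Spec (CommRingCat.of R)) := Over.mk f
  haveI : IsProper X'.hom := ‹IsProper f›
  haveI : Flat X'.hom := ‹Flat f›
  obtain ⟨ϖ, hirr⟩ := IsDiscreteValuationRing.exists_irreducible R
  have hϖ := hirr.maximalIdeal_eq
  let ρ : R →+* Γ(X, ⊤) := f.appTop.hom.comp (Scheme.ΓSpecIso (CommRingCat.of R)).inv.hom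
  have hρ : Function.Bijective ρ := by
    haveI : Nonempty Xs := by
      by_contra h
      rw [not_nonempty_iff] at h
      haveI : Subsingleton Γ(Xs, ⊤) := inferInstance
      haveI := hk.1.subsingleton
      haveI : Subsingleton (IsLocalRing.ResidueField R) :=
        (ConcreteCategory.bijective_of_isIso (Scheme.ΓSpecIso (CommRingCat.of (IsLocalRing.ResidueField R))).inv).1.subsingleton
      exact not_subsingleton (IsLocalRing.ResidueField R) inferInstance
    refine ⟨(injective_iff_map_eq_zero ρ).2 fun r hr => ?_, ?_⟩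
    · by_contra hr0
      obtain ⟨x⟩ := (inferInstance : Nonempty Xs)
      obtain ⟨U, hU, hxU, -⟩ := exists_isAffineOpen_mem_and_subset (U := (⊤ : X.Opens)) (show gs x ∈ (⊤ : X.Opens) from trivial)
      have h1 := FibreIdeal.unifOn_mem_nonZeroDivisors X' hr0 hU
      have h2 : FibreIdeal.unifOn X' r U = 0 := by
        show X.presheaf.map _ (ρ r) = 0
        rw [hr, map_zero]
      rw [h2] at h1
      haveI : Nonempty (U : X.Opens) := ⟨⟨_, hxU⟩⟩
      exact zero_notMem_nonZeroDivisors h1
    · letI : Algebra R Γ(X, ⊤) := ρ.toAlgebra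
      haveI : Module.Finite R Γ(X, ⊤) := GcdOne.finite_appTop X'
      have key : ∀ a : Γ(X, ⊤), ∃ (r : R) (b : Γ(X, ⊤)), a = ρ r + ρ ϖ * b := by
        intro a
        obtain ⟨c, hc⟩ := hk.2 (gs.appTop a)
        obtain ⟨r, hr⟩ := IsLocalRing.residue_surjective ((Scheme.ΓSpecIso (CommRingCat.of (IsLocalRing.ResidueField R))).hom c)
        have h0 : gs.appTop (a - ρ r) = 0 := by
          rw [map_sub, ← hc, sub_eq_zero]
          show fs.appTop c = gs.appTop (f.appTop ((Scheme.ΓSpecIso _).inv r))
          have h2 : (gs ≫ f).appTop = (fs ≫ Spec.map (CommRingCat.ofHom (IsLocalRing.residue R))).appTop :=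
            congrArg Scheme.Hom.appTop hs.w
          refine Eq.trans ?_ (congr($(h2) ((Scheme.ΓSpecIso (CommRingCat.of R)).inv r))).symm
          show fs.appTop c = fs.appTop _
          refine congrArg _ ?_
          refine Eq.trans ?_ (congr($(Scheme.ΓSpecIso_inv_naturality (CommRingCat.ofHom (IsLocalRing.residue R))) r))
          show c = (Scheme.ΓSpecIso _).inv (IsLocalRing.residue R r)
          rw [hr, ← ConcreteCategory.comp_apply, Iso.hom_inv_id]
          rfl
        obtain ⟨t, ht⟩ := exists_factor f gs fs hs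
        have h3 : (Models.specialFibreIdeal R X').subschemeι.appTop (a - ρ r) = 0 := by
          show (Models.specialFibreIdeal R (Over.mk f)).subschemeι.appTop (a - ρ r) = 0
          rw [← ht]
          show t.appTop (gs.appTop (a - ρ r)) = 0
          rw [h0, map_zero]
        obtain ⟨hz, hS⟩ := FibreSeq.shortExact X' hϖ hirr.ne_zero
        obtain ⟨b, hb⟩ := QCoh.exists_app_f_eq hS ⊤ (OmegaSh.strSect X'.left ⊤ (a - ρ r)) (by
          show (ClSub.toSubscheme (Models.specialFibreIdeal R X')).app ⊤
            (OmegaSh.strSect X'.left ⊤ (show Γ(X'.left, ⊤) from a - ρ r)) = 0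
          erw [OmegaSh.toSubscheme_app_strSect]
          exact h3)
        have hb' := congrArg (OmegaSh.fnSect X'.left ⊤) hb
        refine ⟨r, (show Γ(X, ⊤) from OmegaSh.fnSect X'.left ⊤ b), ?_⟩
        have h4 : OmegaSh.fnSect X'.left ⊤ ((FibreSeq.mulConst X' ϖ).app ⊤ b) =
            OmegaSh.fnSect X'.left ⊤ b * FibreIdeal.unifOn X' ϖ ⊤ := by
          have := FibreSeq.mulConst_app X' ϖ ⊤ (OmegaSh.fnSect X'.left ⊤ b)
          exact congrArg (OmegaSh.fnSect X'.left ⊤) this
        have h5 : FibreIdeal.unifOn X' ϖ ⊤ = ρ ϖ := by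
          show X.presheaf.map (homOfLE le_top).op (ρ ϖ) = _
          rw [show (homOfLE (le_top : (⊤ : X.Opens) ≤ ⊤)).op = 𝟙 (Opposite.op (⊤ : X.Opens)) from rfl, X.presheaf.map_id]
          rfl
        have h6 : a - ρ r = (show Γ(X, ⊤) from OmegaSh.fnSect X'.left ⊤ b) * ρ ϖ := by
          rw [← h5, ← h4]
          exact hb'.symm
        rw [mul_comm, ← h6]
        ring
      have hle : (⊤ : Submodule R Γ(X, ⊤)) ≤ LinearMap.range (Algebra.linearMap R Γ(X, ⊤)) :=
        Submodule.le_of_le_smul_of_le_jacobson_bot Module.Finite.fg_top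
          (IsLocalRing.maximalIdeal_le_jacobson ⊥) fun a _ => by
            obtain ⟨r, b, rfl⟩ := key a
            refine Submodule.add_mem_sup ⟨r, rfl⟩ ?_
            exact Submodule.smul_mem_smul (hirr.maximalIdeal_eq ▸ Ideal.mem_span_singleton_self ϖ) Submodule.mem_top
      exact fun a => hle (Submodule.mem_top (x := a))
  exact (Function.Bijective.of_comp_iff f.appTop
    (ConcreteCategory.bijective_of_isIso (Scheme.ΓSpecIso (CommRingCat.of R)).inv)).1 hρ

end Groth.Agent.H26.FibreConst
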