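import Groth.Prelude.Def_FSch2
import Groth.Agent.Hensel.SmoothAlgLift
import Mathlib.AlgebraicGeometry.Morphisms.Smooth
import Mathlib.RingTheory.Noetherian.Nilpotent
import Mathlib.RingTheory.FiniteType

/-!
# Local formal liftings of smooth schemes and their morphisms
-/

set_option autoImplicit false

universe u

open CategoryTheory CategoryTheory.Limits AlgebraicGeometry

namespace Groth.Agent.H26.FormalLift

/-- The square of a surjection and its extension to an algebra is a pushout. -/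
theorem isPushout_of_surjective {A A₀ B B₀ : CommRingCat.{u}} (π : A ⟶ A₀) (φ : A ⟶ B) (φ₀ : A₀ ⟶ B₀)
    (ρ : B ⟶ B₀) (w : π ≫ φ₀ = φ ≫ ρ) (hπ : Function.Surjective π) (hρ : Function.Surjective ρ)
    (hker : RingHom.ker ρ.hom = (RingHom.ker π.hom).map φ.hom) : IsPushout π φ φ₀ ρ := by
  refine IsPushout.of_isColimit' ⟨w⟩ (PushoutCocone.IsColimit.mk w
    (fun s => CommRingCat.ofHom (RingHom.liftOfSurjective ρ.hom hρ ⟨s.inr.hom, ?_⟩)) ?_ ?_ ?_)
  · rw [hker, Ideal.map_le_iff_le_comap]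
    intro a ha
    have h := congrArg (fun f => f.hom a) s.condition
    rw [Ideal.mem_comap, RingHom.mem_ker]
    simp only [CommRingCat.hom_comp, RingHom.comp_apply] at h
    rw [← h, RingHom.mem_ker.1 ha, map_zero]
  · intro s
    ext x
    obtain ⟨a, rfl⟩ := hπ x
    have h1 := congrArg (fun f => f.hom a) s.condition
    have h2 := congrArg (fun f => f.hom a) w
    simp only [CommRingCat.hom_comp, RingHom.comp_apply] at h1 h2
    simp only [CommRingCat.hom_comp, RingHom.comp_apply, h2, CommRingCat.hom_ofHom]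
    rw [RingHom.liftOfRightInverse_comp_apply]
    exact h1.symm
  · intro s
    ext x
    simp only [CommRingCat.hom_comp, RingHom.comp_apply, CommRingCat.hom_ofHom]
    exact RingHom.liftOfRightInverse_comp_apply _ _ _ _ x
  · intro s m _ hm
    ext x
    obtain ⟨b, rfl⟩ := hρ x
    simp only [CommRingCat.hom_ofHom]
    rw [RingHom.liftOfRightInverse_comp_apply]
    exact congrArg (fun f => f.hom b) hm

/-- Affine charts: a morphism is, over an affine open, the spectrum of the map on sections. -/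
theorem isPullback_fromSpec {X Y : Scheme.{u}} (f : X ⟶ Y) [IsAffineHom f] (W : Y.Opens)
    (hW : IsAffineOpen W) :
    IsPullback (Spec.map (f.appLE W (f ⁻¹ᵁ W) le_rfl)) (hW.preimage f).fromSpec hW.fromSpec f :=
  IsOpenImmersion.isPullback _ _ _ _ (hW.SpecMap_appLE_fromSpec f (hW.preimage f) le_rfl).symm
    (by rw [hW.opensRange_fromSpec, (hW.preimage f).opensRange_fromSpec])

/-- A smooth affine lift of an affine open of a smooth scheme over a closed subscheme. -/
theorem exists_smooth_affine_lift {S Z Y : Scheme.{u}} (s : Z ⟶ S) [IsClosedImmersion s] (b : Y ⟶ Z)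
    [AlgebraicGeometry.Smooth b] (W : S.Opens) (hW : IsAffineOpen W) (V : Y.Opens) (hV : IsAffineOpen V)
    (hVW : V ≤ b ⁻¹ᵁ (s ⁻¹ᵁ W)) :
    ∃ (B : CommRingCat.{u}) (φ : Γ(S, W) ⟶ B) (j : (V : Scheme.{u}) ⟶ Spec B), φ.hom.Smooth ∧
      IsPullback j (V.ι ≫ b) (Spec.map φ ≫ hW.fromSpec) s := by
  have hW' : IsAffineOpen (s ⁻¹ᵁ W) := hW.preimage s
  let π : Γ(S, W) ⟶ Γ(Z, s ⁻¹ᵁ W) := s.appLE W (s ⁻¹ᵁ W) le_rfl
  have hπ : Function.Surjective π := by
    have h := s.app_surjective W hW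
    have e : π = s.app W := by simp [π, Scheme.Hom.appLE]
    rw [e]; exact h
  let φ₀ : Γ(Z, s ⁻¹ᵁ W) ⟶ Γ(Y, V) := b.appLE (s ⁻¹ᵁ W) V hVW
  have hφ₀ : φ₀.hom.Smooth := HasRingHomProperty.appLE (P := @AlgebraicGeometry.Smooth) b inferInstance
    ⟨_, hW'⟩ ⟨_, hV⟩ hVW
  let I : Ideal Γ(S, W) := RingHom.ker π.hom
  let e : (Γ(S, W) ⧸ I) ≃+* Γ(Z, s ⁻¹ᵁ W) := RingHom.quotientKerEquivOfSurjective hπ
  letI : Algebra Γ(S, W) Γ(Y, V) := (φ₀.hom.comp π.hom).toAlgebra
  letI : Algebra (Γ(S, W) ⧸ I) Γ(Y, V) := (φ₀.hom.comp e.toRingHom).toAlgebra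
  haveI : IsScalarTower Γ(S, W) (Γ(S, W) ⧸ I) Γ(Y, V) := IsScalarTower.of_algebraMap_eq fun x => by
    show φ₀.hom (π.hom x) = φ₀.hom (e (Ideal.Quotient.mk I x))
    rw [RingHom.quotientKerEquivOfSurjective_apply_mk]
  haveI : Algebra.Smooth (Γ(S, W) ⧸ I) Γ(Y, V) := by
    have h : (φ₀.hom.comp e.toRingHom).Smooth :=
      RingHom.Smooth.respectsIso.2 φ₀.hom e hφ₀
    exact h
  obtain ⟨R, _, _, hR, f, hf, hker⟩ := Hensel.exists_smooth_algebra_lift I (C := Γ(Y, V))
  let φ : Γ(S, W) ⟶ CommRingCat.of R := CommRingCat.ofHom (algebraMap Γ(S, W) R)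
  let ρ : CommRingCat.of R ⟶ Γ(Y, V) := CommRingCat.ofHom f.toRingHom
  have w : π ≫ φ₀ = φ ≫ ρ := by
    ext x
    exact (f.commutes x).symm
  have hp : IsPushout π φ φ₀ ρ := isPushout_of_surjective π φ φ₀ ρ w hπ hf hker
  have h1 : IsPullback (Spec.map ρ) (Spec.map φ₀) (Spec.map φ) (Spec.map π) :=
    (isPullback_SpecMap_of_isPushout _ _ _ _ hp.flip)
  have h2 := h1.paste_vert (isPullback_fromSpec s W hW)
  refine ⟨CommRingCat.of R, φ, hV.isoSpec.hom ≫ Spec.map ρ,
    RingHom.smooth_algebraMap.2 hR, ?_⟩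
  refine h2.of_iso hV.isoSpec.symm (Iso.refl _) (Iso.refl _) (Iso.refl _) ?_ ?_ (by simp) (by simp)
  · simp
  · simp only [Iso.refl_hom, Category.comp_id, Iso.symm_hom]
    rw [← Category.assoc, hV.isoSpec_inv_ι, hW'.SpecMap_appLE_fromSpec b hV hVW]

/-- Morphisms into a smooth affine scheme lift along thickenings of affine noetherian schemes. -/
theorem exists_lift_of_thickening {A B : CommRingCat.{u}} (φ : A ⟶ B) (hφ : φ.hom.FormallySmooth)
    {U U' : Scheme.{u}} [IsAffine U'] [IsNoetherianRing Γ(U', ⊤)] (t : U ⟶ U') [IsClosedImmersion t]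
    (ht : Function.Surjective t.base) (a : U ⟶ Spec B) (c : U' ⟶ Spec A) (w : t ≫ c = a ≫ Spec.map φ) :
    ∃ l : U' ⟶ Spec B, t ≫ l = a ∧ l ≫ Spec.map φ = c := by
  have hU : IsAffine U := isAffine_of_isAffineHom t
  have hsurj : Function.Surjective t.appTop.hom := t.app_surjective ⊤ (isAffineOpen_top U')
  obtain ⟨a', ha⟩ := Spec.map_surjective (U.isoSpec.inv ≫ a)
  obtain ⟨c', hc⟩ := Spec.map_surjective (U'.isoSpec.inv ≫ c)
  have e : φ ≫ a' = c' ≫ t.appTop := by
    apply Spec.map_injective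
    rw [Spec.map_comp, Spec.map_comp, ha, hc, Category.assoc, ← w, Scheme.isoSpec_inv_naturality_assoc]
  have hnil : IsNilpotent (RingHom.ker t.appTop.hom) := by
    obtain ⟨n, hn⟩ := IsNoetherianRing.isNilpotent_nilradical Γ(U', ⊤)
    refine ⟨n, le_bot_iff.1 (le_trans (Ideal.pow_right_mono ?_ n) hn.le)⟩
    have hs : Function.Surjective (PrimeSpectrum.comap t.appTop.hom) := by
      have h : Surjective (Spec.map t.appTop) := by
        haveI : Surjective t := ⟨ht⟩
        have : Spec.map t.appTop = U.isoSpec.inv ≫ t ≫ U'.isoSpec.hom := by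
          rw [← Scheme.isoSpec_hom_naturality, Iso.inv_hom_id_assoc]
        rw [this]; infer_instance
      exact h.1
    intro x hx
    rw [mem_nilradical, nilpotent_iff_mem_prime]
    intro p hp
    obtain ⟨q, hq⟩ := hs ⟨p, hp⟩
    have : p = q.asIdeal.comap t.appTop.hom := (congrArg PrimeSpectrum.asIdeal hq).symm
    rw [this, Ideal.mem_comap, RingHom.mem_ker.1 hx]
    exact zero_mem _
  letI : Algebra A B := φ.hom.toAlgebra
  letI : Algebra A Γ(U', ⊤) := c'.hom.toAlgebra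
  letI : Algebra A Γ(U, ⊤) := (t.appTop.hom.comp c'.hom).toAlgebra
  haveI : Algebra.FormallySmooth A B := hφ
  let g : Γ(U', ⊤) →ₐ[A] Γ(U, ⊤) := { t.appTop.hom with commutes' := fun _ => rfl }
  let f : B →ₐ[A] Γ(U, ⊤) := { a'.hom with commutes' := fun r => congrArg (fun h => h.hom r) e }
  let l := Algebra.FormallySmooth.liftOfSurjective f g hsurj hnil
  have hl : g.comp l = f := Algebra.FormallySmooth.comp_liftOfSurjective f g hsurj hnil
  refine ⟨U'.isoSpec.hom ≫ Spec.map (CommRingCat.ofHom l.toRingHom), ?_, ?_⟩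
  · rw [← Scheme.isoSpec_hom_naturality_assoc, ← Spec.map_comp,
      show CommRingCat.ofHom l.toRingHom ≫ t.appTop = a' from
        CommRingCat.hom_ext (congrArg AlgHom.toRingHom hl), ha, Iso.hom_inv_id_assoc]
  · rw [Category.assoc, ← Spec.map_comp,
      show φ ≫ CommRingCat.ofHom l.toRingHom = c' from CommRingCat.hom_ext (RingHom.ext l.commutes), hc,
      Iso.hom_inv_id_assoc]

end Groth.Agent.H26.FormalLift
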