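import Groth.Agent.H26.Chain
import Groth.Agent.NQF.ModelConn
import Groth.Agent.S2431
import Groth.Agent.S0002
import Groth.Agent.QCoh.DevissageP

/-!
# A field of constants of the closed fibre comes from global functions
-/

universe u

open CategoryTheory CategoryTheory.Limits AlgebraicGeometry TopologicalSpace
open scoped TensorProduct

namespace Groth.Agent.H26.GcdOne

/-- An unramified finite ring map to a field whose self product has connected spectrum is surjective. -/
theorem surjective_of_connected {A K : Type u} [CommRing A] [Field K] [Algebra A K] [Module.Finite A K]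
    [Algebra.FormallyUnramified A K] [Algebra.FiniteType A K]
    (h : ConnectedSpace (PrimeSpectrum (K ⊗[A] K))) : Function.Surjective (algebraMap A K) := by
  haveI : IsArtinianRing (K ⊗[A] K) := IsArtinianRing.of_finite K (K ⊗[A] K)
  haveI : Subsingleton (PrimeSpectrum (K ⊗[A] K)) := PreconnectedSpace.trivial_of_discrete
  haveI : Nontrivial (K ⊗[A] K) := PrimeSpectrum.nonempty_iff_nontrivial.1 h.toNonempty
  haveI : Subsingleton (MaximalSpectrum (K ⊗[A] K)) := ⟨fun a b => MaximalSpectrum.ext
    (congrArg PrimeSpectrum.asIdeal (Subsingleton.elim a.toPrimeSpectrum b.toPrimeSpectrum) :)⟩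
  haveI : IsLocalRing (K ⊗[A] K) := IsLocalRing.of_singleton_maximalSpectrum
  obtain ⟨e, he, hek⟩ := (Ideal.isIdempotentElem_iff_of_fg _
    (KaehlerDifferential.ideal_fg A K)).1 ((Ideal.cotangent_subsingleton_iff _).1 (inferInstanceAs (Subsingleton Ω[K⁄A])))
  have hker : KaehlerDifferential.ideal A K = ⊥ := by
    rw [hek, Ideal.submodule_span_eq, Ideal.span_singleton_eq_bot]
    rcases IsLocalRing.isUnit_or_isUnit_one_sub_self e with hu | hu
    · exfalso
      have h1 : KaehlerDifferential.ideal A K = ⊤ := by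
        rw [hek, Ideal.submodule_span_eq]
        exact Ideal.span_singleton_eq_top.2 hu
      have h2 : (1 : K ⊗[A] K) ∈ KaehlerDifferential.ideal A K := h1 ▸ Submodule.mem_top
      simp [KaehlerDifferential.ideal, RingHom.mem_ker] at h2
    · obtain ⟨v, hv⟩ := hu
      have hee : e * (1 - e) = 0 := by rw [mul_sub, mul_one, he.eq, sub_self]
      exact (Units.mul_left_eq_zero v).1 (by rw [hv]; exact hee)
  have hepi : Algebra.IsEpi A K := by
    refine ⟨fun a b hab => ?_⟩
    have h1 : a - b ∈ KaehlerDifferential.ideal A K := by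
      rw [KaehlerDifferential.ideal, RingHom.mem_ker, map_sub, sub_eq_zero]
      exact hab
    rw [hker, Ideal.mem_bot, sub_eq_zero] at h1
    exact h1
  exact (Algebra.isEpi_iff_surjective_algebraMap_of_finite).1 hepi

variable {R : Type u} [CommRing R] [IsDomain R] [IsDiscreteValuationRing R]

theorem finite_appTop (X : Over (Spec (CommRingCat.of R))) [IsProper X.hom] :
    (X.hom.appTop.hom.comp (Scheme.ΓSpecIso (CommRingCat.of R)).inv.hom).Finite := by
  let W := X.left
  letI : W.Over (Spec (CommRingCat.of R)) := ⟨X.hom⟩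
  haveI : IsProper (W ↘ Spec (CommRingCat.of R)) := ‹IsProper X.hom›
  haveI : IsLocallyNoetherian W := LocallyOfFiniteType.isLocallyNoetherian X.hom
  haveI hH : Module.Finite R (Coh.HH W (Coh.structureModule W) 0) :=
    Groth.Agent.S0002.result R W _ Groth.Agent.QCoh.isCoh_structureModule' 0
  let ρ := X.hom.appTop.hom.comp (Scheme.ΓSpecIso (CommRingCat.of R)).inv.hom
  letI : Algebra R Γ(W, ⊤) := ρ.toAlgebra
  let e : Coh.HH W (Coh.structureModule W) 0 ≃+ Γ(W, ⊤) :=
    Sheaf.H.equiv₀ (Coh.toAb (Coh.structureModule W)) isTerminalTop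
  have he : ∀ (r : Coh.Γtop W) (x : Coh.HH W (Coh.structureModule W) 0),
      e (r • x) = (show Γ(W, ⊤) from r) * e x := by
    intro r x
    have h := (Sheaf.H.equiv₀_naturality isTerminalTop (Coh.smulAb (Coh.structureModule W) r) x).symm
    refine (show e (r • x) = _ from h).trans ?_
    show (show Γ(W, ⊤) from Coh.resTop W (Opposite.op ⊤) r) * e x = _
    congr 1
    show (W.presheaf.map (homOfLE le_top).op).hom r = r
    rw [show (homOfLE le_top).op = 𝟙 (Opposite.op (⊤ : W.Opens)) from rfl, W.presheaf.map_id]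
    rfl
  let eL : Coh.HH W (Coh.structureModule W) 0 ≃ₗ[R] Γ(W, ⊤) := { e with map_smul' := fun c x => he _ x }
  exact Module.Finite.equiv eL

variable (X : Over (Spec (CommRingCat.of R))) [IsProper X.hom] [PerfectField (IsLocalRing.ResidueField R)]

/-- If the functions on the closed fibre form a field, they all come from functions on `X`. -/
theorem surjective_appTop (hne : (Models.specialFibreSet R X).Nonempty)
    (hFld : Chain.Fld (Models.specialFibreIdeal R X)) :
    Function.Surjective (Models.specialFibreIdeal R X).subschemeι.appTop.hom := by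
  classical
  let J := Models.specialFibreIdeal R X
  let W := J.subscheme
  let ι := J.subschemeι
  have hsupp : Set.range ι = Models.specialFibreSet R X := by
    show Set.range J.subschemeι = _
    rw [Scheme.IdealSheafData.range_subschemeι]
    show ((Models.specialFibreIdeal R X).support : Set X.left) = _
    rw [Models.specialFibreIdeal, Scheme.IdealSheafData.support_comap]
    have hc : ((Curv2.idealSheaf R (IsLocalRing.maximalIdeal R)).support : Set (Spec (CommRingCat.of R))) =
        {IsLocalRing.closedPoint R} := by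
      rw [Curv2.idealSheaf, Scheme.IdealSheafData.coe_support_ofIdealTop, Spec_zeroLocus]
      ext y
      refine (PrimeSpectrum.mem_zeroLocus _ _).trans ⟨fun h => ?_, fun h r hr => ?_⟩
      · refine PrimeSpectrum.ext (le_antisymm (IsLocalRing.le_maximalIdeal (y : PrimeSpectrum R).isPrime.ne_top) ?_)
        intro r hr
        exact h (Ideal.mem_map_of_mem (Scheme.ΓSpecIso (CommRingCat.of R)).inv.hom hr)
      · obtain ⟨b, hb, hbr⟩ := (Ideal.mem_map_iff_of_surjective _
          (Scheme.ΓSpecIso (CommRingCat.of R)).symm.commRingCatIsoToRingEquiv.surjective).1 hr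
        rw [show y = IsLocalRing.closedPoint R from h]
        exact (Scheme.ΓSpecIso (CommRingCat.of R)).symm.commRingCatIsoToRingEquiv.injective hbr ▸ hb
    rw [TopologicalSpace.Closeds.coe_preimage, hc]
    rfl
  haveI : Nonempty W := by
    obtain ⟨x, hx⟩ := hne
    rw [← hsupp] at hx
    exact ⟨hx.choose⟩
  obtain ⟨hfield, hfin⟩ := hFld
  letI : Field Γ(W, ⊤) := hfield.toField
  let ρA := X.hom.appTop.hom.comp (Scheme.ΓSpecIso (CommRingCat.of R)).inv.hom
  letI : Algebra R Γ(X.left, ⊤) := ρA.toAlgebra
  letI : Algebra R Γ(W, ⊤) := (Chain.rho X J).toAlgebra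
  letI : Algebra Γ(X.left, ⊤) Γ(W, ⊤) := ι.appTop.hom.toAlgebra
  haveI : IsScalarTower R Γ(X.left, ⊤) Γ(W, ⊤) := IsScalarTower.of_algebraMap_eq fun r => by
    show (ι ≫ X.hom).appTop _ = ι.appTop (X.hom.appTop _)
    rw [Scheme.Hom.comp_appTop]
    rfl
  haveI : Module.Finite R Γ(W, ⊤) := hfin
  haveI : Module.Finite R Γ(X.left, ⊤) := finite_appTop X
  haveI : Module.Finite Γ(X.left, ⊤) Γ(W, ⊤) := Module.Finite.of_restrictScalars_finite R _ _
  -- the uniformizer dies on the fibre
  have hkill : IsLocalRing.maximalIdeal R ≤ RingHom.ker (algebraMap R Γ(W, ⊤)) := fun r hr => by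
    have hw : ∀ w : W, ι w ∈ Models.specialFibreSet R X := fun w => hsupp ▸ ⟨w, rfl⟩
    by_contra hc
    have hu : IsUnit (Chain.rho X J r) := isUnit_iff_ne_zero.2 hc
    obtain ⟨w⟩ := ‹Nonempty W›
    have h1 : w ∈ W.basicOpen ((ι ≫ X.hom).appTop ((Scheme.ΓSpecIso (CommRingCat.of R)).inv r)) :=
      (W.basicOpen_of_isUnit hu).ge trivial
    rw [← Scheme.preimage_basicOpen_top] at h1
    have h2 : (ι ≫ X.hom) w = IsLocalRing.closedPoint R := hw w
    rw [Scheme.Hom.mem_preimage, h2, basicOpen_eq_of_affine'] at h1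
    exact h1 (by simpa [IsLocalRing.closedPoint] using hr)
  haveI : Algebra.FormallyUnramified R Γ(W, ⊤) := by
    let φ : IsLocalRing.ResidueField R →+* Γ(W, ⊤) :=
      Ideal.Quotient.lift _ (algebraMap R Γ(W, ⊤)) hkill
    letI := φ.toAlgebra
    haveI : IsScalarTower R (IsLocalRing.ResidueField R) Γ(W, ⊤) := IsScalarTower.of_algebraMap_eq fun _ => rfl
    haveI : Module.Finite (IsLocalRing.ResidueField R) Γ(W, ⊤) := Module.Finite.of_restrictScalars_finite R _ _
    haveI : Algebra.FormallyUnramified R (IsLocalRing.ResidueField R) :=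
      Algebra.FormallyUnramified.of_surjective (Algebra.ofId R _) IsLocalRing.residue_surjective
    haveI : Algebra.IsSeparable (IsLocalRing.ResidueField R) Γ(W, ⊤) :=
      Algebra.IsAlgebraic.isSeparable_of_perfectField
    haveI : Algebra.FormallyUnramified (IsLocalRing.ResidueField R) Γ(W, ⊤) :=
      Algebra.FormallyUnramified.of_isSeparable _ _
    exact Algebra.FormallyUnramified.comp R (IsLocalRing.ResidueField R) Γ(W, ⊤)
  haveI : Algebra.FormallyUnramified Γ(X.left, ⊤) Γ(W, ⊤) :=
    Algebra.FormallyUnramified.of_restrictScalars R _ _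
  refine surjective_of_connected (A := Γ(X.left, ⊤)) (K := Γ(W, ⊤)) ?_
  -- the morphism to the spectrum of the global functions
  let g := X.left.toSpecΓ
  haveI : CompactSpace X.left := QuasiCompact.compactSpace_of_compactSpace X.hom
  haveI : QuasiSeparatedSpace X.left := quasiSeparatedSpace_of_quasiSeparated X.hom
  have hgw : g ≫ Spec.map (CommRingCat.ofHom ρA) = X.hom := by
    rw [show CommRingCat.ofHom ρA = (Scheme.ΓSpecIso (CommRingCat.of R)).inv ≫ X.hom.appTop from rfl,
      Spec.map_comp, ← Scheme.toSpecΓ_naturality_assoc, ← SpecMap_ΓSpecIso_hom, ← Spec.map_comp,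
      Iso.inv_hom_id, Spec.map_id, Category.comp_id]
  haveI : IsProper g := by
    haveI : IsProper (g ≫ Spec.map (CommRingCat.ofHom ρA)) := by rw [hgw]; infer_instance
    exact IsProper.of_comp g (Spec.map (CommRingCat.ofHom ρA))
  haveI : IsNoetherianRing Γ(X.left, ⊤) := IsNoetherianRing.of_finite R _
  haveI : IsLocallyNoetherian (Spec Γ(X.left, ⊤)) := inferInstance
  have hconn := (Groth.Agent.S2431.result g (Groth.Agent.ModelConn.isIso_app_of_appTop g (by
    show Function.Bijective g.appTop
    rw [Scheme.toSpecΓ_appTop]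
    exact ConcreteCategory.bijective_of_isIso _))).2
  let σ : Spec Γ(W, ⊤) ⟶ Spec Γ(X.left, ⊤) := Spec.map ι.appTop
  haveI : ConnectedSpace ↥(pullback g σ) := by
    have h := hconn.geometrically_connectedSpace
    exact h (K := Γ(W, ⊤)) σ (pullback.fst g σ) (pullback.snd g σ) (IsPullback.of_hasPullback g σ)
  let q := pullback.fst g σ
  let t := pullback.snd ι q
  have ht : Function.Surjective t := by
    intro z
    have hz : q z ∈ Models.specialFibreSet R X := by
      show X.hom (q z) = IsLocalRing.closedPoint R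
      rw [← hgw]
      show Spec.map (CommRingCat.ofHom ρA) ((q ≫ g) z) = _
      rw [pullback.condition]
      refine PrimeSpectrum.ext (((IsLocalRing.maximalIdeal.isMaximal R).eq_of_le
        (Ideal.IsPrime.comap _ (hK := ((σ ((pullback.snd g σ) z)) : PrimeSpectrum Γ(X.left, ⊤)).isPrime)).ne_top ?_).symm)
      intro r hr
      show ι.appTop (ρA r) ∈ (((pullback.snd g σ) z) : PrimeSpectrum Γ(W, ⊤)).asIdeal
      rw [show ι.appTop (ρA r) = algebraMap R Γ(W, ⊤) r from
        (IsScalarTower.algebraMap_apply R Γ(X.left, ⊤) Γ(W, ⊤) r).symm, RingHom.mem_ker.1 (hkill hr)]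
      exact zero_mem _
    rw [← hsupp] at hz
    obtain ⟨w, hw⟩ := hz
    obtain ⟨v, -, hv⟩ := Scheme.Pullback.exists_preimage_pullback w z (f := ι) (g := q) hw
    exact ⟨v, hv⟩
  haveI : IsClosedImmersion t := inferInstanceAs (IsClosedImmersion (pullback.snd ι q))
  haveI : ConnectedSpace ↥(pullback ι q) :=
    (Homeomorph.symm (t.isEmbedding.toHomeomorphOfSurjective ht)).surjective.connectedSpace
      (Homeomorph.symm (t.isEmbedding.toHomeomorphOfSurjective ht)).continuous
  let τ : W ⟶ Spec Γ(W, ⊤) := W.toSpecΓ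
  haveI : Surjective τ := ⟨fun y => by
    obtain ⟨w⟩ := ‹Nonempty W›
    exact ⟨w, Subsingleton.elim (α := PrimeSpectrum Γ(W, ⊤)) _ _⟩⟩
  have hτ : τ ≫ σ = ι ≫ g := (Scheme.toSpecΓ_naturality ι).symm
  let m : pullback ι q ⟶ pullback σ σ :=
    pullback.lift (pullback.fst ι q ≫ τ) (t ≫ pullback.snd g σ) (by
      rw [Category.assoc, hτ, ← Category.assoc, pullback.condition, Category.assoc, pullback.condition]
      simp [t])
  have big : IsPullback (pullback.fst ι q) (t ≫ pullback.snd g σ) (τ ≫ σ) σ := by
    rw [hτ]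
    exact (IsPullback.of_hasPullback ι q).paste_vert (IsPullback.of_hasPullback g σ)
  have hm : IsPullback (pullback.fst ι q) m τ (pullback.fst σ σ) := by
    refine IsPullback.of_bot ?_ (pullback.lift_fst _ _ _).symm (IsPullback.of_hasPullback σ σ)
    rw [show m ≫ pullback.snd σ σ = t ≫ pullback.snd g σ from pullback.lift_snd _ _ _]
    exact big
  haveI : Surjective m := MorphismProperty.of_isPullback hm ‹Surjective τ›
  haveI : ConnectedSpace ↥(pullback σ σ) := m.surjective.connectedSpace m.continuous
  let e : pullback σ σ ≅ Spec (CommRingCat.of (Γ(W, ⊤) ⊗[Γ(X.left, ⊤)] Γ(W, ⊤))) :=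
    pullbackSpecIso Γ(X.left, ⊤) Γ(W, ⊤) Γ(W, ⊤)
  exact e.hom.homeomorph.surjective.connectedSpace e.hom.homeomorph.continuous

end Groth.Agent.H26.GcdOne
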