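import Mathlib.RingTheory.DiscreteValuationRing.TFAE
import Mathlib.RingTheory.TensorProduct.Basic
import Mathlib.FieldTheory.Separable
import Mathlib.RingTheory.Localization.FractionRing
import Mathlib.RingTheory.IntegralClosure.IsIntegralClosure.Basic
import Mathlib.RingTheory.Algebraic.Integral

/-!
# A domain `B ⊗ L` with `L` algebraic over the fraction field is a field
-/

set_option autoImplicit false

universe u

open scoped TensorProduct

namespace Groth.Agent.H26.TensorField

theorem isField_tensor {R : Type u} [CommRing R] [IsDomain R] [IsDiscreteValuationRing R]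
    (B : Type u) [CommRing B] [IsDomain B] [IsDiscreteValuationRing B] [Algebra R B]
    (hinj : Function.Injective (algebraMap R B))
    (hm : IsLocalRing.maximalIdeal B = (IsLocalRing.maximalIdeal R).map (algebraMap R B))
    (L : Type u) [Field L] [Algebra R L] (hL : Function.Injective (algebraMap R L))
    [Algebra.IsAlgebraic R L] [IsDomain (B ⊗[R] L)] : IsField (B ⊗[R] L) := by
  let K := FractionRing R
  let φ : K →+* L := IsFractionRing.lift hL
  letI : Algebra K L := φ.toAlgebra
  haveI : IsScalarTower R K L := IsScalarTower.of_algebraMap_eq fun r => (IsFractionRing.lift_algebraMap hL r).symm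
  haveI : Algebra.IsAlgebraic K L := (IsFractionRing.comap_isAlgebraic_iff (A := R) (K := K) (C := L)).1 ‹_›
  let D := B ⊗[R] L
  let jL : L →+* D := (Algebra.TensorProduct.includeRight : L →ₐ[R] D).toRingHom
  let jB : B →+* D := Algebra.TensorProduct.includeLeftRingHom
  have hj : ∀ r : R, jL (algebraMap R L r) = jB (algebraMap R B r) := fun r => by
    show (1 : B) ⊗ₜ[R] algebraMap R L r = algebraMap R B r ⊗ₜ[R] (1 : L)
    rw [Algebra.algebraMap_eq_smul_one, Algebra.algebraMap_eq_smul_one, TensorProduct.smul_tmul]
  obtain ⟨ϖ, hirr⟩ := IsDiscreteValuationRing.exists_irreducible R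
  rw [hirr.maximalIdeal_eq, Ideal.map_span, Set.image_singleton] at hm
  have hirrB : Irreducible (algebraMap R B ϖ) := (IsDiscreteValuationRing.irreducible_iff_uniformizer _).2 hm
  have hunit : ∀ b : B, b ≠ 0 → IsUnit (jB b) := fun b hb => by
    obtain ⟨n, v, rfl⟩ := IsDiscreteValuationRing.eq_unit_mul_pow_irreducible hb hirrB
    rw [map_mul, map_pow, ← hj]
    exact (v.isUnit.map jB).mul (((Ne.isUnit ((map_ne_zero_iff _ hL).2 hirr.ne_zero)).map jL).pow n)
  let T := FractionRing B
  let jT : T →+* D := IsLocalization.lift (M := nonZeroDivisors B) (g := jB)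
    fun y => hunit _ (nonZeroDivisors.ne_zero y.2)
  letI : Algebra T D := jT.toAlgebra
  haveI : Algebra.IsIntegral T D := by
    refine ⟨fun z => ?_⟩
    induction z using TensorProduct.induction_on with
    | zero => exact isIntegral_zero
    | tmul b l =>
      rw [show b ⊗ₜ[R] l = jB b * jL l by
        show _ = (b ⊗ₜ[R] (1 : L)) * ((1 : B) ⊗ₜ[R] l)
        rw [Algebra.TensorProduct.tmul_mul_tmul, mul_one, one_mul]]
      refine IsIntegral.mul ?_ ?_
      · rw [← show jT (algebraMap B T b) = jB b from IsLocalization.lift_eq _ _]
        exact isIntegral_algebraMap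
      · obtain ⟨p, hp, hpl⟩ := (Algebra.IsIntegral.isIntegral (R := K) l : IsIntegral K l)
        have hψ : Function.Injective ((algebraMap B T).comp (algebraMap R B)) :=
          (IsFractionRing.injective B T).comp hinj
        let ψ : K →+* T := IsFractionRing.lift hψ
        have hc : jT.comp ψ = jL.comp (algebraMap K L) := IsLocalization.ringHom_ext (nonZeroDivisors R)
          (RingHom.ext fun r => by
            show jT (ψ (algebraMap R K r)) = jL (algebraMap K L (algebraMap R K r))
            rw [IsFractionRing.lift_algebraMap, ← IsScalarTower.algebraMap_apply, hj]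
            exact IsLocalization.lift_eq _ _)
        refine ⟨p.map ψ, hp.map ψ, ?_⟩
        show (p.map ψ).eval₂ jT (jL l) = 0
        rw [Polynomial.eval₂_map, hc, ← Polynomial.hom_eval₂, hpl, map_zero]
    | add a b ha hb => exact ha.add hb
  exact isField_of_isIntegral_of_isField' (R := T) (Field.toIsField T)

end Groth.Agent.H26.TensorField
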