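import Groth.Agent.H26.GeomGenericCurve
import Groth.Agent.H26.TensorField
import Groth.Agent.S17018

/-!
# Generic geometric irreducibility, in the form `B ⊗ L` is a field
-/

set_option autoImplicit false

universe u

open CategoryTheory CategoryTheory.Limits AlgebraicGeometry
open scoped TensorProduct

namespace Groth.Agent.H26.GenericFieldTensor

variable (R : Type u) [CommRing R] [IsDomain R] [IsDiscreteValuationRing R]
    [IsAlgClosed (IsLocalRing.ResidueField R)]
    (X : Scheme.{u}) (f : X ⟶ Spec (CommRingCat.of R)) [IsProper f] [Flat f]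
    (XK : Scheme.{u}) (gK : XK ⟶ X) (fK : XK ⟶ Spec (CommRingCat.of (FractionRing R)))
    (hK : IsPullback gK fK f (Spec.map (CommRingCat.ofHom (algebraMap R (FractionRing R)))))
    [SmoothOfRelativeDimension 1 fK]
    (Xs : Scheme.{u}) (gs : Xs ⟶ X) (fs : Xs ⟶ Spec (CommRingCat.of (IsLocalRing.ResidueField R)))
    (hs : IsPullback gs fs f (Spec.map (CommRingCat.ofHom (IsLocalRing.residue R))))
    [ConnectedSpace Xs] [IsReduced Xs]

include hK hs in
theorem isField_tensor (x : X) (B : Type u) [CommRing B] [IsDomain B] [IsDiscreteValuationRing B] [Algebra R B]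
    (e : X.presheaf.stalk x ≅ CommRingCat.of B)
    (he : e.hom.hom.comp ((X.presheaf.germ ⊤ x trivial).hom.comp (Coh.toGlobal f)) = algebraMap R B)
    (hm : IsLocalRing.maximalIdeal B = (IsLocalRing.maximalIdeal R).map (algebraMap R B))
    (L : Type u) [Field L] [Algebra R L] (hL : Function.Injective (algebraMap R L))
    [Algebra.IsAlgebraic R L] : IsField (B ⊗[R] L) := by
  have hinjB := GeomGenericCurve.algebraMap_injective f x B e he
  haveI := GeomGenericCurve.nontrivial_tensor hinjB L hL
  haveI : IsDomain (B ⊗[R] L) := GeomGeneric.isDomain_tensor_stalk f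
    (GeomGenericCurve.isIntegral_generic f gK fK hK gs fs hs L (IsFractionRing.lift hL)
      (RingHom.ext fun r => IsFractionRing.lift_algebraMap hL r)) x B e he
  exact TensorField.isField_tensor B hinjB hm L hL

end Groth.Agent.H26.GenericFieldTensor
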