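import Groth.Agent.H26.FibreQuot
import Mathlib.RingTheory.Localization.BaseChange
import Mathlib.AlgebraicGeometry.Pullbacks

/-!
# Local rings of a scheme with integral generic geometric fibre, tensored with a field
-/

set_option autoImplicit false

universe u

open CategoryTheory CategoryTheory.Limits AlgebraicGeometry TopologicalSpace
open scoped TensorProduct

namespace Groth.Agent.H26.GeomGeneric

variable {R : Type u} [CommRing R] {X : Scheme.{u}} (f : X ⟶ Spec (CommRingCat.of R))

theorem toGlobal_res (U : X.Opens) (r : R) :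
    X.presheaf.map (homOfLE (le_top : U ≤ ⊤)).op (Coh.toGlobal f r) =
      f.appLE ⊤ U le_top ((Scheme.ΓSpecIso (CommRingCat.of R)).inv r) := rfl

variable {L : Type u} [Field L] [Algebra R L]

theorem isDomain_tensor_stalk
    (hint : IsIntegral (pullback f (Spec.map (CommRingCat.ofHom (algebraMap R L))))) (x : X)
    (B : Type u) [CommRing B] [Algebra R B] (e : X.presheaf.stalk x ≅ CommRingCat.of B)
    (he : e.hom.hom.comp ((X.presheaf.germ ⊤ x trivial).hom.comp (Coh.toGlobal f)) = algebraMap R B)
    [Nontrivial (B ⊗[R] L)] : IsDomain (B ⊗[R] L) := by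
  haveI := hint
  obtain ⟨U, hU, hxU, -⟩ := exists_isAffineOpen_mem_and_subset (U := (⊤ : X.Opens)) (show x ∈ (⊤ : X.Opens) from trivial)
  let C : Type u := Γ(X, U)
  let φ : R →+* C := (f.appLE ⊤ U le_top).hom.comp (Scheme.ΓSpecIso (CommRingCat.of R)).inv.hom
  letI : Algebra R C := φ.toAlgebra
  let γ : C →+* B := e.hom.hom.comp (X.presheaf.germ U x hxU).hom
  letI : Algebra C B := γ.toAlgebra
  haveI : IsScalarTower R C B := IsScalarTower.of_algebraMap_eq fun r => by
    rw [← he]
    show e.hom (X.presheaf.germ ⊤ x trivial (Coh.toGlobal f r)) = e.hom (X.presheaf.germ U x hxU (φ r))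
    rw [show φ r = X.presheaf.map (homOfLE (le_top : U ≤ ⊤)).op (Coh.toGlobal f r) from rfl,
      TopCat.Presheaf.germ_res_apply]
  let S := (hU.primeIdealOf ⟨x, hxU⟩).asIdeal.primeCompl
  haveI : IsLocalization S B := by
    letI : Algebra C (X.presheaf.stalk x) := X.presheaf.algebra_section_stalk (⟨x, hxU⟩ : U)
    haveI : IsLocalization S (X.presheaf.stalk x) := hU.isLocalization_stalk ⟨x, hxU⟩
    exact IsLocalization.isLocalization_of_algEquiv S
      ({ e.commRingCatIsoToRingEquiv with commutes' := fun c => rfl } : X.presheaf.stalk x ≃ₐ[C] B)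
  -- the affine piece of the base change is integral
  let j : Spec (CommRingCat.of C) ⟶ X := hU.fromSpec
  have hj : j ≫ f = Spec.map (CommRingCat.ofHom (algebraMap R C)) := by
    have h := IsAffineOpen.SpecMap_appLE_fromSpec f (isAffineOpen_top _) hU (le_top : U ≤ f ⁻¹ᵁ ⊤)
    rw [IsAffineOpen.fromSpec_top, Scheme.isoSpec_Spec_inv, ← Spec.map_comp] at h
    exact h.symm
  let t := Spec.map (CommRingCat.ofHom (algebraMap R L))
  let m : pullback (Spec.map (CommRingCat.ofHom (algebraMap R C))) t ⟶ pullback f t :=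
    pullback.map _ _ _ _ j (𝟙 _) (𝟙 _) (by rw [Category.comp_id, hj]) (by simp)
  haveI : IsOpenImmersion m := inferInstanceAs (IsOpenImmersion (pullback.map _ _ _ _ _ _ _ _ _))
  let m' : Spec (CommRingCat.of (C ⊗[R] L)) ⟶ pullback f t := (pullbackSpecIso R C L).inv ≫ m
  -- the localisation
  let g : C ⊗[R] L →ₗ[C] B ⊗[R] L := TensorProduct.AlgebraTensorModule.rTensor R L (Algebra.linearMap C B)
  haveI : IsLocalizedModule S (Algebra.linearMap C B) :=
    (isLocalizedModule_iff_isLocalization' S B).2 inferInstance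
  haveI : IsLocalizedModule S g :=
    IsLocalizedModule.rTensor (R := R) (A := C) (S := S) (N := L) (Algebra.linearMap C B)
  let G : C ⊗[R] L →ₐ[R] B ⊗[R] L :=
    Algebra.TensorProduct.map (IsScalarTower.toAlgHom R C B) (AlgHom.id R L)
  have hG : ∀ z, g z = G z := fun z => by
    induction z using TensorProduct.induction_on with
    | zero => simp
    | tmul a b => rfl
    | add a b ha hb => rw [map_add, map_add, ha, hb]
  haveI : Nontrivial (C ⊗[R] L) := G.toRingHom.domain_nontrivial
  haveI : Nonempty (Spec (CommRingCat.of (C ⊗[R] L))) := inferInstanceAs (Nonempty (PrimeSpectrum (C ⊗[R] L)))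
  haveI : IsIntegral (Spec (CommRingCat.of (C ⊗[R] L))) := isIntegral_of_isOpenImmersion m'
  haveI : IsDomain (C ⊗[R] L) := (affine_isIntegral_iff (CommRingCat.of (C ⊗[R] L))).1 inferInstance
  have hunit : ∀ (s : S) (z : B ⊗[R] L), (s : C) • z = 0 → z = 0 := fun s z hz =>
    (IsUnit.smul_eq_zero ((IsLocalization.map_units B s).map (Algebra.lmul C B))).1 (by
      exact hz) |> id
  haveI : NoZeroDivisors (B ⊗[R] L) := by
    refine ⟨fun {z w} hzw => ?_⟩
    obtain ⟨⟨z₀, s⟩, hs⟩ := IsLocalizedModule.surj S g z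
    obtain ⟨⟨w₀, t'⟩, ht⟩ := IsLocalizedModule.surj S g w
    have h1 : g (z₀ * w₀) = 0 := by
      rw [hG, map_mul, ← hG, ← hG, ← hs, ← ht]
      show ((s : C) • z) * ((t' : C) • w) = 0
      rw [smul_mul_smul_comm, hzw, smul_zero]
    obtain ⟨c, hc⟩ := (IsLocalizedModule.eq_iff_exists S g).1 (h1.trans g.map_zero.symm)
    have h2 : (c : C) • (z₀ * w₀) = 0 := by simpa [Submonoid.smul_def] using hc
    rw [Algebra.smul_def] at h2
    have hc0 : algebraMap C (C ⊗[R] L) c ≠ 0 := fun h0 => by
      have h3 : g ((c : C) • 1) = 0 := by rw [Algebra.smul_def, h0, zero_mul, map_zero]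
      rw [map_smul] at h3
      have h4 := hunit c _ h3
      rw [hG, map_one] at h4
      exact one_ne_zero h4
    rcases mul_eq_zero.1 ((mul_eq_zero.1 h2).resolve_left hc0) with h | h
    · refine Or.inl (hunit s z ?_)
      have : g z₀ = 0 := by rw [h, map_zero]
      rw [← this, ← hs]; rfl
    · refine Or.inr (hunit t' w ?_)
      have : g w₀ = 0 := by rw [h, map_zero]
      rw [← this, ← ht]; rfl
  exact NoZeroDivisors.to_isDomain _

end Groth.Agent.H26.GeomGeneric
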