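import Groth.Agent.H26.GeomGeneric
import Groth.Agent.H26.FibreConst
import Groth.Agent.S2431
import Groth.Agent.NQF.ModelConn
import Groth.Agent.GrpSchLib.SmoothReduced
import Groth.Agent.GrpSchLib.SmoothRegular
import Groth.Agent.RegLoc6.Basic
import Groth.Agent.H23.FinCondSch
import Mathlib.AlgebraicGeometry.Morphisms.Smooth
import Mathlib.RingTheory.Flat.Basic

/-!
# The generic geometric fibre of a curve over a discrete valuation ring with connected reduced closed fibre
-/

set_option autoImplicit false

universe u

open CategoryTheory CategoryTheory.Limits AlgebraicGeometry TopologicalSpace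
open scoped TensorProduct

namespace Groth.Agent.H26.GeomGenericCurve

variable {R : Type u} [CommRing R] [IsDomain R] [IsDiscreteValuationRing R] {X : Scheme.{u}}
  (f : X ⟶ Spec (CommRingCat.of R)) [IsProper f] [Flat f]

theorem isIntegral_generic [IsAlgClosed (IsLocalRing.ResidueField R)]
    {XK : Scheme.{u}} (gK : XK ⟶ X) (fK : XK ⟶ Spec (CommRingCat.of (FractionRing R)))
    (hK : IsPullback gK fK f (Spec.map (CommRingCat.ofHom (algebraMap R (FractionRing R)))))
    [SmoothOfRelativeDimension 1 fK]
    {Xs : Scheme.{u}} (gs : Xs ⟶ X) (fs : Xs ⟶ Spec (CommRingCat.of (IsLocalRing.ResidueField R)))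
    (hs : IsPullback gs fs f (Spec.map (CommRingCat.ofHom (IsLocalRing.residue R))))
    [ConnectedSpace Xs] [IsReduced Xs]
    (L : Type u) [Field L] [Algebra R L] (φ : FractionRing R →+* L)
    (hφ : φ.comp (algebraMap R (FractionRing R)) = algebraMap R L) :
    IsIntegral (pullback f (Spec.map (CommRingCat.ofHom (algebraMap R L)))) := by
  haveI : IsProper fs := MorphismProperty.of_isPullback hs ‹IsProper f›
  have hk := FibreConst.bijective_of_connected fs
  have hb := FibreConst.bijective_appTop f gs fs hs hk
  haveI : GeometricallyConnected f :=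
    (Groth.Agent.S2431.result f (Groth.Agent.ModelConn.isIso_app_of_appTop f hb)).2
  let Z := pullback f (Spec.map (CommRingCat.ofHom (algebraMap R L)))
  let z : Z ⟶ Spec (CommRingCat.of L) := pullback.snd _ _
  let u := Spec.map (CommRingCat.ofHom φ)
  have hu : u ≫ Spec.map (CommRingCat.ofHom (algebraMap R (FractionRing R))) =
      Spec.map (CommRingCat.ofHom (algebraMap R L)) := by
    rw [← Spec.map_comp, ← CommRingCat.ofHom_comp, hφ]
  let q : Z ⟶ XK := hK.lift (pullback.fst _ _) (z ≫ u) (by rw [Category.assoc, hu]; exact pullback.condition)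
  have hq : IsPullback q z fK u := by
    refine IsPullback.of_right ?_ (hK.lift_snd _ _ _) hK
    rw [hK.lift_fst, hu]
    exact IsPullback.of_hasPullback _ _
  haveI : Smooth fK := SmoothOfRelativeDimension.smooth 1 fK
  haveI : Smooth z := MorphismProperty.of_isPullback hq ‹Smooth fK›
  haveI : IsLocallyNoetherian Z := LocallyOfFiniteType.isLocallyNoetherian z
  haveI : GeometricallyConnected z := inferInstanceAs (GeometricallyConnected (pullback.snd _ _))
  haveI : Subsingleton (Spec (CommRingCat.of L)) := inferInstanceAs (Subsingleton (PrimeSpectrum L))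
  refine Groth.Agent.H23.FinCondSch.isIntegral_iff.mpr ⟨?_, fun w => ?_⟩
  · exact (GeometricallyConnected.eq_geometrically ▸ ‹GeometricallyConnected f› :
      geometrically (fun S : Scheme.{u} => ConnectedSpace S) f) (Spec.map (CommRingCat.ofHom (algebraMap R L))) _ z
        (IsPullback.of_hasPullback _ _)
  · haveI := Groth.Agent.GrpSchLib.isRegularLocalRing_stalk_of_smooth z w
    exact Groth.Agent.RegLoc6.isDomain_of_isRegularLocalRing _

theorem algebraMap_injective (x : X) (B : Type u) [CommRing B] [Algebra R B]
    (e : X.presheaf.stalk x ≅ CommRingCat.of B)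
    (he : e.hom.hom.comp ((X.presheaf.germ ⊤ x trivial).hom.comp (Coh.toGlobal f)) = algebraMap R B) :
    Function.Injective (algebraMap R B) := by
  refine (injective_iff_map_eq_zero _).2 fun r hr => ?_
  by_contra h0
  have h1 := FibreQuot.isSMulRegular_localMap f x h0
  have h2 : FibreQuot.localMap f x r = 0 := by
    apply (ConcreteCategory.bijective_of_isIso e.hom).1
    rw [map_zero]
    rw [← he] at hr
    exact hr
  rw [h2] at h1
  exact IsSMulRegular.not_zero h1

theorem nontrivial_tensor {B : Type u} [CommRing B] [Algebra R B]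
    (hinj : Function.Injective (algebraMap R B)) (L : Type u) [Field L] [Algebra R L]
    (hL : Function.Injective (algebraMap R L)) : Nontrivial (B ⊗[R] L) := by
  haveI : Module.IsTorsionFree R L := Module.isTorsionFree_iff_smul_eq_zero.2 fun c x h => by
    rw [Algebra.smul_def, mul_eq_zero, map_eq_zero_iff _ hL] at h
    exact h
  haveI : Module.Flat R L := inferInstance
  have h := Module.Flat.rTensor_preserves_injective_linearMap (M := L) (Algebra.linearMap R B) hinj
  refine ⟨LinearMap.rTensor L (Algebra.linearMap R B) ((1 : R) ⊗ₜ (1 : L)), 0, fun h0 => ?_⟩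
  have h1 := h (h0.trans (map_zero _).symm)
  have h2 := congrArg (TensorProduct.lid R L) h1
  simp at h2

end Groth.Agent.H26.GeomGenericCurve
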