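import Groth.Agent.H26.ChainFibre
import Groth.Agent.H26.VertApply
import Groth.Agent.H26.FibreQuot
import Groth.Agent.RegBlow6.Geometry

/-!
# Geometric multiplicities of the closed fibre
-/

universe u

open CategoryTheory CategoryTheory.Limits AlgebraicGeometry TopologicalSpace
open scoped TensorProduct

namespace Groth.Agent.H26.GeomMult

/-- Along a flat morphism lengths of local rings divide. -/
theorem toNat_dvd_of_flat {Y T : Scheme.{u}} (h : Y ⟶ T) [Flat h] (y : Y) :
    (Module.length (T.presheaf.stalk (h y)) (T.presheaf.stalk (h y))).toNat ∣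
      (Module.length (Y.presheaf.stalk y) (Y.presheaf.stalk y)).toNat := by
  letI : Algebra (T.presheaf.stalk (h y)) (Y.presheaf.stalk y) := (h.stalkMap y).hom.toAlgebra
  haveI : Module.Flat (T.presheaf.stalk (h y)) (Y.presheaf.stalk y) := Flat.stalkMap h y
  haveI : IsLocalHom (algebraMap (T.presheaf.stalk (h y)) (Y.presheaf.stalk y)) :=
    inferInstanceAs (IsLocalHom (h.stalkMap y).hom)
  rw [← (TensorProduct.AlgebraTensorModule.rid (T.presheaf.stalk (h y)) (Y.presheaf.stalk y) (Y.presheaf.stalk y)).length_eq,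
    IsLocalRing.length_baseChange (T.presheaf.stalk (h y)) (Y.presheaf.stalk y) (T.presheaf.stalk (h y)),
    ENat.toNat_mul]
  exact dvd_mul_right _ _

theorem flat_of_field {k : Type u} [Field k] {W : Scheme.{u}} (g : W ⟶ Spec (CommRingCat.of k)) : Flat g := by
  have : Subsingleton ↥(Spec (CommRingCat.of k)) := inferInstanceAs (Subsingleton (PrimeSpectrum k))
  infer_instance

theorem maximal_image {Y T : Scheme.{u}} (h : Y ⟶ T) [Flat h] (y : Y) (hy : ∀ z, z ⤳ y → z = y) :
    ∀ t, t ⤳ h y → t = h y := fun t ht => by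
  obtain ⟨z, hz, rfl⟩ := (Flat.generalizingMap h) ht
  rw [hy z hz]

variable {R : Type u} [CommRing R] [IsDomain R] [IsDiscreteValuationRing R] (X : Over (Spec (CommRingCat.of R)))

/-- The closed fibre. -/
noncomputable abbrev fib : Scheme.{u} := pullback X.hom (Spec.map (CommRingCat.ofHom (IsLocalRing.residue R)))

theorem mult_eq_length [Flat X.hom] [LocallyOfFiniteType X.hom] {n : ℕ} (Γ : Fin n → ArSurf.VertComp R X)
    (hΓ : Models.IsComponentList R X Γ) (η : fib X) (hη : ∀ z, z ⤳ η → z = η) :
    ∃ i, Models.mult R X (Γ i) = (Module.length ((fib X).presheaf.stalk η) ((fib X).presheaf.stalk η)).toNat := by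
  let i₀ := Spec.map (CommRingCat.ofHom (IsLocalRing.residue R))
  haveI : IsClosedImmersion i₀ :=
    IsClosedImmersion.spec_of_surjective _ (IsLocalRing.residue_surjective (R := R))
  let q : fib X ⟶ X.left := pullback.fst X.hom i₀
  haveI : IsClosedImmersion q := inferInstanceAs (IsClosedImmersion (pullback.fst X.hom i₀))
  have hrange : Set.range q = Models.specialFibreSet R X := by
    show Set.range (pullback.fst X.hom i₀) = _
    rw [Scheme.Pullback.range_fst]
    have : Set.range i₀ = {IsLocalRing.closedPoint R} := by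
      have ha : ∀ a, i₀ a = IsLocalRing.closedPoint R := fun a => by
        refine PrimeSpectrum.ext ?_
        show Ideal.comap (IsLocalRing.residue R) a.asIdeal = IsLocalRing.maximalIdeal R
        rw [(Ideal.eq_bot_or_top a.asIdeal).resolve_right a.isPrime.ne_top, ← RingHom.ker_eq_comap_bot,
          IsLocalRing.ker_residue]
      ext x
      exact ⟨fun ⟨a, ha'⟩ => ha'.symm.trans (ha a), fun hx =>
        ⟨(⟨⊥, Ideal.isPrime_bot⟩ : PrimeSpectrum (IsLocalRing.ResidueField R)), (ha _).trans hx.symm⟩⟩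
    rw [this]
    rfl
  obtain ⟨i, hi⟩ := FibreIdeal.exists_component_of_maximal X Γ hΓ (z := q η) (hrange ▸ ⟨η, rfl⟩) (fun w hw hwf => by
    rw [← hrange] at hwf
    obtain ⟨w, rfl⟩ := hwf
    rw [hη w (q.isEmbedding.isInducing.specializes_iff.1 hw)])
  refine ⟨i, ?_⟩
  have key : ∀ x : X.left, x = q η →
      Module.length (X.left.presheaf.stalk x) (X.left.presheaf.stalk x ⧸
        Ideal.map (Models.stalkHom R X x) (IsLocalRing.maximalIdeal R)) =
      Module.length ((fib X).presheaf.stalk η) ((fib X).presheaf.stalk η) := by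
    rintro x rfl
    have hker0 : RingHom.ker (q.stalkMap η).hom =
        Ideal.map (FibreQuot.localMap X.hom (q η)) (IsLocalRing.maximalIdeal R) :=
      FibreQuot.ker_stalkMap_residue X.hom η
    have hsh : Models.stalkHom R X (q η) = FibreQuot.localMap X.hom (q η) := rfl
    have hker : RingHom.ker (q.stalkMap η).hom =
        Ideal.map (Models.stalkHom R X (q η)) (IsLocalRing.maximalIdeal R) := by rw [hsh]; exact hker0
    let ψ : (X.left.presheaf.stalk (q η) ⧸ Ideal.map (Models.stalkHom R X (q η)) (IsLocalRing.maximalIdeal R)) ≃+*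
        ((fib X).presheaf.stalk η) :=
      (Ideal.quotEquivOfEq hker.symm).trans (RingHom.quotientKerEquivOfSurjective (q.stalkMap_surjective η))
    letI := ψ.toRingHom.toAlgebra
    rw [Module.length_eq_of_surjective (S := X.left.presheaf.stalk (q η))
      (R := X.left.presheaf.stalk (q η) ⧸ Ideal.map (Models.stalkHom R X (q η)) (IsLocalRing.maximalIdeal R))
      Ideal.Quotient.mk_surjective, ← Module.length_eq_of_surjective
      (S := X.left.presheaf.stalk (q η) ⧸ Ideal.map (Models.stalkHom R X (q η)) (IsLocalRing.maximalIdeal R))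
      (R := (fib X).presheaf.stalk η) (M := (fib X).presheaf.stalk η) ψ.surjective]
    exact (LinearEquiv.ofBijective (Algebra.linearMap
      (X.left.presheaf.stalk (q η) ⧸ Ideal.map (Models.stalkHom R X (q η)) (IsLocalRing.maximalIdeal R))
      ((fib X).presheaf.stalk η)) ψ.bijective).length_eq
  rw [Models.mult, key _ hi]

/-- If the geometric multiplicities have no common prime factor, the closed fibre has no more constants. -/
theorem bijective_appTop [IsIntegral X.left] [IsProper X.hom] [Flat X.hom]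
    (hreg : ∀ x : X.left, IsRegularLocalRing (X.left.presheaf.stalk x))
    (hdim : topologicalKrullDim X.left = 2)
    (hconn : _root_.IsConnected (Models.specialFibreSet R X))
    (hconnK : ConnectedSpace ↥(pullback X.hom (Spec.map (CommRingCat.ofHom
      ((algebraMap (IsLocalRing.ResidueField R) (AlgebraicClosure (IsLocalRing.ResidueField R))).comp
        (IsLocalRing.residue R))))))
    (hd : ∀ ℓ : ℕ, ℓ.Prime → ∃ x : ↥(pullback X.hom (Spec.map (CommRingCat.ofHom
      ((algebraMap (IsLocalRing.ResidueField R) (AlgebraicClosure (IsLocalRing.ResidueField R))).comp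
        (IsLocalRing.residue R))))), (∀ y, y ⤳ x → y = x) ∧
      ¬ (ℓ ∣ (Module.length ((pullback X.hom (Spec.map (CommRingCat.ofHom
        ((algebraMap (IsLocalRing.ResidueField R) (AlgebraicClosure (IsLocalRing.ResidueField R))).comp
          (IsLocalRing.residue R))))).presheaf.stalk x) ((pullback X.hom (Spec.map (CommRingCat.ofHom
        ((algebraMap (IsLocalRing.ResidueField R) (AlgebraicClosure (IsLocalRing.ResidueField R))).comp
          (IsLocalRing.residue R))))).presheaf.stalk x)).toNat)) :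
    Function.Bijective
      (pullback.snd X.hom (Spec.map (CommRingCat.ofHom (IsLocalRing.residue R)))).appTop.hom := by
  classical
  let k := IsLocalRing.ResidueField R
  let K := AlgebraicClosure k
  let i₀ := Spec.map (CommRingCat.ofHom (IsLocalRing.residue R))
  let e₀ := Spec.map (CommRingCat.ofHom (algebraMap k K))
  let Xs := pullback X.hom i₀
  let s : Xs ⟶ Spec (CommRingCat.of k) := pullback.snd X.hom i₀
  let Z := pullback s e₀
  let Xb := pullback X.hom (Spec.map (CommRingCat.ofHom ((algebraMap k K).comp (IsLocalRing.residue R))))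
  have hbig : IsPullback (pullback.fst s e₀ ≫ pullback.fst X.hom i₀) (pullback.snd s e₀) X.hom
      (Spec.map (CommRingCat.ofHom ((algebraMap k K).comp (IsLocalRing.residue R)))) := by
    rw [show CommRingCat.ofHom ((algebraMap k K).comp (IsLocalRing.residue R)) =
      CommRingCat.ofHom (IsLocalRing.residue R) ≫ CommRingCat.ofHom (algebraMap k K) from rfl, Spec.map_comp]
    exact (IsPullback.of_hasPullback s e₀).paste_horiz (IsPullback.of_hasPullback X.hom i₀)
  let φ : Z ≅ Xb := hbig.isoPullback
  haveI : ConnectedSpace Z := by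
    haveI : ConnectedSpace Xb := hconnK
    exact φ.inv.homeomorph.surjective.connectedSpace φ.inv.homeomorph.continuous
  have hdvd : ∀ d : ℕ, (∀ z : Z, (∀ y, y ⤳ z → y = z) →
      d ∣ (Module.length (Z.presheaf.stalk z) (Z.presheaf.stalk z)).toNat) → d = 1 := by
    intro d hall
    by_contra hd1
    obtain ⟨ℓ, hℓ, hℓd⟩ := Nat.exists_prime_and_dvd hd1
    obtain ⟨x, hx, hxn⟩ := hd ℓ hℓ
    refine hxn (hℓd.trans ?_)
    haveI : Flat φ.hom := inferInstance
    obtain ⟨z, rfl⟩ := φ.hom.homeomorph.surjective x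
    refine (hall z fun y hy => ?_).trans ?_
    · exact φ.hom.homeomorph.injective (hx _ (hy.map φ.hom.continuous))
    · letI : Algebra (Xb.presheaf.stalk (φ.hom z)) (Z.presheaf.stalk z) := (φ.hom.stalkMap z).hom.toAlgebra
      have hb := ConcreteCategory.bijective_of_isIso (φ.hom.stalkMap z)
      rw [← Module.length_eq_of_surjective (S := Xb.presheaf.stalk (φ.hom z)) (R := Z.presheaf.stalk z)
        (M := Z.presheaf.stalk z) hb.2]
      exact dvd_of_eq (congrArg ENat.toNat
        (LinearEquiv.ofBijective (Algebra.linearMap (Xb.presheaf.stalk (φ.hom z)) (Z.presheaf.stalk z)) hb).length_eq.symm)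
  -- multiplicities
  haveI : Flat e₀ := flat_of_field _
  haveI : Flat (pullback.fst s e₀) := inferInstance
  obtain ⟨n, Γ, hΓ⟩ := CompList.exists_componentList (X := X) hdim
  choose L _ hL using fun i => Groth.Agent.H23.PicInv.exists_inverse
    (IdealCl.isInvertible_idealMod ((FibreIdeal.result X Γ hΓ hreg).1 i))
  have hL' : ∀ i, ClSub.IsInverseOf (L i) (ClSub.idealMod (Γ i).ι.ker) := fun i => by
    obtain ⟨c⟩ := Groth.Agent.H23.PicMul.comm (L i) (ClSub.idealMod (Γ i).ι.ker)
    obtain ⟨e⟩ := hL i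
    first
      | exact ⟨e⟩
      | exact ⟨c ≪≫ e⟩
  let D : VertClass.Data X Γ := ⟨L, hΓ, inferInstance, inferInstance, hreg, hL'⟩
  have hgcd : Models.multGcd R X Γ = 1 := hdvd _ fun z hz => by
    obtain ⟨j, hj⟩ := mult_eq_length X Γ hΓ (pullback.fst s e₀ z) (maximal_image _ z hz)
    exact (Finset.gcd_dvd (Finset.mem_univ j)).trans (hj ▸ toNat_dvd_of_flat (pullback.fst s e₀) z)
  obtain ⟨N, c, -, h1, -, h3⟩ := Chain.exists_fibre_chain D hconn
  have hFld : Chain.Fld (Models.specialFibreIdeal R X) := by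
    rw [(FibreIdeal.result X Γ hΓ hreg).2]
    have h := h3 (Fin.last N)
    rw [h1] at h
    simpa only [hgcd, Nat.div_one] using h
  -- transport the field of constants to the fibre product
  let J := Models.specialFibreIdeal R X
  let I₀ := Curv2.idealSheaf R (IsLocalRing.maximalIdeal R)
  haveI : IsClosedImmersion i₀ :=
    IsClosedImmersion.spec_of_surjective _ (IsLocalRing.residue_surjective (R := R))
  have hker : i₀.ker = I₀ := RegBlow6.ker_specMk (IsLocalRing.maximalIdeal R)
  obtain ⟨eJ, heJ⟩ : ∃ e : Xs ≅ J.subscheme, e.hom ≫ J.subschemeι = pullback.fst X.hom i₀ := by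
    have hJ : J = (pullback.fst X.hom i₀).ker := by
      show (pullback.fst X.hom I₀.subschemeι).ker = _
      rw [← hker]
      let m : pullback X.hom i₀ ⟶ pullback X.hom i₀.imageι :=
        pullback.map _ _ _ _ (𝟙 _) i₀.toImage (𝟙 _) (by simp) (by simp)
      haveI : IsIso m := inferInstanceAs (IsIso (pullback.map _ _ _ _ _ _ _ _ _))
      have : pullback.fst X.hom i₀ = m ≫ pullback.fst X.hom i₀.imageι :=
        ((pullback.lift_fst _ _ _).trans (Category.comp_id _)).symm
      rw [this, Scheme.Hom.ker_comp_of_isIso]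
      try rfl
    haveI : IsClosedImmersion (pullback.fst X.hom i₀) := inferInstance
    refine ⟨asIso (pullback.fst X.hom i₀).toImage ≪≫ eqToIso (congrArg Scheme.IdealSheafData.subscheme hJ.symm), ?_⟩
    have key : ∀ (J' : X.left.IdealSheafData) (e : (pullback.fst X.hom i₀).ker = J'),
        ((pullback.fst X.hom i₀).toImage ≫ eqToHom (congrArg Scheme.IdealSheafData.subscheme e)) ≫ J'.subschemeι =
          pullback.fst X.hom i₀ := by
      rintro _ rfl
      simp
    exact key J hJ.symm
  obtain ⟨hf, hfin⟩ := hFld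
  let ψ : Γ(J.subscheme, ⊤) ≃+* Γ(Xs, ⊤) := ((Scheme.Γ).mapIso eJ.op).commRingCatIsoToRingEquiv
  have hf' : IsField Γ(Xs, ⊤) := ψ.symm.toMulEquiv.isField hf
  let σ : k →+* Γ(Xs, ⊤) := s.appTop.hom.comp (Scheme.ΓSpecIso (CommRingCat.of k)).inv.hom
  have hσ : σ.comp (IsLocalRing.residue R) = ψ.toRingHom.comp (Chain.rho X J) := by
    refine RingHom.ext fun r => ?_
    show s.appTop ((Scheme.ΓSpecIso (CommRingCat.of k)).inv (IsLocalRing.residue R r)) =
      eJ.hom.appTop ((J.subschemeι ≫ X.hom).appTop ((Scheme.ΓSpecIso (CommRingCat.of R)).inv r))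
    have h2 : (eJ.hom ≫ J.subschemeι ≫ X.hom).appTop = (s ≫ i₀).appTop := by
      rw [← Category.assoc, heJ]
      exact congrArg Scheme.Hom.appTop pullback.condition
    refine Eq.trans ?_ (congr($(h2) ((Scheme.ΓSpecIso (CommRingCat.of R)).inv r))).symm
    show s.appTop _ = s.appTop (i₀.appTop _)
    refine congrArg _ ?_
    exact congr($(Scheme.ΓSpecIso_inv_naturality (CommRingCat.ofHom (IsLocalRing.residue R))) r)
  letI : Field Γ(Xs, ⊤) := hf'.toField
  letI : Algebra k Γ(Xs, ⊤) := σ.toAlgebra
  haveI : Module.Finite k Γ(Xs, ⊤) := by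
    have h : (σ.comp (IsLocalRing.residue R)).Finite := by
      rw [hσ]
      exact (RingHom.Finite.of_surjective _ ψ.surjective).comp hfin
    exact RingHom.finite_algebraMap.1 (RingHom.Finite.of_comp_finite (g := σ) h)
  -- the base change of the constants
  let τ : Xs ⟶ Spec Γ(Xs, ⊤) := Xs.toSpecΓ
  let c₀ : Spec Γ(Xs, ⊤) ⟶ Spec (CommRingCat.of k) := Spec.map (CommRingCat.ofHom σ)
  have hτ : τ ≫ c₀ = s := by
    show Xs.toSpecΓ ≫ Spec.map ((Scheme.ΓSpecIso (CommRingCat.of k)).inv ≫ s.appTop) = s
    rw [Spec.map_comp, ← Scheme.toSpecΓ_naturality_assoc, ← SpecMap_ΓSpecIso_hom, ← Spec.map_comp,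
      Iso.inv_hom_id, Spec.map_id, Category.comp_id]
  haveI : Nonempty Xs := by
    obtain ⟨z⟩ := (inferInstance : Nonempty Z)
    exact ⟨pullback.fst s e₀ z⟩
  haveI : Flat τ := flat_of_field (k := Γ(Xs, ⊤)) τ
  haveI : Surjective τ := ⟨fun y => ⟨Classical.arbitrary _, Subsingleton.elim (α := PrimeSpectrum Γ(Xs, ⊤)) _ _⟩⟩
  let T := pullback c₀ e₀
  let m : Z ⟶ T := pullback.lift (pullback.fst s e₀ ≫ τ) (pullback.snd s e₀) (by
    rw [Category.assoc, hτ]; exact pullback.condition)
  have hm : IsPullback (pullback.fst s e₀) m τ (pullback.fst c₀ e₀) := by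
    refine IsPullback.of_bot ?_ (pullback.lift_fst _ _ _).symm (IsPullback.of_hasPullback c₀ e₀)
    rw [show m ≫ pullback.snd c₀ e₀ = pullback.snd s e₀ from pullback.lift_snd _ _ _, hτ]
    exact IsPullback.of_hasPullback s e₀
  haveI : Flat m := MorphismProperty.of_isPullback hm ‹Flat τ›
  haveI : Surjective m := MorphismProperty.of_isPullback hm ‹Surjective τ›
  haveI : ConnectedSpace T := m.surjective.connectedSpace m.continuous
  let Q := Γ(Xs, ⊤) ⊗[k] K
  let eT : T ≅ Spec (CommRingCat.of Q) := pullbackSpecIso k Γ(Xs, ⊤) K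
  haveI : ConnectedSpace (PrimeSpectrum Q) :=
    eT.hom.homeomorph.surjective.connectedSpace eT.hom.homeomorph.continuous
  letI : Algebra K Q := Algebra.TensorProduct.rightAlgebra
  haveI : Module.Finite K Q := by
    refine RingHom.finite_algebraMap.1 ?_
    have h : ((Algebra.TensorProduct.comm k K Γ(Xs, ⊤)).toRingEquiv.toRingHom.comp
        (algebraMap K (K ⊗[k] Γ(Xs, ⊤)))).Finite :=
      (RingHom.Finite.of_surjective _ (Algebra.TensorProduct.comm k K Γ(Xs, ⊤)).surjective).comp (RingHom.finite_algebraMap.2 inferInstance)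
    convert h using 1
    refine RingHom.ext fun a => ?_
    show (1 : Γ(Xs, ⊤)) ⊗ₜ[k] a = Algebra.TensorProduct.comm k K Γ(Xs, ⊤) (a ⊗ₜ[k] (1 : Γ(Xs, ⊤)))
    rw [Algebra.TensorProduct.comm_tmul]
  haveI : IsArtinianRing Q := IsArtinianRing.of_finite K Q
  haveI : Subsingleton (PrimeSpectrum Q) := PreconnectedSpace.trivial_of_discrete
  haveI : Nontrivial Q := PrimeSpectrum.nonempty_iff_nontrivial.1 (inferInstance : ConnectedSpace _).toNonempty
  haveI : Subsingleton (MaximalSpectrum Q) := ⟨fun a b => MaximalSpectrum.ext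
    (congrArg PrimeSpectrum.asIdeal (Subsingleton.elim a.toPrimeSpectrum b.toPrimeSpectrum) :)⟩
  haveI : IsLocalRing Q := IsLocalRing.of_singleton_maximalSpectrum
  have hQ : (Module.length Q Q).toNat = Module.finrank k Γ(Xs, ⊤) := by
    haveI : IsLocalHom (algebraMap K Q) := ⟨fun a ha => isUnit_iff_ne_zero.2 fun h0 =>
      not_isUnit_zero (M₀ := Q) (by simpa [h0] using ha)⟩
    haveI : Module.Finite (IsLocalRing.ResidueField K) (IsLocalRing.ResidueField Q) :=
      Module.Finite.of_restrictScalars_finite K _ _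
    haveI : IsAlgClosed (IsLocalRing.ResidueField K) :=
      IsAlgClosed.of_ringEquiv _ _ (RingEquiv.ofBijective (IsLocalRing.residue K)
        ⟨(IsLocalRing.residue K).injective, IsLocalRing.residue_surjective⟩)
    have hres : Module.length (IsLocalRing.ResidueField K) (IsLocalRing.ResidueField Q) = 1 := by
      rw [Module.length_eq_finrank, ← (LinearEquiv.ofBijective (Algebra.linearMap _ _)
        ⟨RingHom.injective _, IsAlgClosed.algebraMap_bijective_of_isIntegral.2⟩ :
          IsLocalRing.ResidueField K ≃ₗ[IsLocalRing.ResidueField K] IsLocalRing.ResidueField Q).finrank_eq,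
        Module.finrank_self]
      rfl
    have hl := IsLocalRing.length_restrictScalars (A := K) (B := Q) (M := Q)
    rw [hres, mul_one, Module.length_eq_finrank] at hl
    rw [← hl, ENat.toNat_coe]
    let e : K ⊗[k] Γ(Xs, ⊤) ≃ₗ[K] Q :=
      { Algebra.TensorProduct.comm k K Γ(Xs, ⊤) with
        map_smul' := fun a x => by
          show Algebra.TensorProduct.comm k K Γ(Xs, ⊤) (a • x) = a • Algebra.TensorProduct.comm k K Γ(Xs, ⊤) x
          rw [Algebra.smul_def, Algebra.smul_def, map_mul]
          rfl }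
    rw [← e.finrank_eq, Module.finrank_baseChange]
  have hrank : Module.finrank k Γ(Xs, ⊤) = 1 := hdvd _ fun z _ => by
    refine dvd_trans ?_ (toNat_dvd_of_flat (m ≫ eT.hom) z)
    let t : Spec (CommRingCat.of Q) := (m ≫ eT.hom) z
    letI : Algebra Q ((Spec (CommRingCat.of Q)).presheaf.stalk t) := StructureSheaf.stalkAlgebra Q t
    haveI : (t : PrimeSpectrum Q).asIdeal.IsPrime := (t : PrimeSpectrum Q).isPrime
    haveI : IsLocalization.AtPrime ((Spec (CommRingCat.of Q)).presheaf.stalk t) (t : PrimeSpectrum Q).asIdeal :=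
      StructureSheaf.IsLocalization.to_stalk (CommRingCat.of Q) t
    have hu : (t : PrimeSpectrum Q).asIdeal.primeCompl ≤ IsUnit.submonoid Q := fun a ha => by
      rw [IsUnit.mem_submonoid_iff]
      by_contra hna
      obtain ⟨M, hM, haM⟩ := exists_max_ideal_of_mem_nonunits hna
      exact ha ((congrArg PrimeSpectrum.asIdeal (Subsingleton.elim (⟨M, hM.isPrime⟩ : PrimeSpectrum Q) t)) ▸ haM)
    let el := IsLocalization.atUnits Q (t : PrimeSpectrum Q).asIdeal.primeCompl hu
      (S := (Spec (CommRingCat.of Q)).presheaf.stalk t)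
    rw [← hQ, el.toLinearEquiv.length_eq, Module.length_eq_of_surjective
      (R := (Spec (CommRingCat.of Q)).presheaf.stalk t) el.surjective]
  have hb : Function.Bijective σ := by
    refine ⟨σ.injective, fun y => ?_⟩
    obtain ⟨c, hc⟩ := (finrank_eq_one_iff_of_nonzero' (K := k) (1 : Γ(Xs, ⊤)) one_ne_zero).1 hrank y
    exact ⟨c, by rw [← hc, Algebra.smul_def, mul_one]; rfl⟩
  exact (Function.Bijective.of_comp_iff _ (ConcreteCategory.bijective_of_isIso
    (Scheme.ΓSpecIso (CommRingCat.of k)).inv)).1 hb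

end Groth.Agent.H26.GeomMult
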