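import Groth.Agent.H26.H0Univ
import Groth.Agent.QCoh.RpushExchange
import Groth.Agent.QCoh.ClosedPush
import Groth.Agent.QCoh.RpushGod
import Groth.Prelude.Def_ClSub2

/-!
# Consequences of the exchange property
-/

set_option autoImplicit false
set_option backward.isDefEq.respectTransparency false
set_option backward.isDefEq.respectTransparency.types false
set_option linter.style.haveILetI false

universe u

open CategoryTheory CategoryTheory.Limits AlgebraicGeometry TopologicalSpace TensorProduct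

namespace Groth.Agent.H26.FibModel

variable {X S : Scheme.{u}} {f : X ⟶ S}

/-- Functions on every base change, over opens mapping into a good open. -/
theorem bijective_app_of_functions {V : S.Opens} {hV : IsAffineOpen V}
    (hg : ∀ (B : Type u) [CommRing B] (φ : Γ(S, V) →+* B) (X' : Scheme.{u}) (g : X' ⟶ X)
      (pB : X' ⟶ Spec (CommRingCat.of B)),
      IsPullback g pB f (Spec.map (CommRingCat.ofHom φ) ≫ hV.fromSpec) → Function.Bijective (Coh.toGlobal pB))
    {X' S' : Scheme.{u}}
    {f' : X' ⟶ S'} {gX : X' ⟶ X} {g : S' ⟶ S} (hsq : IsPullback gX f' f g) {W : S'.Opens}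
    (hW : IsAffineOpen W) (hWV : W ≤ g ⁻¹ᵁ V) : Function.Bijective (f'.app W) := by
  let φ := (g.appLE V W hWV).hom
  have e : Spec.map (CommRingCat.ofHom φ) ≫ hV.fromSpec = hW.fromSpec ≫ g :=
    IsAffineOpen.SpecMap_appLE_fromSpec g hV hW hWV
  have hsq' : IsPullback ((f' ⁻¹ᵁ W).ι ≫ gX) (QCoh.overSpec f' hW) f
      (Spec.map (CommRingCat.ofHom φ) ≫ hV.fromSpec) := by
    rw [e]
    exact (QCoh.isPullback_overSpec (f := f') hW).paste_horiz hsq
  have h := hg _ φ _ _ _ hsq'
  rw [QCoh.toGlobal_overSpec] at h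
  let r := (f' ⁻¹ᵁ W).ι.appLE (f' ⁻¹ᵁ W) ⊤ (f' ⁻¹ᵁ W).ι_preimage_self.ge
  haveI : IsIso r := by
    show IsIso ((f' ⁻¹ᵁ W).ι.appLE _ _ _)
    rw [Scheme.Opens.ι_appLE]
    have key : ∀ {A B : X'.Opens} (h : A ≤ B), A = B → IsIso (X'.presheaf.map (homOfLE h).op) := by
      rintro A B h rfl
      rw [Subsingleton.elim (homOfLE h) (𝟙 A)]
      infer_instance
    exact key _ (Scheme.Hom.image_top_eq_opensRange _ |>.trans (Scheme.Opens.opensRange_ι _))
  have hr : Function.Bijective r.hom := ConcreteCategory.bijective_of_isIso r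
  exact (Function.Bijective.of_comp_iff' hr _).1 h

/-- The functions are those of the base after every base change. -/
theorem isIso_unitToPush_snd (f : X ⟶ S) [Flat f] [IsProper f] [LocallyOfFinitePresentation f]
    (hdim : ∀ s : S, topologicalKrullDim ↥(f.fiber s) ≤ 1)
    (h0 : ∀ s : S, Models.hRank ↥(S.residueField s) (f.fiber s) (f.fiberToSpecResidueField s)
      (Coh.structureModule (f.fiber s)) 0 = 1)
    {S' : Scheme.{u}} (g : S' ⟶ S) : IsIso (ClSub.unitToPush (pullback.snd f g)) := by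
  choose V hV hy hg using fun s => exists_good f s (hdim s) (h0 s)
  let B : Set S'.Opens := {W | IsAffineOpen W ∧ ∃ s, W ≤ g ⁻¹ᵁ V s}
  have hB : Opens.IsBasis B := Opens.isBasis_iff_nbhd.2 fun {U x} hx => by
    obtain ⟨_, ⟨W, hW, rfl⟩, hxW, hWU⟩ := S'.isBasis_affineOpens.exists_subset_of_mem_open
      (show x ∈ ((U ⊓ g ⁻¹ᵁ V (g x) : S'.Opens) : Set S') from ⟨hx, hy _⟩) (U ⊓ g ⁻¹ᵁ V (g x)).2
    exact ⟨W, ⟨hW, g x, fun z hz => (hWU hz).2⟩, hxW, fun z hz => (hWU hz).1⟩
  refine QCoh.isIso_of_isBasis _ hB fun W hW => ?_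
  obtain ⟨hW, s, hs⟩ := hW
  exact bijective_app_of_functions (hg s).functions (IsPullback.of_hasPullback f g) hW hs

/-- The first direct image of the structure sheaf is finite locally free. -/
theorem isFinLocFree_Rpush_one (f : X ⟶ S) [Flat f] [IsProper f] [LocallyOfFinitePresentation f]
    [HasInjectiveResolutions X.Modules] (hdim : ∀ s : S, topologicalKrullDim ↥(f.fiber s) ≤ 1)
    (h0 : ∀ s : S, Models.hRank ↥(S.residueField s) (f.fiber s) (f.fiberToSpecResidueField s)
      (Coh.structureModule (f.fiber s)) 0 = 1) :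
    FlatMod.IsFinLocFree ((Coh.Rpush f 1).obj (Coh.structureModule X)) := by
  let G := (Coh.Rpush f 1).obj (Coh.structureModule X)
  have hO := PnCoh.isQCoh_structureModule X
  have hq : Coh.IsQCoh G := QCoh.isQCoh_Rpush f hO 1
  choose V hV hy hg using fun s => exists_good f s (hdim s) (h0 s)
  have hsec : ∀ s, Module.Finite Γ(S, V s) Γ(G, V s) ∧ Module.Projective Γ(S, V s) Γ(G, V s) := by
    intro s
    let U : X.Opens := f ⁻¹ᵁ V s
    obtain ⟨H, hHf, hHp, hH⟩ := (hg s).h1
    letI := QCoh.modHH (QCoh.rhoV f (V s)) ((Coh.structureModule X).restrict U.ι) 1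
    letI := QCoh.modHH (QCoh.rhoV f (V s)) (Coh.structureModule (U : Scheme.{u})) 1
    obtain ⟨e₁⟩ := QCoh.nonempty_sections_HH (f := f) hO (hV s) 1
    let e₂ := QCoh.HHcongr (QCoh.rhoV f (V s)) (Scheme.Modules.restrictUnitIso U.ι) 1
    have h := hH Γ(S, V s) (RingHom.id _) (U : Scheme.{u}) U.ι (QCoh.overSpec f (hV s)) (by
      rw [show CommRingCat.ofHom (RingHom.id Γ(S, V s)) = 𝟙 _ from rfl, Spec.map_id, Category.id_comp]
      exact QCoh.isPullback_overSpec (f := f) (hV s))
    rw [QCoh.toGlobal_overSpec] at h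
    obtain ⟨e₃⟩ := h
    let e : Γ(G, V s) ≃ₗ[Γ(S, V s)] H := ((e₁.trans e₂).trans e₃).trans ((ModuleCat.extendScalarsId Γ(S, V s)).app H).toLinearEquiv
    haveI := hHf
    haveI := hHp
    exact ⟨Module.Finite.equiv e.symm, Module.Projective.of_equiv e.symm⟩
  have hfp : CohB1.IsFP G := QCoh.isFP_of_finitePresentation hq V
    (top_le_iff.1 fun x _ => Opens.mem_iSup.2 ⟨x, hy x⟩) hV fun s => by
      obtain ⟨hf', hp'⟩ := hsec s
      exact Module.finitePresentation_of_projective Γ(S, V s) Γ(G, V s)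
  refine QCoh.isFinLocFree_iff.2 ⟨hfp, fun x => ?_⟩
  obtain ⟨hf', hp'⟩ := hsec x
  letI := QCoh.stalkAlg (X := S) (hy x)
  letI := QCoh.stalkModule G (hy x)
  haveI := QCoh.isScalarTower_stalk G (hy x)
  haveI := QCoh.isLocalization_stalk' (hV x) (hy x)
  haveI := QCoh.isLocalizedModule_germLin hq (hV x) (hy x)
  have hbc := IsLocalizedModule.isBaseChange ((hV x).primeIdealOf ⟨x, hy x⟩).asIdeal.primeCompl
    (S.presheaf.stalk x) (QCoh.germLin G (hy x))
  haveI : Module.Flat (S.presheaf.stalk x) (G.presheaf.stalk x) :=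
    Module.Flat.isBaseChange Γ(S, V x) (S.presheaf.stalk x) (M := Γ(G, V x)) (G.presheaf.stalk x) hbc
  haveI : Module.Finite (S.presheaf.stalk x) (G.presheaf.stalk x) :=
    Module.Finite.of_isLocalizedModule ((hV x).primeIdealOf ⟨x, hy x⟩).asIdeal.primeCompl (QCoh.germLin G (hy x))
  exact Module.free_of_flat_of_isLocalRing

/-- If the functions on all fibres are constant then they are those of the base. -/
theorem isIso_app (f : X ⟶ S) [Flat f] [IsProper f] [LocallyOfFinitePresentation f]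
    (h : ∀ s : S, IsIso (f.fiberToSpecResidueField s).appTop) (U : S.Opens) : IsIso (f.app U) := by
  have h0 : ∀ s : S, Models.hRank ↥(S.residueField s) (f.fiber s) (f.fiberToSpecResidueField s)
      (Coh.structureModule (f.fiber s)) 0 = 1 := fun s => by
    letI : Algebra ↥(S.residueField s) Γ(f.fiber s, ⊤) :=
      ((f.fiberToSpecResidueField s).appTop.hom.comp
        (Scheme.ΓSpecIso (CommRingCat.of ↥(S.residueField s))).inv.hom).toAlgebra
    haveI := h s
    have hb : Function.Bijective (algebraMap ↥(S.residueField s) Γ(f.fiber s, ⊤)) :=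
      (ConcreteCategory.bijective_of_isIso (f.fiberToSpecResidueField s).appTop).comp
        (ConcreteCategory.bijective_of_isIso (Scheme.ΓSpecIso (CommRingCat.of ↥(S.residueField s))).inv)
    rw [← (finrank_sections f s).2, ← (LinearEquiv.ofBijective (Algebra.linearMap _ _) hb).finrank_eq,
      Module.finrank_self]
  choose V hV hy hg using fun s => exists_functions f s (h0 s)
  let B : Set S.Opens := {W | IsAffineOpen W ∧ ∃ s, W ≤ V s}
  have hB : Opens.IsBasis B := Opens.isBasis_iff_nbhd.2 fun {U x} hx => by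
    obtain ⟨_, ⟨W, hW, rfl⟩, hxW, hWU⟩ := S.isBasis_affineOpens.exists_subset_of_mem_open
      (show x ∈ ((U ⊓ V x : S.Opens) : Set S) from ⟨hx, hy x⟩) (U ⊓ V x).2
    exact ⟨W, ⟨hW, x, fun z hz => (hWU hz).2⟩, hxW, fun z hz => (hWU hz).1⟩
  haveI : IsIso (ClSub.unitToPush f) := QCoh.isIso_of_isBasis _ hB fun W hW => by
    obtain ⟨hW, s, hs⟩ := hW
    exact bijective_app_of_functions (hg s) (IsPullback.of_horiz_isIso ⟨by simp⟩ : IsPullback (𝟙 X) f f (𝟙 S)) hW
      (by simpa using hs)
  exact (ConcreteCategory.isIso_iff_bijective _).2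
    ((ConcreteCategory.isIso_iff_bijective _).1
      (Scheme.Modules.Hom.isIso_iff_isIso_app.1 (inferInstance : IsIso (ClSub.unitToPush f)) U) :)

end Groth.Agent.H26.FibModel
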