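import Groth.Agent.H26.H1Chain
import Groth.Agent.H26.RedFibre
import Groth.Agent.H26.ChainFibre
import Groth.Agent.H26.ExcCrit
import Groth.Agent.H26.WDeg
import Groth.Agent.H26.VertApply

/-!
# `h¹` of the reduced fibre of a minimal model
-/

set_option autoImplicit false
set_option linter.style.haveILetI false
set_option backward.isDefEq.respectTransparency.types false
set_option maxHeartbeats 1000000

universe u

open CategoryTheory CategoryTheory.Limits AlgebraicGeometry
open Models

namespace Groth.Agent.H26.H1Strict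

theorem h1_red_le {R : Type u} [CommRing R] [IsDomain R] [IsDiscreteValuationRing R]
    {X : Over (Spec (CommRingCat.of R))} {n : ℕ} {Γ : Fin n → ArSurf.VertComp R X}
    (D : Groth.Agent.H26.VertClass.Data X Γ) (hconn : _root_.IsConnected (Models.specialFibreSet R X))
    (hgcd : Models.multGcd R X Γ = 1) (hnoexc : ∀ G : ArSurf.VertComp R X, ¬ Models.IsExcCurve G.ι)
    (hH0k : Models.lengthH R X (ClSub.quotMod (Models.redFibreIdeal R X)) 0 = 1) :
    Models.lengthH R X (ClSub.quotMod (Models.redFibreIdeal R X)) 1 ≤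
        Models.lengthH R X (ClSub.quotMod (Models.specialFibreIdeal R X)) 1 ∧
      (((∃ i, 2 ≤ Models.mult R X (Γ i)) ∨ Models.specialFibreIdeal R X ≠ Models.redFibreIdeal R X) →
        Models.lengthH R X (ClSub.quotMod (Models.redFibreIdeal R X)) 1 <
          Models.lengthH R X (ClSub.quotMod (Models.specialFibreIdeal R X)) 1) := by
  classical
  haveI := D.proper
  haveI := D.flat
  obtain ⟨s, c, hc0, hc1, hcs, hcf⟩ := Groth.Agent.H26.Chain.exists_fibre_chain D hconn
  let Q : (Fin n → ℕ) → X.left.Modules := fun a => ClSub.quotMod (∏ j, (Γ j).ι.ker ^ a j)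
  have hfib : Models.specialFibreIdeal R X = ∏ j, (Γ j).ι.ker ^ c (Fin.last s) j := by
    rw [hc1]
    simp only [hgcd, Nat.div_one]
    exact (Groth.Agent.H26.FibreIdeal.result X Γ D.hΓ D.hreg).2
  have hred : Models.redFibreIdeal R X = ∏ j, (Γ j).ι.ker ^ c 0 j := by
    rw [hc0]
    simp only [pow_one]
    exact Groth.Agent.H26.RedFibre.redFibreIdeal_eq_prod D.hreg D.hΓ
  rw [hfib, hred]
  rw [hred] at hH0k
  have hone : ∀ j, (c 0) ≤ c j := fun j => by
    induction j using Fin.induction with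
    | zero => exact le_rfl
    | succ j ih =>
      obtain ⟨i, hi⟩ := hcs j
      exact ih.trans (hi ▸ le_self_add)
  have h0 : ∀ j, Models.lengthH R X (Q (c j)) 0 = 1 := fun j =>
    Groth.Agent.H26.H1Chain.lengthH_zero_eq_one (Groth.Agent.H26.H1Chain.prod_le_prod _ _ (hone j)) (hcf j) hH0k
  have hstep : ∀ j : Fin s, Models.lengthH R X (Q (c j.castSucc)) 1 ≤
      Models.lengthH R X (Q (c j.succ)) 1 := fun j => by
    obtain ⟨i, hi⟩ := hcs j
    rw [hi]
    exact Groth.Agent.H26.H1Chain.h1_single D _ i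
  have hmono : ∀ j, Models.lengthH R X (Q (c 0)) 1 ≤ Models.lengthH R X (Q (c j)) 1 := fun j => by
    induction j using Fin.induction with
    | zero => exact le_rfl
    | succ j ih => exact ih.trans (hstep j)
  refine ⟨hmono (Fin.last s), fun hne => ?_⟩
  rcases Nat.eq_zero_or_pos s with hs | hs
  · subst hs
    rcases hne with ⟨i, hi⟩ | hne
    · have h1 : c 0 i = 1 := by rw [hc0]
      have h2 : c 0 i = Models.mult R X (Γ i) := by
        rw [show (0 : Fin 1) = Fin.last 0 from rfl, hc1]
        simp [hgcd]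
      omega
    · exact absurd rfl hne
  obtain ⟨t, rfl⟩ := Nat.exists_eq_succ_of_ne_zero hs.ne'
  obtain ⟨i, hi⟩ := hcs (Fin.last t)
  rw [Fin.succ_last] at hi
  set a := c (Fin.last t).castSucc with ha
  refine (hmono (Fin.last t).castSucc).trans_lt ?_
  -- the last step strictly increases `h¹`
  have hm : ∀ j, c (Fin.last (t + 1)) j = Models.mult R X (Γ j) := fun j => by
    rw [hc1]; simp [hgcd]
  have ha1 : 1 ≤ a i := by
    have := hone (Fin.last t).castSucc i
    rw [hc0] at this
    exact this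
  have he : ∀ j, (Models.mult R X (Γ j) : ℤ) = (a j : ℤ) + if j = i then 1 else 0 := fun j => by
    rw [← hm j, hi]
    by_cases h : j = i <;> simp [Pi.add_apply, Pi.single_apply, h]
  have hsum := Groth.Agent.H26.ArInter.sum_mult_mul_inter X Γ D.hreg D.hΓ D.L D.hL i
  have hn : ∀ j, j ≠ i → 0 ≤ ArSurf.inter R X (D.L j) (Γ i) := fun j hj =>
    (Groth.Agent.H26.InterForm.inter_offDiag D.hΓ D.L D.hL D.hreg (Ne.symm hj)).1
  have hdiag : ArSurf.inter R X (D.L i) (Γ i) < 0 := by
    have h1 := Finset.add_sum_erase Finset.univ (fun j => (Models.mult R X (Γ j) : ℤ) *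
      ArSurf.inter R X (D.L j) (Γ i)) (Finset.mem_univ i)
    beta_reduce at h1
    rw [hsum] at h1
    have hmi : (0 : ℤ) < Models.mult R X (Γ i) := by
      exact_mod_cast Groth.Agent.H26.InterForm.mult_pos D.hΓ D.hreg i
    have hpos : 0 < ∑ j ∈ Finset.univ.erase i,
        (Models.mult R X (Γ j) : ℤ) * ArSurf.inter R X (D.L j) (Γ i) := by
      have huniv : ({i} : Finset (Fin n)) ≠ Finset.univ := fun hu => by
        have hg : Models.multGcd R X Γ = Models.mult R X (Γ i) := by
          rw [Models.multGcd, ← hu, Finset.gcd_singleton]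
          simp
        have := he i
        rw [← hg, hgcd, if_pos rfl] at this
        omega
      obtain ⟨i', hi', j, hj, hI⟩ := Groth.Agent.H26.InterForm.exists_inter_ne_zero D.hΓ D.L D.hL D.hreg hconn {i}
        ⟨i, Finset.mem_singleton_self i⟩ huniv
      rw [Finset.mem_singleton] at hi' hj
      subst hi'
      refine lt_of_lt_of_le (mul_pos ?_ (lt_of_le_of_ne (hn j hj) (Ne.symm hI)))
        (Finset.single_le_sum (fun k hk => mul_nonneg (Int.natCast_nonneg _) (hn k (Finset.ne_of_mem_erase hk)))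
          (Finset.mem_erase.2 ⟨hj, Finset.mem_univ j⟩))
      exact_mod_cast Groth.Agent.H26.InterForm.mult_pos D.hΓ D.hreg j
    by_contra hge
    push_neg at hge
    have := mul_nonneg hmi.le hge
    linarith
  have hchi := (Groth.Agent.H26.EulerFibre.good_single D a i
    (Groth.Agent.H26.EulerFibre.good_prod D _ a rfl).1).2
  rw [Groth.Agent.H26.EulerFibre.wdeg_sub_h1] at hchi
  have e : (fun j => a j + if j = i then 1 else 0) = c (Fin.last (t + 1)) := funext fun j => by
    rw [hi]; simp [Pi.add_apply, Pi.single_apply]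
  have e' : ∏ j, (Γ j).ι.ker ^ (a j + if j = i then 1 else 0) = ∏ j, (Γ j).ι.ker ^ c (Fin.last (t + 1)) j :=
    Finset.prod_congr rfl fun j _ => by rw [← congrFun e j]
  rw [e'] at hchi
  have haI : ∑ j, (a j : ℤ) * ArSurf.inter R X (D.L j) (Γ i) = -ArSurf.inter R X (D.L i) (Γ i) := by
    have h : ∑ j, ((a j : ℤ) * ArSurf.inter R X (D.L j) (Γ i) +
        if j = i then ArSurf.inter R X (D.L j) (Γ i) else 0) = 0 := by
      refine Eq.trans (Finset.sum_congr rfl fun j _ => ?_) hsum
      rw [he j]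
      by_cases h : j = i <;> simp [h, add_mul]
    rw [Finset.sum_add_distrib, Finset.sum_ite_eq', if_pos (Finset.mem_univ i)] at h
    show ∑ j, (a j : ℤ) * ArSurf.inter R X (D.L j) (Γ i) = _
    linarith
  rw [haI] at hchi
  unfold Groth.Agent.H26.EulerFibre.chi at hchi
  have h01 := h0 (Fin.last (t + 1))
  have h02 := h0 (Fin.last t).castSucc
  change Models.lengthH R X (ClSub.quotMod _) 0 = 1 at h01 h02
  rw [← ha] at h02
  rw [h01, h02] at hchi
  obtain ⟨q, hq⟩ : (Models.wdeg R X (Γ i) : ℤ) ∣ ArSurf.inter R X (D.L i) (Γ i) :=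
    Groth.Agent.H26.WDeg.wdeg_dvd_inter (Γ i) (D.isInvertible i)
  have hw : (0 : ℤ) < Models.wdeg R X (Γ i) := Int.natCast_pos.2 (Groth.Agent.H26.WDeg.wdeg_pos (Γ i))
  have hq0 : q ≤ -1 := by
    by_contra hq0
    push_neg at hq0
    have : 0 ≤ (Models.wdeg R X (Γ i) : ℤ) * q := mul_nonneg hw.le (by omega)
    omega
  have hlt : (Models.wdeg R X (Γ i) : ℤ) <
      -ArSurf.inter R X (D.L i) (Γ i) + Models.h1 R X (Γ i) := by
    rcases Nat.eq_zero_or_pos (Models.h1 R X (Γ i)) with h10 | h10
    · have hnot : q ≠ -1 := fun hq1 => hnoexc (Γ i)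
        (Groth.Agent.H26.ExcCrit.exc_of_invariants (Γ i) (D.heff i) (D.hL i) h10 (by rw [hq, hq1]; ring))
      have : (Models.wdeg R X (Γ i) : ℤ) * q ≤ (Models.wdeg R X (Γ i) : ℤ) * (-2) :=
        mul_le_mul_of_nonneg_left (by omega) hw.le
      rw [hq, h10]
      omega
    · have : (Models.wdeg R X (Γ i) : ℤ) * q ≤ (Models.wdeg R X (Γ i) : ℤ) * (-1) :=
        mul_le_mul_of_nonneg_left hq0 hw.le
      rw [hq]
      omega
  show Models.lengthH R X (ClSub.quotMod (∏ j, (Γ j).ι.ker ^ a j)) 1 <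
    Models.lengthH R X (ClSub.quotMod (∏ j, (Γ j).ι.ker ^ c (Fin.last (t + 1)) j)) 1
  omega

end Groth.Agent.H26.H1Strict
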