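import Groth.Agent.H26.HorizCartierAlg
import Groth.Agent.H26.FibreIdeal

/-!
# Horizontal divisors cut out by a given function
-/

set_option autoImplicit false
set_option linter.style.haveILetI false

universe u

open CategoryTheory CategoryTheory.Limits AlgebraicGeometry

namespace Groth.Agent.H26.HorizDiv

/-- A function on an affine open isolated on the closed fibre at a closed point cuts out, near the point,
an effective horizontal divisor meeting the closed fibre only there. -/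
theorem exists_divisor {R : Type u} [CommRing R] [IsDomain R] [IsDiscreteValuationRing R] [HenselianLocalRing R]
    {X : Over (Spec (CommRingCat.of R))} [IsIntegral X.left] [IsProper X.hom] [Flat X.hom]
    {x : X.left} (hx : IsClosed ({x} : Set X.left)) (hxs : x ∈ Models.specialFibreSet R X)
    {U : X.left.Opens} (hU : IsAffineOpen U) (hxU : x ∈ U) (f : Γ(X.left, U)) (hfx : x ∉ X.left.basicOpen f)
    (hiso : ∀ w : X.left, w ⤳ x → w ∈ Models.specialFibreSet R X → w ≠ x → w ∈ X.left.basicOpen f)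
    (hw : ∃ w : X.left, w ⤳ x ∧ w ∈ Models.specialFibreSet R X ∧ w ≠ x) :
    ∃ (D : Scheme.{u}) (d : D ⟶ X.left), IsClosedImmersion d ∧ BlowUp.IsEffCartierIdeal d.ker ∧
      (∀ p : D, ∃ q : D, q ⤳ p ∧ ((d ≫ X.hom).base q).asIdeal = ⊥) ∧
      Set.range d.base ∩ Models.specialFibreSet R X = {x} ∧
      ∃ (V : X.left.affineOpens) (_ : x ∈ V.1) (hVU : V.1 ≤ U),
        d.ker.ideal V = Ideal.span {X.left.presheaf.map (homOfLE hVU).op f} := by
  classical
  haveI : IsLocallyNoetherian X.left := LocallyOfFiniteType.isLocallyNoetherian X.hom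
  obtain ⟨ϖ, hirr⟩ := IsDiscreteValuationRing.exists_irreducible R
  have hϖ := hirr.maximalIdeal_eq
  haveI : IsNoetherianRing Γ(X.left, U) := IsLocallyNoetherian.component_noetherian ⟨U, hU⟩
  haveI : Nonempty U := ⟨⟨x, hxU⟩⟩
  let ρ : R →+* Γ(X.left, U) := (X.left.presheaf.map (homOfLE (le_top : U ≤ ⊤)).op).hom.comp (Coh.toGlobal X.hom)
  letI : Algebra R Γ(X.left, U) := ρ.toAlgebra
  haveI : Algebra.FiniteType R Γ(X.left, U) := by
    have h := X.hom.finiteType_appLE (isAffineOpen_top _) hU (by simp)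
    have e : ρ = (X.hom.appLE ⊤ U (by simp)).hom.comp (Scheme.ΓSpecIso (CommRingCat.of R)).inv.hom := by
      simp [ρ, Coh.toGlobal, Scheme.Hom.appLE, RingHom.comp_assoc]
    show ρ.FiniteType
    rw [e]
    exact h.comp (RingHom.FiniteType.of_surjective _
      (Scheme.ΓSpecIso (CommRingCat.of R)).symm.commRingCatIsoToRingEquiv.surjective)
  have hπ0 : algebraMap R Γ(X.left, U) ϖ ≠ 0 :=
    nonZeroDivisors.ne_zero (H26.FibreIdeal.unifOn_mem_nonZeroDivisors X hirr.ne_zero hU)
  let P := hU.primeIdealOf ⟨x, hxU⟩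
  haveI : P.asIdeal.IsMaximal := by
    rw [← PrimeSpectrum.isClosed_singleton_iff_isMaximal]
    have : ({P} : Set (PrimeSpectrum Γ(X.left, U))) = hU.fromSpec ⁻¹' {x} := by
      ext q
      refine ⟨fun h => ?_, fun h => hU.fromSpec.isOpenEmbedding.injective ?_⟩
      · rw [Set.mem_singleton_iff.1 h]; exact hU.fromSpec_primeIdealOf ⟨x, hxU⟩
      · exact (h : hU.fromSpec q = x).trans (hU.fromSpec_primeIdealOf ⟨x, hxU⟩).symm
    rw [this]
    exact hx.preimage hU.fromSpec.continuous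
  have hπP : algebraMap R Γ(X.left, U) ϖ ∈ P.asIdeal := (H26.FibreIdeal.mem_fibre_iff X hϖ hU x hxU).1 hxs
  have hfP : f ∈ P.asIdeal := by
    by_contra h
    exact hfx ((QCoh.mem_basicOpen_iff_notMem hU hxU f).2 h)
  have hpt : ∀ q : PrimeSpectrum Γ(X.left, U), ∃ hqU : hU.fromSpec q ∈ U, hU.primeIdealOf ⟨hU.fromSpec q, hqU⟩ = q :=
    fun q => by
      have hqU : hU.fromSpec q ∈ U := by
        have : hU.fromSpec q ∈ Set.range hU.fromSpec := ⟨q, rfl⟩
        rwa [hU.range_fromSpec] at this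
      exact ⟨hqU, hU.fromSpec.isOpenEmbedding.injective (hU.fromSpec_primeIdealOf ⟨_, hqU⟩)⟩
  have hiso' : ∀ q : Ideal Γ(X.left, U), q.IsPrime → f ∈ q → algebraMap R Γ(X.left, U) ϖ ∈ q → q ≤ P.asIdeal →
      q = P.asIdeal := fun q hq hfq hπq hle => by
    obtain ⟨hqU, e⟩ := hpt ⟨q, hq⟩
    have hs : hU.fromSpec ⟨q, hq⟩ ∈ Models.specialFibreSet R X :=
      (H26.FibreIdeal.mem_fibre_iff X hϖ hU _ hqU).2 (by rw [e]; exact hπq)
    have hsp : hU.fromSpec ⟨q, hq⟩ ⤳ x := by
      have h2 := ((PrimeSpectrum.le_iff_specializes ⟨q, hq⟩ P).1 hle).map hU.fromSpec.continuous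
      rw [hU.fromSpec_primeIdealOf] at h2
      exact h2
    by_contra hne
    refine (QCoh.mem_basicOpen_iff_notMem hU hqU f).1 (hiso _ hsp hs fun h => hne ?_) (by rw [e]; exact hfq)
    have h' : (⟨q, hq⟩ : PrimeSpectrum Γ(X.left, U)) = P :=
      hU.fromSpec.isOpenEmbedding.injective (h.trans (hU.fromSpec_primeIdealOf ⟨x, hxU⟩).symm)
    exact congrArg PrimeSpectrum.asIdeal h'
  obtain ⟨w, hwx, hws, hwne⟩ := hw
  have hwU := hwx.mem_open U.2 hxU
  have hwP : (hU.primeIdealOf ⟨w, hwU⟩).asIdeal ≤ P.asIdeal := by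
    refine (PrimeSpectrum.le_iff_specializes _ _).2 (hU.fromSpec.isOpenEmbedding.isInducing.specializes_iff.1 ?_)
    rw [hU.fromSpec_primeIdealOf, hU.fromSpec_primeIdealOf]
    exact hwx
  have hf' : ∀ q ∈ (Ideal.span {algebraMap R Γ(X.left, U) ϖ}).minimalPrimes, q ≤ P.asIdeal → f ∉ q :=
    fun q hq hle hfq => by
      have e := hiso' q hq.1.1 hfq (hq.1.2 (Ideal.mem_span_singleton_self _)) hle
      have h1 := hq.2 ⟨inferInstance, (Ideal.span_singleton_le_iff_mem _).2
        ((H26.FibreIdeal.mem_fibre_iff X hϖ hU w hwU).1 hws)⟩ (e ▸ hwP)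
      have h2 := congrArg hU.fromSpec (PrimeSpectrum.ext (le_antisymm hwP (e ▸ h1)) : hU.primeIdealOf ⟨w, hwU⟩ = P)
      rw [hU.fromSpec_primeIdealOf, hU.fromSpec_primeIdealOf] at h2
      exact hwne h2
  obtain ⟨g, hgP, hfg⟩ := H26.HorizCartier.finite_divisor_of_isolated hϖ hπ0 P.asIdeal hπP hfP hiso' hf'
  have hf0 : f ≠ 0 := fun h0 => hwne (by
    by_contra hne
    have := hiso w hwx hws hne
    rw [h0, Scheme.basicOpen_zero] at this
    exact this)
  let V := X.left.basicOpen g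
  have hV : IsAffineOpen V := hU.basicOpen g
  have hxV : x ∈ V := (QCoh.mem_basicOpen_iff_notMem hU hxU g).2 hgP
  haveI : Nonempty V := ⟨⟨x, hxV⟩⟩
  haveI : IsLocalization.Away g Γ(X.left, V) := hU.isLocalization_basicOpen g
  letI : Algebra R Γ(X.left, V) := ((algebraMap Γ(X.left, U) Γ(X.left, V)).comp ρ).toAlgebra
  haveI : IsScalarTower R Γ(X.left, U) Γ(X.left, V) := IsScalarTower.of_algebraMap_eq fun r => rfl
  obtain ⟨hfin, hloc, hgen⟩ := hfg Γ(X.left, V)
  let fV : Γ(X.left, V) := algebraMap Γ(X.left, U) Γ(X.left, V) f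
  let B := Γ(X.left, V) ⧸ Ideal.span {fV}
  let mk : Γ(X.left, V) ⟶ CommRingCat.of B := CommRingCat.ofHom (Ideal.Quotient.mk _)
  haveI : IsClosedImmersion (Spec.map mk) := IsClosedImmersion.spec_of_surjective _ Ideal.Quotient.mk_surjective
  let d : Spec (CommRingCat.of B) ⟶ X.left := Spec.map mk ≫ hV.fromSpec
  have hd : d ≫ X.hom = Spec.map (CommRingCat.ofHom (algebraMap R B)) := by
    have h := IsAffineOpen.SpecMap_appLE_fromSpec X.hom (isAffineOpen_top _) hV (le_top : V ≤ X.hom ⁻¹ᵁ ⊤)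
    rw [IsAffineOpen.fromSpec_top, Scheme.isoSpec_Spec_inv, ← Spec.map_comp] at h
    rw [Category.assoc, ← h, ← Spec.map_comp]
    refine congrArg Spec.map (CommRingCat.hom_ext (RingHom.ext fun r => ?_))
    show Ideal.Quotient.mk _ (X.hom.appLE ⊤ V le_top ((Scheme.ΓSpecIso (CommRingCat.of R)).inv r)) =
      Ideal.Quotient.mk _ (X.left.presheaf.map (homOfLE (X.left.basicOpen_le g)).op
        (X.left.presheaf.map (homOfLE (le_top : U ≤ ⊤)).op (Coh.toGlobal X.hom r)))
    rw [← ConcreteCategory.comp_apply (X.left.presheaf.map (homOfLE (le_top : U ≤ ⊤)).op), ← Functor.map_comp]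
    rfl
  haveI : IsFinite (Spec.map (CommRingCat.ofHom (algebraMap R B))) := by
    rw [IsFinite.SpecMap_iff]
    exact RingHom.finite_algebraMap.2 hfin
  haveI : IsFinite (d ≫ X.hom) := by rw [hd]; infer_instance
  haveI : IsProper d := IsProper.of_comp d X.hom
  haveI hdc : IsClosedImmersion d := IsClosedImmersion.of_isPreimmersion d d.isClosedMap.isClosed_range
  have hrange : Set.range d = V.1 ∩ {y | y ∉ X.left.basicOpen fV} := by
    ext y
    constructor
    · rintro ⟨q, rfl⟩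
      have hqV : d q ∈ V := by
        have : d q ∈ Set.range hV.fromSpec := ⟨Spec.map mk q, rfl⟩
        rwa [hV.range_fromSpec] at this
      refine ⟨hqV, fun hq => ?_⟩
      have h := (QCoh.mem_basicOpen_iff_notMem hV hqV fV).1 hq
      have e : hV.primeIdealOf ⟨d q, hqV⟩ = Spec.map mk q :=
        hV.fromSpec.isOpenEmbedding.injective ((hV.fromSpec_primeIdealOf _).trans rfl)
      rw [e] at h
      exact h (show Ideal.Quotient.mk _ fV ∈ q.asIdeal by
        rw [Ideal.Quotient.eq_zero_iff_mem.2 (Ideal.mem_span_singleton_self fV)]; exact zero_mem _)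
    · rintro ⟨hyV, hy⟩
      have h : fV ∈ (hV.primeIdealOf ⟨y, hyV⟩).asIdeal := by
        by_contra h
        exact hy ((QCoh.mem_basicOpen_iff_notMem hV hyV fV).2 h)
      have : hV.primeIdealOf ⟨y, hyV⟩ ∈ Set.range (PrimeSpectrum.comap (Ideal.Quotient.mk (Ideal.span {fV}))) := by
        rw [range_comap_of_surjective _ _ Ideal.Quotient.mk_surjective, PrimeSpectrum.mem_zeroLocus,
          Ideal.mk_ker, SetLike.coe_subset_coe, Ideal.span_singleton_le_iff_mem]
        exact h
      obtain ⟨q, hq⟩ := this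
      exact ⟨q, (congrArg hV.fromSpec hq).trans (hV.fromSpec_primeIdealOf ⟨y, hyV⟩)⟩
  have hkerV : d.ker.ideal ⟨V, hV⟩ = Ideal.span {fV} := by
    rw [Scheme.Hom.ker_apply]
    ext a
    rw [RingHom.mem_ker, ← Ideal.Quotient.eq_zero_iff_mem]
    have e : d.app V a = (Spec (CommRingCat.of B)).presheaf.map (homOfLE le_top).op
        ((Scheme.ΓSpecIso (CommRingCat.of B)).inv (mk a)) := by
      rw [Scheme.Hom.comp_app, hV.fromSpec_app_self]
      refine (ConcreteCategory.congr_hom ((Spec.map mk).naturality (eqToHom hV.fromSpec_preimage_self).op) _).trans ?_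
      show (Spec (CommRingCat.of B)).presheaf.map _ ((Spec.map mk).appTop ((Scheme.ΓSpecIso Γ(X.left, V)).inv a)) = _
      exact congrArg _ (ConcreteCategory.congr_hom (Scheme.ΓSpecIso_inv_naturality mk) a).symm
    have htop : d ⁻¹ᵁ V = ⊤ := by
      show Spec.map mk ⁻¹ᵁ (hV.fromSpec ⁻¹ᵁ V) = ⊤
      rw [hV.fromSpec_preimage_self]; rfl
    haveI : IsIso ((Spec (CommRingCat.of B)).presheaf.map (homOfLE (le_top : d ⁻¹ᵁ V ≤ ⊤)).op) := by
      have : IsIso (homOfLE (le_top : d ⁻¹ᵁ V ≤ ⊤)) := by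
        rw [Subsingleton.elim (homOfLE (le_top : d ⁻¹ᵁ V ≤ ⊤)) (eqToHom htop)]; infer_instance
      infer_instance
    rw [e, map_eq_zero_iff _ (ConcreteCategory.bijective_of_isIso _).1,
      map_eq_zero_iff _ (ConcreteCategory.bijective_of_isIso _).1]
    rfl
  refine ⟨Spec (CommRingCat.of B), d, hdc, fun y => ?_, fun p => ?_, ?_,
    ⟨V, hV⟩, hxV, X.left.basicOpen_le g, hkerV⟩
  · by_cases hy : y ∈ V
    · refine ⟨⟨V, hV⟩, hy, fV, mem_nonZeroDivisors_of_ne_zero ?_, ?_⟩
      · refine (IsLocalization.injective Γ(X.left, V) (M := Submonoid.powers g) ?_).ne_iff' (map_zero _) |>.2 hf0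
        exact powers_le_nonZeroDivisors_of_noZeroDivisors fun h => hgP (h ▸ zero_mem _)
      exact hkerV
    · have hy' : y ∉ Set.range d := fun h => hy (hrange.le h).1
      obtain ⟨W, hW, hyW, hWd⟩ := exists_isAffineOpen_mem_and_subset (x := y)
        (U := (⟨(Set.range d)ᶜ, d.isClosedMap.isClosed_range.isOpen_compl⟩ : X.left.Opens)) hy'
      refine ⟨⟨W, hW⟩, hyW, 1, one_mem _, ?_⟩
      rw [Scheme.Hom.ker_apply, Ideal.span_singleton_one]
      refine @RingHom.ker_eq_top_of_subsingleton _ _ _ _ _ _ _ ?_ _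
      have hE : d ⁻¹ᵁ W = ⊥ := SetLike.coe_injective (Set.eq_empty_iff_forall_notMem.2 fun z hz => hWd hz ⟨z, rfl⟩)
      rw [hE]; infer_instance
  · obtain ⟨q, hq, hqp⟩ := Ideal.exists_minimalPrimes_le (I := (⊥ : Ideal B)) (J := p.asIdeal) bot_le
    haveI := hq.1.1
    let q' : Spec (CommRingCat.of B) := (⟨q, hq.1.1⟩ : PrimeSpectrum B)
    refine ⟨q', (PrimeSpectrum.le_iff_specializes q' p).1 hqp, ?_⟩
    rw [hd]
    show Ideal.comap (algebraMap R B) q = ⊥
    by_contra hne
    have h := IsLocalRing.eq_maximalIdeal (Ideal.IsPrime.isMaximal (Ideal.comap_isPrime (algebraMap R B) q) hne)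
    exact hgen q hq (Ideal.mem_comap.1 (h ▸ hϖ ▸ Ideal.mem_span_singleton_self ϖ))
  · refine subset_antisymm ?_ (Set.singleton_subset_iff.2 ⟨hrange.ge ⟨hxV, fun h => ?_⟩, hxs⟩)
    · rintro _ ⟨⟨q, rfl⟩, hqs⟩
      have hxr : x ∈ Set.range d := hrange.ge ⟨hxV, fun h => by
        have e : X.left.basicOpen fV = V ⊓ X.left.basicOpen f := X.left.basicOpen_res _ _
        exact (QCoh.mem_basicOpen_iff_notMem hU hxU f).1 (e.le h).2 hfP⟩
      obtain ⟨q₀, hq₀⟩ := hxr
      have hmax : ∀ z : Spec (CommRingCat.of B), (d ≫ X.hom) z = IsLocalRing.closedPoint R → z = IsLocalRing.closedPoint B :=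
        fun z hz => by
          haveI := hfin
          rw [hd] at hz
          have hz' : Ideal.comap (algebraMap R B) z.asIdeal = IsLocalRing.maximalIdeal R := congrArg PrimeSpectrum.asIdeal hz
          haveI : z.asIdeal.IsMaximal := Ideal.isMaximal_of_isIntegral_of_isMaximal_comap z.asIdeal
            (hz' ▸ IsLocalRing.maximalIdeal.isMaximal R)
          exact PrimeSpectrum.ext (IsLocalRing.eq_maximalIdeal ‹_›)
      rw [Set.mem_singleton_iff, ← hq₀, hmax q hqs, hmax q₀ (by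
        show X.hom (d q₀) = _
        rw [hq₀]; exact hxs)]
    · have e : X.left.basicOpen fV = V ⊓ X.left.basicOpen f := X.left.basicOpen_res _ _
      exact (QCoh.mem_basicOpen_iff_notMem hU hxU f).1 (e.le h).2 hfP


end Groth.Agent.H26.HorizDiv
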