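import Groth.Agent.H26.IdealFactorPrimes
import Mathlib

/-!
# The degree of a horizontal point read in the local ring where it meets the closed fibre
-/

set_option autoImplicit false
set_option linter.style.haveILetI false

universe u

namespace Groth.Agent.H26.HorizLocal

open IsLocalRing
open scoped Pointwise

section Length

variable {R B : Type u} [CommRing R] [CommRing B] [Algebra R B]

/-- Lengths over the base of quotients by products. -/
theorem length_quotient_mul {a b : B} (hb : b ∈ nonZeroDivisors B) :
    Module.length R (B ⧸ Ideal.span {a * b}) =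
      Module.length R (B ⧸ Ideal.span {a}) + Module.length R (B ⧸ Ideal.span {b}) := by
  have h := Module.length_eq_add_of_exact (R := R)
    ((Ideal.mulQuot b (Ideal.span {a})).restrictScalars R)
    ((Ideal.quotOfMul b (Ideal.span {a})).restrictScalars R) (Ideal.mulQuot_injective (Ideal.span {a}) hb)
    (Ideal.quotOfMul_surjective (Ideal.span {a})) (Ideal.exact_mulQuot_quotOfMul (Ideal.span {a}))
  have lem : (({b} : Set B) • Ideal.span {a}) = Ideal.span {b * a} := by
    simp [← Ideal.submodule_span_eq, Submodule.set_smul_span]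
  have : (({b} : Set B) • Ideal.span {a}) = b • Ideal.span {a} := Submodule.singleton_set_smul (Ideal.span {a}) b
  rw [this] at lem
  rw [lem, mul_comm] at h
  exact h

theorem length_quotient_unit {a : B} (ha : IsUnit a) : Module.length R (B ⧸ Ideal.span {a}) = 0 := by
  haveI : Subsingleton (B ⧸ Ideal.span {a}) :=
    Ideal.Quotient.subsingleton_iff.2 (Ideal.span_singleton_eq_top.2 ha)
  exact Module.length_eq_zero

theorem length_quotient_pow [IsDomain B] {a : B} (ha : a ≠ 0) (m : ℕ) :
    Module.length R (B ⧸ Ideal.span {a ^ m}) = m • Module.length R (B ⧸ Ideal.span {a}) := by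
  induction m with
  | zero => rw [pow_zero, zero_smul, length_quotient_unit isUnit_one]
  | succ m ih => rw [pow_succ, length_quotient_mul (mem_nonZeroDivisors_of_ne_zero ha), ih, succ_nsmul]

theorem length_quotient_prod [IsDomain B] {ι : Type*} [DecidableEq ι] (s : Finset ι) (q : ι → B) (hq : ∀ i ∈ s, q i ≠ 0) :
    Module.length R (B ⧸ Ideal.span {∏ i ∈ s, q i}) = ∑ i ∈ s, Module.length R (B ⧸ Ideal.span {q i}) := by
  induction s using Finset.induction_on with
  | empty => rw [Finset.prod_empty, Finset.sum_empty, length_quotient_unit isUnit_one]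
  | insert a s ha ih =>
    rw [Finset.prod_insert ha, Finset.sum_insert ha, length_quotient_mul
      (mem_nonZeroDivisors_of_ne_zero (Finset.prod_ne_zero_iff.2 fun i hi => hq i (Finset.mem_insert_of_mem hi))),
      ih fun i hi => hq i (Finset.mem_insert_of_mem hi)]

end Length

/-- The rank of a finite domain over a DVR is the length of its closed fibre. -/
theorem length_quotient_uniformizer {R B : Type u} [CommRing R] [IsDomain R] [IsDiscreteValuationRing R]
    [CommRing B] [IsDomain B] [Algebra R B] [Module.Finite R B] {ϖ : R} (hϖ : maximalIdeal R = Ideal.span {ϖ})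
    (hinj : Function.Injective (algebraMap R B)) :
    Module.length R (B ⧸ Ideal.span {algebraMap R B ϖ}) = (Module.finrank R B : ℕ∞) := by
  haveI : FaithfulSMul R B := (faithfulSMul_iff_algebraMap_injective R B).2 hinj
  haveI : Module.IsTorsionFree R B := Module.IsTorsionFree.trans_faithfulSMul R B B
  haveI : Module.Free R B := Module.free_of_finite_type_torsion_free'
  let e := TensorProduct.quotTensorEquivQuotSMul B (maximalIdeal R)
  have h1 : (maximalIdeal R • ⊤ : Submodule R B) = (Ideal.span {algebraMap R B ϖ}).restrictScalars R := by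
    rw [Ideal.smul_top_eq_map, hϖ, Ideal.map_span, Set.image_singleton]
  let e2 : (B ⧸ (maximalIdeal R • ⊤ : Submodule R B)) ≃ₗ[R] B ⧸ Ideal.span {algebraMap R B ϖ} :=
    (Submodule.quotEquivOfEq _ _ h1) ≪≫ₗ Submodule.Quotient.restrictScalarsEquiv R _
  rw [← e2.length_eq, ← e.length_eq]
  show Module.length R (TensorProduct R (ResidueField R) B) = _
  rw [Module.length_eq_of_surjective (R := ResidueField R) IsLocalRing.residue_surjective,
    Module.length_eq_finrank, Module.finrank_baseChange]

/-- The degree is a positive combination of the exponents. -/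
theorem exists_coeffs {R : Type u} [CommRing R] [IsDomain R] [IsDiscreteValuationRing R]
    {B : Type u} [CommRing B] [IsDomain B] [IsLocalRing B] [Algebra R B] [Module.Finite R B]
    {ϖ : R} (hϖ : maximalIdeal R = Ideal.span {ϖ}) (hinj : Function.Injective (algebraMap R B))
    {n : ℕ} (q : Fin n → B) (hq : ∀ i, q i ∈ maximalIdeal B) (m : Fin n → ℕ) (hm : ∀ i, 0 < m i)
    (h : Associated (algebraMap R B ϖ) (∏ i, q i ^ m i)) :
    ∃ c : Fin n → ℕ, (∀ i, 1 ≤ c i) ∧ Module.finrank R B = ∑ i, c i * m i := by
  classical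
  have hϖ0 : ϖ ≠ 0 := fun h0 => IsDiscreteValuationRing.not_isField R
    (IsLocalRing.isField_iff_maximalIdeal_eq.2 (by rw [hϖ, h0, Ideal.span_singleton_eq_bot]))
  have hb0 : algebraMap R B ϖ ≠ 0 := fun h0 => hϖ0 (hinj (h0.trans (map_zero _).symm))
  have hq0 : ∀ i, q i ≠ 0 := fun i h0 => hb0 (by
    refine associated_zero_iff_eq_zero _ |>.1 (h.trans ?_)
    rw [Finset.prod_eq_zero (Finset.mem_univ i) (by rw [h0, zero_pow (hm i).ne'])])
  have hs : (Module.finrank R B : ℕ∞) = ∑ i, m i • Module.length R (B ⧸ Ideal.span {q i}) := by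
    rw [← length_quotient_uniformizer hϖ hinj, Ideal.span_singleton_eq_span_singleton.2 h,
      length_quotient_prod _ _ fun i _ => pow_ne_zero _ (hq0 i)]
    exact Finset.sum_congr rfl fun i _ => length_quotient_pow (hq0 i) _
  have hfin : ∀ i, Module.length R (B ⧸ Ideal.span {q i}) ≠ ⊤ := fun i htop => by
    have h1 : m i • Module.length R (B ⧸ Ideal.span {q i}) ≤ (Module.finrank R B : ℕ∞) :=
      hs ▸ Finset.single_le_sum (f := fun j => m j • Module.length R (B ⧸ Ideal.span {q j})) (fun j _ => bot_le) (Finset.mem_univ i)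
    rw [htop, nsmul_eq_mul, ENat.mul_top (by exact_mod_cast (hm i).ne')] at h1
    exact ENat.natCast_ne_top _ (top_le_iff.1 h1)
  refine ⟨fun i => (Module.length R (B ⧸ Ideal.span {q i})).toNat, fun i => ?_, ?_⟩
  · haveI : Nontrivial (B ⧸ Ideal.span {q i}) :=
      Ideal.Quotient.nontrivial_iff.2 (ne_top_of_le_ne_top (maximalIdeal.isMaximal B).ne_top
        ((Ideal.span_singleton_le_iff_mem _).2 (hq i)))
    refine Nat.one_le_iff_ne_zero.2 fun h0 => ?_
    rcases ENat.toNat_eq_zero.1 h0 with h0 | h0
    · exact (Module.length_pos (R := R) (M := B ⧸ Ideal.span {q i})).ne' h0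
    · exact hfin i h0
  · have : (Module.finrank R B : ℕ∞) =
        ((∑ i, (Module.length R (B ⧸ Ideal.span {q i})).toNat * m i : ℕ) : ℕ∞) := by
      rw [hs, Nat.cast_sum]
      refine Finset.sum_congr rfl fun i _ => ?_
      rw [Nat.cast_mul, ENat.natCast_toNat (hfin i), nsmul_eq_mul, mul_comm]
    exact_mod_cast this

/-- Fractions of a finite domain over a DVR: the rank is the degree. -/
theorem finrank_fractions {R : Type u} [CommRing R] [IsDomain R]
    {B : Type u} [CommRing B] [IsDomain B] [Algebra R B] [Module.Finite R B]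
    (K L : Type u) [Field K] [Field L] [Algebra R K] [IsFractionRing R K] [Algebra B L] [Algebra R L] [Algebra K L]
    [IsScalarTower R B L] [IsScalarTower R K L] (hinj : Function.Injective (algebraMap B L))
    (hinjR : Function.Injective (algebraMap R B))
    (hfrac : ∀ l : L, ∃ a b : B, algebraMap B L b ≠ 0 ∧ l * algebraMap B L b = algebraMap B L a) :
    Module.finrank K L = Module.finrank R B := by
  let f : B →ₗ[R] L := (IsScalarTower.toAlgHom R B L).toLinearMap
  have hunit : ∀ r : nonZeroDivisors R, algebraMap R L r ≠ 0 := fun r h => nonZeroDivisors.coe_ne_zero r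
    (hinjR (hinj (by rw [← IsScalarTower.algebraMap_apply, h, map_zero, map_zero])))
  haveI : IsLocalizedModule (nonZeroDivisors R) f := by
    refine ⟨fun r => ?_, fun l => ?_, fun {x₁ x₂} h => ⟨1, by rw [show x₁ = x₂ from hinj h]⟩⟩
    · refine (Module.End.isUnit_iff _).2 ⟨fun x y h => ?_, fun y => ⟨(algebraMap R L r)⁻¹ * y, ?_⟩⟩
      · simp only [Module.algebraMap_end_apply, Algebra.smul_def] at h
        exact mul_left_cancel₀ (hunit r) h
      · simp only [Module.algebraMap_end_apply, Algebra.smul_def]
        rw [← mul_assoc, mul_inv_cancel₀ (hunit r), one_mul]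
    · obtain ⟨a, b, hb, hl⟩ := hfrac l
      have hb0 : b ≠ 0 := fun h => hb (by rw [h, map_zero])
      haveI : Algebra.IsIntegral R B := Algebra.IsIntegral.of_finite R B
      obtain ⟨r, hr0, c, hc⟩ := (Algebra.IsAlgebraic.isAlgebraic (R := R) b).exists_nonzero_dvd
        (mem_nonZeroDivisors_of_ne_zero hb0)
      refine ⟨⟨a * c, ⟨r, mem_nonZeroDivisors_of_ne_zero hr0⟩⟩, ?_⟩
      show r • l = algebraMap B L (a * c)
      rw [Algebra.smul_def, IsScalarTower.algebraMap_apply R B L, hc, map_mul, map_mul, ← hl]
      ring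
  rw [IsLocalization.finrank_eq K (nonZeroDivisors R) le_rfl, IsLocalizedModule.finrank_eq (nonZeroDivisors R) f le_rfl]

end Groth.Agent.H26.HorizLocal
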