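import Groth.Prelude.Def_W4c5delpairindexchiIndex
import Groth.Agent.QsAlgLib.Point
import Mathlib

/-!
Finite algebras mapping to a variety and the index.
-/

universe u

open AlgebraicGeometry CategoryTheory

namespace Groth.Agent.H26.MultIndex

theorem finrank_mem_of_field {K : Type u} [Field K] {X : Scheme.{u}} (f : X ⟶ Spec (CommRingCat.of K))
    [LocallyOfFiniteType f] (F : Type u) [Field F] [Algebra K F] [Module.Finite K F]
    (a : Spec (CommRingCat.of F) ⟶ X) (ha : a ≫ f = Spec.map (CommRingCat.ofHom (algebraMap K F))) :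
    (Module.finrank K F : ℤ) ∈ Curv2.indexSubgroup f := by
  haveI : JacobsonSpace X := LocallyOfFiniteType.jacobsonSpace f
  haveI : LocallyOfFiniteType (a ≫ f) := by
    rw [ha, HasRingHomProperty.Spec_iff (P := @LocallyOfFiniteType)]
    exact RingHom.finiteType_algebraMap.2 inferInstance
  haveI : LocallyOfFiniteType a := locallyOfFiniteType_of_comp a f
  let z : Spec (CommRingCat.of F) := IsLocalRing.closedPoint F
  have hz : IsClosed ({a z} : Set X) :=
    a.closePoints_subset_preimage_closedPoints (IsLocalRing.isClosed_singleton_closedPoint F)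
  have hd : Module.finrank K F = f.residueDegree (a z) * a.residueDegree z := by
    rw [← QsAlgLib.residueDegree_specMap K z, ← CycLib.residueDegree_comp a f z, ha]
  rw [hd, Nat.cast_mul, mul_comm, ← smul_eq_mul]
  exact AddSubgroup.zsmul_mem _ (AddSubgroup.subset_closure (Set.mem_image_of_mem (fun x : X => (f.residueDegree x : ℤ)) hz)) _

theorem finrank_mem_of_finite {K : Type u} [Field K] {X : Scheme.{u}} (f : X ⟶ Spec (CommRingCat.of K))
    [LocallyOfFiniteType f] (B : Type u) [CommRing B] [Algebra K B] [Module.Finite K B]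
    (h : Spec (CommRingCat.of B) ⟶ X) (hh : h ≫ f = Spec.map (CommRingCat.ofHom (algebraMap K B))) :
    (Module.finrank K B : ℤ) ∈ Curv2.indexSubgroup f := by
  haveI : IsNoetherianRing B := IsNoetherianRing.of_finite K B
  haveI : IsArtinianRing B := IsArtinianRing.of_finite K B
  suffices H : ∀ (N : Type u) [AddCommGroup N] [Module B N], Module.Finite B N →
      ∀ [Module K N] [IsScalarTower K B N], (Module.finrank K N : ℤ) ∈ Curv2.indexSubgroup f from
    H B inferInstance
  intro N _ _ hN
  induction hN using IsNoetherianRing.induction_on_isQuotientEquivQuotientPrime B with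
  | subsingleton N =>
    intro _ _
    rw [Module.finrank_zero_of_subsingleton]
    exact zero_mem _
  | quotient N p e =>
    intro _ _
    haveI : p.asIdeal.IsMaximal := IsArtinianRing.isMaximal_of_isPrime p.asIdeal
    letI := Ideal.Quotient.field p.asIdeal
    rw [(e.restrictScalars K).finrank_eq]
    refine finrank_mem_of_field f (B ⧸ p.asIdeal)
      (Spec.map (CommRingCat.ofHom (Ideal.Quotient.mk p.asIdeal)) ≫ h) ?_
    rw [Category.assoc, hh, ← Spec.map_comp]
    rfl
  | exact N₁ N₂ N₃ g₁ g₂ hi hs he h₁ h₃ =>
    intro _ _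
    letI : Module K N₁ := Module.compHom N₁ (algebraMap K B)
    letI : Module K N₃ := Module.compHom N₃ (algebraMap K B)
    haveI : IsScalarTower K B N₁ := IsScalarTower.of_algebraMap_smul fun _ _ => rfl
    haveI : IsScalarTower K B N₃ := IsScalarTower.of_algebraMap_smul fun _ _ => rfl
    haveI : Module.Finite K N₂ := Module.Finite.trans B N₂
    have hsum : Module.finrank K N₂ = Module.finrank K N₁ + Module.finrank K N₃ := by
      have e1 := ((g₂.restrictScalars K).quotKerEquivOfSurjective hs).finrank_eq
      have e2 : Module.finrank K N₁ = Module.finrank K (LinearMap.ker (g₂.restrictScalars K)) := by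
        refine ((LinearEquiv.ofInjective (g₁.restrictScalars K) hi) ≪≫ₗ LinearEquiv.ofEq _ _ ?_).finrank_eq
        exact (LinearMap.exact_iff.1 (show Function.Exact (g₁.restrictScalars K) (g₂.restrictScalars K) from he)).symm
      rw [e2, ← e1, ← Submodule.finrank_quotient_add_finrank (LinearMap.ker (g₂.restrictScalars K))]
      ring
    rw [hsum, Nat.cast_add]
    exact add_mem h₁ h₃

end Groth.Agent.H26.MultIndex
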