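import Groth.Agent.H26.MultSlice
import Groth.Agent.RegLoc6.Seq
import Groth.Agent.RegLoc6.Open
import Groth.Agent.RegLoc6.J2
import Groth.Agent.H26.HorizCartierAlg
import Mathlib

/-!
A finite free point through a component of the closed fibre, of degree the multiplicity.
-/

open RingTheory.Sequence TensorProduct IsLocalRing

namespace Groth.Agent.H26.MultPoint

universe u

theorem j0_field (F : Type u) [CommRing F] [IsDomain F] (hF : IsField F) : RegLoc6.J0 F := by
  let := hF.toField
  refine ⟨1, one_ne_zero, fun Q hQ _ => ?_⟩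
  have hQ0 : Q = ⊥ := Ideal.eq_bot_of_prime Q
  have hle : Q.primeCompl ≤ IsUnit.submonoid F := fun x hx => by
    refine (IsUnit.mem_submonoid_iff x).2 (isUnit_iff_ne_zero.2 fun h0 => hx ?_)
    rw [h0]
    exact zero_mem _
  exact IsRegularLocalRing.of_ringEquiv (IsLocalization.atUnits F Q.primeCompl hle).toRingEquiv

/-- Reduction modulo an ideal, on the quotient by a sequence. -/
noncomputable def quotQuot {L : Type u} [CommRing L] (J : Ideal L) (I : Ideal L) :
    ((L ⧸ J) ⧸ (I • ⊤ : Submodule L (L ⧸ J))) ≃ₗ[L] L ⧸ (J ⊔ I) :=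
  Submodule.quotEquivOfEq _ (Submodule.map (Submodule.mkQ J) I) (by
    conv_rhs => rw [show (I : Submodule L L) = I • (⊤ : Submodule L L) by rw [smul_eq_mul, Ideal.mul_top]]
    rw [Submodule.map_smul'', Submodule.map_top, Submodule.range_mkQ]) ≪≫ₗ
  Submodule.quotientQuotientEquivQuotientSup J I

theorem exists_finite_free_point (R : Type u) [CommRing R] [IsDomain R] [IsDiscreteValuationRing R]
    [HenselianLocalRing R] [IsAlgClosed (ResidueField R)] {ϖ : R} (hϖ : maximalIdeal R = Ideal.span {ϖ})
    (A : Type u) [CommRing A] [Algebra R A] [Algebra.FiniteType R A] [Module.Flat R A]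
    (P : Ideal A) [P.IsPrime] (hP : P ∈ (Ideal.span {algebraMap R A ϖ}).minimalPrimes) :
    ∃ (E : Type u) (_ : CommRing E) (_ : Algebra R E) (_ : A →ₐ[R] E),
      Module.Finite R E ∧ Module.Free R E ∧
      Module.length (Localization.AtPrime P ⧸ Ideal.span {algebraMap R (Localization.AtPrime P) ϖ})
        (Localization.AtPrime P ⧸ Ideal.span {algebraMap R (Localization.AtPrime P) ϖ}) =
        (Module.finrank R E : ℕ∞) := by
  classical
  have : IsNoetherianRing A := Algebra.FiniteType.isNoetherianRing R A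
  let w : A := algebraMap R A ϖ
  have hwP : w ∈ P := hP.1.2 (Ideal.mem_span_singleton_self _)
  obtain ⟨g, hgP, n, hn⟩ := MultSlice.exists_mult w P hP (A ⧸ Ideal.span {w}) (fun x => by
    obtain ⟨x, rfl⟩ := Ideal.Quotient.mk_surjective x
    rw [Algebra.smul_def, Ideal.Quotient.algebraMap_eq,
      Ideal.Quotient.eq_zero_iff_mem.2 (Ideal.mem_span_singleton_self w), zero_mul])
  have hmapw : ∀ (L : Type u) [CommRing L] [Algebra A L] [Algebra R L] [IsScalarTower R A L],
      (Ideal.span {w}).map (algebraMap A L) = Ideal.span {algebraMap R L ϖ} := fun L _ _ _ _ => by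
    rw [Ideal.map_span, Set.image_singleton, IsScalarTower.algebraMap_apply R A L]
  -- the multiplicity at the generic point of the component
  let LP := Localization.AtPrime P
  have hnP : Module.length (LP ⧸ Ideal.span {algebraMap R LP ϖ}) (LP ⧸ Ideal.span {algebraMap R LP ϖ}) = n := by
    have hone : Module.length LP ((LP ⧸ P.map (algebraMap A LP)) ⧸
        (Ideal.ofList ([] : List LP) • ⊤ : Submodule LP (LP ⧸ P.map (algebraMap A LP)))) = 1 := by
      rw [(quotQuot (P.map (algebraMap A LP)) (Ideal.ofList [])).length_eq, Ideal.ofList_nil, sup_bot_eq,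
        IsLocalization.AtPrime.map_eq_maximalIdeal P LP, Module.length_eq_one_iff,
        isSimpleModule_iff_quot_maximal]
      exact ⟨maximalIdeal LP, maximalIdeal.isMaximal LP, ⟨LinearEquiv.refl _ _⟩⟩
    obtain ⟨-, hl⟩ := hn LP (IsLocalization.map_units LP (⟨g, hgP⟩ : P.primeCompl)) []
      (IsWeaklyRegular.nil _ _) hone
    rw [← (Module.length_eq_of_surjective (S := LP) (R := LP ⧸ Ideal.span {algebraMap R LP ϖ})
      Ideal.Quotient.mk_surjective), ← hl]
    exact ((Submodule.quotEquivOfEqBot _ (by rw [Ideal.ofList_nil, Submodule.bot_smul])) ≪≫ₗ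
      MultSlice.quotEquiv LP (Ideal.span {w}) ≪≫ₗ Submodule.quotEquivOfEq _ _ (hmapw LP)).length_eq.symm
  have hfin : n ≠ ⊤ := by
    rw [← hnP]
    have : Ring.KrullDimLE 0 (LP ⧸ Ideal.span {algebraMap R LP ϖ}) := by
      refine Ring.krullDimLE_zero_iff.2 fun Q hQ => ?_
      let Q' := Q.comap (Ideal.Quotient.mk (Ideal.span {algebraMap R LP ϖ}))
      have : Q'.IsPrime := Ideal.IsPrime.comap _
      let Q₀ := Q'.comap (algebraMap A LP)
      have hle : Q₀ ≤ P := fun a ha => by
        by_contra h
        exact (inferInstance : Q'.IsPrime).ne_top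
          (Ideal.eq_top_of_isUnit_mem _ ha (IsLocalization.map_units LP (⟨a, h⟩ : P.primeCompl)))
      have hw0 : Ideal.span {w} ≤ Q₀ := (Ideal.span_singleton_le_iff_mem _).2 (by
        show Ideal.Quotient.mk _ (algebraMap A LP (algebraMap R A ϖ)) ∈ Q
        rw [← IsScalarTower.algebraMap_apply, Ideal.Quotient.eq_zero_iff_mem.2 (Ideal.mem_span_singleton_self _)]
        exact zero_mem _)
      have h0 : P ≤ Q₀ := hP.2 ⟨inferInstance, hw0⟩ hle
      have hmax : maximalIdeal LP ≤ Q' := by
        rw [← IsLocalization.AtPrime.map_eq_maximalIdeal P LP, Ideal.map_le_iff_le_comap]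
        exact h0
      have hQ'max : Q'.IsMaximal := by
        rw [← (maximalIdeal.isMaximal LP).eq_of_le (inferInstance : Q'.IsPrime).ne_top hmax]
        infer_instance
      exact Ideal.map_eq_top_or_isMaximal_of_surjective _ Ideal.Quotient.mk_surjective hQ'max |>.resolve_left
        (by rw [Ideal.map_comap_of_surjective _ Ideal.Quotient.mk_surjective]; exact hQ.ne_top) |> fun h => by
          rwa [Ideal.map_comap_of_surjective _ Ideal.Quotient.mk_surjective] at h
    have : IsArtinianRing (LP ⧸ Ideal.span {algebraMap R LP ϖ}) :=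
      isArtinianRing_iff_isNoetherianRing_krullDimLE_zero.2 ⟨inferInstance, this⟩
    exact Module.length_ne_top
  -- a closed point at which the reduced component is regular
  let k := ResidueField R
  have hkP : maximalIdeal R ≤ P.comap (algebraMap R A) := by
    rw [hϖ, Ideal.span_singleton_le_iff_mem]; exact hwP
  let := (Ideal.quotientMap P (algebraMap R A) hkP).toAlgebra
  have : IsScalarTower R (R ⧸ maximalIdeal R) (A ⧸ P) := .of_algebraMap_eq fun _ => rfl
  have : Algebra.FiniteType R (A ⧸ P) := .of_surjective (Ideal.Quotient.mkₐ R P) Ideal.Quotient.mk_surjective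
  have : Algebra.FiniteType (R ⧸ maximalIdeal R) (A ⧸ P) := .of_restrictScalars_finiteType R _ _
  let := Ideal.Quotient.field (maximalIdeal R)
  obtain ⟨s, hs0, hs⟩ := RegLoc6.J0.of_finiteType_domain (A := R ⧸ maximalIdeal R) (fun F _ _ _ hFfin =>
    j0_field F (isField_of_isIntegral_of_isField' (R := R ⧸ maximalIdeal R) (S := F) (Field.toIsField _))) (A ⧸ P)
  have : IsJacobsonRing (A ⧸ P) := isJacobsonRing_of_finiteType (A := R ⧸ maximalIdeal R)
  have hsg : s * Ideal.Quotient.mk P g ≠ 0 :=
    mul_ne_zero hs0 (by rwa [Ne, Ideal.Quotient.eq_zero_iff_mem])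
  obtain ⟨M, hM, hsgM⟩ : ∃ M : Ideal (A ⧸ P), M.IsMaximal ∧ s * Ideal.Quotient.mk P g ∉ M := by
    by_contra h
    push Not at h
    have hj : s * Ideal.Quotient.mk P g ∈ Ideal.jacobson (⊥ : Ideal (A ⧸ P)) :=
      Submodule.mem_sInf.2 fun M hM => h M hM.2
    rw [IsJacobsonRing.out ‹_› (Ideal.bot_prime.isRadical), Ideal.mem_bot] at hj
    exact hsg hj
  let m := M.comap (Ideal.Quotient.mk P)
  have hm : m.IsMaximal := Ideal.comap_isMaximal_of_surjective _ Ideal.Quotient.mk_surjective
  have hPm : P ≤ m := fun a ha => by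
    show Ideal.Quotient.mk P a ∈ M
    rw [Ideal.Quotient.eq_zero_iff_mem.2 ha]; exact zero_mem _
  have hgm : g ∉ m := fun h => hsgM (M.mul_mem_left _ h)
  have hreg : IsRegularLocalRing (Localization.AtPrime M) := hs M fun h => hsgM (M.mul_mem_right _ h)
  let L := Localization.AtPrime m
  have : IsNoetherianRing L := IsLocalization.isNoetherianRing m.primeCompl L inferInstance
  obtain ⟨e⟩ := RegLoc6.exists_quotLocalEquiv P m M rfl
  let PL := P.map (algebraMap A L)
  have : IsRegularLocalRing (L ⧸ PL) := IsRegularLocalRing.of_ringEquiv e.symm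
  obtain ⟨rs', hrs', hspan⟩ := RegLoc6.exists_regularSequence_maximalIdeal (L ⧸ PL)
  let lift := Function.surjInv (Ideal.Quotient.mk_surjective (I := PL))
  let rs := rs'.map lift
  have hmap : rs.map (Ideal.Quotient.mk PL) = rs' := by
    rw [List.map_map]
    exact (List.map_congr_left fun a _ => Function.surjInv_eq _ a).trans (List.map_id' rs')
  have hwreg : IsWeaklyRegular (L ⧸ PL) rs := by
    rw [← isWeaklyRegular_map_algebraMap_iff (L ⧸ PL), Ideal.Quotient.algebraMap_eq, hmap]
    exact hrs'.toIsWeaklyRegular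
  let I := Ideal.ofList rs
  have hsup : PL ⊔ I = maximalIdeal L := by
    have h1 : I.map (Ideal.Quotient.mk PL) = maximalIdeal (L ⧸ PL) := by rw [Ideal.map_ofList, hmap, hspan]
    have h2 := congrArg (Ideal.comap (Ideal.Quotient.mk PL)) h1
    rw [Ideal.comap_map_of_surjective _ Ideal.Quotient.mk_surjective, ← RingHom.ker_eq_comap_bot,
      Ideal.mk_ker, sup_comm] at h2
    rw [h2]
    exact (IsLocalRing.eq_maximalIdeal (Ideal.comap_isMaximal_of_surjective _ Ideal.Quotient.mk_surjective
      (K := maximalIdeal (L ⧸ PL))))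
  have hlen1 : Module.length L ((L ⧸ PL) ⧸ (Ideal.ofList rs • ⊤ : Submodule L (L ⧸ PL))) = 1 := by
    rw [(quotQuot PL (Ideal.ofList rs)).length_eq, hsup, Module.length_eq_one_iff,
      isSimpleModule_iff_quot_maximal]
    exact ⟨maximalIdeal L, maximalIdeal.isMaximal L, ⟨LinearEquiv.refl _ _⟩⟩
  obtain ⟨hwN, hlN⟩ := hn L (IsLocalization.map_units L (⟨g, hgm⟩ : m.primeCompl)) rs hwreg hlen1
  let p : L := algebraMap R L ϖ
  have hpm : p ∈ maximalIdeal L := by
    rw [show p = algebraMap A L w from IsScalarTower.algebraMap_apply R A L ϖ,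
      ← IsLocalization.AtPrime.map_eq_maximalIdeal m L]
    exact Ideal.mem_map_of_mem _ (hPm hwP)
  let eN : L ⊗[A] (A ⧸ Ideal.span {w}) ≃ₗ[L] L ⧸ Ideal.span {p} :=
    MultSlice.quotEquiv L (Ideal.span {w}) ≪≫ₗ Submodule.quotEquivOfEq _ _ (hmapw L)
  obtain ⟨he, hel⟩ := MultSlice.congr_equiv rs eN
  have : Module.Flat R L := Module.Flat.trans R A L
  have hϖ0 : ϖ ≠ 0 := by
    rintro rfl
    exact IsDiscreteValuationRing.not_a_field R (hϖ.trans (Ideal.span_singleton_eq_bot.2 rfl))
  have hpreg : IsSMulRegular L p := fun a b h =>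
    Module.Flat.isSMulRegular_of_nonZeroDivisors (M := L) (mem_nonZeroDivisors_of_ne_zero hϖ0)
      (by simpa [p, Algebra.smul_def] using h)
  have hcons : IsWeaklyRegular L (p :: rs) := by
    refine IsWeaklyRegular.cons hpreg ?_
    refine ((Submodule.quotEquivOfEq _ _ ?_).isWeaklyRegular_congr rs).2 (he.1 hwN)
    rw [← Submodule.ideal_span_singleton_smul, smul_eq_mul, Ideal.mul_top]
  have hrsm : ∀ r ∈ rs, r ∈ maximalIdeal L := fun r hr => by
    rw [← hsup]
    exact Ideal.mem_sup_right (Ideal.subset_span hr)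
  have hperm : IsWeaklyRegular L (rs ++ [p]) :=
    IsLocalRing.isWeaklyRegular_of_perm_of_subset_maximalIdeal hcons
      (List.perm_append_singleton p rs).symm (fun r hr => by
        rcases List.mem_cons.1 hr with rfl | hr
        exacts [hpm, hrsm r hr])
  have hpI : IsSMulRegular (L ⧸ I) p := by
    have h := hperm.regular_mod_prev rs.length (by simp)
    simp only [List.take_left, List.getElem_concat_length] at h
    refine ((Submodule.quotEquivOfEq _ _ ?_).isSMulRegular_congr p).1 h
    rw [smul_eq_mul, Ideal.mul_top, List.take_append_of_le_length le_rfl, List.take_length]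
  have hIm : I ≤ maximalIdeal L := Ideal.span_le.2 hrsm
  let E := L ⧸ I
  have : Nontrivial E := Ideal.Quotient.nontrivial_iff.2 fun h => (maximalIdeal.isMaximal L).ne_top
    (top_le_iff.1 (h ▸ hIm))
  have : IsLocalRing E := .of_surjective' _ Ideal.Quotient.mk_surjective
  have hlE : Module.length L (L ⧸ (I ⊔ Ideal.span {p})) = n := by
    rw [← hlN, hel, (quotQuot (Ideal.span {p}) (Ideal.ofList rs)).length_eq, sup_comm]
  -- finiteness over the base
  let J := I.comap (algebraMap A L)
  have hJm : J ≤ m := fun a ha => by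
    by_contra h
    exact (maximalIdeal.isMaximal L).ne_top
      (Ideal.eq_top_of_isUnit_mem _ (hIm ha) (IsLocalization.map_units L (⟨a, h⟩ : m.primeCompl)))
  let D := A ⧸ J
  let MD : Ideal D := m.map (Ideal.Quotient.mk J)
  have hcomapMD : MD.comap (Ideal.Quotient.mk J) = m := by
    rw [Ideal.comap_map_of_surjective _ Ideal.Quotient.mk_surjective, ← RingHom.ker_eq_comap_bot,
      Ideal.mk_ker, sup_eq_left.2 hJm]
  have hMD : MD.IsMaximal := by
    rcases Ideal.map_eq_top_or_isMaximal_of_surjective _ (Ideal.Quotient.mk_surjective (I := J)) hm with h | h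
    · exact absurd (hcomapMD.symm.trans ((congrArg (Ideal.comap _) h).trans Ideal.comap_top)) hm.ne_top
    · exact h
  have hwMD : algebraMap R D ϖ ∈ MD := Ideal.mem_map_of_mem _ (hPm hwP)
  have : MD.LiesOver (maximalIdeal R) := ⟨(maximalIdeal.isMaximal R).eq_of_le
    (Ideal.IsPrime.comap _).ne_top (by rw [hϖ, Ideal.span_singleton_le_iff_mem]; exact hwMD)⟩
  have : IsArtinianRing (L ⧸ (I ⊔ Ideal.span {p})) := by
    have : IsFiniteLength L (L ⧸ (I ⊔ Ideal.span {p})) :=
      Module.length_ne_top_iff.1 (hlE ▸ hfin)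
    have := (isFiniteLength_iff_isNoetherian_isArtinian.1 this).2
    exact isArtinian_of_tower L this
  have hmin : MD ∈ (Ideal.span {algebraMap R D ϖ}).minimalPrimes := by
    refine ⟨⟨inferInstance, (Ideal.span_singleton_le_iff_mem _).2 hwMD⟩, fun q ⟨hq, hqw⟩ hle => ?_⟩
    let Q := q.comap (Ideal.Quotient.mk J)
    have : Q.IsPrime := Ideal.IsPrime.comap _
    have hQm : Q ≤ m := hcomapMD ▸ Ideal.comap_mono hle
    have hJQ : J ≤ Q := fun a ha => by
      show Ideal.Quotient.mk J a ∈ q
      rw [Ideal.Quotient.eq_zero_iff_mem.2 ha]; exact zero_mem _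
    have hwQ : w ∈ Q := hqw (Ideal.mem_span_singleton_self _)
    let QL := Q.map (algebraMap A L)
    have hd : Disjoint (m.primeCompl : Set A) Q := Set.disjoint_left.2 fun a ha h => ha (hQm h)
    have : QL.IsPrime := IsLocalization.isPrime_of_isPrime_disjoint m.primeCompl L Q inferInstance hd
    have hle' : I ⊔ Ideal.span {p} ≤ QL := by
      refine sup_le ?_ ?_
      · rw [← IsLocalization.map_comap m.primeCompl L I]; exact Ideal.map_mono hJQ
      · rw [← hmapw L]; exact Ideal.map_mono ((Ideal.span_singleton_le_iff_mem _).2 hwQ)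
    have h1 : (QL.map (Ideal.Quotient.mk (I ⊔ Ideal.span {p}))).IsPrime :=
      Ideal.map_isPrime_of_surjective Ideal.Quotient.mk_surjective (by rwa [Ideal.mk_ker])
    have h2 := IsArtinianRing.isMaximal_of_isPrime (QL.map (Ideal.Quotient.mk (I ⊔ Ideal.span {p})))
    have h3 : QL.IsMaximal := by
      have := Ideal.comap_isMaximal_of_surjective _ (Ideal.Quotient.mk_surjective (I := I ⊔ Ideal.span {p}))
        (K := QL.map (Ideal.Quotient.mk (I ⊔ Ideal.span {p})))
      rwa [Ideal.comap_map_of_surjective _ Ideal.Quotient.mk_surjective, ← RingHom.ker_eq_comap_bot,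
        Ideal.mk_ker, sup_eq_left.2 hle'] at this
    have h4 : Q = m := by
      rw [← IsLocalization.comap_map_of_isPrime_disjoint m.primeCompl L inferInstance hd,
        show Q.map (algebraMap A L) = maximalIdeal L from IsLocalRing.eq_maximalIdeal h3,
        IsLocalization.AtPrime.under_maximalIdeal L m]
    rw [← Ideal.map_comap_of_surjective _ Ideal.Quotient.mk_surjective q]
    exact Ideal.map_mono h4.ge
  have : Algebra.FiniteType R D := .of_surjective (Ideal.Quotient.mkₐ R J) Ideal.Quotient.mk_surjective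
  have : Algebra.QuasiFiniteAt R MD := HorizCartier.quasiFiniteAt_of_isolated hϖ MD hmin
  have hfinloc := Groth.Agent.Hensel.exists_finite_localization_of_quasiFiniteAt (R := R) (S := D) MD
  let ψ : D →ₐ[R] E := Ideal.quotientMapₐ I (IsScalarTower.toAlgHom R A L) le_rfl
  have hψu : ∀ d : MD.primeCompl, IsUnit (ψ d) := fun ⟨d, hd⟩ => by
    obtain ⟨a, rfl⟩ := Ideal.Quotient.mk_surjective d
    exact (IsLocalization.map_units L (⟨a, fun h => hd (Ideal.mem_map_of_mem _ h)⟩ : m.primeCompl)).map
      (Ideal.Quotient.mk I)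
  let Ψ : Localization.AtPrime MD →ₐ[R] E := IsLocalization.liftAlgHom (M := MD.primeCompl) hψu
  have hΨs : Function.Surjective Ψ := fun x => by
    obtain ⟨x, rfl⟩ := Ideal.Quotient.mk_surjective x
    obtain ⟨a, ⟨s, hs⟩, rfl⟩ := IsLocalization.exists_mk'_eq m.primeCompl x
    refine ⟨IsLocalization.mk' _ (Ideal.Quotient.mk J a)
      (⟨Ideal.Quotient.mk J s, fun h => hs (hcomapMD.le h)⟩ : MD.primeCompl), ?_⟩
    rw [IsLocalization.coe_liftAlgHom, IsLocalization.lift_mk'_spec]
    show Ideal.Quotient.mk I (algebraMap A L a) = Ideal.Quotient.mk I (algebraMap A L s) * Ideal.Quotient.mk I _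
    rw [← map_mul, mul_comm, IsLocalization.mk'_spec]
  have : Module.Finite R E := Module.Finite.of_surjective Ψ.toLinearMap hΨs
  -- freeness
  have hregR : IsSMulRegular E ϖ := fun a b h => hpI (by
    show algebraMap R L ϖ • a = algebraMap R L ϖ • b; rw [algebraMap_smul, algebraMap_smul]; exact h)
  have : Module.IsTorsionFree R E := by
    refine ⟨fun r hr a b h => ?_⟩
    have hr0 : r ≠ 0 := hr.ne_zero
    obtain ⟨j, u, rfl⟩ := IsDiscreteValuationRing.eq_unit_mul_pow_irreducible hr0
      ((IsDiscreteValuationRing.irreducible_iff_uniformizer ϖ).2 hϖ)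
    exact (IsSMulRegular.mul ((u.isUnit.isSMulRegular E)) (hregR.pow j)) h
  have : Module.Free R E := inferInstance
  refine ⟨E, inferInstance, inferInstance, (Ideal.Quotient.mkₐ R I).comp (IsScalarTower.toAlgHom R A L),
    inferInstance, inferInstance, ?_⟩
  -- the rank is the multiplicity
  have : IsLocalHom (algebraMap R E) := ⟨fun r hr => by
    by_contra h
    have h1 : r ∈ Ideal.span {ϖ} := hϖ ▸ h
    obtain ⟨c, rfl⟩ := Ideal.mem_span_singleton'.1 h1
    rw [map_mul, IsUnit.mul_iff] at hr
    have h2 : algebraMap R E ϖ ∈ (maximalIdeal L).map (Ideal.Quotient.mk I) := Ideal.mem_map_of_mem _ hpm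
    have h3 := Ideal.eq_top_of_isUnit_mem _ h2 hr.2
    have h4 := congrArg (Ideal.comap (Ideal.Quotient.mk I)) h3
    rw [Ideal.comap_map_of_surjective _ Ideal.Quotient.mk_surjective, ← RingHom.ker_eq_comap_bot,
      Ideal.mk_ker, Ideal.comap_top, sup_eq_left.2 hIm] at h4
    exact (maximalIdeal.isMaximal L).ne_top h4⟩
  have : Module.Finite (ResidueField R) (ResidueField E) :=
    Module.Finite.of_restrictScalars_finite R _ _
  have hres : Module.length (ResidueField R) (ResidueField E) = 1 := by
    rw [Module.length_eq_finrank]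
    have hb : Function.Bijective (algebraMap (ResidueField R) (ResidueField E)) :=
      ⟨RingHom.injective _, IsAlgClosed.algebraMap_bijective_of_isIntegral.2⟩
    rw [← (LinearEquiv.ofBijective (Algebra.linearMap _ _) hb).finrank_eq, Module.finrank_self]
    rfl
  let T := E ⧸ Ideal.span {algebraMap R E ϖ}
  have hTn : Module.length E T = n := by
    rw [← hlE, ← Module.length_eq_of_surjective (S := L) (R := E) (M := T) Ideal.Quotient.mk_surjective]
    refine ((DoubleQuot.quotQuotEquivQuotSupₐ L I (Ideal.span {p})).toLinearEquiv.length_eq.symm.trans ?_).symm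
    refine (Submodule.quotEquivOfEq _ _ ?_ |>.restrictScalars L).length_eq
    rw [Ideal.map_span, Set.image_singleton]
    rfl
  have hR : Module.length R T = n := by
    rw [IsLocalRing.length_restrictScalars (A := R) (B := E), hTn, hres, mul_one]
  have hrank : Module.length R T = (Module.finrank R E : ℕ∞) := by
    let b := Module.Free.chooseBasis R E
    let e : E ≃ₗ[R] (Module.Free.ChooseBasisIndex R E → R) := b.equivFun
    let q : E →ₗ[R] (Module.Free.ChooseBasisIndex R E → ResidueField R) :=
      (LinearMap.compLeft (Algebra.linearMap R (ResidueField R)) _).comp e.toLinearMap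
    have hq : Function.Surjective q :=
      ((Ideal.Quotient.mk_surjective (I := maximalIdeal R)).comp_left).comp e.surjective
    have hker : (Ideal.span {algebraMap R E ϖ}).restrictScalars R = LinearMap.ker q := by
      ext x
      rw [Submodule.restrictScalars_mem, Ideal.mem_span_singleton', LinearMap.mem_ker]
      constructor
      · rintro ⟨c, rfl⟩
        ext i
        show algebraMap R (ResidueField R) (e (c * algebraMap R E ϖ) i) = 0
        rw [mul_comm, ← Algebra.smul_def, map_smul, Pi.smul_apply, smul_eq_mul, map_mul,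
          show algebraMap R (ResidueField R) ϖ = 0 from
            Ideal.Quotient.eq_zero_iff_mem.2 (hϖ ▸ Ideal.mem_span_singleton_self ϖ), zero_mul]
      · intro hx
        have hi : ∀ i, ∃ c, c * ϖ = e x i := fun i => by
          have h : algebraMap R (ResidueField R) (e x i) = 0 := congrFun hx i
          exact Ideal.mem_span_singleton'.1 (hϖ ▸ Ideal.Quotient.eq_zero_iff_mem.1 h)
        choose c hc using hi
        refine ⟨e.symm c, e.injective ?_⟩
        rw [mul_comm, ← Algebra.smul_def, map_smul, e.apply_symm_apply]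
        ext i
        rw [Pi.smul_apply, smul_eq_mul, mul_comm, hc]
    have heT : Module.length R T =
        Module.length R (Module.Free.ChooseBasisIndex R E → ResidueField R) :=
      ((Submodule.Quotient.restrictScalarsEquiv R _).symm ≪≫ₗ Submodule.quotEquivOfEq _ _ hker ≪≫ₗ
        q.quotKerEquivOfSurjective hq).length_eq
    have hk : Module.length R (ResidueField R) = 1 := by
      rw [Module.length_eq_one_iff, isSimpleModule_iff_quot_maximal]
      exact ⟨maximalIdeal R, maximalIdeal.isMaximal R, ⟨LinearEquiv.refl _ _⟩⟩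
    rw [heT, Module.length_pi_of_fintype, Module.finrank_eq_card_chooseBasisIndex]
    simp [hk]
  rw [hnP, ← hR, hrank]

end Groth.Agent.H26.MultPoint
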