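import Mathlib

/-!
Multiplicity of a module along a minimal prime, computed on a slice.
-/

open RingTheory.Sequence TensorProduct Function

namespace Groth.Agent.H26.MultSlice

universe u v

theorem regular_ext {L : Type u} [CommRing L] (rs : List L) :
    ∀ (M₁ : Type v) [AddCommGroup M₁] [Module L M₁] (M₂ : Type v) [AddCommGroup M₂] [Module L M₂]
      (M₃ : Type v) [AddCommGroup M₃] [Module L M₃] (f : M₁ →ₗ[L] M₂) (g : M₂ →ₗ[L] M₃),
      Injective f → Surjective g → Exact f g → IsWeaklyRegular M₁ rs → IsWeaklyRegular M₃ rs →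
      IsWeaklyRegular M₂ rs ∧
        Module.length L (M₂ ⧸ (Ideal.ofList rs • ⊤ : Submodule L M₂)) =
          Module.length L (M₁ ⧸ (Ideal.ofList rs • ⊤ : Submodule L M₁)) +
          Module.length L (M₃ ⧸ (Ideal.ofList rs • ⊤ : Submodule L M₃)) := by
  induction rs with
  | nil =>
    intro M₁ _ _ M₂ _ _ M₃ _ _ f g hf hg hfg _ _
    refine ⟨IsWeaklyRegular.nil L M₂, ?_⟩
    have h : ∀ (M : Type v) [AddCommGroup M] [Module L M],
        Module.length L (M ⧸ (Ideal.ofList ([] : List L) • ⊤ : Submodule L M)) = Module.length L M :=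
      fun M _ _ => (Submodule.quotEquivOfEqBot _
        (by rw [Ideal.ofList_nil, Submodule.bot_smul])).length_eq
    rw [h M₁, h M₂, h M₃]
    exact Module.length_eq_add_of_exact f g hf hg hfg
  | cons r rs ih =>
    intro M₁ _ _ M₂ _ _ M₃ _ _ f g hf hg hfg h₁ h₃
    rw [isWeaklyRegular_cons_iff] at h₁ h₃
    have hinj : Injective (QuotSMulTop.map r f) := by
      have h := QuotSMulTop.map_first_exact_on_four_term_exact_of_isSMulRegular_last
        (f₁ := (0 : M₁ →ₗ[L] M₁)) ((f.exact_zero_iff_injective M₁).2 hf) hfg h₃.1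
      rw [map_zero] at h
      exact ((QuotSMulTop.map r f).exact_zero_iff_injective _).1 h
    obtain ⟨h2, hl⟩ := ih _ _ _ _ _ hinj (QuotSMulTop.map_surjective r hg)
      (QuotSMulTop.map_exact r hfg hg) h₁.2 h₃.2
    refine ⟨(isWeaklyRegular_cons_iff _ _ _).2
      ⟨isSMulRegular_of_range_eq_ker hf hfg.linearMap_ker_eq.symm h₁.1 h₃.1, h2⟩, ?_⟩
    rw [(Submodule.quotOfListConsSMulTopEquivQuotSMulTopInner M₁ r rs).length_eq,
      (Submodule.quotOfListConsSMulTopEquivQuotSMulTopInner M₂ r rs).length_eq,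
      (Submodule.quotOfListConsSMulTopEquivQuotSMulTopInner M₃ r rs).length_eq]
    exact hl

theorem congr_equiv {L : Type u} [CommRing L] (rs : List L) {M N : Type v} [AddCommGroup M] [Module L M]
    [AddCommGroup N] [Module L N] (e : M ≃ₗ[L] N) :
    (IsWeaklyRegular M rs ↔ IsWeaklyRegular N rs) ∧
      Module.length L (M ⧸ (Ideal.ofList rs • ⊤ : Submodule L M)) =
        Module.length L (N ⧸ (Ideal.ofList rs • ⊤ : Submodule L N)) := by
  refine ⟨e.isWeaklyRegular_congr rs, (Submodule.Quotient.equiv _ _ e ?_).length_eq⟩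
  rw [Submodule.map_smul'', Submodule.map_top, LinearEquiv.range]

noncomputable def quotEquiv {A : Type u} [CommRing A] (L : Type u) [CommRing L] [Algebra A L]
    (I : Ideal A) : L ⊗[A] (A ⧸ I) ≃ₗ[L] L ⧸ I.map (algebraMap A L) :=
  (Algebra.TensorProduct.quotIdealMapEquivTensorQuot L I).symm.toLinearEquiv

/-- A finite module killed by `ϖ` has, along a prime `P` minimal over `ϖ`, a multiplicity that can be
computed on any flat algebra by a sequence which is regular modulo `P` and cuts it down to a point. -/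
theorem exists_mult {A : Type u} [CommRing A] [IsNoetherianRing A] (ϖ : A) (P : Ideal A) [P.IsPrime]
    (hP : P ∈ (Ideal.span {ϖ}).minimalPrimes) (N : Type u) [AddCommGroup N] [Module A N]
    [Module.Finite A N] (hN : ∀ x : N, ϖ • x = 0) :
    ∃ g ∉ P, ∃ n : ℕ∞, ∀ (L : Type u) [CommRing L] [Algebra A L] [Module.Flat A L],
      IsUnit (algebraMap A L g) → ∀ rs : List L, IsWeaklyRegular (L ⧸ P.map (algebraMap A L)) rs →
      Module.length L ((L ⧸ P.map (algebraMap A L)) ⧸
        (Ideal.ofList rs • ⊤ : Submodule L (L ⧸ P.map (algebraMap A L)))) = 1 →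
      IsWeaklyRegular (L ⊗[A] N) rs ∧
        Module.length L ((L ⊗[A] N) ⧸ (Ideal.ofList rs • ⊤ : Submodule L (L ⊗[A] N))) = n := by
  revert hN
  induction ‹Module.Finite A N› using IsNoetherianRing.induction_on_isQuotientEquivQuotientPrime A with
  | subsingleton N =>
    intro _
    refine ⟨1, (Ideal.ne_top_iff_one P).1 Ideal.IsPrime.ne_top', 0, fun L _ _ _ _ rs _ _ => ?_⟩
    have : Subsingleton (L ⊗[A] N) := ⟨fun a b => by
      have h : ∀ z : L ⊗[A] N, z = 0 := fun z => by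
        induction z with
        | zero => rfl
        | tmul l x => rw [Subsingleton.elim x 0, TensorProduct.tmul_zero]
        | add x y hx hy => rw [hx, hy, add_zero]
      rw [h a, h b]⟩
    refine ⟨(isWeaklyRegular_iff_Fin _ _).2 fun i a b _ => Subsingleton.elim a b, Module.length_eq_zero⟩
  | quotient N p e =>
    intro hN
    have hp : ϖ ∈ p.asIdeal := by
      have h := congrArg e (hN (e.symm (Ideal.Quotient.mk _ 1)))
      rw [map_smul, e.apply_symm_apply, map_zero] at h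
      rwa [Algebra.smul_def, map_one, mul_one, Ideal.Quotient.algebraMap_eq,
        Ideal.Quotient.eq_zero_iff_mem] at h
    by_cases hpP : p.asIdeal = P
    · refine ⟨1, (Ideal.ne_top_iff_one P).1 Ideal.IsPrime.ne_top', 1, fun L _ _ _ _ rs h1 h2 => ?_⟩
      let E : L ⊗[A] N ≃ₗ[L] L ⧸ P.map (algebraMap A L) :=
        (e.baseChange A L N (A ⧸ p.asIdeal)) ≪≫ₗ quotEquiv L p.asIdeal ≪≫ₗ
          Submodule.quotEquivOfEq _ _ (by rw [hpP])
      obtain ⟨he, hl⟩ := congr_equiv rs E
      exact ⟨he.2 h1, hl.trans h2⟩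
    · obtain ⟨g, hgp, hgP⟩ : ∃ g ∈ p.asIdeal, g ∉ P := SetLike.not_le_iff_exists.1 fun hle =>
        hpP (le_antisymm hle (hP.2 ⟨p.2, (Ideal.span_singleton_le_iff_mem _).2 hp⟩ hle))
      refine ⟨g, hgP, 0, fun L _ _ _ hg rs _ _ => ?_⟩
      have htop : p.asIdeal.map (algebraMap A L) = ⊤ :=
        Ideal.eq_top_of_isUnit_mem _ (Ideal.mem_map_of_mem _ hgp) hg
      have : Subsingleton (L ⊗[A] N) :=
        ((e.baseChange A L N (A ⧸ p.asIdeal)) ≪≫ₗ quotEquiv L p.asIdeal).toEquiv.subsingleton_congr.2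
          (Ideal.Quotient.subsingleton_iff.2 htop)
      refine ⟨(isWeaklyRegular_iff_Fin _ _).2 fun i a b _ => Subsingleton.elim a b, Module.length_eq_zero⟩
  | exact N₁ N₂ N₃ f g hf hg hfg h₁ h₃ =>
    intro hN
    obtain ⟨a, ha, n₁, h₁⟩ := h₁ fun x => hf (by rw [map_smul, hN, map_zero])
    obtain ⟨b, hb, n₃, h₃⟩ := h₃ fun x => by
      obtain ⟨y, rfl⟩ := hg x
      rw [← map_smul, hN, map_zero]
    refine ⟨a * b, fun h => (Ideal.IsPrime.mem_or_mem ‹_› h).elim ha hb, n₁ + n₃,
      fun L _ _ _ hu rs r1 r2 => ?_⟩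
    rw [map_mul, IsUnit.mul_iff] at hu
    obtain ⟨w₁, l₁⟩ := h₁ L hu.1 rs r1 r2
    obtain ⟨w₃, l₃⟩ := h₃ L hu.2 rs r1 r2
    obtain ⟨w₂, l₂⟩ := regular_ext rs _ _ _ (f.baseChange L) (g.baseChange L)
      (Module.Flat.lTensor_preserves_injective_linearMap (M := L) f hf)
      (LinearMap.lTensor_surjective L hg) (Module.Flat.lTensor_exact L hfg) w₁ w₃
    exact ⟨w₂, by rw [l₂, l₁, l₃]⟩

end Groth.Agent.H26.MultSlice
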