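import Mathlib.AlgebraicGeometry.Restrict
import Mathlib.AlgebraicGeometry.Pullbacks
import Mathlib.CategoryTheory.Comma.Over.Pullback

/-! A criterion for the mapping property with respect to an open subscheme. -/

set_option autoImplicit false

universe u

open CategoryTheory CategoryTheory.Limits AlgebraicGeometry

namespace Groth.Agent.H26

theorem bijective_pullback_map_iff {S N' : Scheme.{u}} (U : S.Opens) (p : N' ⟶ S) (Y : Over S) :
    Function.Bijective (fun g : Y ⟶ Over.mk p => (Over.pullback U.ι).map g) ↔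
    ∀ h : (Y.hom ⁻¹ᵁ U).toScheme ⟶ N', h ≫ p = (Y.hom ⁻¹ᵁ U).ι ≫ Y.hom →
      ∃! g : Y.left ⟶ N', g ≫ p = Y.hom ∧ (Y.hom ⁻¹ᵁ U).ι ≫ g = h := by
  let e := pullbackRestrictIsoRestrict Y.hom U
  have hmap : ∀ g : Y ⟶ Over.mk p, ((Over.pullback U.ι).map g).left ≫ pullback.fst p U.ι =
      pullback.fst Y.hom U.ι ≫ g.left := fun g => pullback.lift_fst _ _ _
  have hsnd : ∀ m : (Over.pullback U.ι).obj Y ⟶ (Over.pullback U.ι).obj (Over.mk p),
      m.left ≫ pullback.snd p U.ι = pullback.snd Y.hom U.ι := fun m => Over.w m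
  rw [Function.bijective_iff_existsUnique]
  constructor
  · intro H h hh
    let l : pullback Y.hom U.ι ⟶ pullback p U.ι := pullback.lift (e.hom ≫ h) (pullback.snd _ _) (by
      rw [Category.assoc, hh, pullbackRestrictIsoRestrict_hom_ι_assoc, pullback.condition])
    let m : (Over.pullback U.ι).obj Y ⟶ (Over.pullback U.ι).obj (Over.mk p) :=
      Over.homMk l (pullback.lift_snd _ _ _)
    have hm : m.left ≫ pullback.fst p U.ι = e.hom ≫ h := pullback.lift_fst _ _ _
    obtain ⟨g, hg, huniq⟩ := H m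
    refine ⟨g.left, ⟨Over.w g, ?_⟩, ?_⟩
    · have h1 := hmap g
      rw [show (Over.pullback U.ι).map g = m from hg, hm, ← pullbackRestrictIsoRestrict_hom_ι,
        Category.assoc] at h1
      exact ((cancel_epi e.hom).1 h1).symm
    · rintro g' ⟨hg1, hg2⟩
      refine congrArg CommaMorphism.left (huniq (Over.homMk g' hg1) ?_)
      refine Over.OverMorphism.ext (pullback.hom_ext ?_ ((hsnd _).trans (hsnd _).symm))
      refine (hmap _).trans (Eq.trans ?_ hm.symm)
      show pullback.fst Y.hom U.ι ≫ g' = e.hom ≫ h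
      rw [← hg2, pullbackRestrictIsoRestrict_hom_ι_assoc]
  · intro H m
    have hw : (e.inv ≫ m.left ≫ pullback.fst p U.ι) ≫ p = (Y.hom ⁻¹ᵁ U).ι ≫ Y.hom := by
      rw [Category.assoc, Category.assoc, pullback.condition, reassoc_of% (hsnd m), ← pullback.condition,
        pullbackRestrictIsoRestrict_inv_fst_assoc]
    obtain ⟨g, ⟨hg1, hg2⟩, huniq⟩ := H _ hw
    refine ⟨Over.homMk g hg1, ?_, ?_⟩
    · refine Over.OverMorphism.ext (pullback.hom_ext ?_ ((hsnd _).trans (hsnd _).symm))
      refine (hmap _).trans ?_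
      show pullback.fst Y.hom U.ι ≫ g = m.left ≫ pullback.fst p U.ι
      rw [← cancel_epi e.inv, pullbackRestrictIsoRestrict_inv_fst_assoc, hg2]
    · intro g' hg'
      refine Over.OverMorphism.ext (huniq g'.left ⟨Over.w g', ?_⟩)
      rw [← show (Over.pullback U.ι).map g' = m from hg', hmap, pullbackRestrictIsoRestrict_inv_fst_assoc]

end Groth.Agent.H26
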