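import Mathlib.RingTheory.Smooth.Locus
import Mathlib.RingTheory.Smooth.Basic
import Mathlib.RingTheory.Localization.LocalizationLocalization
import Mathlib.RingTheory.FinitePresentation
import Mathlib.RingTheory.Localization.AtPrime.Basic

/-! Smooth algebras over a localization of a Noetherian ring descend. -/

set_option autoImplicit false
set_option linter.style.haveILetI false

universe u

namespace Groth.Agent.H26

/-- A smooth algebra over a localization of `R`, near a prime, comes from a smooth `R`-algebra. -/
theorem exists_smooth_descend {R A B : Type u} [CommRing R] [IsNoetherianRing R] [CommRing A] [CommRing B]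
    [Algebra R A] (M : Submonoid R) [IsLocalization M A] [Algebra A B] [Algebra R B] [IsScalarTower R A B]
    [Algebra.Smooth A B] (q : Ideal B) [q.IsPrime] :
    ∃ (B₁ : Type u) (_ : CommRing B₁) (_ : Algebra R B₁) (ψ : B₁ →ₐ[R] Localization.AtPrime q)
      (q₁ : Ideal B₁) (_ : q₁.IsPrime),
      Algebra.Smooth R B₁ ∧ (∀ x, x ∉ q₁ → IsUnit (ψ x)) ∧
        @IsLocalization _ _ q₁.primeCompl (Localization.AtPrime q) _ ψ.toRingHom.toAlgebra := by
  classical
  obtain ⟨s, hs⟩ := (Algebra.FiniteType.out : (⊤ : Subalgebra A B).FG)
  let B₀ := Algebra.adjoin R (s : Set B)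
  haveI : Algebra.FiniteType R B₀ := (Subalgebra.fg_iff_finiteType B₀).1 ⟨s, rfl⟩
  haveI : Algebra.FinitePresentation R B₀ := Algebra.FinitePresentation.of_finiteType.1 inferInstance
  haveI : IsNoetherianRing B₀ := Algebra.FiniteType.isNoetherianRing R B₀
  have hden : ∀ b : B, ∃ (a : B₀) (m : M), b * algebraMap R B m = a := by
    intro b
    have hb : b ∈ Algebra.adjoin A (s : Set B) := hs.symm ▸ Algebra.mem_top
    induction hb using Algebra.adjoin_induction with
    | mem x hx => exact ⟨⟨x, Algebra.subset_adjoin hx⟩, 1, by simp⟩
    | algebraMap r =>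
      obtain ⟨⟨x, m⟩, hxm⟩ := IsLocalization.surj M r
      exact ⟨algebraMap R B₀ x, m, by
        rw [IsScalarTower.algebraMap_apply R A B, ← map_mul, hxm, ← IsScalarTower.algebraMap_apply]
        rfl⟩
    | add x y _ _ hx hy =>
      obtain ⟨a, m, ha⟩ := hx; obtain ⟨c, n, hc⟩ := hy
      refine ⟨a * algebraMap R B₀ n + c * algebraMap R B₀ m, m * n, ?_⟩
      simp only [Submonoid.coe_mul, map_mul, MulMemClass.coe_mul, AddMemClass.coe_add, Subalgebra.coe_algebraMap]
      rw [← ha, ← hc]
      ring
    | mul x y _ _ hx hy =>
      obtain ⟨a, m, ha⟩ := hx; obtain ⟨c, n, hc⟩ := hy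
      refine ⟨a * c, m * n, ?_⟩
      simp only [Submonoid.coe_mul, map_mul, MulMemClass.coe_mul, AddMemClass.coe_add, Subalgebra.coe_algebraMap]
      rw [← ha, ← hc]
      ring
  let M₀ := M.map (algebraMap R B₀)
  haveI : IsLocalization M₀ B := ⟨{
    map_units := by
      rintro ⟨_, m, hm, rfl⟩
      show IsUnit (algebraMap R B m)
      rw [IsScalarTower.algebraMap_apply R A B]
      exact (IsLocalization.map_units A ⟨m, hm⟩).map _
    surj := fun b => by
      obtain ⟨a, m, ha⟩ := hden b
      exact ⟨(a, ⟨algebraMap R B₀ m, m.1, m.2, rfl⟩), ha⟩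
    exists_of_eq := fun {x y} h => ⟨1, by rw [show x = y from Subtype.ext h]⟩ }⟩
  let q₀ : Ideal B₀ := q.comap (algebraMap B₀ B)
  haveI hloc : IsLocalization.AtPrime (Localization.AtPrime q) q₀ :=
    IsLocalization.isLocalization_isLocalization_atPrime_isLocalization M₀ (Localization.AtPrime q) q
  haveI : IsScalarTower R B₀ (Localization.AtPrime q) := IsScalarTower.of_algebraMap_eq fun r => by
    rw [IsScalarTower.algebraMap_apply R B (Localization.AtPrime q)]
    rfl
  -- smoothness at `q₀`
  haveI : Algebra.FormallySmooth R A := Algebra.FormallySmooth.of_isLocalization M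
  haveI : Algebra.FormallySmooth R B := Algebra.FormallySmooth.comp R A B
  haveI : Algebra.FormallySmooth B (Localization.AtPrime q) := Algebra.FormallySmooth.of_isLocalization q.primeCompl
  haveI : Algebra.FormallySmooth R (Localization.AtPrime q) := Algebra.FormallySmooth.comp R B _
  let e : Localization.AtPrime q ≃ₐ[B₀] Localization.AtPrime q₀ :=
    IsLocalization.algEquiv q₀.primeCompl _ _
  haveI : Algebra.IsSmoothAt R q₀ := Algebra.FormallySmooth.of_equiv (e.restrictScalars R)
  obtain ⟨g, hg, hsm⟩ := Algebra.IsSmoothAt.exists_notMem_smooth R q₀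
  have hgu : IsUnit (algebraMap B₀ (Localization.AtPrime q) g) :=
    IsLocalization.map_units (M := q₀.primeCompl) _ ⟨g, hg⟩
  let ψ : Localization.Away g →ₐ[R] Localization.AtPrime q :=
    { toRingHom := IsLocalization.Away.lift g hgu
      commutes' := fun r => by
        show IsLocalization.Away.lift g hgu (algebraMap R (Localization.Away g) r) = _
        rw [IsScalarTower.algebraMap_apply R B₀ (Localization.Away g), IsLocalization.Away.lift_eq,
          ← IsScalarTower.algebraMap_apply] }
  let q₁ : Ideal (Localization.Away g) := (IsLocalRing.maximalIdeal (Localization.AtPrime q)).comap ψ.toRingHom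
  refine ⟨Localization.Away g, inferInstance, inferInstance, ψ, q₁, inferInstance, hsm, fun x hx => ?_, ?_⟩
  · by_contra hu
    exact hx ((IsLocalRing.mem_maximalIdeal _).2 hu)
  · letI : Algebra (Localization.Away g) (Localization.AtPrime q) := ψ.toRingHom.toAlgebra
    haveI : IsScalarTower B₀ (Localization.Away g) (Localization.AtPrime q) :=
      IsScalarTower.of_algebraMap_eq fun x => (IsLocalization.Away.lift_eq g hgu x).symm
    refine ⟨{
      map_units := fun x => by
        by_contra hu
        exact x.2 ((IsLocalRing.mem_maximalIdeal _).2 hu)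
      surj := fun z => by
        obtain ⟨⟨a, s⟩, h⟩ := IsLocalization.surj q₀.primeCompl z
        refine ⟨(algebraMap B₀ (Localization.Away g) a, ⟨algebraMap B₀ (Localization.Away g) s, fun hs => ?_⟩), ?_⟩
        · refine (IsLocalRing.mem_maximalIdeal _).1 hs ?_
          show IsUnit (algebraMap (Localization.Away g) (Localization.AtPrime q) _)
          rw [← IsScalarTower.algebraMap_apply]
          exact IsLocalization.map_units _ s
        · simp only [← IsScalarTower.algebraMap_apply]
          exact h
      exists_of_eq := fun {x y} h => by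
        obtain ⟨⟨a, s⟩, hx⟩ := IsLocalization.surj (Submonoid.powers g) x
        obtain ⟨⟨c, t⟩, hy⟩ := IsLocalization.surj (Submonoid.powers g) y
        have hx' := congrArg (algebraMap (Localization.Away g) (Localization.AtPrime q)) hx
        have hy' := congrArg (algebraMap (Localization.Away g) (Localization.AtPrime q)) hy
        simp only [map_mul, ← IsScalarTower.algebraMap_apply] at hx' hy'
        have h2 : algebraMap B₀ (Localization.AtPrime q) (a * t) = algebraMap B₀ (Localization.AtPrime q) (c * s) := by
          rw [map_mul, map_mul, ← hx', ← hy', h]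
          ring
        obtain ⟨⟨w, hw⟩, hwe⟩ := (IsLocalization.eq_iff_exists q₀.primeCompl _).1 h2
        refine ⟨⟨algebraMap B₀ (Localization.Away g) w, fun hs => (IsLocalRing.mem_maximalIdeal _).1 hs ?_⟩, ?_⟩
        · show IsUnit (algebraMap (Localization.Away g) (Localization.AtPrime q) _)
          rw [← IsScalarTower.algebraMap_apply]
          exact IsLocalization.map_units _ (⟨w, hw⟩ : q₀.primeCompl)
        · have h3 := congrArg (algebraMap B₀ (Localization.Away g)) hwe
          simp only [map_mul, ← hx, ← hy] at h3
          refine ((IsLocalization.map_units (Localization.Away g) s).mul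
            (IsLocalization.map_units (Localization.Away g) t)).mul_left_injective ?_
          linear_combination h3 }⟩

end Groth.Agent.H26
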