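import Groth.Agent.H26.SpreadMap
import Groth.Agent.H26.SmoothDescend
import Groth.Agent.H26.NeronCrit
import Mathlib.AlgebraicGeometry.Morphisms.Smooth

/-!
# The mapping property passes to local schemes of the base
-/

set_option autoImplicit false
set_option linter.style.haveILetI false

universe u

open CategoryTheory CategoryTheory.Limits AlgebraicGeometry TopologicalSpace

namespace Groth.Agent.H26.NeronLocal

/-- Local rings of smooth schemes over a local scheme of `S` occur on smooth `S`-schemes. -/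
theorem exists_model {S Y' : Scheme.{u}} [IsLocallyNoetherian S] (s : S)
    (p' : Y' ⟶ Spec (S.presheaf.stalk s)) [Smooth p'] (y' : Y') :
    ∃ (Y₀ : Scheme.{u}) (p₀ : Y₀ ⟶ S) (_ : Smooth p₀) (_ : IsNoetherian Y₀) (y₀ : Y₀)
      (α : Y₀.presheaf.stalk y₀ ⟶ Y'.presheaf.stalk y'), IsIso α ∧
      Spec.map α ≫ Y₀.fromSpecStalk y₀ ≫ p₀ = Y'.fromSpecStalk y' ≫ p' ≫ S.fromSpecStalk s := by
  obtain ⟨_, ⟨V : S.Opens, hV, rfl⟩, hsV, -⟩ :=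
    S.isBasis_affineOpens.exists_subset_of_mem_open (Set.mem_univ s) isOpen_univ
  obtain ⟨_, ⟨V' : Y'.Opens, hV', rfl⟩, hyV, -⟩ :=
    Y'.isBasis_affineOpens.exists_subset_of_mem_open (Set.mem_univ y') isOpen_univ
  let R := Γ(S, V)
  let A := S.presheaf.stalk s
  let B := Γ(Y', V')
  haveI : IsNoetherianRing R := IsLocallyNoetherian.component_noetherian ⟨V, hV⟩
  letI : Algebra R A := (S.presheaf.germ V s hsV).hom.toAlgebra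
  haveI := hV.isLocalization_stalk ⟨s, hsV⟩
  haveI : IsLocalization.AtPrime A (hV.primeIdealOf ⟨s, hsV⟩).asIdeal := hV.isLocalization_stalk ⟨s, hsV⟩
  let c : A ⟶ B := (Scheme.ΓSpecIso A).inv ≫ p'.appLE ⊤ V' le_top
  letI : Algebra A B := c.hom.toAlgebra
  letI : Algebra R B := ((algebraMap A B).comp (algebraMap R A)).toAlgebra
  haveI : IsScalarTower R A B := IsScalarTower.of_algebraMap_eq' rfl
  haveI : Algebra.Smooth A B := by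
    have h1 : (p'.appLE ⊤ V' le_top).hom.Smooth :=
      HasRingHomProperty.appLE (P := @Smooth) p' inferInstance ⟨⊤, isAffineOpen_top _⟩ ⟨V', hV'⟩ le_top
    have h2 : c.hom.Smooth :=
      RingHom.Smooth.respectsIso.2 (p'.appLE ⊤ V' le_top).hom (Scheme.ΓSpecIso A).symm.commRingCatIsoToRingEquiv h1
    exact h2
  let q := (hV'.primeIdealOf ⟨y', hyV⟩).asIdeal
  obtain ⟨B₁, i₁, i₂, ψ, q₁, hq₁, hsm, -, hloc⟩ :=
    exists_smooth_descend (R := R) (A := A) (hV.primeIdealOf ⟨s, hsV⟩).asIdeal.primeCompl q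
  letI : Algebra B (Y'.presheaf.stalk y') := (Y'.presheaf.germ V' y' hyV).hom.toAlgebra
  haveI : IsLocalization.AtPrime (Y'.presheaf.stalk y') q := hV'.isLocalization_stalk ⟨y', hyV⟩
  let e : Localization.AtPrime q ≃ₐ[B] Y'.presheaf.stalk y' := IsLocalization.algEquiv q.primeCompl _ _
  let ψ' : CommRingCat.of B₁ ⟶ Y'.presheaf.stalk y' := CommRingCat.ofHom (e.toRingEquiv.toRingHom.comp ψ.toRingHom)
  let Y₀ := Spec (CommRingCat.of B₁)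
  let y₀ : Y₀ := ⟨q₁, hq₁⟩
  letI a1 : Algebra B₁ (Localization.AtPrime q) := ψ.toRingHom.toAlgebra
  letI a2 : Algebra B₁ (Y'.presheaf.stalk y') := ψ'.hom.toAlgebra
  haveI l2 : IsLocalization.AtPrime (Y'.presheaf.stalk y') q₁ :=
    IsLocalization.isLocalization_of_algEquiv q₁.primeCompl
      (AlgEquiv.ofRingEquiv (f := e.toRingEquiv) fun _ => rfl : Localization.AtPrime q ≃ₐ[B₁] Y'.presheaf.stalk y')
  letI a3 : Algebra B₁ (Y₀.presheaf.stalk y₀) := StructureSheaf.stalkAlgebra B₁ y₀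
  haveI l3 : IsLocalization.AtPrime (Y₀.presheaf.stalk y₀) q₁ :=
    StructureSheaf.IsLocalization.to_stalk (CommRingCat.of B₁) y₀
  let ε : Y₀.presheaf.stalk y₀ ≃ₐ[B₁] Y'.presheaf.stalk y' := IsLocalization.algEquiv q₁.primeCompl _ _
  let α : Y₀.presheaf.stalk y₀ ⟶ Y'.presheaf.stalk y' := ε.toRingEquiv.toCommRingCatIso.hom
  let g₀ : Y₀ ⟶ S := Spec.map (CommRingCat.ofHom (algebraMap R B₁)) ≫ hV.fromSpec
  haveI : Smooth (Spec.map (CommRingCat.ofHom (algebraMap R B₁))) :=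
    (HasRingHomProperty.Spec_iff (P := @Smooth)).2 (RingHom.smooth_algebraMap.2 hsm)
  haveI : IsOpenImmersion hV.fromSpec := hV.isOpenImmersion_fromSpec
  haveI : IsNoetherianRing B₁ := Algebra.FiniteType.isNoetherianRing R B₁
  refine ⟨Y₀, g₀, inferInstanceAs (Smooth (_ ≫ _)), inferInstanceAs (IsNoetherian (Spec _)), y₀, α, inferInstance, ?_⟩
  have hα : (Scheme.ΓSpecIso (CommRingCat.of B₁)).inv ≫ Y₀.presheaf.germ ⊤ y₀ trivial ≫ α = ψ' := by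
    ext b
    exact ε.commutes b
  have hY₀ : Spec.map α ≫ Y₀.fromSpecStalk y₀ = Spec.map ψ' := by
    rw [← hα, ← Category.assoc, Spec.map_comp]
    exact congrArg (Spec.map α ≫ ·) (Spec.fromSpecStalk_eq _ _)
  have hS : S.fromSpecStalk s = Spec.map (S.presheaf.germ V s hsV) ≫ hV.fromSpec :=
    (hV.fromSpecStalk_eq_fromSpecStalk hsV).symm
  have hY' : Y'.fromSpecStalk y' = Spec.map (Y'.presheaf.germ V' y' hyV) ≫ hV'.fromSpec :=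
    (hV'.fromSpecStalk_eq_fromSpecStalk hyV).symm
  have htop : (isAffineOpen_top (Spec A)).fromSpec = Spec.map (Scheme.ΓSpecIso A).inv := by
    rw [IsAffineOpen.fromSpec_top, Scheme.isoSpec_Spec_inv]
  have hp : hV'.fromSpec ≫ p' = Spec.map c := by
    rw [← IsAffineOpen.SpecMap_appLE_fromSpec p' (isAffineOpen_top _) hV' le_top, htop, ← Spec.map_comp]
  show Spec.map α ≫ Y₀.fromSpecStalk y₀ ≫ Spec.map (CommRingCat.ofHom (algebraMap R B₁)) ≫ hV.fromSpec = _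
  rw [reassoc_of% hY₀, hY', hS, Category.assoc, reassoc_of% hp, ← Spec.map_comp_assoc, ← Spec.map_comp_assoc, ← Spec.map_comp_assoc]
  congr 2
  ext r
  show e (ψ (algebraMap R B₁ r)) = algebraMap B (Y'.presheaf.stalk y') (algebraMap R B r)
  rw [AlgHom.commutes, IsScalarTower.algebraMap_apply R B (Localization.AtPrime q), e.commutes]

variable {S : Scheme.{u}} [IsLocallyNoetherian S]

theorem exists_stalk_ext (U : S.Opens) {N : Scheme.{u}} (pN : N ⟶ S) [LocallyOfFiniteType pN]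
    (hN : ∀ (Y : Over S), Smooth Y.hom → ∀ h : (Y.hom ⁻¹ᵁ U).toScheme ⟶ N, h ≫ pN = (Y.hom ⁻¹ᵁ U).ι ≫ Y.hom →
      ∃ g : Y.left ⟶ N, g ≫ pN = Y.hom ∧ (Y.hom ⁻¹ᵁ U).ι ≫ g = h)
    (s : S) {Y' : Scheme.{u}} (p' : Y' ⟶ Spec (S.presheaf.stalk s)) [Smooth p']
    (h : ((p' ≫ S.fromSpecStalk s) ⁻¹ᵁ U).toScheme ⟶ N)
    (hh : h ≫ pN = ((p' ≫ S.fromSpecStalk s) ⁻¹ᵁ U).ι ≫ p' ≫ S.fromSpecStalk s) (y' : Y') :
    ∃ gy : Spec (Y'.presheaf.stalk y') ⟶ N,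
      (Y'.fromSpecStalk y' ⁻¹ᵁ ((p' ≫ S.fromSpecStalk s) ⁻¹ᵁ U)).ι ≫ gy =
        (Y'.fromSpecStalk y' ∣_ ((p' ≫ S.fromSpecStalk s) ⁻¹ᵁ U)) ≫ h ∧
      gy ≫ pN = Y'.fromSpecStalk y' ≫ p' ≫ S.fromSpecStalk s := by
  obtain ⟨Y₀, p₀, hsm, hnoeth, y₀, α, hα, hsq⟩ := exists_model s p' y'
  let W' : Y'.Opens := (p' ≫ S.fromSpecStalk s) ⁻¹ᵁ U
  let e' := Y'.fromSpecStalk y'
  let e := Y₀.fromSpecStalk y₀
  let W₀ : Y₀.Opens := p₀ ⁻¹ᵁ U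
  let b := Spec.map (inv α)
  have hb : b ≫ e' ≫ p' ≫ S.fromSpecStalk s = e ≫ p₀ := by
    rw [← hsq, ← Spec.map_comp_assoc, IsIso.hom_inv_id, Spec.map_id, Category.id_comp]
  have hle : e ⁻¹ᵁ W₀ ≤ (b ≫ e') ⁻¹ᵁ W' := by
    show (e ≫ p₀) ⁻¹ᵁ U ≤ ((b ≫ e') ≫ p' ≫ S.fromSpecStalk s) ⁻¹ᵁ U
    rw [Category.assoc, hb]
  obtain ⟨V, h₀, hyV, hh₀S, hh₀⟩ := SpreadMap.exists_spread_open p₀ pN W₀ y₀
    ((b ≫ e').resLE W' _ hle ≫ h) (by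
      rw [Category.assoc, hh, Scheme.Hom.resLE_comp_ι_assoc, Category.assoc, hb])
  let Y : Over S := Over.mk (V.ι ≫ p₀)
  have hYsm : Smooth Y.hom := inferInstanceAs (Smooth (V.ι ≫ p₀))
  have hle1 : Y.hom ⁻¹ᵁ U ≤ V.ι ⁻¹ᵁ (V ⊓ W₀) := fun t ht => ⟨t.2, ht⟩
  obtain ⟨g, hg, hgW⟩ := hN Y hYsm (V.ι.resLE (V ⊓ W₀) _ hle1 ≫ h₀) (by
    rw [Category.assoc, hh₀S, Scheme.Hom.resLE_comp_ι_assoc]
    rfl)
  change V.toScheme ⟶ N at g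
  refine ⟨Spec.map α ≫ V.fromSpecStalkOfMem y₀ hyV ≫ g, ?_, ?_⟩
  · let a := Spec.map α
    have hab : a ≫ b = 𝟙 _ := by rw [← Spec.map_comp, IsIso.inv_hom_id, Spec.map_id]
    have hleP : e ⁻¹ᵁ W₀ ≤ e ⁻¹ᵁ (V ⊓ W₀) := fun t ht => by
      refine ⟨?_, ht⟩
      have : e t ∈ Set.range e := ⟨t, rfl⟩
      rw [Scheme.range_fromSpecStalk] at this
      exact this.mem_open V.isOpen hyV
    have hle2 : e' ⁻¹ᵁ W' ≤ a ⁻¹ᵁ (e ⁻¹ᵁ W₀) := by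
      show (e' ≫ p' ≫ S.fromSpecStalk s) ⁻¹ᵁ U ≤ (a ≫ e ≫ p₀) ⁻¹ᵁ U
      rw [hsq]
    let k := a.resLE _ _ hle2
    have hk : k ≫ (e ⁻¹ᵁ W₀).ι = (e' ⁻¹ᵁ W').ι ≫ a := Scheme.Hom.resLE_comp_ι _ _
    have h1 : (e' ⁻¹ᵁ W').ι ≫ a ≫ V.fromSpecStalkOfMem y₀ hyV =
        k ≫ (V.fromSpecStalkOfMem y₀ hyV).resLE (Y.hom ⁻¹ᵁ U) (e ⁻¹ᵁ W₀) (by
          show (e ≫ p₀) ⁻¹ᵁ U ≤ (V.fromSpecStalkOfMem y₀ hyV ≫ V.ι ≫ p₀) ⁻¹ᵁ U
          rw [Scheme.Opens.fromSpecStalkOfMem_ι_assoc]) ≫ (Y.hom ⁻¹ᵁ U).ι := by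
      rw [Scheme.Hom.resLE_comp_ι, reassoc_of% hk]
    have h2 : (V.fromSpecStalkOfMem y₀ hyV).resLE (Y.hom ⁻¹ᵁ U) (e ⁻¹ᵁ W₀) (by
          show (e ≫ p₀) ⁻¹ᵁ U ≤ (V.fromSpecStalkOfMem y₀ hyV ≫ V.ι ≫ p₀) ⁻¹ᵁ U
          rw [Scheme.Opens.fromSpecStalkOfMem_ι_assoc]) ≫ V.ι.resLE (V ⊓ W₀) _ hle1 = e.resLE (V ⊓ W₀) _ hleP := by
      rw [← cancel_mono (V ⊓ W₀).ι, Category.assoc, Scheme.Hom.resLE_comp_ι, Scheme.Hom.resLE_comp_ι_assoc,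
        Scheme.Opens.fromSpecStalkOfMem_ι, Scheme.Hom.resLE_comp_ι]
    rw [reassoc_of% h1, show (Y.hom ⁻¹ᵁ U).ι ≫ g = _ from hgW, reassoc_of% h2, hh₀ hleP, ← Category.assoc]
    congr 1
    rw [← cancel_mono W'.ι, Category.assoc, Scheme.Hom.resLE_comp_ι, reassoc_of% hk, reassoc_of% hab,
      morphismRestrict_ι]
  · rw [Category.assoc, Category.assoc, show g ≫ pN = V.ι ≫ p₀ from hg, Scheme.Opens.fromSpecStalkOfMem_ι_assoc, hsq]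

theorem unique_ext (U : S.Opens) {N : Scheme.{u}} (pN : N ⟶ S) [LocallyOfFiniteType pN]
    (hN : ∀ (Y : Over S), Smooth Y.hom → ∀ a b : Y.left ⟶ N, a ≫ pN = Y.hom → b ≫ pN = Y.hom →
      (Y.hom ⁻¹ᵁ U).ι ≫ a = (Y.hom ⁻¹ᵁ U).ι ≫ b → a = b)
    (s : S) {Y' : Scheme.{u}} (p' : Y' ⟶ Spec (S.presheaf.stalk s)) [Smooth p']
    (a b : Y' ⟶ N) (ha : a ≫ pN = p' ≫ S.fromSpecStalk s) (hb : b ≫ pN = p' ≫ S.fromSpecStalk s)
    (hab : ((p' ≫ S.fromSpecStalk s) ⁻¹ᵁ U).ι ≫ a = ((p' ≫ S.fromSpecStalk s) ⁻¹ᵁ U).ι ≫ b) : a = b := by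
  haveI : IsLocallyNoetherian Y' := LocallyOfFiniteType.isLocallyNoetherian p'
  refine Scheme.hom_ext_of_forall _ _ fun y' => spread_out_unique_of_isGermInjective' a b ?_
  obtain ⟨Y₀, p₀, hsm, hnoeth, y₀, α, hα, hsq⟩ := exists_model s p' y'
  let W' : Y'.Opens := (p' ≫ S.fromSpecStalk s) ⁻¹ᵁ U
  let e' := Y'.fromSpecStalk y'
  let e := Y₀.fromSpecStalk y₀
  let k := Spec.map (inv α)
  have hk : k ≫ e' ≫ p' ≫ S.fromSpecStalk s = e ≫ p₀ := by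
    rw [← hsq, ← Spec.map_comp_assoc, IsIso.hom_inv_id, Spec.map_id, Category.id_comp]
  obtain ⟨V₁, hy₁, g₁, hg₁, hg₁S⟩ := spread_out_of_isGermInjective' p₀ pN (k ≫ e' ≫ a)
    (by simp only [Category.assoc, ha]; exact hk)
  obtain ⟨V₂, hy₂, g₂, hg₂, hg₂S⟩ := spread_out_of_isGermInjective' p₀ pN (k ≫ e' ≫ b)
    (by simp only [Category.assoc, hb]; exact hk)
  let D : Y₀.Opens := V₁ ⊓ V₂ ⊓ p₀ ⁻¹ᵁ U
  have hD1 : D ≤ V₁ := inf_le_left.trans inf_le_left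
  have hD2 : D ≤ V₂ := inf_le_left.trans inf_le_right
  let rD := e ∣_ D
  have hD' : e ⁻¹ᵁ D ≤ (k ≫ e') ⁻¹ᵁ W' := by
    show e ⁻¹ᵁ D ≤ ((k ≫ e') ≫ p' ≫ S.fromSpecStalk s) ⁻¹ᵁ U
    rw [Category.assoc, hk]
    exact fun t ht => ht.2
  let l := (k ≫ e').resLE W' _ hD'
  have hl : l ≫ W'.ι = (e ⁻¹ᵁ D).ι ≫ k ≫ e' := Scheme.Hom.resLE_comp_ι _ _
  have h1 : rD ≫ Y₀.homOfLE hD1 ≫ g₁ = l ≫ W'.ι ≫ a := by
    rw [reassoc_of% hl, hg₁, ← Category.assoc, ← Category.assoc]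
    congr 1
    rw [← cancel_mono V₁.ι]
    simp only [Category.assoc, Scheme.homOfLE_ι, Scheme.Opens.fromSpecStalkOfMem_ι, rD, morphismRestrict_ι, e]
  have h2 : rD ≫ Y₀.homOfLE hD2 ≫ g₂ = l ≫ W'.ι ≫ b := by
    rw [reassoc_of% hl, hg₂, ← Category.assoc, ← Category.assoc]
    congr 1
    rw [← cancel_mono V₂.ι]
    simp only [Category.assoc, Scheme.homOfLE_ι, Scheme.Opens.fromSpecStalkOfMem_ι, rD, morphismRestrict_ι, e]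
  obtain ⟨V₃, hy₃, hV₃⟩ := SpreadMap.exists_agree D y₀ (Y₀.homOfLE hD1 ≫ g₁) (Y₀.homOfLE hD2 ≫ g₂)
    (h1.trans ((congrArg (l ≫ ·) hab).trans h2.symm))
  let V : Y₀.Opens := V₁ ⊓ V₂ ⊓ V₃
  have hV1 : V ≤ V₁ := inf_le_left.trans inf_le_left
  have hV2 : V ≤ V₂ := inf_le_left.trans inf_le_right
  have hy : y₀ ∈ V := ⟨⟨hy₁, hy₂⟩, hy₃⟩
  let Y : Over S := Over.mk (V.ι ≫ p₀)
  have hYsm : Smooth Y.hom := inferInstanceAs (Smooth (V.ι ≫ p₀))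
  have hle : Y.hom ⁻¹ᵁ U ≤ V.ι ⁻¹ᵁ (V₃ ⊓ D) := fun t ht => ⟨t.2.2, t.2.1, ht⟩
  have e1 : ∀ (V₁ : Y₀.Opens) (hV1 : V ≤ V₁) (hD1 : D ≤ V₁), (Y.hom ⁻¹ᵁ U).ι ≫ Y₀.homOfLE hV1 =
      V.ι.resLE (V₃ ⊓ D) _ hle ≫ Y₀.homOfLE (inf_le_right : V₃ ⊓ D ≤ D) ≫ Y₀.homOfLE hD1 := fun V₁ hV1 hD1 => by
    rw [← cancel_mono V₁.ι]
    simp only [Category.assoc, Scheme.homOfLE_ι, Scheme.Hom.resLE_comp_ι]
  have heq := hN Y hYsm (Y₀.homOfLE hV1 ≫ g₁) (Y₀.homOfLE hV2 ≫ g₂)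
    (by rw [Category.assoc, hg₁S, Scheme.homOfLE_ι_assoc]; rfl)
    (by rw [Category.assoc, hg₂S, Scheme.homOfLE_ι_assoc]; rfl)
    (by rw [reassoc_of% (e1 V₁ hV1 hD1), reassoc_of% (e1 V₂ hV2 hD2), hV₃])
  have h3 : k ≫ e' ≫ a = k ≫ e' ≫ b := by
    have f1 : ∀ (V₁ : Y₀.Opens) (hy₁ : y₀ ∈ V₁) (hV1 : V ≤ V₁),
        V₁.fromSpecStalkOfMem y₀ hy₁ = V.fromSpecStalkOfMem y₀ hy ≫ Y₀.homOfLE hV1 := fun V₁ hy₁ hV1 => by
      rw [← cancel_mono V₁.ι, Category.assoc, Scheme.homOfLE_ι, Scheme.Opens.fromSpecStalkOfMem_ι,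
        Scheme.Opens.fromSpecStalkOfMem_ι]
    rw [hg₁, hg₂, f1 V₁ hy₁ hV1, f1 V₂ hy₂ hV2, Category.assoc, Category.assoc, heq]
  exact (cancel_epi k).1 h3

end Groth.Agent.H26.NeronLocal
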