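import Groth.Agent.H26.InterForm
import Groth.Agent.NQF.PushIso
import Groth.Agent.H23.PrincipalGlobal
import Groth.Agent.QCoh.Qcqs

/-!
# Invertible modules trivial on the generic fibre come from vertical divisors
-/

set_option autoImplicit false
set_option linter.style.haveILetI false
set_option backward.isDefEq.respectTransparency false
set_option backward.isDefEq.respectTransparency.types false
set_option maxHeartbeats 1000000

universe u

open CategoryTheory CategoryTheory.Limits AlgebraicGeometry TopologicalSpace Opposite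
open Groth.Agent.H23
open scoped Groth.Agent.H23.PicMul

noncomputable section

namespace Groth.Agent.H26.VertDiv

/-- A global frame trivializes. -/
theorem nonempty_iso_of_frame_top {Y : Scheme.{u}} {P : Y.Modules} {t : Γ(P, ⊤)} (ht : InvX.IsFrame t) :
    Nonempty (P ≅ Coh.structureModule Y) := by
  haveI : IsIso (QCoh.homOfTop (P := P) t) :=
    DivX.isIso_of_frames _ fun c => ⟨⊤, trivial, OmegaSh.strSect Y ⊤ 1, InvX.isFrame_one (X := Y) ⊤, by
      have e1 : (QCoh.homOfTop t).app ⊤ (OmegaSh.strSect Y ⊤ 1) = t := by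
        refine (QCoh.homOfTop_app t (W := ⊤) (1 : Γ(Y, ⊤))).trans ?_
        rw [one_smul]
        exact AModX.res_self t
      rw [e1]
      exact ht⟩
  exact ⟨(asIso (QCoh.homOfTop (P := P) t)).symm⟩

/-- Two frames differ by a unit. -/
theorem exists_unit_of_frames {Y : Scheme.{u}} {P : Y.Modules} {W : Y.Opens} {e e' : Γ(P, W)}
    (he : InvX.IsFrame e) (he' : InvX.IsFrame e') : ∃ v : Γ(Y, W), IsUnit v ∧ e' = v • e := by
  obtain ⟨b, hb⟩ := he.exists_coord le_rfl e'
  obtain ⟨a, ha⟩ := he'.exists_coord le_rfl e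
  rw [AModX.res_self] at ha hb
  refine ⟨b, IsUnit.of_mul_eq_one_right a ?_, hb⟩
  have h1 : (1 : Γ(Y, W)) • e = (a * b) • e := by rw [one_smul, mul_smul, ← hb, ← ha]
  refine (he.coord_unique (le_refl W) ?_).symm
  rwa [AModX.res_self]

/-- A map of an invertible module to `O` with locally principal image identifies it with the ideal. -/
theorem nonempty_iso_idealMod {Y : Scheme.{u}} {P : Y.Modules} (φ : P ⟶ Coh.structureModule Y)
    (J : Y.IdealSheafData) (hJ : BlowUp.IsEffCartierIdeal J)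
    (key : ∀ x : Y, ∃ (V : Y.affineOpens) (_ : x ∈ V.1) (e : Γ(P, V.1)) (s : Γ(Y, V.1)),
      InvX.IsFrame e ∧ φ.app V.1 e = OmegaSh.strSect Y V.1 s ∧ J.ideal V = Ideal.span {s}) :
    Nonempty (P ≅ ClSub.idealMod J) := by
  have hz : φ ≫ ClSub.toSubscheme J = 0 := by
    choose V hxV e s he hφ hs using key
    refine InvX.hom_ext_of_frames (fun x => (V x).1) (fun x => ⟨x, hxV x⟩) e he fun x => ?_
    show (ClSub.toSubscheme J).app (V x).1 (φ.app (V x).1 (e x)) = 0
    rw [hφ, OmegaSh.toSubscheme_app_strSect]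
    have : s x ∈ J.ideal (V x) := hs x ▸ Ideal.mem_span_singleton_self _
    rwa [← J.ker_subschemeι_app, RingHom.mem_ker] at this
  let ψ : P ⟶ ClSub.idealMod J := kernel.lift _ φ hz
  have hψ : ψ ≫ ClSub.idealModι J = φ := kernel.lift_ι _ _ _
  suffices IsIso ψ from ⟨asIso ψ⟩
  refine DivX.isIso_of_frames ψ fun x => ?_
  obtain ⟨V, hxV, e, s, he, hφ, hs⟩ := key x
  obtain ⟨W₀, hxW₀, k₀, hk₀⟩ := InvX.exists_frame (IdealCl.isInvertible_idealMod hJ) x
  obtain ⟨W, hW, hxW, hWle⟩ := exists_isAffineOpen_mem_and_subset (show x ∈ V.1 ⊓ W₀ from ⟨hxV, hxW₀⟩)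
  have hWV : W ≤ V.1 := hWle.trans inf_le_left
  let k := AModX.res (ClSub.idealMod J) (hWle.trans inf_le_right) k₀
  have hk : InvX.IsFrame k := hk₀.res _
  refine ⟨W, hxW, AModX.res _ hWV e, he.res _, ?_⟩
  let k' := ψ.app W (AModX.res _ hWV e)
  show InvX.IsFrame k'
  have hk' : OmegaSh.idealSect J W k' = Y.presheaf.map (homOfLE hWV).op s := by
    rw [OmegaSh.idealSect_apply]
    show OmegaSh.fnSect Y W ((ψ ≫ ClSub.idealModι J).app W (AModX.res _ hWV e)) = _
    rw [hψ, AModX.app_res, hφ]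
    rfl
  have hspan : J.ideal ⟨W, hW⟩ = Ideal.span {Y.presheaf.map (homOfLE hWV).op s} := by
    rw [← J.map_ideal (U := ⟨W, hW⟩) (V := V) hWV, hs, Ideal.map_span, Set.image_singleton]
    rfl
  obtain ⟨b, hb⟩ := hk.exists_coord le_rfl k'
  rw [AModX.res_self] at hb
  obtain ⟨a, ha⟩ := Ideal.mem_span_singleton'.1 (hspan ▸ OmegaLib.idealSect_mem J ⟨W, hW⟩ k)
  have hak : k = a • k' := OmegaLib.idealSect_injective J W (by
    rw [OmegaLib.idealSect_smul, hk', ha])
  have hab : a * b = 1 := by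
    have h1 : (1 : Γ(Y, W)) • k = (a * b) • k := by rw [one_smul, mul_smul, ← hb, ← hak]
    refine (hk.coord_unique (le_refl W) ?_).symm
    rwa [AModX.res_self]
  rw [hb]
  exact hk.isUnit_smul (IsUnit.of_mul_eq_one_right a hab)

variable {R : Type u} [CommRing R] [IsDomain R] [IsDiscreteValuationRing R]
  (X : Over (Spec (CommRingCat.of R)))

/-- The generic fibre as an open subscheme. -/
abbrev genOpen (ϖ : R) : X.left.Opens := X.left.basicOpen (Coh.toGlobal X.hom ϖ)

theorem mem_genOpen_iff {ϖ : R} (hϖ : IsLocalRing.maximalIdeal R = Ideal.span {ϖ}) (x : X.left) :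
    x ∈ genOpen X ϖ ↔ x ∉ Models.specialFibreSet R X := by
  obtain ⟨U, hU, hxU, -⟩ := exists_isAffineOpen_mem_and_subset (x := x) (U := ⊤) trivial
  rw [FibreIdeal.mem_fibre_iff X hϖ hU x hxU,
    ← QCoh.mem_basicOpen_iff_notMem hU hxU, FibreIdeal.unifOn, Scheme.basicOpen_res]
  exact ⟨fun h => ⟨hxU, h⟩, fun h => h.2⟩

theorem range_generic {C : Scheme.{u}} {f : C ⟶ Spec (CommRingCat.of (FractionRing R))} {g : C ⟶ X.left}
    (sq : IsPullback g f X.hom (Spec.map (CommRingCat.ofHom (algebraMap R (FractionRing R)))))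
    {ϖ : R} (hϖ : Irreducible ϖ) : IsOpenImmersion g ∧ Set.range g = (genOpen X ϖ : Set X.left) := by
  obtain ⟨hoi, hr⟩ := PushIso.isOpenImmersion_genPt hϖ
  have hoi' : IsOpenImmersion (Spec.map (CommRingCat.ofHom (algebraMap R (FractionRing R)))) := hoi
  refine ⟨MorphismProperty.of_isPullback (P := @IsOpenImmersion) sq.flip hoi', ?_⟩
  have h1 : Set.range g = X.hom ⁻¹' Set.range (Spec.map (CommRingCat.ofHom (algebraMap R (FractionRing R)))) := by
    rw [← sq.isoPullback_hom_fst, Scheme.Hom.comp_base, TopCat.coe_comp, Set.range_comp,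
      Set.range_eq_univ.mpr sq.isoPullback.hom.surjective, Set.image_univ, Scheme.Pullback.range_fst]
  rw [h1]
  ext x
  rw [Set.mem_preimage, show Set.range (Spec.map (CommRingCat.ofHom (algebraMap R (FractionRing R)))) = _ from hr]
  show ϖ ∉ (X.hom x).asIdeal ↔ x ∈ genOpen X ϖ
  rw [mem_genOpen_iff X hϖ.maximalIdeal_eq]
  refine not_congr ⟨fun h => PrimeSpectrum.ext ?_, fun h => ?_⟩
  · refine ((IsLocalRing.maximalIdeal.isMaximal R).eq_of_le (X.hom x).isPrime.ne_top ?_).symm
    rw [hϖ.maximalIdeal_eq, Ideal.span_singleton_le_iff_mem]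
    exact h
  · rw [show X.hom x = IsLocalRing.closedPoint R from h]
    exact hϖ.maximalIdeal_eq.ge (Ideal.mem_span_singleton_self ϖ)

theorem exists_frame_genOpen {C : Scheme.{u}} {f : C ⟶ Spec (CommRingCat.of (FractionRing R))} {g : C ⟶ X.left}
    (sq : IsPullback g f X.hom (Spec.map (CommRingCat.ofHom (algebraMap R (FractionRing R)))))
    {ϖ : R} (hϖ : Irreducible ϖ) {M : X.left.Modules}
    (h : Nonempty ((Scheme.Modules.pullback g).obj M ≅ Coh.structureModule C)) :
    ∃ e : Γ(M, genOpen X ϖ), InvX.IsFrame e := by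
  obtain ⟨hg, hr⟩ := range_generic X sq hϖ
  obtain ⟨e₀⟩ := h
  let U := genOpen X ϖ
  have hr' : Set.range U.ι = Set.range g := by rw [hr]; exact Scheme.Opens.range_ι U
  let e := IsOpenImmersion.isoOfRangeEq U.ι g hr'
  have he : e.hom ≫ g = U.ι := IsOpenImmersion.isoOfRangeEq_hom_fac _ _ _
  obtain ⟨e₁⟩ := PicClLib.nonempty_pullback_structureModule e.hom
  refine PrincipalGlobal.exists_frame_of_iso (?_ : M.restrict U.ι ≅ Coh.structureModule U.toScheme)
  exact (Scheme.Modules.restrictFunctorIsoPullback U.ι).app M ≪≫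
    (Scheme.Modules.pullbackCongr he.symm).app M ≪≫ ((Scheme.Modules.pullbackComp e.hom g).app M).symm ≪≫
    (Scheme.Modules.pullback e.hom).mapIso e₀ ≪≫ e₁

theorem nonempty_pullback_trivial {C : Scheme.{u}} {f : C ⟶ Spec (CommRingCat.of (FractionRing R))}
    {g : C ⟶ X.left}
    (sq : IsPullback g f X.hom (Spec.map (CommRingCat.ofHom (algebraMap R (FractionRing R)))))
    {ϖ : R} (hϖ : Irreducible ϖ) {M : X.left.Modules} {e : Γ(M, genOpen X ϖ)} (he : InvX.IsFrame e) :
    Nonempty ((Scheme.Modules.pullback g).obj M ≅ Coh.structureModule C) := by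
  obtain ⟨hg, hr⟩ := range_generic X sq hϖ
  have htop : g ⁻¹ᵁ genOpen X ϖ = ⊤ :=
    SetLike.coe_injective (Set.eq_univ_of_forall fun c => hr.le ⟨c, rfl⟩)
  exact nonempty_iso_of_frame_top ((InvX.isFrame_pullElt g he).res (le_of_eq htop.symm))

variable {n : ℕ} (Γc : Fin n → ArSurf.VertComp R X) (hΓ : Models.IsComponentList R X Γc)

include hΓ in
/-- An effective vertical curve has a trivial ideal on the generic fibre. -/
theorem exists_frame_ideal [Flat X.hom] [LocallyOfFiniteType X.hom]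
    (hreg : ∀ x : X.left, IsRegularLocalRing (X.left.presheaf.stalk x)) {ϖ : R}
    (hϖ : IsLocalRing.maximalIdeal R = Ideal.span {ϖ}) (i : Fin n) :
    ∃ e : Γ(ClSub.idealMod (Γc i).ι.ker, genOpen X ϖ), InvX.IsFrame e := by
  set I := (Γc i).ι.ker
  have hsub : I.subschemeι ⁻¹ᵁ genOpen X ϖ = ⊥ := by
    refine SetLike.coe_injective (Set.eq_empty_iff_forall_notMem.2 fun z hz => ?_)
    have hmem : I.subschemeι z ∈ Set.range (Γc i).ι.base := by
      have h : I.subschemeι z ∈ (I.support : Set X.left) := I.range_subschemeι ▸ Set.mem_range_self z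
      rw [Scheme.Hom.support_ker] at h
      exact (Γc i).ι.isClosedEmbedding.isClosed_range.closure_eq ▸ h
    exact (mem_genOpen_iff X hϖ _).1 hz
      ((show Set.range (Γc i).ι.base ∈ Models.fibreComponents R X from hΓ.2 ▸ ⟨i, rfl⟩).1.2 hmem)
  obtain ⟨e, he⟩ := OmegaLib.exists_idealSect_eq I (genOpen X ϖ) 1 (by
    haveI : Subsingleton Γ(I.subscheme, I.subschemeι ⁻¹ᵁ genOpen X ϖ) := by rw [hsub]; infer_instance
    exact Subsingleton.elim _ _)
  refine ⟨e, fun V hV => ⟨fun a b hab => ?_, fun t => ⟨OmegaSh.idealSect I V t, ?_⟩⟩⟩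
  · have h := congrArg (OmegaSh.idealSect I V) hab
    rw [OmegaLib.idealSect_smul, OmegaLib.idealSect_smul,
      show OmegaSh.idealSect I V (AModX.res _ hV e) = _ from OmegaLib.idealSect_map I hV e, he, map_one,
      mul_one, mul_one] at h
    exact h
  · refine OmegaLib.idealSect_injective I V ?_
    rw [OmegaLib.idealSect_smul, show OmegaSh.idealSect I V (AModX.res _ hV e) = _ from
      OmegaLib.idealSect_map I hV e, he, map_one, mul_one]

include hΓ in
/-- An invertible module with a frame on the generic fibre is a vertical twist. -/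
theorem exists_exponents [IsProper X.hom] [Flat X.hom]
    (hreg : ∀ x : X.left, IsRegularLocalRing (X.left.presheaf.stalk x))
    {ϖ : R} (hirr : Irreducible ϖ) {M : X.left.Modules} (hM : PicF.IsInvertible M)
    {e₀ : Γ(M, genOpen X ϖ)} (he₀ : InvX.IsFrame e₀) :
    ∃ a : Fin n → ℕ, PicF.cl M * ∏ i, PicF.cl (ClSub.idealMod (Γc i).ι.ker) ^ a i = 1 := by
  classical
  haveI : IsLocallyNoetherian X.left := LocallyOfFiniteType.isLocallyNoetherian X.hom
  haveI : CompactSpace X.left := QuasiCompact.compactSpace_of_compactSpace X.hom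
  haveI : QuasiSeparatedSpace X.left := quasiSeparatedSpace_of_quasiSeparated X.hom
  have hϖ := hirr.maximalIdeal_eq
  have heff := (FibreIdeal.result X Γc hΓ hreg).1
  -- an extension of the frame
  obtain ⟨N, σ, hσ⟩ := QCoh.exists_pow_smul_eq_map_of_isQuasiSeparated (CurveDeg.isCoh_of_isInvertible hM).1
    (W := (⊤ : X.left.Opens)) isCompact_univ isQuasiSeparated_univ (Coh.toGlobal X.hom ϖ) e₀
  have hσ' : InvX.IsFrame (AModX.res M (le_top : genOpen X ϖ ≤ ⊤) σ) := by
    rw [show AModX.res M (le_top : genOpen X ϖ ≤ ⊤) σ = _ from hσ]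
    refine he₀.isUnit_smul (IsUnit.pow _ ?_)
    exact RingedSpace.isUnit_res_basicOpen X.left.toLocallyRingedSpace.toRingedSpace _
  obtain ⟨M', hM', ⟨θ₀⟩⟩ := PicInv.exists_inverse hM
  obtain ⟨θ⟩ : Nonempty (CohB1.tensorMod M' M ≅ Coh.structureModule X.left) := by
    obtain ⟨c⟩ := PicMul.comm M' M
    exact ⟨c ≪≫ θ₀⟩
  let φ : M' ⟶ Coh.structureModule X.left :=
    (KFlatLib.tensorUnitIso M').inv ≫ (DCoh.tensorBi.obj M').map (QCoh.homOfTop (P := M) σ) ≫ θ.hom
  -- local equations
  have loc : ∀ x : X.left, ∃ (W : X.left.affineOpens) (_ : x ∈ W.1) (e : Γ(M', W.1)) (c : Γ(X.left, W.1)),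
      InvX.IsFrame e ∧ φ.app W.1 e = OmegaSh.strSect X.left W.1 c ∧
        ∃ k : ℕ, FibreIdeal.unifOn X ϖ W.1 ^ k ∈ Ideal.span {c} := by
    intro x
    obtain ⟨U₀, hx₀, eM, e', heM, he'⟩ := InvX.exists_frame₂ hM hM' x
    obtain ⟨W, hW, hxW, hWU⟩ := exists_isAffineOpen_mem_and_subset hx₀
    let em := AModX.res M hWU eM
    have hem : InvX.IsFrame em := heM.res _
    let e := AModX.res M' hWU e'
    have he : InvX.IsFrame e := he'.res _
    obtain ⟨c, hc⟩ := hem.exists_coord le_rfl (AModX.res M (le_top : W ≤ ⊤) σ)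
    rw [AModX.res_self] at hc
    let one : Γ(Coh.structureModule X.left, W) := OmegaSh.strSect X.left W 1
    have hone : InvX.IsFrame one := InvX.isFrame_one (X := X.left) W
    obtain ⟨u₁, hu₁, h1⟩ := exists_unit_of_frames (InvX.isFrame_tmul he hone)
      (he.map_iso (KFlatLib.tensorUnitIso M').symm)
    obtain ⟨u₂, hu₂, h2⟩ := exists_unit_of_frames hone ((InvX.isFrame_tmul he hem).map_iso θ)
    have hval : φ.app W e = OmegaSh.strSect X.left W (u₁ * (c * u₂)) := by
      show θ.hom.app W (((DCoh.tensorBi.obj M').map (QCoh.homOfTop (P := M) σ)).app W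
        ((KFlatLib.tensorUnitIso M').inv.app W e)) = _
      rw [show (KFlatLib.tensorUnitIso M').inv.app W e = _ from h1, Scheme.Modules.Hom.app_smul,
        Scheme.Modules.Hom.app_smul]
      have h3 : ((DCoh.tensorBi.obj M').map (QCoh.homOfTop (P := M) σ)).app W (InvX.tmul e one) =
          c • InvX.tmul e em := by
        refine (KFlatLib.tmSh_naturality_right M' (QCoh.homOfTop (P := M) σ) (U := W) e one).trans ?_
        have h4 : (QCoh.homOfTop (P := M) σ).app W one = c • em := by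
          refine (QCoh.homOfTop_app (P := M) σ (1 : Γ(X.left, W))).trans ?_
          rw [one_smul]
          exact hc
        exact (congrArg (KFlatLib.tmSh M' M e) h4).trans (InvX.tmul_smul_right c e em)
      rw [h3, Scheme.Modules.Hom.app_smul, show θ.hom.app W (InvX.tmul e em) = _ from h2, ← mul_smul, ← mul_smul]
      refine (congrArg (· • (OmegaSh.strSect X.left W 1)) (mul_assoc u₁ c u₂)).trans
        ((OmegaSh.strSect_mul (W := W) (u₁ * (c * u₂)) 1).symm.trans (congrArg _ (mul_one _)))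
    refine ⟨⟨W, hW⟩, hxW, e, _, he, hval, ?_⟩
    have hspan : Ideal.span {u₁ * (c * u₂)} = Ideal.span {c} := by
      rw [Ideal.span_singleton_mul_left_unit hu₁, Ideal.span_singleton_mul_right_unit hu₂]
    rw [hspan]
    -- `c` is a unit on the generic fibre
    let V := W ⊓ genOpen X ϖ
    obtain ⟨w, hw, hw'⟩ := exists_unit_of_frames (hem.res (inf_le_left : V ≤ W)) (hσ'.res (inf_le_right : V ≤ genOpen X ϖ))
    have hcV : AModX.resR (inf_le_left : V ≤ W) c = w := by
      refine (hem.res (inf_le_left : V ≤ W)).coord_unique le_rfl ?_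
      rw [AModX.res_self, ← hw', ← AModX.res_smul, ← hc, AModX.res_res, AModX.res_res]
    haveI := hW.isLocalization_basicOpen (FibreIdeal.unifOn X ϖ W)
    have hV : X.left.basicOpen (FibreIdeal.unifOn X ϖ W) = V := Scheme.basicOpen_res _ _ _
    have hu : IsUnit (algebraMap Γ(X.left, W) Γ(X.left, X.left.basicOpen (FibreIdeal.unifOn X ϖ W)) c) := by
      have h := (hw.map (AModX.resR (le_of_eq hV)) : IsUnit _)
      rw [← hcV, AModX.resR_resR] at h
      exact h
    obtain ⟨d, hd⟩ := hu.exists_right_inv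
    obtain ⟨⟨r, ⟨_, m, rfl⟩⟩, hrm⟩ := IsLocalization.surj (Submonoid.powers (FibreIdeal.unifOn X ϖ W)) d
    simp only at hrm
    have h5 : algebraMap Γ(X.left, W) Γ(X.left, X.left.basicOpen (FibreIdeal.unifOn X ϖ W)) (c * r) =
        algebraMap _ _ (FibreIdeal.unifOn X ϖ W ^ m) := by
      rw [map_mul, ← hrm, ← mul_assoc, hd, one_mul]
    obtain ⟨⟨_, l, rfl⟩, hl⟩ := (IsLocalization.eq_iff_exists (Submonoid.powers (FibreIdeal.unifOn X ϖ W)) _).1 h5
    simp only at hl
    exact ⟨l + m, Ideal.mem_span_singleton'.2 ⟨FibreIdeal.unifOn X ϖ W ^ l * r, by rw [pow_add, ← hl]; ring⟩⟩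
  -- the exponents
  let ξ : Fin n → X.left := fun i => Models.genPtOf R X (Γc i)
  choose Wξ hξ eξ cξ heξ hφξ hkξ using fun i => loc (ξ i)
  let a : Fin n → ℕ := fun i => (Module.length (X.left.presheaf.stalk (ξ i))
    (X.left.presheaf.stalk (ξ i) ⧸ Ideal.span {X.left.presheaf.germ (Wξ i).1 (ξ i) (hξ i) (cξ i)})).toNat
  refine ⟨a, ?_⟩
  obtain ⟨hJ, hclJ⟩ := IdealCl.eff_and_cl_prod Finset.univ (fun i => (Γc i).ι.ker) heff a
  obtain ⟨iso⟩ := nonempty_iso_idealMod φ _ hJ fun x => by
    obtain ⟨W, hxW, e, c, he, hφ, k, hk⟩ := loc x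
    refine ⟨W, hxW, e, c, he, hφ, ?_⟩
    haveI : IsNoetherianRing Γ(X.left, W.1) := IsLocallyNoetherian.component_noetherian W
    have hnzd : c ∈ nonZeroDivisors Γ(X.left, W.1) := mem_nonZeroDivisors_iff_right.2 fun z hz => by
      obtain ⟨r, hr⟩ := Ideal.mem_span_singleton'.1 hk
      refine mem_nonZeroDivisors_iff_right.1 (pow_mem (FibreIdeal.unifOn_mem_nonZeroDivisors X hirr.ne_zero W.2) k) z ?_
      rw [← hr, mul_left_comm, hz, mul_zero]
    -- the exponent at a component meeting the chart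
    have ha : ∀ i (hi : ξ i ∈ W.1), a i = (Module.length (X.left.presheaf.stalk (ξ i))
        (X.left.presheaf.stalk (ξ i) ⧸ Ideal.span {X.left.presheaf.germ W.1 (ξ i) hi c})).toNat := by
      intro i hi
      refine congrArg ENat.toNat (FibreIdeal.length_congr ?_)
      let V := W.1 ⊓ (Wξ i).1
      have h1 : V ≤ W.1 := inf_le_left
      have h2 : V ≤ (Wξ i).1 := inf_le_right
      obtain ⟨v, hv, hv'⟩ := exists_unit_of_frames (he.res h1) ((heξ i).res h2)
      have hc : AModX.resR h2 (cξ i) = v * AModX.resR h1 c := by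
        have h := congrArg (φ.app V) hv'
        rw [Scheme.Modules.Hom.app_smul, AModX.app_res, AModX.app_res, hφ, hφξ] at h
        exact h
      have hmem : ξ i ∈ V := ⟨hi, hξ i⟩
      rw [← InvX.germ_resR' h2 hmem (cξ i), hc, map_mul, InvX.germ_resR' h1 hmem c,
        Ideal.span_singleton_mul_left_unit (hv.map _)]
    let P : Fin n → Ideal Γ(X.left, W.1) := fun i =>
      if c ∈ (Γc i).ι.ker.ideal W then (Γc i).ι.ker.ideal W else ⊤
    have hprod : (∏ i, (Γc i).ι.ker ^ a i).ideal W = ∏ i, (Γc i).ι.ker.ideal W ^ a i := by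
      let F : X.left.IdealSheafData →* Ideal Γ(X.left, W.1) :=
        { toFun := fun I => I.ideal W, map_one' := by simp, map_mul' := fun I J => rfl }
      show F _ = _
      rw [map_prod]
      simp only [map_pow]
      rfl
    have hPa : ∀ i, (Γc i).ι.ker.ideal W ^ a i = P i ^ a i := fun i => by
      by_cases hci : c ∈ (Γc i).ι.ker.ideal W
      · simp only [P, if_pos hci]
      simp only [P, if_neg hci]
      rcases FibreIdeal.ker_ideal_cases (Γc i).ι W with ⟨-, h⟩ | ⟨h, hP⟩
      · exact absurd (h ▸ Submodule.mem_top) hci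
      · have hu : IsUnit (X.left.presheaf.germ W.1 (ξ i) h c) := by
          rw [← X.left.mem_basicOpen]
          exact (QCoh.mem_basicOpen_iff_notMem W.2 h c).2 (hP ▸ hci)
        haveI : Subsingleton (X.left.presheaf.stalk (ξ i) ⧸ Ideal.span {X.left.presheaf.germ W.1 (ξ i) h c}) :=
          Ideal.Quotient.subsingleton_iff.2 (Ideal.span_singleton_eq_top.2 hu)
        rw [ha i h, Module.length_eq_zero, ENat.toNat_zero, pow_zero, pow_zero]
    rw [hprod, Finset.prod_congr rfl fun i _ => hPa i]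
    have hreg' : ∀ (m : Ideal Γ(X.left, W.1)) [m.IsMaximal], IsDomain (Localization.AtPrime m) ∧
        UniqueFactorizationMonoid (Localization.AtPrime m) := fun m _ => by
      let q : PrimeSpectrum Γ(X.left, W.1) := ⟨m, inferInstance⟩
      have hqU : W.2.fromSpec q ∈ W.1 := by
        have : W.2.fromSpec q ∈ Set.range W.2.fromSpec := ⟨q, rfl⟩
        rwa [W.2.range_fromSpec] at this
      letI := TopCat.Presheaf.algebra_section_stalk X.left.presheaf (⟨W.2.fromSpec q, hqU⟩ : W.1)
      have hq : W.2.primeIdealOf ⟨W.2.fromSpec q, hqU⟩ = q :=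
        W.2.fromSpec.isOpenEmbedding.injective (W.2.fromSpec_primeIdealOf ⟨_, hqU⟩)
      haveI : IsLocalization.AtPrime (X.left.presheaf.stalk (W.2.fromSpec q)) m := by
        have := W.2.isLocalization_stalk ⟨W.2.fromSpec q, hqU⟩
        simp only [hq] at this
        exact this
      let e := (IsLocalization.algEquiv m.primeCompl (X.left.presheaf.stalk (W.2.fromSpec q)) (Localization.AtPrime m)).toRingEquiv
      haveI := hreg (W.2.fromSpec q)
      obtain ⟨hd, hu⟩ := RegUFD.ufd (X.left.presheaf.stalk (W.2.fromSpec q))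
      exact ⟨e.symm.toMulEquiv.isDomain _, e.toMulEquiv.uniqueFactorizationMonoid hu⟩
    have hmin : ∀ i (h : ξ i ∈ W.1), c ∈ (W.2.primeIdealOf ⟨ξ i, h⟩).asIdeal →
        (W.2.primeIdealOf ⟨ξ i, h⟩).asIdeal ∈ (Ideal.span {c}).minimalPrimes := fun i h hci =>
      ⟨⟨inferInstance, (Ideal.span_singleton_le_iff_mem _).2 hci⟩, fun Q hQ hle =>
        (FibreIdeal.mem_minimalPrimes X Γc hΓ hϖ W.2 i h).2 ⟨hQ.1, (Ideal.span_singleton_le_iff_mem _).2
          (hQ.1.mem_of_pow_mem k (hQ.2 hk))⟩ hle⟩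
    symm
    refine IdealFactor.span_eq_prod hreg' _ hnzd P (fun i => ?_) (fun i j hij hne => ?_) (fun Q hQ => ?_) _
      fun i _ => ?_
    · by_cases hci : c ∈ (Γc i).ι.ker.ideal W
      · simp only [P, if_pos hci]
        rcases FibreIdeal.ker_ideal_cases (Γc i).ι W with ⟨-, h⟩ | ⟨h, e1⟩
        · exact Or.inl h
        · rw [e1] at hci ⊢
          exact Or.inr (hmin i h hci)
      · exact Or.inl (if_neg hci)
    · by_cases hci : c ∈ (Γc i).ι.ker.ideal W
      swap
      · exact absurd (if_neg hci) hne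
      simp only [P, if_pos hci] at hij hne
      by_cases hcj : c ∈ (Γc j).ι.ker.ideal W
      swap
      · rw [if_neg hcj] at hij
        exact absurd hij hne
      rw [if_pos hcj] at hij
      rcases FibreIdeal.ker_ideal_cases (Γc i).ι W with ⟨-, h⟩ | ⟨h, e1⟩
      · exact absurd h hne
      rcases FibreIdeal.ker_ideal_cases (Γc j).ι W with ⟨-, h'⟩ | ⟨h', e2⟩
      · exact absurd (hij.trans h') hne
      have := congrArg W.2.fromSpec (PrimeSpectrum.ext (e1.symm.trans (hij.trans e2)))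
      rw [W.2.fromSpec_primeIdealOf, W.2.fromSpec_primeIdealOf] at this
      exact FibreIdeal.genPt_injective X Γc hΓ this
    · let q : PrimeSpectrum Γ(X.left, W.1) := ⟨Q, hQ.1.1⟩
      have hqU : W.2.fromSpec q ∈ W.1 := by
        have : W.2.fromSpec q ∈ Set.range W.2.fromSpec := ⟨q, rfl⟩
        rwa [W.2.range_fromSpec] at this
      have hq : W.2.primeIdealOf ⟨W.2.fromSpec q, hqU⟩ = q :=
        W.2.fromSpec.isOpenEmbedding.injective (W.2.fromSpec_primeIdealOf ⟨_, hqU⟩)
      have hπQ : FibreIdeal.unifOn X ϖ W.1 ∈ Q := hQ.1.1.mem_of_pow_mem k (hQ.1.2 hk)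
      have hqs : W.2.fromSpec q ∈ Models.specialFibreSet R X :=
        (FibreIdeal.mem_fibre_iff X hϖ W.2 _ hqU).2 (by rw [hq]; exact hπQ)
      haveI := hQ.1.1
      have hQ1 : Q.height ≤ 1 := Ideal.height_le_one_of_isPrincipal_of_mem_minimalPrimes _ _ hQ
      obtain ⟨i, hi⟩ := FibreIdeal.exists_component_of_maximal X Γc hΓ hqs fun w hw hws => by
        have hwU : w ∈ W.1 := hw.mem_open W.1.2 hqU
        have hle : (W.2.primeIdealOf ⟨w, hwU⟩).asIdeal ≤ Q := by
          refine (PrimeSpectrum.le_iff_specializes _ q).2 (W.2.fromSpec.isOpenEmbedding.isInducing.specializes_iff.1 ?_)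
          exact (W.2.fromSpec_primeIdealOf ⟨w, hwU⟩).symm ▸ hw
        have heq : (W.2.primeIdealOf ⟨w, hwU⟩).asIdeal = Q := by
          by_contra hne
          have hh := Ideal.height_strict_mono_of_isPrime (lt_of_le_of_ne hle hne)
          have h0 : (W.2.primeIdealOf ⟨w, hwU⟩).asIdeal.height = 0 := ENat.lt_one_iff_eq_zero.1 (hh.trans_le hQ1)
          rw [Ideal.height_eq_zero_iff] at h0
          exact notMem_nonZeroDivisors_of_mem_mem_minimalPrimes
            ((FibreIdeal.mem_fibre_iff X hϖ W.2 _ hwU).1 hws) h0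
            (FibreIdeal.unifOn_mem_nonZeroDivisors X hirr.ne_zero W.2)
        have h3 : W.2.primeIdealOf ⟨w, hwU⟩ = q := PrimeSpectrum.ext heq
        exact (W.2.fromSpec_primeIdealOf ⟨w, hwU⟩).symm.trans (congrArg _ h3)
      refine ⟨i, ?_⟩
      rcases FibreIdeal.ker_ideal_cases (Γc i).ι W with ⟨h, -⟩ | ⟨h, e1⟩
      · exact absurd (show Models.genPtOf R X (Γc i) ∈ W.1 from hi ▸ hqU) h
      · have : W.2.primeIdealOf ⟨Models.genPtOf R X (Γc i), h⟩ = q := by
          rw [← hq]; exact congrArg _ (Subtype.ext hi)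
        have hPQ : (Γc i).ι.ker.ideal W = Q := e1.trans (congrArg PrimeSpectrum.asIdeal this)
        simp only [P]
        rw [if_pos (hPQ ▸ hQ.1.2 (Ideal.mem_span_singleton_self c)), hPQ]
    · by_cases hci : c ∈ (Γc i).ι.ker.ideal W
      swap
      · exact absurd (if_neg hci : P i = ⊤) (Ideal.IsPrime.ne_top inferInstance)
      rcases FibreIdeal.ker_ideal_cases (Γc i).ι W with ⟨-, h⟩ | ⟨h, e1⟩
      · exact absurd ((if_pos hci : P i = _).trans h) (Ideal.IsPrime.ne_top inferInstance)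
      letI := TopCat.Presheaf.algebra_section_stalk X.left.presheaf (⟨ξ i, h⟩ : W.1)
      haveI := W.2.isLocalization_stalk ⟨ξ i, h⟩
      refine ⟨X.left.presheaf.stalk (ξ i), inferInstance, inferInstance, ?_, ?_⟩
      · simp only [P, if_pos hci, e1]; exact W.2.isLocalization_stalk ⟨ξ i, h⟩
      rw [ha i h, ENat.natCast_toNat]
      · rfl
      -- finiteness of the length
      have hs := FibreIdeal.genPt_mem X Γc hΓ i
      have hfb : DimFormula.fb X.hom (ξ i) = 0 := (DimFormula.fb_eq_zero_iff X.hom (ξ i)).2 fun w hw he2 =>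
        FibreIdeal.genPt_maximal X Γc hΓ i hw (he2.trans hs)
      have hdim : ringKrullDim (X.left.presheaf.stalk (ξ i)) ≤ 1 := by
        rw [DimFormula.ringKrullDim_stalk]
        have h1 := DimFormula.codim_le_add X.hom (ξ i)
        have h2 := FibDimOne.codim_le_one (R := R) (X.hom (ξ i))
        rw [hfb] at h1
        exact_mod_cast h1.trans (by omega)
      haveI : IsDomain (X.left.presheaf.stalk (ξ i)) := (@RegUFD.ufd _ _ (hreg (ξ i))).1
      haveI : Ring.KrullDimLE 1 (X.left.presheaf.stalk (ξ i)) := Ring.krullDimLE_iff.2 hdim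
      refine Module.length_ne_top_iff.2 (isFiniteLength_quotient_span_singleton _ ?_)
      refine mem_nonZeroDivisors_of_ne_zero fun h0 => ?_
      obtain ⟨d, hd⟩ := (IsLocalization.map_eq_zero_iff (W.2.primeIdealOf ⟨ξ i, h⟩).asIdeal.primeCompl _ c).1 h0
      exact d.2 ((mem_nonZeroDivisors_iff_right.1 hnzd _ hd).symm ▸ Ideal.zero_mem _)
  have h1 : PicF.cl M * PicF.cl M' = 1 := by
    rw [← PicMul.cl_tensor]
    exact PicMul.cl_eq_iff.2 ⟨θ₀⟩
  rw [← hclJ, ← PicMul.cl_eq_iff.2 ⟨iso⟩, h1]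

end Groth.Agent.H26.VertDiv
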