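import Groth.Agent.H26.TorsTrivGeom
import Groth.Agent.H26.ArInter
import Groth.Agent.H26.CompList
import Groth.Agent.H26.VertDiv
import Groth.Agent.H23.SpFlat
import Groth.Agent.NodeFam.NodeLocal
import Groth.Agent.Lib.CurveDeg

/-!
# An invertible module trivial on the generic fibre of degree zero on every vertical curve is trivial
-/

set_option autoImplicit false
set_option linter.style.haveILetI false
set_option linter.unusedSectionVars false
set_option backward.isDefEq.respectTransparency false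
set_option backward.isDefEq.respectTransparency.types false
set_option maxHeartbeats 2000000

universe u

open CategoryTheory CategoryTheory.Limits AlgebraicGeometry TopologicalSpace Opposite
open Groth.Agent.AModX
open Groth.Agent.H23 (TrivBasic.locus)

noncomputable section

namespace Groth.Agent.H26.NodalTriv

open Groth.Agent.H23.TrivBasic Groth.Agent.H26.TorsTriv

variable {R : Type u} [CommRing R] [IsDomain R] [IsDiscreteValuationRing R] {X : Scheme.{u}}

/-- The chosen uniformizer. -/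
abbrev unifR (R : Type u) [CommRing R] [IsDomain R] [IsDiscreteValuationRing R] : R :=
  (IsDiscreteValuationRing.exists_irreducible R).choose

theorem hunif : IsLocalRing.maximalIdeal R = Ideal.span {unifR R} :=
  (IsDiscreteValuationRing.exists_irreducible R).choose_spec.maximalIdeal_eq

variable [X.Over (Spec (CommRingCat.of R))]

local notation "pX" => X ↘ Spec (CommRingCat.of R)
local notation "π[" U "]" => FFun.φsec (A := R) U (unifR R)

theorem φsec_mem_nonZeroDivisors [Flat pX] {U : X.Opens} (hU : IsAffineOpen U) :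
    π[U] ∈ nonZeroDivisors Γ(X, U) :=
  haveI : Flat (Over.mk pX).hom := ‹Flat pX›
  FibreIdeal.unifOn_mem_nonZeroDivisors (Over.mk pX) (ϖ := unifR R)
    (IsDiscreteValuationRing.exists_irreducible R).choose_spec.ne_zero hU

theorem smul_cancel [Flat pX] {L : X.Modules} (hL : PicF.IsInvertible L) {V : X.Opens} {a b : Γ(L, V)}
    (h : π[V] • a = π[V] • b) : a = b := by
  refine AModX.eq_of_locally _ _ fun x hx => ?_
  obtain ⟨U, hxU, e, he⟩ := InvX.exists_frame hL x
  obtain ⟨W, hW, hxW, hle⟩ := exists_isAffineOpen_mem_and_subset (show x ∈ U ⊓ V from ⟨hxU, hx⟩)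
  obtain ⟨ca, hca⟩ := he.exists_coord (hle.trans inf_le_left) (AModX.res L (hle.trans inf_le_right) a)
  obtain ⟨cb, hcb⟩ := he.exists_coord (hle.trans inf_le_left) (AModX.res L (hle.trans inf_le_right) b)
  refine ⟨W, hle.trans inf_le_right, hxW, ?_⟩
  have h' := congrArg (AModX.res L (hle.trans inf_le_right)) h
  rw [AModX.res_smul, AModX.res_smul, resR_φsec, hca, hcb, ← mul_smul, ← mul_smul] at h'
  rw [hca, hcb, (mul_cancel_left_mem_nonZeroDivisors (φsec_mem_nonZeroDivisors hW)).1
    (he.coord_unique _ h')]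

theorem germ_φsec {U : X.Opens} {x : X} (hx : x ∈ U) :
    X.presheaf.germ U x hx π[U] = H23.SpGysin.πx pX x := by
  rw [show π[U] = X.presheaf.map (homOfLE (le_top : U ≤ ⊤)).op
    ((pX).appTop (H23.SpGysin.unif R)) from rfl, TopCat.Presheaf.germ_res_apply]
  exact (Scheme.Hom.germ_stalkMap_apply (pX) ⊤ x trivial (H23.SpGysin.unif R)).symm

/-- Functions vanishing on a reduced closed fibre are divisible by the uniformizer. -/
theorem mem_span_of_vanish [LocallyOfFiniteType pX]
    [IsReduced ((pX).fiber (IsLocalRing.closedPoint R))] {U : X.Opens} (hU : IsAffineOpen U) {c : Γ(X, U)}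
    (hc : ∀ x ∈ U, Special R x → x ∉ X.basicOpen c) : c ∈ Ideal.span {π[U]} := by
  by_contra hne
  obtain ⟨m, hm, hle⟩ := Ideal.exists_le_maximal (Submodule.colon (Ideal.span {π[U]}) {c}) fun h => hne <| by
    have := Submodule.mem_colon_singleton.1 (h ▸ Submodule.mem_top : (1 : Γ(X, U)) ∈ _)
    rwa [one_smul] at this
  let q : PrimeSpectrum Γ(X, U) := ⟨m, hm.isPrime⟩
  have hxU : hU.fromSpec q ∈ U := hU.range_fromSpec.le ⟨q, rfl⟩
  have hπ : π[U] ∈ m := hle (Submodule.mem_colon_singleton.2 (Ideal.mul_mem_right _ _ (Ideal.mem_span_singleton_self _)))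
  have hs : Special R (hU.fromSpec q) := by
    by_contra hns
    have h := (mem_basicOpen_φsec_iff (R := R) hunif hxU).2 hns
    have h' : q ∈ hU.fromSpec ⁻¹ᵁ X.basicOpen π[U] := h
    rw [hU.fromSpec_preimage_basicOpen] at h'
    exact h' hπ
  obtain ⟨z, hz⟩ : hU.fromSpec q ∈ Set.range ((pX).fiberι (IsLocalRing.closedPoint R)) := by
    rw [Scheme.Hom.range_fiberι]
    exact hs
  have h0 : ((pX).fiberι (IsLocalRing.closedPoint R)).app U c = 0 := by
    rw [← basicOpen_eq_bot_iff, eq_bot_iff]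
    intro w hw
    have hwU : w ∈ ((pX).fiberι (IsLocalRing.closedPoint R)) ⁻¹ᵁ U := Scheme.basicOpen_le _ _ hw
    refine hc _ hwU ?_ ((mem_basicOpen_app_iff _ c w).1 hw)
    exact ((pX).range_fiberι (IsLocalRing.closedPoint R)).le ⟨w, rfl⟩
  have hzU : (pX).fiberι (IsLocalRing.closedPoint R) z ∈ U := hz ▸ hxU
  have hker : X.presheaf.germ U _ hzU c ∈
      RingHom.ker (((pX).fiberι (IsLocalRing.closedPoint R)).stalkMap z).hom := by
    rw [RingHom.mem_ker]
    refine (Scheme.Hom.germ_stalkMap_apply _ U z hzU c).trans ?_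
    rw [h0, map_zero]
  rw [H23.SpGysin.ker_fiberι_s, ← germ_φsec hzU, Ideal.mem_span_singleton] at hker
  obtain ⟨t, ht⟩ := hker
  have hp : hU.primeIdealOf ⟨_, hzU⟩ = q := by
    apply hU.fromSpec.isOpenEmbedding.injective
    rw [IsAffineOpen.fromSpec_primeIdealOf]
    exact hz
  letI := X.presheaf.algebra_section_stalk (⟨_, hzU⟩ : U)
  haveI := hU.isLocalization_stalk ⟨_, hzU⟩
  obtain ⟨⟨a, b⟩, hab⟩ := IsLocalization.surj (hU.primeIdealOf ⟨_, hzU⟩).asIdeal.primeCompl t
  obtain ⟨b', hb'⟩ := (IsLocalization.eq_iff_exists (hU.primeIdealOf ⟨_, hzU⟩).asIdeal.primeCompl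
    (X.presheaf.stalk ((pX).fiberι (IsLocalRing.closedPoint R) z))
    (x := c * b) (y := π[U] * a)).1 (by
      rw [map_mul, map_mul, ← hab, ← mul_assoc]
      exact congrArg (· * _) ht)
  have hmem : (b' : Γ(X, U)) * b ∈ Submodule.colon (Ideal.span {π[U]}) {c} :=
    Submodule.mem_colon_singleton.2 (Ideal.mem_span_singleton.2 ⟨b' * a, by
      rw [smul_eq_mul]; linear_combination hb'⟩)
  rcases hm.isPrime.mem_or_mem (hle hmem) with h | h
  · exact b'.2 ((SetLike.ext_iff.1 (congrArg PrimeSpectrum.asIdeal hp) _).2 h)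
  · exact b.2 ((SetLike.ext_iff.1 (congrArg PrimeSpectrum.asIdeal hp) _).2 h)

/-- A section vanishing on the closed fibre is divisible by the uniformizer. -/
theorem exists_div [LocallyOfFiniteType pX] [Flat pX] [IsReduced ((pX).fiber (IsLocalRing.closedPoint R))]
    {L : X.Modules} (hL : PicF.IsInvertible L) {s : Γ(L, ⊤)} (hs : ∀ x, Special R x → x ∉ locus s) :
    ∃ s' : Γ(L, ⊤), s = π[(⊤ : X.Opens)] • s' := by
  have hloc : ∀ x : X, ∃ (W : X.Opens) (_ : x ∈ W) (t : Γ(L, W)), AModX.res L le_top s = π[W] • t := by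
    intro x
    obtain ⟨U, hxU, e, he⟩ := InvX.exists_frame hL x
    obtain ⟨W, hW, hxW, hle⟩ := exists_isAffineOpen_mem_and_subset (show x ∈ U from hxU)
    have he' := he.res hle
    obtain ⟨c, hc⟩ := he'.exists_coord le_rfl (AModX.res L (le_top : W ≤ ⊤) s)
    rw [AModX.res_self] at hc
    obtain ⟨d, hd⟩ := Ideal.mem_span_singleton.1 (mem_span_of_vanish (R := R) hW (c := c) fun y hy hsp hmem =>
      hs y hsp ((locus_eq_basicOpen he' hc).ge hmem).1)
    exact ⟨W, hxW, d • AModX.res L hle e, by rw [hc, hd, mul_smul]⟩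
  choose W hxW t ht using hloc
  obtain ⟨s', hs', -⟩ := AModX.existsUnique_glue (V := ⊤) W (fun x => le_top) (fun x _ => ⟨x, hxW x⟩) t
    fun x y => smul_cancel (R := R) hL (by
      have h1 := congrArg (AModX.res L (inf_le_left : W x ⊓ W y ≤ W x)) (ht x)
      have h2 := congrArg (AModX.res L (inf_le_right : W x ⊓ W y ≤ W y)) (ht y)
      rw [AModX.res_res, AModX.res_smul, resR_φsec] at h1 h2
      exact h1.symm.trans h2)
  exact ⟨s', AModX.eq_of_locally _ _ fun x _ => ⟨W x, le_top, hxW x, by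
    rw [AModX.res_smul, resR_φsec, hs' x, ← ht x]⟩⟩

theorem locus_smul_le {L : X.Modules} (hL : PicF.IsInvertible L) (c : Γ(X, ⊤)) (s : Γ(L, ⊤)) :
    locus (c • s) ≤ locus s ⊓ X.basicOpen c := by
  intro x hx
  obtain ⟨U, hxU, e, he⟩ := InvX.exists_frame hL x
  obtain ⟨d, hd⟩ := he.exists_coord le_rfl (AModX.res L (le_top : U ≤ ⊤) s)
  rw [AModX.res_self] at hd
  have hcs : AModX.res L (le_top : U ≤ ⊤) (c • s) = (resR le_top c * d) • e := by
    rw [AModX.res_smul, hd, mul_smul]
  have h1 : x ∈ locus (c • s) ⊓ U := ⟨hx, hxU⟩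
  rw [locus_eq_basicOpen he hcs, Scheme.basicOpen_mul] at h1
  refine ⟨((locus_eq_basicOpen he hd).ge h1.2).1, ?_⟩
  have h2 : X.basicOpen (resR (le_top : U ≤ ⊤) c) = U ⊓ X.basicOpen c := X.basicOpen_res c _
  exact (h2.le h1.1).2

/-- A global section generating on the generic fibre and nonvanishing somewhere on the closed fibre. -/
theorem exists_section [IsProper pX] [Flat pX] [IsReduced ((pX).fiber (IsLocalRing.closedPoint R))]
    {L : X.Modules} (hL : PicF.IsInvertible L) {s : Γ(L, ⊤)}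
    (hs : ∀ x, ¬ Special R x → x ∈ locus s) (hne : ∃ x₀ : X, Special R x₀) :
    ∃ s' : Γ(L, ⊤), (∀ x, ¬ Special R x → x ∈ locus s') ∧ ∃ x, Special R x ∧ x ∈ locus s' := by
  by_contra H
  push_neg at H
  have hn : ∀ n, ∃ t : Γ(L, ⊤), s = π[(⊤ : X.Opens)] ^ n • t ∧ ∀ x, ¬ Special R x → x ∈ locus t := by
    intro n
    induction n with
    | zero => exact ⟨s, by rw [pow_zero, one_smul], hs⟩
    | succ n ih =>
      obtain ⟨t, ht, htg⟩ := ih
      obtain ⟨t', ht'⟩ := exists_div (R := R) hL (H t htg)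
      exact ⟨t', by rw [pow_succ, mul_smul, ← ht', ht], fun x hx =>
        (locus_smul_le hL _ t' (ht' ▸ htg x hx)).1⟩
  choose t ht _ using hn
  obtain ⟨x₀, hx₀⟩ := hne
  haveI : IsLocallyNoetherian X := LocallyOfFiniteType.isLocallyNoetherian pX
  obtain ⟨U, hxU, e, he⟩ := InvX.exists_frame hL x₀
  obtain ⟨c, hc⟩ := he.exists_coord le_rfl (AModX.res L (le_top : U ≤ ⊤) s)
  rw [AModX.res_self] at hc
  let G := (X.presheaf.germ U x₀ hxU).hom
  have hc0 : G c = 0 := by
    have hπ : G π[U] ∈ IsLocalRing.maximalIdeal (X.presheaf.stalk x₀) := fun h =>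
      (mem_basicOpen_φsec_iff (R := R) hunif hxU).1 ((Scheme.mem_basicOpen _ _ x₀ hxU).2 h) hx₀
    have hmem : ∀ n, G c ∈ IsLocalRing.maximalIdeal (X.presheaf.stalk x₀) ^ n := fun n => by
      obtain ⟨d, hd⟩ := he.exists_coord le_rfl (AModX.res L (le_top : U ≤ ⊤) (t n))
      rw [AModX.res_self] at hd
      have hcd : c = π[U] ^ n * d := he.coord_unique le_rfl (by
        rw [AModX.res_self, ← hc, ht n, AModX.res_smul, map_pow, resR_φsec, hd, mul_smul])
      rw [hcd, map_mul, map_pow]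
      exact Ideal.mul_mem_right _ _ (Ideal.pow_mem_pow hπ n)
    rw [← Ideal.mem_bot, ← Ideal.iInf_pow_eq_bot_of_isLocalRing _ (IsLocalRing.maximalIdeal.isMaximal _).ne_top]
    exact Submodule.mem_iInf _ |>.2 hmem
  obtain ⟨W₁, hx₁, i, j, hij⟩ := TopCat.Presheaf.germ_eq X.presheaf x₀ hxU hxU c 0 (hc0.trans (map_zero G).symm)
  obtain ⟨W, hW, hxW, hle⟩ := exists_isAffineOpen_mem_and_subset (show x₀ ∈ W₁ from hx₁)
  have hWU : W ≤ U := hle.trans i.le
  have hcW : resR hWU c = 0 := by
    have h2 := congrArg (resR hle) (show resR i.le c = resR j.le 0 from hij)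
    rwa [resR_resR, map_zero, map_zero] at h2
  have hall : ∀ y ∈ W, Special R y := fun y hy => by
    by_contra hns
    have h1 : y ∈ locus s ⊓ U := ⟨hs y hns, hWU hy⟩
    rw [locus_eq_basicOpen he hc] at h1
    have h2 : X.basicOpen (resR hWU c) = W ⊓ X.basicOpen c := X.basicOpen_res c _
    have h3 : y ∈ X.basicOpen (resR hWU c) := h2 ▸ ⟨hy, h1⟩
    rwa [hcW, Scheme.basicOpen_zero] at h3
  have hnil : IsNilpotent π[W] := by
    rw [← PrimeSpectrum.basicOpen_eq_bot_iff, ← hW.fromSpec_preimage_basicOpen, eq_bot_iff]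
    intro q hq
    have hqW : hW.fromSpec q ∈ W := hW.range_fromSpec.le ⟨q, rfl⟩
    exact (mem_basicOpen_φsec_iff (R := R) hunif hqW).1 hq (hall _ hqW)
  obtain ⟨n, hn⟩ := hnil
  have h10 : (1 : Γ(X, W)) = 0 := by
    have := pow_mem (φsec_mem_nonZeroDivisors (R := R) hW) n
    rw [hn] at this
    exact mem_nonZeroDivisors_iff_right.1 this 1 (mul_zero 1)
  haveI : Nonempty W := ⟨⟨x₀, hxW⟩⟩
  exact one_ne_zero (h10 : (1 : Γ(X, W)) = 0)

/-- An integral vertical curve on each component of the closed fibre. -/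
theorem exists_vertComp [LocallyOfFiniteType pX]
    {Z : Set ↥((pX).fiber (IsLocalRing.closedPoint R))} (hZ : Z ∈ irreducibleComponents _)
    (hdim : topologicalKrullDim Z = 1) :
    ∃ E : ArSurf.VertComp R (Over.mk pX),
      Set.range (E.ι.base : E.curve.left → X) = (pX).fiberι (IsLocalRing.closedPoint R) '' Z := by
  let ι := (pX).fiberι (IsLocalRing.closedPoint R)
  have hS : IsClosed (Set.range ι) := by
    rw [Scheme.Hom.range_fiberι]
    exact (IsLocalRing.isClosed_singleton_closedPoint R).preimage (pX).continuous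
  have hce : Topology.IsClosedEmbedding ι := ⟨ι.isEmbedding, hS⟩
  have hZc : IsClosed (ι '' Z) := hce.isClosedMap _ (isClosed_of_mem_irreducibleComponents Z hZ)
  let I := Scheme.IdealSheafData.vanishingIdeal (⟨ι '' Z, hZc⟩ : Closeds X)
  let W := I.subscheme
  have hrange : Set.range I.subschemeι = ι '' Z := H23.RedSub.range_vanishingIdeal _
  haveI : IsReduced W := H23.RedSub.isReduced_vanishingIdeal _
  let e : W ≃ₜ Z := I.subschemeι.isEmbedding.toHomeomorph.trans
    ((Homeomorph.setCongr hrange).trans (ι.isEmbedding.homeomorphImage Z).symm)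
  haveI : IrreducibleSpace Z := Subtype.irreducibleSpace hZ.1
  haveI : IrreducibleSpace W := e.symm.surjective.irreducibleSpace e.symm.continuous
  haveI : IsIntegral W := isIntegral_of_irreducibleSpace_of_isReduced W
  obtain ⟨g', hg'⟩ := CompList.exists_fac (I.subschemeι ≫ pX) fun w => by
    rw [Scheme.Hom.comp_apply]
    obtain ⟨z, -, hz⟩ := hrange.le ⟨w, rfl⟩
    rw [← hz]
    exact ((pX).range_fiberι _).le ⟨z, rfl⟩
  exact ⟨⟨Over.mk g', I.subschemeι, inferInstance, inferInstanceAs (IsIntegral W),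
    e.isHomeomorph.topologicalKrullDim_eq.trans hdim, hg'.symm⟩, hrange⟩

/-- A section of a degree zero module which is nonzero on a vertical curve vanishes nowhere on it. -/
theorem range_subset_locus [IsProper pX] {L : X.Modules} (hL : PicF.IsInvertible L) (s : Γ(L, ⊤))
    (E : ArSurf.VertComp R (Over.mk pX)) (hdeg : ArSurf.inter R (Over.mk pX) L E = 0)
    {w₀ : E.curve.left} (hw₀ : E.ι w₀ ∈ locus s) (w : E.curve.left) : E.ι w ∈ locus s := by
  haveI : IsProper (Over.mk pX).hom := ‹IsProper pX›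
  haveI := ArInter.isProper_curve E
  let P := (Scheme.Modules.pullback E.ι).obj L
  have hP : PicF.IsInvertible P := PicClLib.isInvertible_pullback E.ι hL
  let t : Γ(P, ⊤) := InvX.pullElt E.ι s
  let φ : Coh.structureModule E.curve.left ⟶ P := QCoh.homOfTop t
  have happ : φ.app ⊤ (1 : Γ(E.curve.left, ⊤)) = t := by
    refine (QCoh.homOfTop_app t (W := ⊤) (1 : Γ(E.curve.left, ⊤))).trans ?_
    rw [one_smul]
    exact AModX.res_self t
  have hφ : φ ≠ 0 := fun h => by
    have ht : t = 0 := by rw [← happ, h]; rfl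
    have h1 : w₀ ∈ locus t := by
      rw [show locus t = E.ι ⁻¹ᵁ locus s from locus_pullElt hL E.ι s]
      exact hw₀
    obtain ⟨U, hU, hf⟩ := mem_locus_iff.1 h1
    rw [ht, map_zero] at hf
    haveI : Nonempty U := ⟨⟨w₀, hU⟩⟩
    exact one_ne_zero ((hf U le_rfl).1 (show (1 : Γ(E.curve.left, U)) • AModX.res P le_rfl (0 : Γ(P, U)) =
      (0 : Γ(E.curve.left, U)) • AModX.res P le_rfl (0 : Γ(P, U)) by simp))
  have h0 : Curv2.deg (IsLocalRing.ResidueField R) E.curve.left P 1 = 0 :=
    (ArInter.curveDeg_eq E hP).symm.trans hdeg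
  haveI : IsIso φ := (CurveDeg.deg_le_and_isIso (IsLocalRing.ResidueField R) E.dim_eq.le
    InvX.isInvertible_structureModule hP φ hφ).2 (by rw [CurveDeg.deg_structureModule, h0])
  refine mem_locus_of_pullElt hL E.ι s ?_ w
  have := (InvX.isFrame_one (X := E.curve.left) ⊤).map_iso (asIso φ)
  rwa [show (asIso φ).hom.app ⊤ _ = t from happ] at this

/-- Trivial on the generic fibre and of degree zero on every vertical curve implies trivial. -/
theorem nonempty_iso [IsProper pX] [Flat pX] [IsReduced ((pX).fiber (IsLocalRing.closedPoint R))]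
    [ConnectedSpace ↥((pX).fiber (IsLocalRing.closedPoint R))]
    (hdim : ∀ Z ∈ irreducibleComponents ↥((pX).fiber (IsLocalRing.closedPoint R)), topologicalKrullDim Z = 1)
    {L : X.Modules} (hL : PicF.IsInvertible L) {s₀ : Γ(L, ⊤)} (hs₀ : ∀ x, ¬ Special R x → x ∈ locus s₀)
    (hdeg : ∀ E : ArSurf.VertComp R (Over.mk pX), ArSurf.inter R (Over.mk pX) L E = 0) :
    Nonempty (L ≅ Coh.structureModule X) := by
  let ι := (pX).fiberι (IsLocalRing.closedPoint R)
  have hspec : ∀ z, Special R (ι z) := fun z => ((pX).range_fiberι _).le ⟨z, rfl⟩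
  obtain ⟨s, hs, x₁, hx₁, hmem⟩ := exists_section (R := R) hL hs₀
    ⟨ι (Classical.arbitrary _), hspec _⟩
  refine VertDiv.nonempty_iso_of_frame_top (locus_eq_top_iff.1 (TorsTriv.eq_top_of_special (R := R) fun x hx => ?_) :
    InvX.IsFrame s)
  let A : Set ↥((pX).fiber (IsLocalRing.closedPoint R)) := ι ⁻¹' (locus s : Set X)
  have key : ∀ Z ∈ irreducibleComponents ↥((pX).fiber (IsLocalRing.closedPoint R)),
      (Z ∩ A).Nonempty → Z ⊆ A := by
    rintro Z hZ ⟨z₀, hz₀, hz₀A⟩ z hz
    obtain ⟨E, hE⟩ := exists_vertComp hZ (hdim Z hZ)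
    obtain ⟨w₀, hw₀⟩ := hE.ge ⟨z₀, hz₀, rfl⟩
    obtain ⟨w, hw⟩ := hE.ge ⟨z, hz, rfl⟩
    show ι z ∈ locus s
    exact hw ▸ range_subset_locus hL s E (hdeg E) (w₀ := w₀) (hw₀.symm ▸ hz₀A) w
  haveI : IsLocallyNoetherian ((pX).fiber (IsLocalRing.closedPoint R)) :=
    LocallyOfFiniteType.isLocallyNoetherian ((pX).fiberToSpecResidueField (IsLocalRing.closedPoint R))
  haveI : IsNoetherian ((pX).fiber (IsLocalRing.closedPoint R)) :=
    { __ := ‹IsLocallyNoetherian ((pX).fiber (IsLocalRing.closedPoint R))› }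
  have hclopen : IsClopen A := by
    refine ⟨?_, (locus s).2.preimage ι.continuous⟩
    have hA : A = ⋃₀ {Z ∈ irreducibleComponents ↥((pX).fiber (IsLocalRing.closedPoint R)) | (Z ∩ A).Nonempty} := by
      refine subset_antisymm (fun z hz => ?_) (Set.sUnion_subset fun Z hZ => key Z hZ.1 hZ.2)
      exact ⟨irreducibleComponent z, ⟨irreducibleComponent_mem_irreducibleComponents z,
        z, mem_irreducibleComponent, hz⟩, mem_irreducibleComponent⟩
    rw [hA]
    rw [Set.sUnion_eq_biUnion]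
    have hfin : {Z ∈ irreducibleComponents ↥((pX).fiber (IsLocalRing.closedPoint R)) | (Z ∩ A).Nonempty}.Finite :=
      Set.Finite.subset NoetherianSpace.finite_irreducibleComponents (fun Z hZ => hZ.1)
    exact hfin.isClosed_biUnion fun Z hZ => isClosed_of_mem_irreducibleComponents Z hZ.1
  obtain ⟨z₁, rfl⟩ : x₁ ∈ Set.range ι := ((pX).range_fiberι _).ge hx₁
  obtain ⟨z, rfl⟩ : x ∈ Set.range ι := ((pX).range_fiberι _).ge hx
  exact (hclopen.eq_univ ⟨z₁, hmem⟩).ge (Set.mem_univ z)

end Groth.Agent.H26.NodalTriv
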