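import Mathlib.FieldTheory.IsPerfectClosure
import Mathlib.RingTheory.FinitePresentation
import Mathlib.RingTheory.Adjoin.FG
import Mathlib.RingTheory.Nilpotent.Lemmas
import Mathlib.RingTheory.Ideal.Quotient.Nilpotent
import Mathlib.Algebra.CharP.Algebra
import Mathlib.CategoryTheory.Presentable.Finite
import Mathlib.CategoryTheory.Filtered.Basic
import Mathlib.Algebra.Category.Ring.Under.Basic

/-!
# Finitely presentable perfect algebras are perfections of finitely presented algebras
-/

noncomputable section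

set_option autoImplicit false
set_option maxHeartbeats 1000000

universe u

open CategoryTheory CategoryTheory.Limits

namespace Groth.Agent.H26.PerfFP

variable (p : ℕ) (B : CommRingCat.{u})

/-- Perfect algebras. -/
abbrev Cat := ObjectProperty.FullSubcategory
  fun Y : Under B => (p : Y.right) = 0 ∧ Function.Bijective fun y : Y.right => y ^ p

variable {p B}

/-- A finitely presentable object is a retract of a member of a directed system of which it is the union. -/
theorem exists_section {ι : Type u} [Preorder ι] [IsDirectedOrder ι] [Nonempty ι] (X : Cat p B)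
    [IsFinitelyPresentable.{u} X] (R : ι → Type u) [∀ i, CommRing (R i)]
    (hp : ∀ i, (p : R i) = 0) (hbij : ∀ i, Function.Bijective fun y : R i => y ^ p)
    (str : ∀ i, B →+* R i) (f : ∀ i j, i ≤ j → R i →+* R j)
    (f_id : ∀ i x, f i i le_rfl x = x)
    (f_comp : ∀ i j k (hij : i ≤ j) (hjk : j ≤ k) x, f j k hjk (f i j hij x) = f i k (hij.trans hjk) x)
    (f_str : ∀ i j (hij : i ≤ j) b, f i j hij (str i b) = str j b)
    (g : ∀ i, R i →+* X.obj.right) (g_str : ∀ i b, g i (str i b) = X.obj.hom b)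
    (g_f : ∀ i j (hij : i ≤ j) x, g j (f i j hij x) = g i x)
    (hsurj : ∀ a, ∃ i x, g i x = a)
    (hinj : ∀ i x, g i x = 0 → ∃ j, ∃ h : i ≤ j, f i j h x = 0) :
    ∃ i, ∃ s : X.obj.right →+* R i, (∀ b, s (X.obj.hom b) = str i b) ∧ ∀ a, g i (s a) = a := by
  let F : ι ⥤ Cat p B :=
    { obj := fun i => ⟨Under.mk (CommRingCat.ofHom (str i)), hp i, hbij i⟩
      map := fun {i j} h => ObjectProperty.homMk
        (Under.homMk (CommRingCat.ofHom (f i j (leOfHom h))) (by ext b; exact f_str i j (leOfHom h) b))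
      map_id := fun i => by
        apply ObjectProperty.hom_ext
        apply Under.UnderMorphism.ext
        ext x
        exact f_id i x
      map_comp := fun {i j k} a b => by
        apply ObjectProperty.hom_ext
        apply Under.UnderMorphism.ext
        ext x
        exact (f_comp i j k (leOfHom a) (leOfHom b) x).symm }
  let c : Cocone F :=
    { pt := X
      ι :=
        { app := fun i => ObjectProperty.homMk (Under.homMk (CommRingCat.ofHom (g i)) (by ext b; exact g_str i b))
          naturality := fun i j h => by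
            apply ObjectProperty.hom_ext
            apply Under.UnderMorphism.ext
            ext x
            exact g_f i j (leOfHom h) x } }
  choose iA xA hxA using hsurj
  let pr : ∀ (s : Cocone F) (i : ι), R i →+* s.pt.obj.right := fun s i => (s.ι.app i).hom.right.hom
  have pr_f : ∀ (s : Cocone F) i j (h : i ≤ j) x, pr s j (f i j h x) = pr s i x := fun s i j h x =>
    congrArg (fun φ : F.obj i ⟶ s.pt => φ.hom.right.hom x) (s.w (homOfLE h))
  have pr_str : ∀ (s : Cocone F) i b, pr s i (str i b) = s.pt.obj.hom b := fun s i b =>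
    congrArg (fun φ : B ⟶ s.pt.obj.right => φ.hom b) (Under.w (s.ι.app i).hom)
  have wd : ∀ (s : Cocone F) i j x y, g i x = g j y → pr s i x = pr s j y := fun s i j x y hxy => by
    obtain ⟨k, hik, hjk⟩ := exists_ge_ge i j
    obtain ⟨l, hkl, hl⟩ := hinj k (f i k hik x - f j k hjk y) (by rw [map_sub, g_f, g_f, hxy, sub_self])
    rw [map_sub, sub_eq_zero] at hl
    rw [← pr_f s i k hik x, ← pr_f s j k hjk y, ← pr_f s k l hkl (f i k hik x), hl, pr_f s k l hkl]
  let d : ∀ s : Cocone F, X.obj.right →+* s.pt.obj.right := fun s =>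
    { toFun := fun a => pr s (iA a) (xA a)
      map_one' := by
        rw [wd s (iA 1) (iA 1) (xA 1) 1 (by rw [hxA, map_one]), map_one]
      map_zero' := by
        rw [wd s (iA 0) (iA 0) (xA 0) 0 (by rw [hxA, map_zero]), map_zero]
      map_add' := fun a b => by
        obtain ⟨k, hak, hbk⟩ := exists_ge_ge (iA a) (iA b)
        rw [wd s (iA (a + b)) k (xA (a + b)) (f _ k hak (xA a) + f _ k hbk (xA b))
          (by rw [map_add, g_f, g_f, hxA, hxA, hxA]), map_add, pr_f, pr_f]
      map_mul' := fun a b => by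
        obtain ⟨k, hak, hbk⟩ := exists_ge_ge (iA a) (iA b)
        rw [wd s (iA (a * b)) k (xA (a * b)) (f _ k hak (xA a) * f _ k hbk (xA b))
          (by rw [map_mul, g_f, g_f, hxA, hxA, hxA]), map_mul, pr_f, pr_f] }
  let hc : IsColimit c :=
    { desc := fun s => ObjectProperty.homMk (Under.homMk (CommRingCat.ofHom (d s)) (by
        ext b
        exact (wd s _ (iA (X.obj.hom b)) _ (str _ b) (by rw [hxA, g_str]; rfl)).trans (pr_str s _ b)))
      fac := fun s i => by
        apply ObjectProperty.hom_ext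
        apply Under.UnderMorphism.ext
        ext x
        exact wd s (iA (g i x)) i (xA (g i x)) x (hxA _)
      uniq := fun s m hm => by
        apply ObjectProperty.hom_ext
        apply Under.UnderMorphism.ext
        ext a
        refine Eq.trans ?_ (congrArg (fun φ : F.obj (iA a) ⟶ s.pt => φ.hom.right.hom (xA a)) (hm (iA a)))
        exact congrArg m.hom.right.hom (hxA a).symm }
  haveI : IsFiltered ι := inferInstance
  obtain ⟨i, q, hq⟩ := IsFinitelyPresentable.exists_hom_of_isColimit hc (𝟙 X)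
  exact ⟨i, q.hom.right.hom, fun b => congrArg (fun φ : B ⟶ (F.obj i).obj.right => φ.hom b) (Under.w q.hom),
    fun a => congrArg (fun φ : X ⟶ X => φ.hom.right.hom a) hq⟩

section Main

variable [hp : Fact p.Prime] [CharP B p] [PerfectRing B p] (X : Cat p B) [IsFinitelyPresentable.{u} X]

section Closure

variable {A : Type u} [CommRing A] [Algebra B A] [CharP A p]

/-- The elements with a `p`-power in the subalgebra generated by a finite set. -/
def rootAlg (S : Finset A) : Subalgebra B A where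
  carrier := {a | ∃ n : ℕ, a ^ p ^ n ∈ Algebra.adjoin B (S : Set A)}
  mul_mem' := by
    rintro a b ⟨m, hm⟩ ⟨n, hn⟩
    refine ⟨m + n, ?_⟩
    rw [mul_pow, pow_add, pow_mul, mul_comm (p ^ m) (p ^ n), pow_mul b]
    exact mul_mem (pow_mem hm _) (pow_mem hn _)
  add_mem' := by
    rintro a b ⟨m, hm⟩ ⟨n, hn⟩
    refine ⟨m + n, ?_⟩
    rw [add_pow_char_pow, pow_add, pow_mul, mul_comm (p ^ m) (p ^ n), pow_mul b]
    exact add_mem (pow_mem hm _) (pow_mem hn _)
  algebraMap_mem' := fun b => ⟨0, by simp⟩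

lemma mem_rootAlg {S : Finset A} {a : A} :
    a ∈ rootAlg (p := p) (B := B) S ↔ ∃ n : ℕ, a ^ p ^ n ∈ Algebra.adjoin B (S : Set A) := Iff.rfl

lemma rootAlg_mono {S S' : Finset A} (h : S ≤ S') :
    rootAlg (p := p) (B := B) S ≤ rootAlg (p := p) (B := B) S' := fun a ha => by
  obtain ⟨n, hn⟩ := mem_rootAlg.1 ha
  exact mem_rootAlg.2 ⟨n, Algebra.adjoin_mono (Finset.coe_subset.2 h) hn⟩

end Closure

/-- Finitely many elements generate up to `p`-th roots. -/
theorem exists_generators [Nontrivial X.obj.right] [Algebra B X.obj.right]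
    (halg : algebraMap B X.obj.right = X.obj.hom.hom) :
    ∃ S : Finset X.obj.right, ∀ a : X.obj.right, ∃ n : ℕ,
      a ^ p ^ n ∈ Algebra.adjoin B (S : Set X.obj.right) := by
  classical
  haveI : CharP X.obj.right p := (CharP.charP_iff_prime_eq_zero hp.out).2 X.property.1
  obtain ⟨T, hT⟩ : ∃ T : Finset X.obj.right → Subalgebra B X.obj.right,
      ∀ S a, a ∈ T S ↔ ∃ n : ℕ, a ^ p ^ n ∈ Algebra.adjoin B (S : Set X.obj.right) :=
    ⟨fun S => rootAlg (p := p) S, fun S a => mem_rootAlg⟩
  have hmono : ∀ S S', S ≤ S' → T S ≤ T S' := fun S S' h a ha => by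
    obtain ⟨n, hn⟩ := (hT S a).1 ha
    exact (hT S' a).2 ⟨n, Algebra.adjoin_mono (Finset.coe_subset.2 h) hn⟩
  have hbij : ∀ S : Finset X.obj.right, Function.Bijective fun y : T S => y ^ p := fun S => by
    refine ⟨fun y z h => Subtype.ext (X.property.2.1 (congrArg Subtype.val h)), fun y => ?_⟩
    obtain ⟨n, hn⟩ := (hT S y.1).1 y.2
    obtain ⟨x, hx⟩ := X.property.2.2 y.1
    refine ⟨⟨x, (hT S x).2 ⟨n + 1, ?_⟩⟩, Subtype.ext hx⟩
    rw [pow_succ', pow_mul]
    rw [show x ^ p = y.1 from hx]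
    exact hn
  have g_str : ∀ (S : Finset X.obj.right) (b : B), (T S).val.toRingHom (algebraMap B _ b) = X.obj.hom b := fun S b =>
    (AlgHom.commutes _ b).trans (congrArg (fun φ : B →+* X.obj.right => φ b) halg)
  have hsurj : ∀ a : X.obj.right, ∃ S x, (T S).val.toRingHom x = a := fun a =>
    ⟨{a}, ⟨a, (hT {a} a).2 ⟨0, by
      rw [pow_zero, pow_one, Finset.coe_singleton]
      exact Algebra.subset_adjoin (Set.mem_singleton a)⟩⟩, rfl⟩
  obtain ⟨S, s, -, hs⟩ := exists_section X (fun S => ↥(T S))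
    (fun S => Subtype.ext ((map_natCast (T S).val p).trans X.property.1)) hbij
    (fun S => algebraMap B (T S))
    (fun S S' h => (Subalgebra.inclusion (hmono S S' h)).toRingHom)
    (fun S x => Subtype.ext (Subalgebra.coe_inclusion (hmono S S le_rfl) x))
    (fun S S' S'' h h' x => Subtype.ext (((Subalgebra.coe_inclusion (hmono S' S'' h') _).trans
      (Subalgebra.coe_inclusion (hmono S S' h) x)).trans (Subalgebra.coe_inclusion (hmono S S'' (h.trans h')) x).symm))
    (fun S S' h b => AlgHom.commutes (Subalgebra.inclusion (hmono S S' h)) b)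
    (fun S => (T S).val.toRingHom) g_str
    (fun S S' h x => Subalgebra.coe_inclusion (hmono S S' h) x) hsurj (fun S x hx => ⟨S, le_rfl, Subtype.ext hx⟩)
  exact ⟨S, fun a => (hT S a).1 ((hs a).subst (motive := fun t => t ∈ T S) (s a).2)⟩

/-- The model of a finitely presentable perfect algebra. -/
theorem exists_model [Algebra B X.obj.right] (halg : algebraMap B X.obj.right = X.obj.hom.hom) :
    ∃ (A₀ : Type u) (_ : CommRing A₀) (_ : Algebra B A₀) (_ : Algebra.FinitePresentation B A₀)
      (k : A₀ →+* X.obj.right), k.comp (algebraMap B A₀) = X.obj.hom.hom ∧ IsPRadical k p := by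
  classical
  rcases subsingleton_or_nontrivial X.obj.right with hA | hA
  · haveI : Subsingleton (B ⧸ (⊤ : Ideal B)) := Ideal.Quotient.subsingleton_iff.2 rfl
    refine ⟨B ⧸ (⊤ : Ideal B), inferInstance, inferInstance,
      Algebra.FinitePresentation.quotient ⟨{1}, by simp⟩, ?_, RingHom.ext fun b => Subsingleton.elim _ _, ?_⟩
    · exact { toFun := fun _ => 0, map_one' := Subsingleton.elim _ _, map_mul' := fun _ _ => Subsingleton.elim _ _,
              map_zero' := rfl, map_add' := fun _ _ => Subsingleton.elim _ _ }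
    · exact ⟨fun x => ⟨0, 0, Subsingleton.elim _ _⟩, fun y _ => mem_pNilradical.2 ⟨0, Subsingleton.elim _ _⟩⟩
  haveI : CharP X.obj.right p := (CharP.charP_iff_prime_eq_zero hp.out).2 X.property.1
  haveI : PerfectRing X.obj.right p := ⟨X.property.2⟩
  obtain ⟨S₁, hS₁⟩ := exists_generators X halg
  let Q := MvPolynomial {a // a ∈ S₁} B
  let φ : Q →ₐ[B] X.obj.right := MvPolynomial.aeval (fun a => a.1)
  let P := PerfectClosure Q p
  let ψ : P →+* X.obj.right := PerfectClosure.lift Q p X.obj.right φ.toRingHom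
  have hψ : ∀ x, ψ (PerfectClosure.of Q p x) = φ x := fun x =>
    congrArg (fun q : Q →+* X.obj.right => q x) ((PerfectClosure.lift Q p X.obj.right).symm_apply_apply φ.toRingHom)
  haveI : IsPRadical (PerfectClosure.of Q p) p := inferInstance
  have hψs : Function.Surjective ψ := fun a => by
    obtain ⟨n, hn⟩ := hS₁ a
    rw [show (S₁ : Set X.obj.right) = Set.range (fun a : {a // a ∈ S₁} => a.1) by ext; simp,
      Algebra.adjoin_range_eq_range_aeval] at hn
    obtain ⟨y, hy⟩ := hn
    refine ⟨(iterateFrobeniusEquiv P p n).symm (PerfectClosure.of Q p y), ?_⟩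
    apply (iterateFrobeniusEquiv X.obj.right p n).injective
    rw [iterateFrobeniusEquiv_apply, iterateFrobeniusEquiv_apply, iterateFrobenius_def, iterateFrobenius_def,
      ← map_pow, ← iterateFrobenius_def, ← iterateFrobeniusEquiv_apply, RingEquiv.apply_symm_apply, hψ]
    exact hy
  -- the second system
  obtain ⟨𝔞, h𝔞⟩ : ∃ 𝔞 : Finset (RingHom.ker ψ) → Ideal P,
      ∀ T : Finset (RingHom.ker ψ), 𝔞 T = (Ideal.span (Subtype.val '' (T : Set (RingHom.ker ψ)))).radical :=
    ⟨fun T => (Ideal.span (Subtype.val '' (T : Set (RingHom.ker ψ)))).radical, fun _ => rfl⟩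
  haveI : IsReduced X.obj.right := ⟨fun a ⟨n, hn⟩ => by
    apply (iterateFrobeniusEquiv X.obj.right p n).injective
    rw [map_zero, iterateFrobeniusEquiv_apply, iterateFrobenius_def]
    exact pow_eq_zero_of_le (Nat.lt_pow_self hp.out.one_lt).le hn⟩
  have hker : ∀ T, ∀ x ∈ 𝔞 T, ψ x = 0 := fun T x hx => by
    rw [h𝔞] at hx
    obtain ⟨n, hn⟩ := hx
    have h1 : ψ x ^ n = 0 := by
      rw [← map_pow]
      exact (Ideal.span_le.2 (by rintro _ ⟨y, -, rfl⟩; exact y.2) : _ ≤ RingHom.ker ψ) hn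
    exact IsReduced.eq_zero _ ⟨n, h1⟩
  have hrad : ∀ T, (𝔞 T).IsRadical := fun T => h𝔞 T ▸ Ideal.radical_isRadical _
  have hmem : ∀ T (x : RingHom.ker ψ), x ∈ T → x.1 ∈ 𝔞 T := fun T x hx => by
    rw [h𝔞]; exact Ideal.le_radical (Ideal.subset_span ⟨x, hx, rfl⟩)
  have hle : ∀ T T', T ≤ T' → 𝔞 T ≤ 𝔞 T' := fun T T' h => by
    rw [h𝔞, h𝔞]; exact Ideal.radical_mono (Ideal.span_mono (Set.image_mono (Finset.coe_subset.2 h)))
  let R : Finset (RingHom.ker ψ) → Type u := fun T => P ⧸ 𝔞 T
  have hbij : ∀ T, Function.Bijective fun y : R T => y ^ p := fun T => by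
    refine ⟨fun y z h => ?_, fun y => ?_⟩
    · obtain ⟨y, rfl⟩ := Ideal.Quotient.mk_surjective y
      obtain ⟨z, rfl⟩ := Ideal.Quotient.mk_surjective z
      have h' : Ideal.Quotient.mk (𝔞 T) (y ^ p) = Ideal.Quotient.mk (𝔞 T) (z ^ p) := by
        rw [map_pow, map_pow]; exact h
      exact Ideal.Quotient.eq.2 (hrad T ⟨p, by rw [sub_pow_char]; exact Ideal.Quotient.eq.1 h'⟩)
    · obtain ⟨y, rfl⟩ := Ideal.Quotient.mk_surjective y
      obtain ⟨x, rfl⟩ := (PerfectRing.bijective_frobenius (R := P) (p := p)).2 y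
      exact ⟨Ideal.Quotient.mk _ x, (map_pow _ x p).symm⟩
  let g : ∀ T, R T →+* X.obj.right := fun T => Ideal.Quotient.lift _ ψ (hker T)
  let str : ∀ T, B →+* R T := fun T => (Ideal.Quotient.mk _).comp ((PerfectClosure.of Q p).comp (algebraMap B Q))
  have hψB : ∀ b, ψ (PerfectClosure.of Q p (algebraMap B Q b)) = X.obj.hom b := fun b => by
    rw [hψ, AlgHom.commutes, halg]
  have hT0 : ∀ T, (p : R T) = 0 := fun T => by
    rw [← map_natCast (Ideal.Quotient.mk (𝔞 T)) p, CharP.cast_eq_zero P p, map_zero]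
  have hinj : ∀ T (x : R T), g T x = 0 → ∃ T', ∃ h : T ≤ T', Ideal.Quotient.factor (hle T T' h) x = 0 := fun T x hx => by
    obtain ⟨x, rfl⟩ := Ideal.Quotient.mk_surjective x
    refine ⟨T ∪ {⟨x, hx⟩}, Finset.subset_union_left, ?_⟩
    exact Ideal.Quotient.eq_zero_iff_mem.2 (hmem _ ⟨x, hx⟩ (by simp))
  obtain ⟨T, s, hsB, hs⟩ := exists_section X R hT0 hbij str
    (fun T T' h => Ideal.Quotient.factor (hle T T' h))
    (fun T x => by obtain ⟨x, rfl⟩ := Ideal.Quotient.mk_surjective x; rfl)
    (fun _ _ _ _ _ x => by obtain ⟨x, rfl⟩ := Ideal.Quotient.mk_surjective x; rfl)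
    (fun _ _ _ _ => rfl) g (fun T b => hψB b)
    (fun _ _ _ x => by obtain ⟨x, rfl⟩ := Ideal.Quotient.mk_surjective x; rfl)
    (fun a => by obtain ⟨x, rfl⟩ := hψs a; exact ⟨∅, Ideal.Quotient.mk _ x, rfl⟩) hinj
  -- enlarge so that the section is inverse to the projection
  choose z hz using fun a : {a // a ∈ S₁} => Ideal.Quotient.mk_surjective
    (s a.1 - Ideal.Quotient.mk _ (PerfectClosure.of Q p (MvPolynomial.X a)) : R T)
  have hz0 : ∀ a, ψ (z a) = 0 := fun a => by
    have h1 := congrArg (g T) (hz a)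
    rw [map_sub, hs] at h1
    refine h1.trans ?_
    show a.1 - Ideal.Quotient.lift _ ψ (hker T) (Ideal.Quotient.mk _ _) = 0
    rw [Ideal.Quotient.lift_mk, hψ]
    exact sub_eq_zero.2 (MvPolynomial.aeval_X (R := B) (fun a : {a // a ∈ S₁} => a.1) a).symm
  let T' : Finset (RingHom.ker ψ) := T ∪ Finset.univ.image fun a => ⟨z a, hz0 a⟩
  let J := Ideal.span (Subtype.val '' (T' : Set (RingHom.ker ψ)))
  have hJ : 𝔞 T' = J.radical := h𝔞 T'
  let s' : X.obj.right →+* P ⧸ J.radical :=
    (Ideal.Quotient.factor ((hle T T' Finset.subset_union_left).trans hJ.le)).comp s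
  haveI : IsReduced (P ⧸ J.radical) := (Ideal.isRadical_iff_quotient_reduced _).1 (Ideal.radical_isRadical J)
  have hsec : ∀ y : P, s' (ψ y) = Ideal.Quotient.mk _ y := by
    have hQ : ((s'.comp ψ).comp (PerfectClosure.of Q p)) = (Ideal.Quotient.mk _).comp (PerfectClosure.of Q p) := by
      refine MvPolynomial.ringHom_ext (fun b => ?_) fun a => ?_
      · show s' (ψ (PerfectClosure.of Q p (MvPolynomial.C b))) = _
        rw [← MvPolynomial.algebraMap_eq, hψB]
        show Ideal.Quotient.factor ((hle T T' Finset.subset_union_left).trans hJ.le) (s (X.obj.hom b)) = _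
        rw [hsB]
        rfl
      · show s' (ψ (PerfectClosure.of Q p (MvPolynomial.X a))) = _
        rw [hψ, show φ (MvPolynomial.X a) = a.1 from MvPolynomial.aeval_X (R := B) (fun a : {a // a ∈ S₁} => a.1) a]
        show Ideal.Quotient.factor ((hle T T' Finset.subset_union_left).trans hJ.le) (s a.1) = _
        rw [eq_add_of_sub_eq (hz a).symm, map_add]
        show Ideal.Quotient.mk _ (z a) + Ideal.Quotient.mk _ _ = _
        have hza : (z a) ∈ J.radical := hJ.le (hmem T' ⟨z a, hz0 a⟩ (by simp [T']))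
        rw [Ideal.Quotient.eq_zero_iff_mem.2 hza, zero_add]
        rfl
    intro y
    obtain ⟨n, x, hx⟩ := IsPRadical.pow_mem (PerfectClosure.of Q p) p y
    refine sub_eq_zero.1 (eq_zero_of_pow_eq_zero (n := p ^ n) ?_)
    haveI : CharP P p := inferInstance
    obtain ⟨w, hw⟩ := Ideal.Quotient.mk_surjective (s' (ψ y))
    rw [← hw, ← map_sub, ← map_pow, sub_pow_char_pow, map_sub, map_pow, map_pow, hw, ← map_pow, ← map_pow,
      ← map_pow, ← hx]
    exact sub_eq_zero.2 (RingHom.congr_fun hQ x)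
  have hkerψ : RingHom.ker ψ ≤ J.radical := fun y hy =>
    Ideal.Quotient.eq_zero_iff_mem.1 (by rw [← hsec y, RingHom.mem_ker.1 hy, map_zero])
  -- descend the generators
  choose n q hq using fun x : {x // x ∈ T'} => IsPRadical.pow_mem (PerfectClosure.of Q p) p x.1.1
  let K : Ideal Q := Ideal.span (Set.range q)
  have hKφ : K ≤ RingHom.ker φ.toRingHom := Ideal.span_le.2 (by
    rintro _ ⟨x, rfl⟩
    show φ (q x) = 0
    rw [← hψ, hq, map_pow, RingHom.mem_ker.1 x.1.2, zero_pow (pow_ne_zero _ hp.out.ne_zero)])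
  refine ⟨Q ⧸ K, inferInstance, inferInstance,
    Algebra.FinitePresentation.quotient (Submodule.fg_span (Set.finite_range q)),
    Ideal.Quotient.lift K φ.toRingHom hKφ, ?_, fun a => ?_, fun a ha => ?_⟩
  · ext b
    show φ (algebraMap B Q b) = _
    rw [AlgHom.commutes, halg]
  · obtain ⟨y, rfl⟩ := hψs a
    obtain ⟨m, x, hx⟩ := IsPRadical.pow_mem (PerfectClosure.of Q p) p y
    exact ⟨m, Ideal.Quotient.mk K x, by rw [← map_pow, ← hx]; exact (hψ x).symm⟩
  · obtain ⟨a, rfl⟩ := Ideal.Quotient.mk_surjective a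
    have h1 : PerfectClosure.of Q p a ∈ (K.map (PerfectClosure.of Q p)).radical := by
      refine (Ideal.radical_le_radical_iff.2 ?_) (hkerψ (by rw [RingHom.mem_ker, hψ]; exact ha))
      refine Ideal.span_le.2 ?_
      rintro _ ⟨x, hx, rfl⟩
      refine ⟨p ^ n ⟨x, hx⟩, ?_⟩
      rw [← hq ⟨x, hx⟩]
      exact Ideal.mem_map_of_mem _ (Ideal.subset_span ⟨_, rfl⟩)
    obtain ⟨N, hN⟩ := h1
    obtain ⟨m, hm⟩ : ∃ m, ∃ c ∈ K, PerfectClosure.of Q p c = (PerfectClosure.of Q p a ^ N) ^ p ^ m := by
      rw [Ideal.map] at hN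
      refine Submodule.span_induction (fun v hv => ?_) ⟨0, 0, zero_mem _, ?_⟩ (fun v w _ _ hv hw => ?_)
        (fun r v _ hv => ?_) hN
      · obtain ⟨c, hc, rfl⟩ := hv
        exact ⟨0, c, hc, by simp⟩
      · simp
      · obtain ⟨i, c, hc, hci⟩ := hv
        obtain ⟨j, d, hd, hdj⟩ := hw
        refine ⟨i + j, c ^ p ^ j + d ^ p ^ i, add_mem (K.pow_mem_of_mem hc _ (pow_pos hp.out.pos _))
          (K.pow_mem_of_mem hd _ (pow_pos hp.out.pos _)), ?_⟩
        rw [map_add, map_pow, map_pow, hci, hdj, ← pow_mul, ← pow_mul, ← pow_add, ← pow_add, Nat.add_comm j i,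
          add_pow_char_pow]
      · obtain ⟨i, c, hc, hci⟩ := hv
        obtain ⟨j, d, hdj⟩ := IsPRadical.pow_mem (PerfectClosure.of Q p) p r
        refine ⟨j + i, d ^ p ^ i * c ^ p ^ j, K.mul_mem_left _ (K.pow_mem_of_mem hc _ (pow_pos hp.out.pos _)), ?_⟩
        rw [map_mul, map_pow, map_pow, hdj, hci, ← pow_mul, ← pow_mul, ← pow_add, ← pow_add, Nat.add_comm i j,
          smul_eq_mul, mul_pow]
    obtain ⟨c, hc, hcm⟩ := hm
    have h2 : c - (a ^ N) ^ p ^ m ∈ RingHom.ker (PerfectClosure.of Q p) := by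
      rw [RingHom.mem_ker, map_sub, map_pow, map_pow, hcm, sub_self]
    obtain ⟨l, hl⟩ := mem_pNilradical.1 (IsPRadical.ker_le (PerfectClosure.of Q p) p h2)
    have h3 : a ^ (N * p ^ m * p ^ l) ∈ K := by
      have : ((a ^ N) ^ p ^ m) ^ p ^ l = c ^ p ^ l := by
        rw [sub_pow_char_pow] at hl
        exact (sub_eq_zero.1 hl).symm
      rw [pow_mul, pow_mul, this]
      exact K.pow_mem_of_mem hc _ (pow_pos hp.out.pos _)
    refine mem_pNilradical.2 ⟨N * p ^ m * p ^ l, ?_⟩
    rw [← map_pow]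
    refine Ideal.Quotient.eq_zero_iff_mem.2 (K.pow_mem_of_pow_mem h3 ?_)
    exact (Nat.lt_pow_self hp.out.one_lt).le

end Main

end Groth.Agent.H26.PerfFP
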