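import Groth.Prelude.Def_FrobAlg
import Mathlib.Algebra.Module.Projective
import Mathlib.FieldTheory.PerfectClosure
import Mathlib.RingTheory.Flat.EquationalCriterion
import Mathlib.RingTheory.Flat.FaithfullyFlat.Algebra
import Mathlib.LinearAlgebra.DirectSum.Finsupp
import Mathlib.RingTheory.Ideal.Operations

/-!
# The perfection of a ring with projective Frobenius
-/

set_option autoImplicit false
set_option linter.style.haveILetI false

universe u v w

open TensorProduct

namespace Groth.Agent.H26.PerfPure

variable (p : ℕ) [Fact p.Prime] (R : Type u) [CommRing R] [CharP R p]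

/-- `R` as an algebra over itself through an iterate of Frobenius. -/
@[nolint unusedArguments]
def Fr (_p : ℕ) (R : Type u) (_n : ℕ) : Type u := R

instance (n : ℕ) : CommRing (Fr p R n) := inferInstanceAs (CommRing R)

/-- The identity of underlying rings. -/
def toFr (n : ℕ) : R ≃+* Fr p R n := RingEquiv.refl R

noncomputable instance (n : ℕ) : Algebra R (Fr p R n) :=
  ((toFr p R n : R →+* Fr p R n).comp (iterateFrobenius R p n)).toAlgebra

theorem algebraMap_fr (n : ℕ) (r : R) : algebraMap R (Fr p R n) r = toFr p R n (r ^ p ^ n) := rfl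

theorem smul_fr (n : ℕ) (r x : R) : r • toFr p R n x = toFr p R n (r ^ p ^ n * x) := rfl

theorem projective_fr [Module.Projective R (FrobAlg.Twist p R)] : ∀ n, Module.Projective R (Fr p R n)
  | 0 => by
    let e : R ≃ₗ[R] Fr p R 0 :=
      { toAddEquiv := (toFr p R 0).toAddEquiv
        map_smul' := fun r x => by
          show toFr p R 0 (r * x) = r • toFr p R 0 x
          rw [smul_fr, pow_zero, pow_one] }
    exact Module.Projective.of_equiv' e
  | n + 1 => by
    classical
    obtain ⟨s, hs⟩ := Module.projective_def'.1 (projective_fr n)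
    let to' : Fr p R (n + 1) →+ Fr p R n := (toFr p R n).toAddMonoidHom.comp (toFr p R (n + 1)).symm.toAddMonoidHom
    let tw : R →+ FrobAlg.Twist p R := (FrobAlg.toTwist p R).toAddMonoidHom
    let s' : Fr p R (n + 1) →ₗ[R] (Fr p R n →₀ FrobAlg.Twist p R) :=
      { toFun := fun x => (s (to' x)).mapRange tw tw.map_zero
        map_add' := fun x y => by rw [map_add, map_add, Finsupp.mapRange_add tw.map_add]
        map_smul' := fun r x => by
          obtain ⟨x, rfl⟩ := (toFr p R (n + 1)).surjective x
          have h : to' (r • toFr p R (n + 1) x) = (r ^ p : R) • to' (toFr p R (n + 1) x) := by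
            show toFr p R n (r ^ p ^ (n + 1) * x) = toFr p R n ((r ^ p) ^ p ^ n * x)
            rw [← pow_mul, ← pow_succ']
          rw [RingHom.id_apply, h, map_smul]
          ext a
          rw [Finsupp.mapRange_apply, Finsupp.smul_apply, Finsupp.smul_apply, Finsupp.mapRange_apply, smul_eq_mul]
          show FrobAlg.toTwist p R (r ^ p * s _ a) = r • FrobAlg.toTwist p R (s _ a)
          rw [map_mul, Algebra.smul_def, FrobAlg.algebraMap_twist] }
    let ret : (Fr p R n →₀ FrobAlg.Twist p R) →ₗ[R] Fr p R (n + 1) :=
      { toFun := fun f => toFr p R (n + 1) ((toFr p R n).symm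
          (Finsupp.linearCombination R id (f.mapRange (FrobAlg.toTwist p R).symm (map_zero _))))
        map_add' := fun f g => by rw [Finsupp.mapRange_add (map_add _), map_add, map_add, map_add]
        map_smul' := fun r f => by
          have h : (r • f).mapRange (FrobAlg.toTwist p R).symm (map_zero _) =
              (r ^ p : R) • f.mapRange (FrobAlg.toTwist p R).symm (map_zero _) := by
            ext a
            rw [Finsupp.mapRange_apply, Finsupp.smul_apply, Finsupp.smul_apply, Finsupp.mapRange_apply,
              Algebra.smul_def, FrobAlg.algebraMap_twist, map_mul, RingEquiv.symm_apply_apply, smul_eq_mul]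
          rw [h, map_smul, RingHom.id_apply]
          generalize Finsupp.linearCombination R id (f.mapRange (FrobAlg.toTwist p R).symm (map_zero _)) = z
          obtain ⟨z, rfl⟩ := (toFr p R n).surjective z
          show toFr p R (n + 1) ((r ^ p) ^ p ^ n * z) = toFr p R (n + 1) (r ^ p ^ (n + 1) * z)
          rw [← pow_mul, ← pow_succ'] }
    haveI hfree : Module.Projective R (Fr p R n →₀ FrobAlg.Twist p R) :=
      Module.Projective.of_equiv' (finsuppLequivDFinsupp R).symm
    refine Module.Projective.of_split s' ret (LinearMap.ext fun x => ?_)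
    show toFr p R (n + 1) ((toFr p R n).symm
      (Finsupp.linearCombination R id (((s (to' x)).mapRange tw tw.map_zero).mapRange (FrobAlg.toTwist p R).symm (map_zero _)))) = x
    rw [show ((s (to' x)).mapRange tw tw.map_zero).mapRange (FrobAlg.toTwist p R).symm (map_zero _) = s (to' x) from
      Finsupp.ext fun a => by simp [tw]]
    rw [show Finsupp.linearCombination R id (s (to' x)) = to' x from LinearMap.congr_fun hs (to' x)]
    rfl

theorem faithfullyFlat_twist [Module.Projective R (FrobAlg.Twist p R)] :
    Module.FaithfullyFlat R (FrobAlg.Twist p R) := by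
  refine (Module.FaithfullyFlat.iff_flat_and_proper_ideal R _).2 ⟨inferInstance, fun I hI h => hI ?_⟩
  rw [Ideal.smul_top_eq_map, Submodule.restrictScalars_eq_top_iff] at h
  rw [Ideal.eq_top_iff_one]
  have h1 : (1 : FrobAlg.Twist p R) ∈ I.map (algebraMap R (FrobAlg.Twist p R)) := h ▸ Submodule.mem_top
  have h2 : I.map (algebraMap R (FrobAlg.Twist p R)) ≤ I.map (FrobAlg.toTwist p R) :=
    Ideal.map_le_iff_le_comap.2 fun a ha =>
      Ideal.mem_map_of_mem _ (I.pow_mem_of_mem ha p (Fact.out : p.Prime).pos)
  have h3 := h2 h1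
  rw [Ideal.mem_map_iff_of_surjective _ (FrobAlg.toTwist p R).surjective] at h3
  obtain ⟨a, ha, ha1⟩ := h3
  rwa [(FrobAlg.toTwist p R).injective (ha1.trans (map_one _).symm)] at ha

theorem frobenius_injective [Module.Projective R (FrobAlg.Twist p R)] : Function.Injective (frobenius R p) := by
  haveI := faithfullyFlat_twist p R
  intro a b hab
  refine FaithfulSMul.algebraMap_injective R (FrobAlg.Twist p R) ?_
  rw [FrobAlg.algebraMap_twist, FrobAlg.algebraMap_twist]
  exact congrArg _ hab

theorem mk_injective [Module.Projective R (FrobAlg.Twist p R)] (n : ℕ) :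
    Function.Injective fun x : R => PerfectClosure.mk R p (n, x) := by
  intro x y h
  obtain ⟨z, hz⟩ := (PerfectClosure.mk_eq_iff R p _ _).1 h
  exact (frobenius_injective p R).iterate _ hz

theorem mk_shift (n k : ℕ) (x : R) : PerfectClosure.mk R p (n, x) = PerfectClosure.mk R p (n + k, x ^ p ^ k) := by
  rw [PerfectClosure.R.sound R p k n x _ rfl, Nat.add_comm, ← coe_iterateFrobenius, iterateFrobenius_def]

/-- `x ↦ x^(p^-n)`. -/
noncomputable def phi (n : ℕ) : R →+* PerfectClosure R p where
  toFun x := PerfectClosure.mk R p (n, x)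
  map_one' := by
    show _ = PerfectClosure.mk R p (0, 1)
    rw [mk_shift p R 0 n 1, one_pow, Nat.zero_add]
  map_mul' x y := by
    rw [PerfectClosure.mk_mul_mk, mk_shift p R n n (x * y)]
    simp only [← coe_iterateFrobenius, iterateFrobenius_def, mul_pow]
  map_zero' := PerfectClosure.mk_zero_right R p n
  map_add' x y := by
    rw [PerfectClosure.mk_add_mk, mk_shift p R n n (x + y)]
    simp only [← coe_iterateFrobenius, iterateFrobenius_def, add_pow_char_pow]

theorem exists_level (n : ℕ) (x : PerfectClosure R p) :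
    ∃ N₀, ∀ N, N₀ ≤ N → ∃ y, x = PerfectClosure.mk R p (n + N, y) := by
  obtain ⟨⟨j, y⟩, rfl⟩ := PerfectClosure.mk_surjective R p x
  refine ⟨j, fun N hN => ⟨y ^ p ^ (n + N - j), ?_⟩⟩
  rw [mk_shift p R j (n + N - j) y, show j + (n + N - j) = n + N by omega]

theorem flat_phi [Module.Projective R (FrobAlg.Twist p R)] (n : ℕ) :
    letI := (phi p R n).toAlgebra
    Module.Flat R (PerfectClosure R p) := by
  letI := (phi p R n).toAlgebra
  refine Module.Flat.of_forall_isTrivialRelation fun {l f x} h => ?_
  choose N₀ hN₀ using fun i => exists_level p R n (x i)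
  let N := Finset.univ.sup N₀
  choose y hy using fun i => hN₀ i N (Finset.le_sup (Finset.mem_univ i))
  let ψ : Fr p R N →ₗ[R] PerfectClosure R p :=
    { toFun := fun a => phi p R (n + N) ((toFr p R N).symm a)
      map_add' := fun a b => by rw [map_add, map_add]
      map_smul' := fun r a => by
        obtain ⟨a, rfl⟩ := (toFr p R N).surjective a
        show phi p R (n + N) (r ^ p ^ N * a) = phi p R n r * phi p R (n + N) a
        rw [map_mul]
        exact congrArg (· * _) (mk_shift p R n N r).symm }
  have hrel : ∑ i, f i • toFr p R N (y i) = 0 := by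
    have hinj : Function.Injective ψ := (mk_injective p R (n + N)).comp (toFr p R N).symm.injective
    apply hinj
    rw [map_sum, map_zero, ← h]
    refine Finset.sum_congr rfl fun i _ => ?_
    rw [map_smul]
    exact congrArg (f i • ·) (hy i).symm
  haveI := projective_fr p R N
  obtain ⟨k, a, z, hxz, haz⟩ := Module.Flat.isTrivialRelation_of_sum_smul_eq_zero hrel
  refine ⟨k, a, fun j => ψ (z j), fun i => ?_, haz⟩
  have h1 := congrArg ψ (hxz i)
  rw [map_sum] at h1
  simp only [map_smul] at h1
  exact (hy i).trans h1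

theorem faithfullyFlat_phi [Module.Projective R (FrobAlg.Twist p R)] (n : ℕ) :
    letI := (phi p R n).toAlgebra
    Module.FaithfullyFlat R (PerfectClosure R p) := by
  letI := (phi p R n).toAlgebra
  refine (Module.FaithfullyFlat.iff_flat_and_proper_ideal R _).2 ⟨flat_phi p R n, fun I hI h => hI ?_⟩
  rw [Ideal.smul_top_eq_map, Submodule.restrictScalars_eq_top_iff] at h
  have h1 : (1 : PerfectClosure R p) ∈ I.map (phi p R n) := by
    have : (1 : PerfectClosure R p) ∈ I.map (algebraMap R (PerfectClosure R p)) := h ▸ Submodule.mem_top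
    exact this
  have key : ∀ z ∈ I.map (phi p R n), ∃ N y, y ∈ I ∧ z = PerfectClosure.mk R p (n + N, y) := by
    intro z hz
    induction hz using Submodule.span_induction with
    | mem w hw =>
      obtain ⟨a, ha, rfl⟩ := hw
      exact ⟨0, a, ha, rfl⟩
    | zero => exact ⟨0, 0, I.zero_mem, (PerfectClosure.mk_zero_right R p _).symm⟩
    | add a b _ _ ha hb =>
      obtain ⟨M, y, hy, rfl⟩ := ha
      obtain ⟨M', y', hy', rfl⟩ := hb
      refine ⟨M + M', y ^ p ^ M' + y' ^ p ^ M, I.add_mem (I.pow_mem_of_mem hy _ (pow_pos (Fact.out : p.Prime).pos _))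
        (I.pow_mem_of_mem hy' _ (pow_pos (Fact.out : p.Prime).pos _)), ?_⟩
      show _ = phi p R (n + (M + M')) _
      rw [map_add, mk_shift p R (n + M) M' y, mk_shift p R (n + M') M y', Nat.add_assoc, Nat.add_assoc, Nat.add_comm M' M]
      rfl
    | smul c a _ ha =>
      obtain ⟨M, y, hy, rfl⟩ := ha
      obtain ⟨N₀, hN₀⟩ := exists_level p R n c
      obtain ⟨c', rfl⟩ := hN₀ (N₀ + M) (Nat.le_add_right _ _)
      refine ⟨N₀ + M, c' * y ^ p ^ N₀, I.mul_mem_left _ (I.pow_mem_of_mem hy _ (pow_pos (Fact.out : p.Prime).pos _)), ?_⟩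
      show _ = phi p R (n + (N₀ + M)) _
      rw [smul_eq_mul, map_mul, mk_shift p R (n + M) N₀ y, Nat.add_assoc, Nat.add_comm M N₀]
      rfl
  obtain ⟨N, y, hy, h1y⟩ := key 1 h1
  have : (1 : R) = y := mk_injective p R (n + N) ((map_one (phi p R (n + N))).trans h1y)
  rw [Ideal.eq_top_iff_one, this]
  exact hy

noncomputable instance algPerf (n : ℕ) : Algebra (Fr p R n) (PerfectClosure R p) :=
  ((phi p R n).comp (toFr p R n).symm.toRingHom).toAlgebra

/-- Tensoring `Fr n → PerfectClosure` with any module is injective. -/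
theorem lTensor_injective [Module.Projective R (FrobAlg.Twist p R)] (n : ℕ) (N : Type w) [AddCommGroup N] [Module R N] :
    letI : Algebra R (PerfectClosure R p) := (PerfectClosure.of R p).toAlgebra
    ∀ ψ : Fr p R n →ₗ[R] PerfectClosure R p, (∀ a, ψ (toFr p R n a) = PerfectClosure.mk R p (n, a)) →
      Function.Injective (ψ.rTensor N) := by
  letI : Algebra R (PerfectClosure R p) := (PerfectClosure.of R p).toAlgebra
  intro ψ hψ
  haveI : IsScalarTower R (Fr p R n) (PerfectClosure R p) := IsScalarTower.of_algebraMap_eq fun r => by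
    show PerfectClosure.mk R p (0, r) = PerfectClosure.mk R p (n, r ^ p ^ n)
    rw [mk_shift p R 0 n r, Nat.zero_add]
  haveI : Module.FaithfullyFlat (Fr p R n) (PerfectClosure R p) := faithfullyFlat_phi p R n
  let e := TensorProduct.AlgebraTensorModule.cancelBaseChange R (Fr p R n) (Fr p R n) (PerfectClosure R p) N
  have h : ⇑(ψ.rTensor N) = e ∘ (TensorProduct.mk (Fr p R n) (PerfectClosure R p) (Fr p R n ⊗[R] N) 1) := by
    funext z
    induction z using TensorProduct.induction_on with
    | zero => simp
    | tmul a m =>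
      obtain ⟨a, rfl⟩ := (toFr p R n).surjective a
      rw [Function.comp_apply, TensorProduct.mk_apply, TensorProduct.AlgebraTensorModule.cancelBaseChange_tmul,
        LinearMap.rTensor_tmul, hψ, Algebra.smul_def, mul_one]
      rfl
    | add a b ha hb => simp only [Function.comp_apply, map_add] at ha hb ⊢; rw [ha, hb]
  rw [h]
  exact e.injective.comp (Module.FaithfullyFlat.tensorProduct_mk_injective _)

theorem exists_rep (M : Type w) [AddCommGroup M] [Module R M] :
    letI : Algebra R (PerfectClosure R p) := (PerfectClosure.of R p).toAlgebra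
    ∀ z : PerfectClosure R p ⊗[R] M, ∃ (n : ℕ) (ψ : Fr p R n →ₗ[R] PerfectClosure R p) (w : Fr p R n ⊗[R] M),
      (∀ a, ψ (toFr p R n a) = PerfectClosure.mk R p (n, a)) ∧ ψ.rTensor M w = z := by
  classical
  letI : Algebra R (PerfectClosure R p) := (PerfectClosure.of R p).toAlgebra
  intro z
  let ψ : ∀ n, Fr p R n →ₗ[R] PerfectClosure R p := fun n =>
    { toFun := fun a => phi p R n ((toFr p R n).symm a)
      map_add' := fun a b => by rw [map_add, map_add]
      map_smul' := fun r a => by
        obtain ⟨a, rfl⟩ := (toFr p R n).surjective a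
        show phi p R n (r ^ p ^ n * a) = PerfectClosure.of R p r * phi p R n a
        rw [map_mul]
        refine congrArg (· * _) ?_
        show PerfectClosure.mk R p (n, r ^ p ^ n) = PerfectClosure.mk R p (0, r)
        rw [mk_shift p R 0 n r, Nat.zero_add] }
  obtain ⟨S, hS⟩ := TensorProduct.exists_finset z
  choose N₀ hN₀ using fun i : PerfectClosure R p × M => exists_level p R 0 i.1
  let n := S.sup N₀
  choose y hy using fun i : S => hN₀ i.1 n (Finset.le_sup i.2)
  refine ⟨n, ψ n, ∑ i : S, toFr p R n (y i) ⊗ₜ[R] i.1.2, fun a => rfl, ?_⟩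
  rw [map_sum, hS, ← Finset.sum_coe_sort S]
  refine Finset.sum_congr rfl fun i _ => ?_
  rw [LinearMap.rTensor_tmul]
  congr 1
  refine ((hy i).trans ?_).symm
  rw [Nat.zero_add]
  rfl

theorem pi_injective {R : Type u} [CommRing R] (P : Type v) [AddCommGroup P] [Module R P] [Module.Projective R P]
    {ι : Type*} (A : ι → Type w) [∀ i, AddCommGroup (A i)] [∀ i, Module R (A i)] (z : P ⊗[R] (Π i, A i))
    (hz : ∀ i, (LinearMap.proj i).lTensor P z = 0) : z = 0 := by
  classical
  obtain ⟨s, hs⟩ := Module.projective_def'.1 ‹Module.Projective R P›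
  have key : ∀ (i : ι) (a : P) (w : P ⊗[R] (Π i, A i)),
      TensorProduct.finsuppScalarLeft R _ P (s.rTensor _ w) a i =
        TensorProduct.finsuppScalarLeft R _ P (s.rTensor _ ((LinearMap.proj i).lTensor P w)) a := by
    intro i a w
    induction w using TensorProduct.induction_on with
    | zero => simp
    | tmul x f => simp [TensorProduct.finsuppScalarLeft_apply_tmul_apply]
    | add x y hx hy => simp only [map_add, Finsupp.add_apply, Pi.add_apply, hx, hy]
  have h0 : s.rTensor _ z = 0 := by
    refine (TensorProduct.finsuppScalarLeft R (Π i, A i) P).injective (Finsupp.ext fun a => funext fun i => ?_)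
    rw [key, hz]
    simp
  calc z = ((Finsupp.linearCombination R id).comp s).rTensor _ z := by rw [hs, LinearMap.rTensor_id]; rfl
    _ = 0 := by rw [LinearMap.rTensor_comp, LinearMap.comp_apply, h0, map_zero]

end Groth.Agent.H26.PerfPure
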