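import Groth.Prelude.Def_W4c1imperftorsorsPerf
import Mathlib.RingTheory.Polynomial.Quotient
import Mathlib.RingTheory.Ideal.Quotient.Operations
import Mathlib.Algebra.QuadraticAlgebra.Basic

/-!
# The preperfection of `R[X]/(uX, X² − v²)`
-/

set_option autoImplicit false
set_option linter.style.haveILetI false

universe u

open Polynomial TensorProduct W4c1imperftorsors

namespace Groth.Agent.H26.PerfSq

variable {p : ℕ} [Fact p.Prime] {R : Type u} [CommRing R] [CharP R p] (u v : R)

/-- The defining ideal. -/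
noncomputable abbrev J : Ideal R[X] := Ideal.span {(C u * X : R[X]), X ^ 2 - C (v ^ 2)}

/-- The algebra `R[X]/(uX, X² − v²)`. -/
abbrev A : Type u := R[X] ⧸ J u v

/-- The class of `X`. -/
noncomputable def xg : A u v := Ideal.Quotient.mk _ X

theorem smulA (s : R) (a : A u v) : s • a = algebraMap R (A u v) s * a := Algebra.smul_def s a

theorem u_smul_xg : u • xg u v = 0 := by
  rw [smulA]
  show Ideal.Quotient.mk (J u v) (C u) * Ideal.Quotient.mk (J u v) X = 0
  rw [← map_mul, Ideal.Quotient.eq_zero_iff_mem]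
  exact Ideal.subset_span (Set.mem_insert _ _)

theorem xg_sq : xg u v ^ 2 = algebraMap R (A u v) (v ^ 2) := by
  show Ideal.Quotient.mk (J u v) X ^ 2 = Ideal.Quotient.mk (J u v) (C (v ^ 2))
  rw [← map_pow, Ideal.Quotient.eq]
  exact Ideal.subset_span (Set.mem_insert_of_mem _ rfl)

theorem exists_decomp (a : A u v) : ∃ a₀ a₁ : R, a = a₀ • 1 + a₁ • xg u v := by
  obtain ⟨f, rfl⟩ := Ideal.Quotient.mk_surjective a
  induction f using Polynomial.induction_on' with
  | add f g hf hg =>
    obtain ⟨a, b, h⟩ := hf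
    obtain ⟨c, d, h'⟩ := hg
    exact ⟨a + c, b + d, by rw [map_add, h, h', add_smul, add_smul]; abel⟩
  | monomial n r =>
    have hx : Ideal.Quotient.mk (J u v) (monomial n r) = algebraMap R (A u v) r * xg u v ^ n := by
      rw [← C_mul_X_pow_eq_monomial, map_mul, map_pow]
      rfl
    rw [hx]
    rcases Nat.even_or_odd' n with ⟨k, rfl | rfl⟩
    · refine ⟨r * v ^ (2 * k), 0, ?_⟩
      rw [pow_mul, xg_sq, ← map_pow, ← map_mul, zero_smul, add_zero, Algebra.algebraMap_eq_smul_one, ← pow_mul]
    · refine ⟨0, r * v ^ (2 * k), ?_⟩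
      rw [pow_succ, pow_mul, xg_sq, ← map_pow, ← mul_assoc, ← map_mul, zero_smul, zero_add, ← Algebra.smul_def,
        ← pow_mul]

variable (hp : p ≠ 2) [CharP (A u v) p]

include hp in
theorem xg_pow : xg u v ^ p = (v ^ (p - 1)) • xg u v := by
  obtain ⟨k, hk⟩ := (Fact.out : p.Prime).odd_of_ne_two hp
  rw [hk, pow_succ, pow_mul, xg_sq, ← map_pow, ← Algebra.smul_def, ← pow_mul, Nat.add_sub_cancel]

variable (p) in
/-- `r ⊗ a`. -/
noncomputable def tT (j : ℕ) (r : R) (a : A u v) : Twist p R (A u v) j :=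
  r ⊗ₜ[Src p R j] (aEquiv p R (A u v) j).symm a

theorem src_smul (j : ℕ) (s : R) (a : A u v) :
    (srcEquiv p R j).symm s • (aEquiv p R (A u v) j).symm a = (aEquiv p R (A u v) j).symm (s • a) := by
  rw [Algebra.smul_def, smulA, map_mul]
  rfl

theorem tT_smul (j : ℕ) (r s : R) (a : A u v) : tT p u v j (s ^ p ^ j * r) a = tT p u v j r (s • a) := by
  have h1 : ((srcEquiv p R j).symm s • r : R) = s ^ p ^ j * r := rfl
  have h2 : (srcEquiv p R j).symm s • (aEquiv p R (A u v) j).symm a = (aEquiv p R (A u v) j).symm (s • a) :=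
    src_smul u v j s a
  rw [tT, tT, ← h1, TensorProduct.smul_tmul, h2]

theorem tT_add (j : ℕ) (r : R) (a b : A u v) : tT p u v j r (a + b) = tT p u v j r a + tT p u v j r b := by
  rw [tT, tT, tT, map_add, TensorProduct.tmul_add]

theorem tT_add_left (j : ℕ) (r s : R) (a : A u v) : tT p u v j (r + s) a = tT p u v j r a + tT p u v j s a :=
  TensorProduct.add_tmul _ _ _

theorem relFrob_tT (j : ℕ) (r : R) (a : A u v) :
    relFrob p R (A u v) j (tT p u v (j + 1) r a) = tT p u v j r (a ^ p) := by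
  show relFrobAux p R (A u v) j (r ⊗ₜ _) = _
  rw [relFrobAux, Algebra.TensorProduct.lift_tmul]
  show algebraMap R (Twist p R (A u v) j) r * ((1 : R) ⊗ₜ[Src p R j] (aEquiv p R (A u v) j).symm
    (frobenius (A u v) p (aEquiv p R (A u v) (j + 1) ((aEquiv p R (A u v) (j + 1)).symm a)))) = _
  rw [RingEquiv.apply_symm_apply, frobenius_def, Algebra.TensorProduct.algebraMap_apply, Algebra.algebraMap_self,
    RingHom.id_apply, Algebra.TensorProduct.tmul_mul_tmul, mul_one, one_mul]
  rfl

omit hp in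
theorem tT_one (j : ℕ) (r : R) : algebraMap R (Twist p R (A u v) j) r = tT p u v j r 1 := by
  rw [Algebra.TensorProduct.algebraMap_apply, Algebra.algebraMap_self, RingHom.id_apply, tT, map_one]

theorem exists_tT (j : ℕ) (z : Twist p R (A u v) j) :
    ∃ r s : R, z = tT p u v j r 1 + tT p u v j s (xg u v) := by
  induction z using TensorProduct.induction_on with
  | zero => exact ⟨0, 0, by simp [tT]⟩
  | tmul r a =>
    obtain ⟨a, rfl⟩ := (aEquiv p R (A u v) j).symm.surjective a
    obtain ⟨a₀, a₁, rfl⟩ := exists_decomp u v a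
    refine ⟨a₀ ^ p ^ j * r, a₁ ^ p ^ j * r, ?_⟩
    rw [tT_smul, tT_smul, ← tT_add]
    rfl
  | add x y hx hy =>
    obtain ⟨a, b, rfl⟩ := hx
    obtain ⟨c, d, rfl⟩ := hy
    exact ⟨a + c, b + d, by rw [tT_add_left, tT_add_left]; abel⟩

include hp in
theorem relFrob_pair (j : ℕ) (r s : R) :
    relFrob p R (A u v) j (tT p u v (j + 1) r 1 + tT p u v (j + 1) s (xg u v)) =
      tT p u v j r 1 + tT p u v j ((v ^ (p - 1)) ^ p ^ j * s) (xg u v) := by
  rw [map_add, relFrob_tT, relFrob_tT, one_pow, xg_pow u v hp, tT_smul]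

/-- Evaluation at `v`. -/
noncomputable def ev (huv : u * v = 0) : A u v →ₐ[R] R :=
  Ideal.Quotient.liftₐ (J u v) (Polynomial.aeval v) fun f hf => by
    refine (Ideal.span_le.2 ?_ : J u v ≤ RingHom.ker (Polynomial.aeval (R := R) v)) hf
    rintro _ (rfl | rfl) <;> simp [huv]

/-- The coefficient of `X` modulo `u`. -/
noncomputable def coeffX (huv : u * v = 0) :
    A u v →+* QuadraticAlgebra (R ⧸ Ideal.span {u}) (Ideal.Quotient.mk _ (v ^ 2)) 0 :=
  Ideal.Quotient.lift (J u v) (Polynomial.eval₂RingHom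
    ((algebraMap (R ⧸ Ideal.span {u}) (QuadraticAlgebra (R ⧸ Ideal.span {u}) (Ideal.Quotient.mk _ (v ^ 2)) 0)).comp
      (Ideal.Quotient.mk (Ideal.span {u}))) ⟨0, 1⟩) fun f hf => by
    refine (Ideal.span_le.2 ?_ : J u v ≤ RingHom.ker (Polynomial.eval₂RingHom
      ((algebraMap (R ⧸ Ideal.span {u}) (QuadraticAlgebra (R ⧸ Ideal.span {u}) (Ideal.Quotient.mk _ (v ^ 2)) 0)).comp
      (Ideal.Quotient.mk (Ideal.span {u}))) ⟨0, 1⟩)) hf
    have hu : Ideal.Quotient.mk (Ideal.span {u}) u = 0 :=
      Ideal.Quotient.eq_zero_iff_mem.2 (Ideal.mem_span_singleton_self u)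
    rintro _ (rfl | rfl)
    · ext <;> simp [hu]
    · ext <;> simp [pow_two]

theorem coeffX_im (huv : u * v = 0) (s : R) (a : A u v) :
    (coeffX u v huv (s • a)).im = Ideal.Quotient.mk (Ideal.span {u}) s * (coeffX u v huv a).im := by
  have h : coeffX u v huv (algebraMap R (A u v) s) =
      algebraMap (R ⧸ Ideal.span {u}) _ (Ideal.Quotient.mk (Ideal.span {u}) s) := by
    show coeffX u v huv (Ideal.Quotient.mk (J u v) (C s)) = _
    show Polynomial.eval₂ _ _ (C s) = _
    rw [Polynomial.eval₂_C]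
    rfl
  rw [smulA, map_mul, h, ← Algebra.smul_def, QuadraticAlgebra.im_smul, smul_eq_mul]

/-- `x ↦ x^(p^j)`. -/
noncomputable def frobQ (p : ℕ) [Fact p.Prime] [CharP R p] (j : ℕ) :
    R ⧸ Ideal.span {u} →+* R ⧸ Ideal.span {u ^ p ^ j} :=
  Ideal.quotientMap (Ideal.span {u ^ p ^ j}) (iterateFrobenius R p j) (Ideal.span_le.2 (Set.singleton_subset_iff.2 (by
    show iterateFrobenius R p j u ∈ Ideal.span {u ^ p ^ j}
    rw [iterateFrobenius_def]
    exact Ideal.mem_span_singleton_self _)))

/-- The coefficient of `X`, raised to the `p^j`-th power, as an additive map. -/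
noncomputable def coefQ (huv : u * v = 0) (j : ℕ) : ASrc p R (A u v) j →+ R ⧸ Ideal.span {u ^ p ^ j} :=
  AddMonoidHom.mk' (fun a => frobQ u p j (coeffX u v huv (aEquiv p R (A u v) j a)).im) fun a b => by
    rw [map_add, map_add, QuadraticAlgebra.im_add, map_add]

theorem coefQ_smul (huv : u * v = 0) (j : ℕ) (s : R) (a : A u v) :
    coefQ u v huv j ((aEquiv p R (A u v) j).symm (s • a)) =
      Ideal.Quotient.mk _ (s ^ p ^ j) * coefQ u v huv j ((aEquiv p R (A u v) j).symm a) := by
  show frobQ u p j (coeffX u v huv (s • a)).im = _ * frobQ u p j (coeffX u v huv a).im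
  rw [coeffX_im, map_mul, show frobQ u p j (Ideal.Quotient.mk _ s) = Ideal.Quotient.mk _ (s ^ p ^ j) by
    rw [frobQ, Ideal.quotientMap_mk, iterateFrobenius_def]]

/-- The bilinear form underlying `sigma`. -/
noncomputable def sigmaBil (huv : u * v = 0) (j : ℕ) :
    R →+ ASrc p R (A u v) j →+ R ⧸ Ideal.span {u ^ p ^ j} :=
  AddMonoidHom.mk' (fun r => (AddMonoidHom.mulLeft (Ideal.Quotient.mk (Ideal.span {u ^ p ^ j}) r)).comp (coefQ u v huv j))
    fun r r' => AddMonoidHom.ext fun a => by
      rw [AddMonoidHom.add_apply, AddMonoidHom.comp_apply, AddMonoidHom.comp_apply, AddMonoidHom.comp_apply,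
        AddMonoidHom.coe_mulLeft, AddMonoidHom.coe_mulLeft, AddMonoidHom.coe_mulLeft, map_add, add_mul]

/-- The coefficient of `X` on a twist. -/
noncomputable def sigma (huv : u * v = 0) (j : ℕ) : Twist p R (A u v) j →+ R ⧸ Ideal.span {u ^ p ^ j} :=
  TensorProduct.liftAddHom (sigmaBil u v huv j) fun s r a => by
    obtain ⟨s, rfl⟩ := (srcEquiv p R j).symm.surjective s
    obtain ⟨a, rfl⟩ := (aEquiv p R (A u v) j).symm.surjective a
    rw [src_smul]
    show Ideal.Quotient.mk _ (s ^ p ^ j * r) * coefQ u v huv j _ = Ideal.Quotient.mk _ r * coefQ u v huv j _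
    rw [coefQ_smul, map_mul]
    ring

theorem sigma_pair (huv : u * v = 0) (j : ℕ) (r s : R) :
    sigma u v huv j (tT p u v j r 1 + tT p u v j s (xg u v)) = Ideal.Quotient.mk _ s := by
  rw [map_add]
  rw [tT, tT, sigma, TensorProduct.liftAddHom_tmul, TensorProduct.liftAddHom_tmul]
  show Ideal.Quotient.mk _ r * frobQ u p j (coeffX u v huv 1).im +
    Ideal.Quotient.mk _ s * frobQ u p j (coeffX u v huv (xg u v)).im = _
  have hxg : coeffX u v huv (xg u v) = ⟨0, 1⟩ := by
    show Polynomial.eval₂ _ _ (X : R[X]) = _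
    rw [Polynomial.eval₂_X]
  rw [hxg, map_one, map_one, QuadraticAlgebra.im_one]
  simp

/-- Evaluation at `v` on a twist. -/
noncomputable def evT (huv : u * v = 0) (j : ℕ) : Twist p R (A u v) j →+ R :=
  TensorProduct.liftAddHom
    { toFun := fun r =>
        { toFun := fun a => r * iterateFrobenius R p j (ev u v huv (aEquiv p R (A u v) j a))
          map_zero' := by simp
          map_add' := fun a b => by simp [mul_add] }
      map_zero' := by ext a; simp
      map_add' := fun a b => by ext c; simp [add_mul] }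
    fun s r a => by
      obtain ⟨s, rfl⟩ := (srcEquiv p R j).symm.surjective s
      obtain ⟨a, rfl⟩ := (aEquiv p R (A u v) j).symm.surjective a
      rw [src_smul]
      show s ^ p ^ j * r * iterateFrobenius R p j (ev u v huv a) = r * iterateFrobenius R p j (ev u v huv (s • a))
      rw [map_smul, smul_eq_mul, map_mul, iterateFrobenius_def, iterateFrobenius_def]
      ring

theorem evT_algebraMap (huv : u * v = 0) (j : ℕ) (r : R) : evT u v huv j (algebraMap R (Twist p R (A u v) j) r) = r := by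
  rw [tT_one]
  show r * iterateFrobenius R p j (ev u v huv 1) = r
  rw [map_one, map_one, mul_one]

include hp in
theorem main (huv : u * v = 0)
    (hsep : ∀ N : ℕ, 1 ≤ N → ∀ g : R,
      (∀ n : ℕ, g ∈ Ideal.span {v ^ n} ⊔ Ideal.span {u ^ N}) → g ∈ Ideal.span {u ^ N}) :
    Function.Bijective (algebraMap R ↥(prePerf p R (A u v))) := by
  constructor
  · intro a b hab
    have h : evT u v huv 0 (algebraMap R (Twist p R (A u v) 0) a) = evT u v huv 0 (algebraMap R (Twist p R (A u v) 0) b) :=
      congrArg (fun x : ↥(prePerf p R (A u v)) => evT u v huv 0 (x.1 0)) hab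
    rwa [evT_algebraMap, evT_algebraMap] at h
  · rintro ⟨x, hx⟩
    have hF : ∀ j, relFrob p R (A u v) j (x (j + 1)) = x j := fun j => by
      have := (Algebra.mem_iInf.1 hx) j
      exact this
    choose r s hrs using fun j => exists_tT (p := p) u v j (x j)
    have hv : ∀ n j, ∃ r' c, x j = tT p u v j r' 1 + tT p u v j (v ^ n * c) (xg u v) := by
      intro n
      induction n with
      | zero => exact fun j => ⟨r j, s j, by rw [pow_zero, one_mul]; exact hrs j⟩
      | succ n ih =>
        intro j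
        obtain ⟨r', c, hc⟩ := ih (j + 1)
        obtain ⟨m, hm⟩ : ∃ m, (p - 1) * p ^ j = 1 + m := Nat.exists_eq_add_of_le
          (Nat.mul_pos (Nat.sub_pos_of_lt (Fact.out : p.Prime).one_lt) (pow_pos (Fact.out : p.Prime).pos _))
        refine ⟨r', v ^ m * c, ?_⟩
        rw [← hF j, hc, relFrob_pair u v hp, ← pow_mul, hm]
        congr 2
        ring
    have hs : ∀ j, x j = algebraMap R (Twist p R (A u v) j) (r j) := by
      intro j
      have hmem : s j ∈ Ideal.span {u ^ p ^ j} := by
        refine hsep _ (pow_pos (Fact.out : p.Prime).pos _) _ fun n => ?_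
        obtain ⟨r', c, hc⟩ := hv n j
        have h := congrArg (sigma u v huv j) ((hrs j).symm.trans hc)
        rw [sigma_pair, sigma_pair, Ideal.Quotient.eq] at h
        have h2 : v ^ n * c ∈ Ideal.span {v ^ n} := Ideal.mul_mem_right _ _ (Ideal.mem_span_singleton_self _)
        simpa using Submodule.add_mem_sup h2 h
      obtain ⟨t, ht⟩ := Ideal.mem_span_singleton'.1 hmem
      rw [hrs j, tT_one, ← ht, mul_comm, tT_smul, u_smul_xg]
      simp [tT]
    have hr : ∀ j, r j = r 0 := by
      intro j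
      induction j with
      | zero => rfl
      | succ j ih =>
        have h := hF j
        rw [hs j, hs (j + 1), AlgHom.commutes] at h
        have h2 := congrArg (evT u v huv j) h
        rw [evT_algebraMap, evT_algebraMap] at h2
        exact h2.trans ih
    refine ⟨r 0, Subtype.ext (funext fun j => ?_)⟩
    exact ((hs j).trans (congrArg _ (hr j))).symm

end Groth.Agent.H26.PerfSq
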