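import Groth.Agent.H26.VertApply
import Groth.Agent.S0234
import Groth.Agent.RegUFD.Basic
import Groth.Prelude.Def_PicGrp

/-!
# Degrees on the Picard group of a regular model
-/

set_option autoImplicit false
set_option linter.style.haveILetI false
set_option linter.unusedSectionVars false
set_option backward.isDefEq.respectTransparency false
set_option backward.isDefEq.respectTransparency.types false
set_option maxHeartbeats 1000000

universe u

open CategoryTheory CategoryTheory.Limits AlgebraicGeometry TopologicalSpace Opposite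
open Groth.Agent.H23
open scoped Groth.Agent.H23.PicMul

noncomputable section

namespace Groth.Agent.H26.PicGroup

variable {R : Type u} [CommRing R] [IsDomain R] [IsDiscreteValuationRing R]
  (X : Over (Spec (CommRingCat.of R))) {n : ℕ} (Γc : Fin n → ArSurf.VertComp R X)

/-- The degrees on the components, of a class. -/
def degVec (x : PicLoc.PicSet X.left) : Fin n → ℤ := fun j =>
  ArSurf.inter R X (PicGrp.exists_eq_cls x).choose (Γc j)

theorem degVec_cls [IsProper X.hom] (L : X.left.Modules) (hL : PicF.IsInvertible L) :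
    degVec X Γc (PicGrp.cls L hL) = fun j => ArSurf.inter R X L (Γc j) := by
  funext j
  obtain ⟨hL', he⟩ := (PicGrp.exists_eq_cls (PicGrp.cls L hL)).choose_spec
  exact ArInter.inter_congr (Γc j) hL' (congrArg Subtype.val he).symm

theorem degVec_mul [IsProper X.hom] [PicGrp.Law X.left] (x y : PicLoc.PicSet X.left) :
    degVec X Γc (x * y) = degVec X Γc x + degVec X Γc y := by
  obtain ⟨L, hL, rfl⟩ := PicGrp.exists_eq_cls x
  obtain ⟨M, hM, rfl⟩ := PicGrp.exists_eq_cls y
  have h : PicGrp.cls L hL * PicGrp.cls M hM =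
      PicGrp.cls (CohB1.tensorMod L M) (PicMul.isInvertible_tensor hL hM) :=
    Subtype.ext (PicGrp.cls_mul_cls_val hL hM)
  rw [h, degVec_cls, degVec_cls, degVec_cls]
  funext j
  exact ArInter.inter_tensor (Γc j) hL hM

/-- The degree homomorphism. -/
def degHom [IsProper X.hom] [PicGrp.Law X.left] : Additive (PicLoc.PicSet X.left) →+ (Fin n → ℤ) :=
  AddMonoidHom.mk' (fun x => degVec X Γc x.toMul) fun a b => degVec_mul X Γc a.toMul b.toMul

variable {X Γc}

/-- Restriction to the generic fibre is onto. -/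
theorem pullHom_surjective [IsProper X.hom] (hreg : ∀ x : X.left, IsRegularLocalRing (X.left.presheaf.stalk x))
    {C : Scheme.{u}} {f : C ⟶ Spec (CommRingCat.of (FractionRing R))} {g : C ⟶ X.left}
    (sq : IsPullback g f X.hom (Spec.map (CommRingCat.ofHom (algebraMap R (FractionRing R)))))
    [PicGrp.Law X.left] [PicGrp.Law C] (hgm : PicGrp.PullMul g) :
    Function.Surjective (PicGrp.pullHom g hgm) := by
  intro c
  obtain ⟨L, hL, rfl⟩ := PicGrp.exists_eq_cls c
  obtain ⟨ϖ, hϖ⟩ := IsDiscreteValuationRing.exists_irreducible R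
  obtain ⟨hg, hr⟩ := VertDiv.range_generic X sq hϖ
  let U := VertDiv.genOpen X ϖ
  have hr' : Set.range U.ι = Set.range g := by rw [hr]; exact Scheme.Opens.range_ι U
  let e := IsOpenImmersion.isoOfRangeEq U.ι g hr'
  have he : e.hom ≫ g = U.ι := IsOpenImmersion.isoOfRangeEq_hom_fac _ _ _
  haveI : IsLocallyNoetherian X.left := LocallyOfFiniteType.isLocallyNoetherian X.hom
  obtain ⟨L', hL', ⟨φ⟩⟩ := S0234.result X.left U ((Scheme.Modules.pullback e.hom).obj L)
    (PicClLib.isInvertible_pullback e.hom hL) fun x _ => (@RegUFD.ufd _ _ (hreg x)).2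
  refine ⟨PicGrp.cls L' hL', ?_⟩
  rw [PicGrp.pullHom_cls, PicGrp.cls_eq_cls_iff]
  have h1 : e.inv ≫ U.ι = g := by rw [← he, e.inv_hom_id_assoc]
  exact ⟨(Scheme.Modules.pullbackCongr h1.symm).app L' ≪≫
    ((Scheme.Modules.pullbackComp e.inv U.ι).app L').symm ≪≫
    (Scheme.Modules.pullback e.inv).mapIso
      (((Scheme.Modules.restrictFunctorIsoPullback U.ι).app L').symm ≪≫ φ) ≪≫
    (Scheme.Modules.pullbackComp e.inv e.hom).app L ≪≫ (Scheme.Modules.pullbackCongr e.inv_hom_id).app L ≪≫
    (Scheme.Modules.pullbackId C).app L⟩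

/-- The class of a module with given inverse ideal dies on the generic fibre. -/
theorem pullHom_component [IsProper X.hom] [Flat X.hom]
    (hΓ : Models.IsComponentList R X Γc) (hreg : ∀ x : X.left, IsRegularLocalRing (X.left.presheaf.stalk x))
    {C : Scheme.{u}} {f : C ⟶ Spec (CommRingCat.of (FractionRing R))} {g : C ⟶ X.left}
    (sq : IsPullback g f X.hom (Spec.map (CommRingCat.ofHom (algebraMap R (FractionRing R)))))
    [PicGrp.Law X.left] [PicGrp.Law C] (hgm : PicGrp.PullMul g) (i : Fin n) (L : X.left.Modules)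
    (hL : PicF.IsInvertible L) (hinv : ClSub.IsInverseOf L (ClSub.idealMod (Γc i).ι.ker)) :
    PicGrp.pullHom g hgm (PicGrp.cls L hL) = 1 := by
  obtain ⟨ϖ, hirr⟩ := IsDiscreteValuationRing.exists_irreducible R
  obtain ⟨e, he⟩ := VertDiv.exists_frame_ideal X Γc hΓ hreg hirr.maximalIdeal_eq i
  have hI := IdealCl.isInvertible_idealMod ((FibreIdeal.result X Γc hΓ hreg).1 i)
  have h1 : PicGrp.pullHom g hgm (PicGrp.cls _ hI) = 1 := by
    rw [PicGrp.pullHom_cls, PicGrp.cls_eq_one_iff]
    exact VertDiv.nonempty_pullback_trivial X sq hirr he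
  have h2 := congrArg (PicGrp.pullHom g hgm) ((PicGrp.cls_mul_cls_eq_one_iff hL hI).2 hinv)
  rw [map_mul, h1, mul_one, map_one] at h2
  exact h2

end Groth.Agent.H26.PicGroup
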