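import Groth.Agent.H26.ExcCrit
import Groth.Agent.H26.VertApply
import Groth.Agent.H26.InterRange
import Groth.Agent.H26.FibDimOne
import Groth.Agent.GeomReg.Basic
import Groth.Agent.GrpSchLib.SmoothRegular
import Groth.Agent.S7603
import Groth.Agent.S2209

/-!
# Smooth proper models have no exceptional curves
-/

set_option autoImplicit false
set_option linter.style.haveILetI false
set_option backward.isDefEq.respectTransparency false
set_option backward.isDefEq.respectTransparency.types false
set_option maxHeartbeats 1000000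

universe u

open CategoryTheory CategoryTheory.Limits AlgebraicGeometry TopologicalSpace

noncomputable section

namespace Groth.Agent.H26.SmoothModel

/-- A scheme smooth over a Dedekind domain is regular. -/
theorem isRegular_of_smooth {A : Type u} [CommRing A] [IsDedekindDomain A] {X : Scheme.{u}}
    (p : X ⟶ Spec (CommRingCat.of A)) [Smooth p] (x : X) : IsRegularLocalRing (X.presheaf.stalk x) := by
  obtain ⟨U, hU, hx, -⟩ := exists_isAffineOpen_mem_and_subset (x := x) (U := ⊤) trivial
  have e : U ≤ p ⁻¹ᵁ ⊤ := le_top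
  have hsm : (p.appLE ⊤ U e).hom.Smooth :=
    HasRingHomProperty.appLE @Smooth p inferInstance ⟨⊤, isAffineOpen_top _⟩ ⟨U, hU⟩ e
  haveI : IsRegularRing Γ(Spec (CommRingCat.of A), ⊤) :=
    IsRegularRing.of_ringEquiv (Scheme.ΓSpecIso (CommRingCat.of A)).commRingCatIsoToRingEquiv.symm
  letI : Algebra Γ(Spec (CommRingCat.of A), ⊤) Γ(X, U) := (p.appLE ⊤ U e).hom.toAlgebra
  haveI : Algebra.Smooth Γ(Spec (CommRingCat.of A), ⊤) Γ(X, U) := RingHom.smooth_algebraMap.1 hsm
  haveI := Groth.Agent.GeomReg.isRegularRing_of_smooth Γ(Spec (CommRingCat.of A), ⊤) Γ(X, U)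
  letI : Algebra Γ(X, U) (X.presheaf.stalk x) := (X.presheaf.germ U x hx).hom.toAlgebra
  haveI := hU.isLocalization_stalk ⟨x, hx⟩
  exact IsRegularLocalRing.of_ringEquiv
    (IsLocalization.algEquiv (hU.primeIdealOf ⟨x, hx⟩).asIdeal.primeCompl
      (Localization.AtPrime (hU.primeIdealOf ⟨x, hx⟩).asIdeal) (X.presheaf.stalk x)).toRingEquiv

variable {R : Type u} [CommRing R] [IsDomain R] [IsDiscreteValuationRing R]

/-- A connected smooth special fibre is irreducible. -/
theorem isIrreducible_specialFibreSet {X : Over (Spec (CommRingCat.of R))} [IsProper X.hom] [Smooth X.hom]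
    (hc : ConnectedSpace ↥(Models.specialFibre R X.left X.hom)) :
    IsIrreducible (Models.specialFibreSet R X) := by
  let i := Spec.map (CommRingCat.ofHom (algebraMap R (IsLocalRing.ResidueField R)))
  haveI : Smooth (pullback.snd X.hom i) := inferInstance
  haveI : IsProper (pullback.snd X.hom i) := inferInstance
  haveI : IsLocallyNoetherian (pullback X.hom i) := LocallyOfFiniteType.isLocallyNoetherian (pullback.snd X.hom i)
  haveI : CompactSpace ↥(pullback X.hom i) := QuasiCompact.compactSpace_of_compactSpace (pullback.snd X.hom i)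
  haveI : IsNoetherian (pullback X.hom i) := {}
  haveI : ConnectedSpace ↥(pullback X.hom i) := hc
  haveI : IrreducibleSpace ↥(pullback X.hom i) :=
    Groth.Agent.S7603.irreducibleSpace_of_isDomain_stalk fun y =>
      (@RegUFD.ufd _ _ (Groth.Agent.GrpSchLib.isRegularLocalRing_stalk_of_smooth (pullback.snd X.hom i) y)).1
  have hrange : Set.range i = {IsLocalRing.closedPoint R} := by
    have ha : ∀ a, i a = IsLocalRing.closedPoint R := fun a => by
      refine PrimeSpectrum.ext ?_
      show Ideal.comap (IsLocalRing.residue R) a.asIdeal = IsLocalRing.maximalIdeal R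
      rw [(Ideal.eq_bot_or_top a.asIdeal).resolve_right a.isPrime.ne_top, ← RingHom.ker_eq_comap_bot,
        IsLocalRing.ker_residue]
    ext x
    exact ⟨fun ⟨a, ha'⟩ => ha'.symm.trans (ha a), fun hx =>
      ⟨(⟨⊥, Ideal.isPrime_bot⟩ : PrimeSpectrum (IsLocalRing.ResidueField R)), (ha _).trans hx.symm⟩⟩
  have h2 : Set.range (pullback.fst X.hom i) = Models.specialFibreSet R X := by
    rw [Scheme.Pullback.range_fst, hrange]
    rfl
  rw [← h2, ← Set.image_univ]
  exact (IrreducibleSpace.isIrreducible_univ _).image _ (pullback.fst X.hom i).continuous.continuousOn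

/-- An effective Cartier curve fills an irreducible closed fibre. -/
theorem range_eq_of_irreducible {X : Over (Spec (CommRingCat.of R))} [Flat X.hom] [LocallyOfFiniteType X.hom]
    (hirr : IsIrreducible (Models.specialFibreSet R X)) (Γc : ArSurf.VertComp R X)
    (heff : BlowUp.IsEffCartierIdeal Γc.ι.ker) :
    Models.specialFibreSet R X ⊆ Set.range Γc.ι.base := by
  haveI : IsLocallyNoetherian X.left := LocallyOfFiniteType.isLocallyNoetherian X.hom
  set γ := Γc.ι (genericPoint Γc.curve.left) with hγ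
  -- the curve has codimension at most one
  have hcod : DimFormula.codim γ ≤ 1 := by
    obtain ⟨U, hU, f, -, hf⟩ := heff γ
    rcases FibreIdeal.ker_ideal_cases Γc.ι U with ⟨h, -⟩ | ⟨h, he⟩
    · exact absurd hU h
    letI : Algebra Γ(X.left, U.1) (X.left.presheaf.stalk γ) := (X.left.presheaf.germ U.1 γ h).hom.toAlgebra
    haveI := U.2.isLocalization_stalk ⟨γ, h⟩
    haveI : IsNoetherianRing Γ(X.left, U.1) := IsLocallyNoetherian.component_noetherian U
    haveI : ((U.2.primeIdealOf ⟨γ, h⟩).asIdeal).IsPrincipal := ⟨⟨f, by rw [← he, hf]⟩⟩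
    have hh := Ideal.height_le_one_of_isPrincipal_of_mem_minimalPrimes (U.2.primeIdealOf ⟨γ, h⟩).asIdeal
      (U.2.primeIdealOf ⟨γ, h⟩).asIdeal (by rw [Ideal.minimalPrimes_eq_subsingleton_self]; rfl)
    have h1 : ringKrullDim (X.left.presheaf.stalk γ) ≤ 1 := by
      rw [IsLocalization.AtPrime.ringKrullDim_eq_height (U.2.primeIdealOf ⟨γ, h⟩).asIdeal (X.left.presheaf.stalk γ)]
      exact_mod_cast hh
    rw [DimFormula.ringKrullDim_stalk] at h1
    exact_mod_cast h1
  -- the generic point of the fibre
  have hcl := Models.isClosed_specialFibreSet R X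
  obtain ⟨ξ, hξ⟩ := QuasiSober.sober hirr hcl
  have hγs : γ ∈ Models.specialFibreSet R X := by
    show (Γc.ι ≫ X.hom) (genericPoint Γc.curve.left) = _
    rw [Γc.w, Scheme.Hom.comp_apply]
    generalize Γc.curve.hom (genericPoint Γc.curve.left) = a
    refine PrimeSpectrum.ext ?_
    show Ideal.comap (IsLocalRing.residue R) a.asIdeal = IsLocalRing.maximalIdeal R
    rw [(Ideal.eq_bot_or_top a.asIdeal).resolve_right a.isPrime.ne_top, ← RingHom.ker_eq_comap_bot,
      IsLocalRing.ker_residue]
  have hξγ : ξ ⤳ γ := hξ.specializes hγs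
  have hξs : ξ ∈ Models.specialFibreSet R X := hξ.mem
  suffices hξe : ξ = γ by
    rw [← hξ.def, hξe]
    exact closure_minimal (Set.singleton_subset_iff.2 ⟨_, rfl⟩) Γc.ι.isClosedEmbedding.isClosed_range
  by_contra hne
  have hlt : γ < ξ := lt_iff_le_not_ge.2 ⟨hξγ, fun h => hne (hξγ.antisymm h).eq⟩
  have h2 := Order.coheight_add_one_le hlt
  rw [← DimFormula.coe_codim, ← DimFormula.coe_codim] at h2
  have h3 : DimFormula.codim ξ + 1 ≤ DimFormula.codim γ := by exact_mod_cast h2
  have h0 : DimFormula.codim ξ = 0 := by omega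
  obtain ⟨η', hη1, hη2⟩ := Flat.generalizingMap (f := X.hom) (a := ξ) (genericPoint_specializes (X.hom ξ))
  rw [DimFormula.codim_eq_zero_iff.1 h0 η' hη1, hξs, genericPoint_eq_bot_of_affine (CommRingCat.of R)] at hη2
  exact IsDiscreteValuationRing.not_isField R
    (IsLocalRing.isField_iff_maximalIdeal_eq.2 (congrArg PrimeSpectrum.asIdeal hη2))

/-- A smooth proper model has no exceptional curve of the first kind. -/
theorem isMinimalModel_of_smooth {C X : Scheme.{u}} {f : C ⟶ Spec (CommRingCat.of (FractionRing R))}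
    {p : X ⟶ Spec (CommRingCat.of R)} (hC : Curve.IsSmoothProperCurve (FractionRing R) C f) (hH0 : IsIso f.appTop)
    (hX : Models.IsModel R X p C f) [IsProper p] [Smooth p] : Models.IsMinimalModel R X p C f := by
  have hX' : Models.IsRegularProperModel R X p C f := ⟨hX, inferInstance, fun x => isRegular_of_smooth p x⟩
  refine ⟨hX', fun Γc hexc => ?_⟩
  haveI : IsProper (Over.mk p).hom := inferInstanceAs (IsProper p)
  haveI : Smooth (Over.mk p).hom := inferInstanceAs (Smooth p)
  haveI : Flat (Over.mk p).hom := inferInstanceAs (Flat p)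
  have hsub := range_eq_of_irreducible
    (isIrreducible_specialFibreSet (X := Over.mk p) (S2209.result R C X f p hC hH0 hX')) Γc hexc.1
  let Γ : Fin 1 → ArSurf.VertComp R (Over.mk p) := fun _ => Γc
  have hΓ : Models.IsComponentList R (Over.mk p) Γ :=
    InterForm.isComponentList_of_cover Γ (fun a b _ => Subsingleton.elim a b) fun x hx => ⟨0, hsub hx⟩
  obtain ⟨L, hL⟩ := VertModel.exists_inverses hX' hΓ
  have hs := ArInter.sum_mult_mul_inter (Over.mk p) Γ hX'.2.2 hΓ L hL 0
  rw [Fin.sum_univ_one] at hs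
  obtain ⟨-, hin⟩ := ExcCrit.invariants_of_exc Γc hexc.1 (hL 0) hexc
  have hm := InterForm.mult_pos hΓ hX'.2.2 0
  have hw := WDeg.wdeg_pos Γc
  rw [show ArSurf.inter R (Over.mk p) (L 0) (Γ 0) = -(Models.wdeg R (Over.mk p) Γc : ℤ) from hin, mul_eq_zero] at hs
  rcases hs with hs | hs
  · exact absurd (Int.natCast_eq_zero.1 hs) hm.ne'
  · exact absurd (Int.natCast_eq_zero.1 (neg_eq_zero.1 hs)) hw.ne'

end Groth.Agent.H26.SmoothModel
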