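import Groth.Agent.H26.DescentExt
import Mathlib.AlgebraicGeometry.Morphisms.Preimmersion

/-!
# Spreading out morphisms from opens of local schemes
-/

set_option autoImplicit false
set_option linter.style.haveILetI false

universe u

open CategoryTheory CategoryTheory.Limits AlgebraicGeometry TopologicalSpace

namespace Groth.Agent.H26.SpreadMap

variable {Y N S : Scheme.{u}} [IsLocallyNoetherian Y] (pY : Y ⟶ S) (pN : N ⟶ S) [LocallyOfFiniteType pN]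
  (W : Y.Opens) (y : Y) (hy : (Y.fromSpecStalk y ⁻¹ᵁ W).toScheme ⟶ N)

theorem exists_piece (hyS : hy ≫ pN = (Y.fromSpecStalk y ⁻¹ᵁ W).ι ≫ Y.fromSpecStalk y ≫ pY)
    (z : (Y.fromSpecStalk y ⁻¹ᵁ W).toScheme) :
    ∃ (G : Y.Opens) (f : G.toScheme ⟶ N), Y.fromSpecStalk y ((Y.fromSpecStalk y ⁻¹ᵁ W).ι z) ∈ G ∧ G ≤ W ∧
      f ≫ pN = G.ι ≫ pY ∧
      ∀ (T : Scheme.{u}) (k : T ⟶ Spec (Y.presheaf.stalk y)) (k₁ : T ⟶ G.toScheme)
        (k₂ : T ⟶ (Y.fromSpecStalk y ⁻¹ᵁ W).toScheme), k₁ ≫ G.ι = k ≫ Y.fromSpecStalk y →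
          k₂ ≫ (Y.fromSpecStalk y ⁻¹ᵁ W).ι = k → k₁ ≫ f = k₂ ≫ hy := by
  let e := Y.fromSpecStalk y
  let P := e ⁻¹ᵁ W
  let z₀ : Y := e (P.ι z)
  have hz0 : z₀ ⤳ y := by
    have : z₀ ∈ Set.range e := ⟨_, rfl⟩
    rw [Scheme.range_fromSpecStalk] at this
    exact this
  have hzW : z₀ ∈ W := z.2
  let q : Spec (Y.presheaf.stalk z₀) ⟶ Spec (Y.presheaf.stalk y) := Spec.map (Y.presheaf.stalkSpecializes hz0)
  have hqe : q ≫ e = Y.fromSpecStalk z₀ := Scheme.SpecMap_stalkSpecializes_fromSpecStalk hz0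
  have hr : Set.range q ⊆ Set.range P.ι := by
    rintro _ ⟨t, rfl⟩
    rw [Scheme.Opens.range_ι]
    show e (q t) ∈ W
    rw [← Scheme.Hom.comp_apply, hqe]
    have : Y.fromSpecStalk z₀ t ∈ Set.range (Y.fromSpecStalk z₀) := ⟨t, rfl⟩
    rw [Scheme.range_fromSpecStalk] at this
    exact this.mem_open W.isOpen hzW
  let l := IsOpenImmersion.lift P.ι q hr
  have hl : l ≫ P.ι = q := IsOpenImmersion.lift_fac _ _ _
  obtain ⟨G₀, hzG₀, f₀, hf₀, hf₀S⟩ := spread_out_of_isGermInjective' pY pN (l ≫ hy)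
    (by rw [Category.assoc, hyS, reassoc_of% hl, reassoc_of% hqe])
  -- agreement near `z` on the local scheme
  let Q : (Spec (Y.presheaf.stalk y)).Opens := e ⁻¹ᵁ (G₀ ⊓ W)
  have hQP : Q ≤ P := fun t ht => ht.2
  have hQG : Q ≤ e ⁻¹ᵁ G₀ := fun t ht => ht.1
  haveI : IsLocallyNoetherian Q.toScheme := by
    haveI : IsNoetherianRing (Y.presheaf.stalk y) := inferInstance
    exact isLocallyNoetherian_of_isOpenImmersion Q.ι
  let zQ : Q.toScheme := ⟨P.ι z, hzG₀, hzW⟩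
  obtain ⟨Ω, hzΩ, hΩ⟩ := spread_out_unique_of_isGermInjective' (x := zQ)
    (e.resLE G₀ Q hQG ≫ f₀) ((Spec (Y.presheaf.stalk y)).homOfLE hQP ≫ hy) (by
      let k : Spec (Q.toScheme.presheaf.stalk zQ) ⟶ Spec (Y.presheaf.stalk z₀) := Spec.map ((Q.ι ≫ e).stalkMap zQ)
      have hk : k ≫ Y.fromSpecStalk z₀ = Q.toScheme.fromSpecStalk zQ ≫ Q.ι ≫ e :=
        Scheme.SpecMap_stalkMap_fromSpecStalk _
      have h1 : Q.toScheme.fromSpecStalk zQ ≫ (Spec (Y.presheaf.stalk y)).homOfLE hQP = k ≫ l := by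
        rw [← cancel_mono P.ι, ← cancel_mono e]
        simp only [Category.assoc, reassoc_of% hl, hqe, hk]
        rw [Scheme.homOfLE_ι_assoc]
      have h2 : Q.toScheme.fromSpecStalk zQ ≫ e.resLE G₀ Q hQG = k ≫ G₀.fromSpecStalkOfMem z₀ hzG₀ := by
        rw [← cancel_mono G₀.ι, Category.assoc, Category.assoc, Scheme.Opens.fromSpecStalkOfMem_ι,
          Scheme.Hom.resLE_comp_ι, hk]
      rw [reassoc_of% h1, reassoc_of% h2, hf₀])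
  -- shrink
  obtain ⟨G₁, hG₁, hG₁e⟩ := (Y.fromSpecStalk y).isEmbedding.isOpen_iff.1 (Q.ι ''ᵁ Ω).isOpen
  let G : Y.Opens := (G₀ ⊓ W) ⊓ ⟨G₁, hG₁⟩
  have hzG : z₀ ∈ G := by
    refine ⟨⟨hzG₀, hzW⟩, ?_⟩
    show P.ι z ∈ e ⁻¹' G₁
    rw [hG₁e]
    exact ⟨zQ, hzΩ, rfl⟩
  have hGG : G ≤ G₀ := fun t ht => ht.1.1
  refine ⟨G, Y.homOfLE hGG ≫ f₀, hzG, fun t ht => ht.1.2, by rw [Category.assoc, hf₀S, Scheme.homOfLE_ι_assoc], ?_⟩
  intro T k k₁ k₂ h1 h2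
  have hrange : Set.range k ⊆ Set.range (Q.ι ''ᵁ Ω).ι := by
    rintro _ ⟨t, rfl⟩
    rw [Scheme.Opens.range_ι]
    show k t ∈ ((Q.ι ''ᵁ Ω : (Spec (Y.presheaf.stalk y)).Opens) : Set _)
    rw [← hG₁e]
    show e (k t) ∈ G₁
    rw [← Scheme.Hom.comp_apply, ← h1, Scheme.Hom.comp_apply]
    exact (k₁ t).2.2
  let m := IsOpenImmersion.lift (Q.ι ''ᵁ Ω).ι k hrange ≫ (Q.ι.isoImage Ω).inv
  have hm : m ≫ Ω.ι ≫ Q.ι = k := by
    simp only [m, Category.assoc, Scheme.Hom.isoImage_inv_ι]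
    exact IsOpenImmersion.lift_fac _ _ _
  have e1 : k₁ ≫ Y.homOfLE hGG = m ≫ Ω.ι ≫ e.resLE G₀ Q hQG := by
    rw [← cancel_mono G₀.ι]
    simp only [Category.assoc, Scheme.homOfLE_ι, Scheme.Hom.resLE_comp_ι, h1]
    rw [reassoc_of% hm]
  have e2 : k₂ = m ≫ Ω.ι ≫ (Spec (Y.presheaf.stalk y)).homOfLE hQP := by
    rw [← cancel_mono P.ι]
    simp only [Category.assoc, Scheme.homOfLE_ι, hm]
    exact h2
  rw [reassoc_of% e1, hΩ, e2]
  simp only [Category.assoc]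

/-- A morphism on the part of a local scheme in an open `W` extends to `V ⊓ W` for a neighbourhood `V`. -/
theorem exists_spread_open [NoetherianSpace Y]
    (hyS : hy ≫ pN = (Y.fromSpecStalk y ⁻¹ᵁ W).ι ≫ Y.fromSpecStalk y ≫ pY) :
    ∃ (V : Y.Opens) (h₀ : (V ⊓ W : Y.Opens).toScheme ⟶ N), y ∈ V ∧ h₀ ≫ pN = (V ⊓ W).ι ≫ pY ∧
      ∀ hle, (Y.fromSpecStalk y).resLE (V ⊓ W) (Y.fromSpecStalk y ⁻¹ᵁ W) hle ≫ h₀ = hy := by
  classical
  choose G f hzG hGW hfS hfk using exists_piece pY pN W y hy hyS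
  haveI : IsNoetherianRing (Y.presheaf.stalk y) := inferInstance
  haveI : NoetherianSpace (Spec (Y.presheaf.stalk y)) :=
    inferInstanceAs (NoetherianSpace (PrimeSpectrum (Y.presheaf.stalk y)))
  obtain ⟨t, ht⟩ := (NoetherianSpace.isCompact ((Y.fromSpecStalk y ⁻¹ᵁ W : (Spec (Y.presheaf.stalk y)).Opens) :
      Set (Spec (Y.presheaf.stalk y)))).elim_finite_subcover
    (fun z => ((Y.fromSpecStalk y ⁻¹ᵁ G z : (Spec (Y.presheaf.stalk y)).Opens) : Set (Spec (Y.presheaf.stalk y))))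
    (fun z => (Y.fromSpecStalk y ⁻¹ᵁ G z).isOpen)
    (fun w hw => Set.mem_iUnion.2 ⟨⟨w, hw⟩, hzG ⟨w, hw⟩⟩)
  have hgen : ∀ w : Y, w ⤳ y → w ∈ Set.range (Y.fromSpecStalk y) := fun w hw => by
    rw [Scheme.range_fromSpecStalk]; exact hw
  obtain ⟨V₁, hyV₁, hV₁⟩ := DescentExt.exists_nhd (X := Y) W.isOpen
    (isOpen_biUnion fun z (_ : z ∈ t) => (G z).isOpen) y (fun w hwW hw => by
      obtain ⟨w', rfl⟩ := hgen w hw
      obtain ⟨z, hz, hz'⟩ := Set.mem_iUnion₂.1 (ht hwW)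
      exact Set.mem_iUnion₂.2 ⟨z, hz, hz'⟩)
  -- overlaps
  have hov : ∀ i j, ∃ V : Y.Opens, y ∈ V ∧ ∀ w ∈ V ⊓ (G i ⊓ G j), ∃ O : (G i ⊓ G j : Y.Opens).toScheme.Opens,
      w ∈ (G i ⊓ G j).ι ''ᵁ O ∧
      O.ι ≫ Y.homOfLE (inf_le_left : G i ⊓ G j ≤ G i) ≫ f i = O.ι ≫ Y.homOfLE (inf_le_right : G i ⊓ G j ≤ G j) ≫ f j := by
    intro i j
    let D : Y.Opens := G i ⊓ G j
    haveI : IsLocallyNoetherian D.toScheme := isLocallyNoetherian_of_isOpenImmersion D.ι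
    have hpt : ∀ w : D.toScheme, D.ι w ⤳ y → ∃ O : D.toScheme.Opens, w ∈ O ∧
        O.ι ≫ Y.homOfLE (inf_le_left : D ≤ G i) ≫ f i = O.ι ≫ Y.homOfLE (inf_le_right : D ≤ G j) ≫ f j := by
      intro w hw
      refine spread_out_unique_of_isGermInjective' _ _ ?_
      let k : Spec (D.toScheme.presheaf.stalk w) ⟶ Spec (Y.presheaf.stalk y) :=
        Spec.map (D.ι.stalkMap w) ≫ Spec.map (Y.presheaf.stalkSpecializes hw)
      have hk : k ≫ Y.fromSpecStalk y = D.toScheme.fromSpecStalk w ≫ D.ι := by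
        simp only [k, Category.assoc, Scheme.SpecMap_stalkSpecializes_fromSpecStalk,
          Scheme.SpecMap_stalkMap_fromSpecStalk]
      have hr : Set.range k ⊆ Set.range (Y.fromSpecStalk y ⁻¹ᵁ W).ι := by
        rintro _ ⟨s, rfl⟩
        rw [Scheme.Opens.range_ι]
        show Y.fromSpecStalk y (k s) ∈ W
        rw [← Scheme.Hom.comp_apply, hk]
        exact hGW i (D.toScheme.fromSpecStalk w s).2.1
      let k₂ := IsOpenImmersion.lift (Y.fromSpecStalk y ⁻¹ᵁ W).ι k hr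
      have hk₂ : k₂ ≫ (Y.fromSpecStalk y ⁻¹ᵁ W).ι = k := IsOpenImmersion.lift_fac _ _ _
      refine ((Category.assoc _ _ _).symm.trans (hfk i _ k _ k₂ ?_ hk₂)).trans
        ((Category.assoc _ _ _).symm.trans (hfk j _ k _ k₂ ?_ hk₂)).symm
      · rw [Category.assoc, Scheme.homOfLE_ι, hk]
      · rw [Category.assoc, Scheme.homOfLE_ι, hk]
    choose O hwO hO using hpt
    obtain ⟨V, hyV, hV⟩ := DescentExt.exists_nhd (X := Y) D.isOpen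
      (isOpen_iUnion fun w => isOpen_iUnion fun hw => (D.ι ''ᵁ O w hw).isOpen) y
      (fun w hwD hw => Set.mem_iUnion₂.2 ⟨⟨w, hwD⟩, hw, ⟨w, hwD⟩, hwO _ _, rfl⟩)
    refine ⟨V, hyV, fun w hw => ?_⟩
    obtain ⟨w', hw', hwm⟩ := Set.mem_iUnion₂.1 (hV ⟨hw.1, hw.2⟩)
    exact ⟨O w' hw', hwm, hO w' hw'⟩
  choose V₂ hyV₂ hV₂ using hov
  let V : Y.Opens := V₁ ⊓ ⟨⋂ i ∈ t, ⋂ j ∈ t, (V₂ i j : Set Y),
    isOpen_biInter_finset fun i _ => isOpen_biInter_finset fun j _ => (V₂ i j).isOpen⟩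
  have hyV : y ∈ V := ⟨hyV₁, Set.mem_iInter₂.2 fun i _ => Set.mem_iInter₂.2 fun j _ => hyV₂ i j⟩
  let D' : Y.Opens := V ⊓ W
  let U' : t → D'.toScheme.Opens := fun i => D'.ι ⁻¹ᵁ G i
  let 𝒰 : D'.toScheme.OpenCover := D'.toScheme.openCoverOfIsOpenCover U' (.mk (top_unique fun w _ => by
    obtain ⟨z, hz, hz'⟩ := Set.mem_iUnion₂.1 (hV₁ ⟨w.2.1.1, w.2.2⟩)
    exact Opens.mem_iSup.2 ⟨⟨z, hz⟩, hz'⟩))
  let F : ∀ i : t, (U' i).toScheme ⟶ N := fun i => (D'.ι ∣_ G i) ≫ f i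
  have hFc : ∀ i j : t, pullback.fst (U' i).ι (U' j).ι ≫ F i = pullback.snd _ _ ≫ F j := by
    intro i j
    let P := pullback (U' i).ι (U' j).ι
    let p : P ⟶ Y := pullback.fst (U' i).ι (U' j).ι ≫ (U' i).ι ≫ D'.ι
    have hp : p = pullback.snd (U' i).ι (U' j).ι ≫ (U' j).ι ≫ D'.ι := pullback.condition_assoc _
    refine Scheme.hom_ext_of_forall _ _ fun w => ?_
    have hwi : p w ∈ G i.1 := (pullback.fst (U' i).ι (U' j).ι w).2
    have hwj : p w ∈ G j.1 := by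
      rw [hp]
      exact (pullback.snd (U' i).ι (U' j).ι w).2
    have hwD : p w ∈ D' := ((U' i).ι (pullback.fst (U' i).ι (U' j).ι w)).2
    obtain ⟨O, hwO, hO⟩ := hV₂ i.1 j.1 (p w)
      ⟨Set.mem_iInter₂.1 (Set.mem_iInter₂.1 hwD.1.2 i.1 i.2) j.1 j.2, hwi, hwj⟩
    let O' : P.Opens := p ⁻¹ᵁ ((G i.1 ⊓ G j.1).ι ''ᵁ O)
    refine ⟨O', hwO, ?_⟩
    let c : O'.toScheme ⟶ O.toScheme := (p ∣_ _) ≫ ((G i.1 ⊓ G j.1).ι.isoImage O).inv
    have hc : c ≫ O.ι ≫ (G i.1 ⊓ G j.1).ι = O'.ι ≫ p := by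
      simp only [c, Category.assoc, Scheme.Hom.isoImage_inv_ι, morphismRestrict_ι, O']
    have ei : O'.ι ≫ pullback.fst (U' i).ι (U' j).ι ≫ (D'.ι ∣_ G i) = c ≫ O.ι ≫ Y.homOfLE inf_le_left := by
      rw [← cancel_mono (G i.1).ι]
      simp only [Category.assoc, Scheme.homOfLE_ι, morphismRestrict_ι, hc]
      rfl
    have ej : O'.ι ≫ pullback.snd (U' i).ι (U' j).ι ≫ (D'.ι ∣_ G j) = c ≫ O.ι ≫ Y.homOfLE inf_le_right := by
      rw [← cancel_mono (G j.1).ι]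
      simp only [Category.assoc, Scheme.homOfLE_ι, morphismRestrict_ι, hc]
      rw [hp]
    simp only [F]
    rw [reassoc_of% ei, reassoc_of% ej, hO]
  let h₀ : D'.toScheme ⟶ N := 𝒰.glueMorphisms F hFc
  have hh₀ : ∀ i : t, (U' i).ι ≫ h₀ = (D'.ι ∣_ G i) ≫ f i := fun i => Scheme.Cover.ι_glueMorphisms 𝒰 F hFc i
  refine ⟨V, h₀, hyV, Scheme.Cover.hom_ext 𝒰 _ _ fun i => ?_, fun hle => ?_⟩
  · show (U' i).ι ≫ h₀ ≫ pN = (U' i).ι ≫ D'.ι ≫ pY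
    rw [reassoc_of% (hh₀ i), hfS, morphismRestrict_ι_assoc]
  · let r := (Y.fromSpecStalk y).resLE D' _ hle
    have hr : r ≫ D'.ι = (Y.fromSpecStalk y ⁻¹ᵁ W).ι ≫ Y.fromSpecStalk y := Scheme.Hom.resLE_comp_ι _ _
    refine Scheme.hom_ext_of_forall _ _ fun w => ?_
    obtain ⟨z, hz, hz'⟩ := Set.mem_iUnion₂.1 (ht w.2)
    refine ⟨r ⁻¹ᵁ U' ⟨z, hz⟩, ?_, ?_⟩
    · show D'.ι (r w) ∈ G z
      rw [← Scheme.Hom.comp_apply, hr]
      exact hz'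
    · rw [← morphismRestrict_ι_assoc, hh₀]
      refine (Category.assoc _ _ _).symm.trans
        (hfk z _ ((r ⁻¹ᵁ U' ⟨z, hz⟩).ι ≫ (Y.fromSpecStalk y ⁻¹ᵁ W).ι) _ (r ⁻¹ᵁ U' ⟨z, hz⟩).ι ?_ rfl)
      simp only [Category.assoc, morphismRestrict_ι]
      show (r ∣_ U' ⟨z, hz⟩) ≫ (U' ⟨z, hz⟩).ι ≫ D'.ι = _
      rw [morphismRestrict_ι_assoc, hr]

omit [LocallyOfFiniteType pN] hy in
/-- Morphisms on an open `W` which agree near `y` on the local scheme agree on `V ⊓ W` for a neighbourhood `V`. -/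
theorem exists_agree [NoetherianSpace Y] (a b : W.toScheme ⟶ N)
    (hab : (Y.fromSpecStalk y ∣_ W) ≫ a = (Y.fromSpecStalk y ∣_ W) ≫ b) :
    ∃ V : Y.Opens, y ∈ V ∧ Y.homOfLE (inf_le_right : V ⊓ W ≤ W) ≫ a = Y.homOfLE inf_le_right ≫ b := by
  haveI : IsLocallyNoetherian W.toScheme := isLocallyNoetherian_of_isOpenImmersion W.ι
  have hpt : ∀ w : W.toScheme, W.ι w ⤳ y → ∃ O : W.toScheme.Opens, w ∈ O ∧ O.ι ≫ a = O.ι ≫ b := by
    intro w hw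
    refine spread_out_unique_of_isGermInjective' _ _ ?_
    let k : Spec (W.toScheme.presheaf.stalk w) ⟶ Spec (Y.presheaf.stalk y) :=
      Spec.map (W.ι.stalkMap w) ≫ Spec.map (Y.presheaf.stalkSpecializes hw)
    have hk : k ≫ Y.fromSpecStalk y = W.toScheme.fromSpecStalk w ≫ W.ι := by
      simp only [k, Category.assoc, Scheme.SpecMap_stalkSpecializes_fromSpecStalk,
        Scheme.SpecMap_stalkMap_fromSpecStalk]
    have hr : Set.range k ⊆ Set.range (Y.fromSpecStalk y ⁻¹ᵁ W).ι := by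
      rintro _ ⟨s, rfl⟩
      rw [Scheme.Opens.range_ι]
      show Y.fromSpecStalk y (k s) ∈ W
      rw [← Scheme.Hom.comp_apply, hk]
      exact (W.toScheme.fromSpecStalk w s).2
    let k₂ := IsOpenImmersion.lift (Y.fromSpecStalk y ⁻¹ᵁ W).ι k hr
    have hk₂ : k₂ ≫ (Y.fromSpecStalk y ⁻¹ᵁ W).ι = k := IsOpenImmersion.lift_fac _ _ _
    have h1 : W.toScheme.fromSpecStalk w = k₂ ≫ (Y.fromSpecStalk y ∣_ W) := by
      rw [← cancel_mono W.ι, Category.assoc, morphismRestrict_ι, reassoc_of% hk₂, hk]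
    rw [h1, Category.assoc, Category.assoc, hab]
  choose O hwO hO using hpt
  obtain ⟨V, hyV, hV⟩ := DescentExt.exists_nhd (X := Y) W.isOpen
    (isOpen_iUnion fun w => isOpen_iUnion fun hw => (W.ι ''ᵁ O w hw).isOpen) y
    (fun w hwW hw => Set.mem_iUnion₂.2 ⟨⟨w, hwW⟩, hw, ⟨w, hwW⟩, hwO _ _, rfl⟩)
  refine ⟨V, hyV, Scheme.hom_ext_of_forall _ _ fun t => ?_⟩
  let j := Y.homOfLE (inf_le_right : V ⊓ W ≤ W)
  have hj : j ≫ W.ι = (V ⊓ W : Y.Opens).ι := Scheme.homOfLE_ι _ _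
  have ht : W.ι (j t) ∈ (V : Set Y) ∩ W := by
    rw [← Scheme.Hom.comp_apply, hj]
    exact t.2
  obtain ⟨w, hw, w', hw', hww⟩ := Set.mem_iUnion₂.1 (hV ht)
  refine ⟨j ⁻¹ᵁ O w hw, ?_, ?_⟩
  · show j t ∈ O w hw
    rwa [← W.ι.isOpenEmbedding.injective hww]
  · rw [← morphismRestrict_ι_assoc, hO, morphismRestrict_ι_assoc]

end Groth.Agent.H26.SpreadMap
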