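import Mathlib.RingTheory.DiscreteValuationRing.TFAE
import Mathlib.RingTheory.Flat.TorsionFree
import Mathlib.RingTheory.PrincipalIdealDomainOfPrime
import Mathlib.FieldTheory.IsAlgClosed.Basic
import Mathlib.RingTheory.IntegralClosure.IsIntegralClosure.Basic

/-!
# Base change of a discrete valuation ring along an algebraic extension of discrete valuation rings
-/

set_option autoImplicit false

universe u

open Polynomial
open scoped TensorProduct

namespace Groth.Agent.H26.TensorDvr

variable {R : Type u} [CommRing R] [IsDomain R] [IsDiscreteValuationRing R]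

/-- Over a discrete valuation ring with algebraically closed residue field algebraic extensions have no
residual extension. -/
theorem exists_sub_mem [IsAlgClosed (IsLocalRing.ResidueField R)] {R' : Type u} [CommRing R'] [IsDomain R']
    [IsLocalRing R'] [Algebra R R'] [IsLocalHom (algebraMap R R')]
    (hinj : Function.Injective (algebraMap R R')) (a : R') (ha : IsAlgebraic R a) :
    ∃ r : R, a - algebraMap R R' r ∈ IsLocalRing.maximalIdeal R' := by
  obtain ⟨p, hp0, hpa⟩ := ha
  obtain ⟨ϖ, hirr⟩ := IsDiscreteValuationRing.exists_irreducible R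
  have hprime : Prime (C ϖ : R[X]) := prime_C_iff.2 hirr.prime
  obtain ⟨n, q, hq, rfl⟩ := WfDvdMonoid.max_power_factor hp0 hprime.irreducible
  have hqa : aeval a q = 0 := by
    rw [map_mul, map_pow, aeval_C, mul_eq_zero] at hpa
    exact hpa.resolve_left (pow_ne_zero _ ((map_ne_zero_iff _ hinj).2 hirr.ne_zero))
  have hq0 : q.map (IsLocalRing.residue R) ≠ 0 := fun h => hq <| C_dvd_iff_dvd_coeff _ _ |>.2 fun i => by
    have h1 := congrArg (fun f => Polynomial.coeff f i) h
    simp only [coeff_map, coeff_zero, IsLocalRing.residue_eq_zero_iff, hirr.maximalIdeal_eq,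
      Ideal.mem_span_singleton] at h1
    exact h1
  let θ := IsLocalRing.ResidueField.map (algebraMap R R')
  have h2 : ((q.map (IsLocalRing.residue R)).map θ).eval (IsLocalRing.residue R' a) = 0 := by
    rw [Polynomial.map_map, IsLocalRing.ResidueField.map_comp_residue, eval_map, ← hom_eval₂]
    rw [show q.eval₂ (algebraMap R R') a = 0 from hqa, map_zero]
  have hsp := IsAlgClosed.splits (q.map (IsLocalRing.residue R))
  have hroot : IsLocalRing.residue R' a ∈ ((q.map (IsLocalRing.residue R)).map θ).roots :=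
    (mem_roots (Polynomial.map_ne_zero hq0)).2 h2
  rw [hsp.roots_map_of_injective θ.injective, Multiset.mem_map] at hroot
  obtain ⟨c, -, hc⟩ := hroot
  obtain ⟨r, rfl⟩ := IsLocalRing.residue_surjective c
  refine ⟨r, (IsLocalRing.residue_eq_zero_iff _).1 ?_⟩
  rw [map_sub, ← hc, sub_eq_zero]
  exact IsLocalRing.ResidueField.map_residue _ _

theorem isDVR_tensor [IsAlgClosed (IsLocalRing.ResidueField R)]
    (B : Type u) [CommRing B] [IsDomain B] [IsDiscreteValuationRing B] [Algebra R B]
    (hinjB : Function.Injective (algebraMap R B))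
    (hm : IsLocalRing.maximalIdeal B = (IsLocalRing.maximalIdeal R).map (algebraMap R B))
    (R' : Type u) [CommRing R'] [IsDomain R'] [IsDiscreteValuationRing R'] [Algebra R R']
    [IsLocalHom (algebraMap R R')] (hinj : Function.Injective (algebraMap R R'))
    [Algebra.IsAlgebraic R R'] (hfld : IsField (B ⊗[R] FractionRing R')) :
    ∃ _ : IsDomain (B ⊗[R] R'), IsDiscreteValuationRing (B ⊗[R] R') := by
  let L := FractionRing R'
  letI := hfld.toField
  obtain ⟨ϖ, hirr⟩ := IsDiscreteValuationRing.exists_irreducible R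
  obtain ⟨t, ht⟩ := IsDiscreteValuationRing.exists_irreducible R'
  haveI : Module.IsTorsionFree R B := Module.isTorsionFree_iff_smul_eq_zero.2 fun c x h => by
    rw [Algebra.smul_def, mul_eq_zero, map_eq_zero_iff _ hinjB] at h
    exact h
  haveI : Module.Flat R B := inferInstance
  let j : B ⊗[R] R' →ₐ[R] B ⊗[R] L :=
    Algebra.TensorProduct.map (AlgHom.id R B) (IsScalarTower.toAlgHom R R' L)
  have hj : Function.Injective j := by
    have h := Module.Flat.lTensor_preserves_injective_linearMap (M := B)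
      (IsScalarTower.toAlgHom R R' L).toLinearMap (IsFractionRing.injective R' L)
    have e : ∀ z, j z = LinearMap.lTensor B (IsScalarTower.toAlgHom R R' L).toLinearMap z := fun z => by
      induction z using TensorProduct.induction_on with
      | zero => rw [map_zero, map_zero]
      | tmul a b => rfl
      | add a b ha hb => rw [map_add, map_add, ha, hb]
    intro a b hab
    exact h (by rw [← e, ← e, hab])
  haveI hdom : IsDomain (B ⊗[R] R') := hj.isDomain j.toRingHom
  refine ⟨hdom, ?_⟩
  let iB : B →+* B ⊗[R] R' := Algebra.TensorProduct.includeLeftRingHom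
  let iR : R' →+* B ⊗[R] R' := (Algebra.TensorProduct.includeRight : R' →ₐ[R] B ⊗[R] R').toRingHom
  have hcomm : ∀ r : R, iB (algebraMap R B r) = iR (algebraMap R R' r) := fun r => by
    show algebraMap R B r ⊗ₜ[R] (1 : R') = (1 : B) ⊗ₜ[R] algebraMap R R' r
    rw [Algebra.algebraMap_eq_smul_one, Algebra.algebraMap_eq_smul_one, TensorProduct.smul_tmul]
  let T := iR t
  -- every element is congruent to one from `B`
  have hres : ∀ z : B ⊗[R] R', ∃ b w, z = iB b + T * w := fun z => by
    induction z using TensorProduct.induction_on with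
    | zero => exact ⟨0, 0, by simp⟩
    | tmul b a =>
      obtain ⟨r, hr⟩ := exists_sub_mem hinj a (Algebra.IsAlgebraic.isAlgebraic a)
      rw [ht.maximalIdeal_eq, Ideal.mem_span_singleton] at hr
      obtain ⟨w, hw⟩ := hr
      refine ⟨b * algebraMap R B r, iB b * iR w, ?_⟩
      rw [show b ⊗ₜ[R] a = iB b * iR a by
        show _ = (b ⊗ₜ[R] (1 : R')) * ((1 : B) ⊗ₜ[R] a)
        rw [Algebra.TensorProduct.tmul_mul_tmul, mul_one, one_mul],
        map_mul, hcomm, show a = algebraMap R R' r + t * w by rw [← hw]; ring, map_add, map_mul]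
      ring
    | add a b ha hb =>
      obtain ⟨b₁, w₁, rfl⟩ := ha
      obtain ⟨b₂, w₂, rfl⟩ := hb
      exact ⟨b₁ + b₂, w₁ + w₂, by rw [map_add]; ring⟩
  -- `T` is not a unit
  obtain ⟨θ, hθ⟩ : ∃ θ : B ⊗[R] R' →+* IsLocalRing.ResidueField B, θ T = 0 := by
    haveI : IsLocalHom (algebraMap R B) := ⟨fun r hr => by
      by_contra h
      have : algebraMap R B r ∈ IsLocalRing.maximalIdeal B := hm ▸ Ideal.mem_map_of_mem _ h
      exact this hr⟩
    let θ₀ := IsLocalRing.ResidueField.map (algebraMap R R')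
    have hsurj : Function.Surjective θ₀ := fun x => by
      obtain ⟨a, rfl⟩ := IsLocalRing.residue_surjective x
      obtain ⟨r, hr⟩ := exists_sub_mem hinj a (Algebra.IsAlgebraic.isAlgebraic a)
      refine ⟨IsLocalRing.residue R r, ?_⟩
      rw [IsLocalRing.ResidueField.map_residue, eq_comm, ← sub_eq_zero, ← map_sub]
      exact (IsLocalRing.residue_eq_zero_iff _).2 hr
    let e₀ := RingEquiv.ofBijective θ₀ ⟨θ₀.injective, hsurj⟩
    let g : R' →+* IsLocalRing.ResidueField B :=
      ((IsLocalRing.ResidueField.map (algebraMap R B)).comp e₀.symm.toRingHom).comp (IsLocalRing.residue R')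
    have hg : ∀ r, g (algebraMap R R' r) = algebraMap R (IsLocalRing.ResidueField B) r := fun r => by
      show IsLocalRing.ResidueField.map (algebraMap R B) (e₀.symm (IsLocalRing.residue R' (algebraMap R R' r))) = _
      rw [show IsLocalRing.residue R' (algebraMap R R' r) = e₀ (IsLocalRing.residue R r) from
        (IsLocalRing.ResidueField.map_residue _ _).symm, RingEquiv.symm_apply_apply]
      exact IsLocalRing.ResidueField.map_residue _ _
    refine ⟨(Algebra.TensorProduct.lift (IsScalarTower.toAlgHom R B (IsLocalRing.ResidueField B))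
      ({ g with commutes' := hg } : R' →ₐ[R] IsLocalRing.ResidueField B) fun _ _ => Commute.all _ _).toRingHom, ?_⟩
    show (Algebra.TensorProduct.lift _ _ _) ((1 : B) ⊗ₜ[R] t) = 0
    rw [Algebra.TensorProduct.lift_tmul, map_one, one_mul]
    show IsLocalRing.ResidueField.map (algebraMap R B) (e₀.symm (IsLocalRing.residue R' t)) = 0
    rw [(IsLocalRing.residue_eq_zero_iff t).2 ht.not_isUnit, map_zero, map_zero]
  have hTu : ¬ IsUnit T := fun h => by
    have := h.map θ
    rw [hθ] at this
    exact not_isUnit_zero this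
  have hT0 : T ≠ 0 := fun h => by
    have h1 : (1 : B) ⊗ₜ[R] algebraMap R' L t = (0 : B ⊗[R] L) := by
      rw [← map_zero j, ← h]
      rfl
    have h2 : IsUnit ((Algebra.TensorProduct.includeRight : L →ₐ[R] B ⊗[R] L) (algebraMap R' L t)) :=
      (Ne.isUnit ((map_ne_zero_iff _ (IsFractionRing.injective R' L)).2 ht.ne_zero)).map _
    rw [Algebra.TensorProduct.includeRight_apply, h1] at h2
    exact not_isUnit_zero h2
  -- powers of `T` clear denominators
  have hclear : ∀ w : B ⊗[R] L, ∃ (n : ℕ) (w₀ : B ⊗[R] R'), j (T ^ n) * w = j w₀ := fun w => by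
    induction w using TensorProduct.induction_on with
    | zero => exact ⟨0, 0, by simp⟩
    | tmul b l =>
      obtain ⟨a, s, hs, rfl⟩ := IsFractionRing.div_surjective (A := R') l
      obtain ⟨n, v, rfl⟩ := IsDiscreteValuationRing.eq_unit_mul_pow_irreducible (nonZeroDivisors.ne_zero hs) ht
      refine ⟨n, iB b * iR (a * ↑v⁻¹), ?_⟩
      have hjT : j (T ^ n) = (1 : B) ⊗ₜ[R] algebraMap R' L (t ^ n) := by
        rw [← map_pow]; rfl
      have hjr : j (iB b * iR (a * ↑v⁻¹)) = b ⊗ₜ[R] algebraMap R' L (a * ↑v⁻¹) := by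
        show j ((b ⊗ₜ[R] (1 : R')) * ((1 : B) ⊗ₜ[R] (a * ↑v⁻¹))) = _
        rw [Algebra.TensorProduct.tmul_mul_tmul, mul_one, one_mul]
        rfl
      rw [hjT, hjr, Algebra.TensorProduct.tmul_mul_tmul, one_mul]
      congr 1
      have ht0 : algebraMap R' L (t ^ n) ≠ 0 :=
        (map_ne_zero_iff _ (IsFractionRing.injective R' L)).2 (pow_ne_zero _ ht.ne_zero)
      have hv : algebraMap R' L (↑v : R') * algebraMap R' L (↑v⁻¹ : R') = 1 := by
        rw [← map_mul, Units.mul_inv, map_one]
      have hv0 : algebraMap R' L (↑v : R') ≠ 0 := left_ne_zero_of_mul_eq_one hv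
      rw [map_mul, map_mul, mul_div_assoc', div_eq_iff (mul_ne_zero hv0 ht0)]
      linear_combination (-(algebraMap R' L a) * algebraMap R' L (t ^ n)) * hv
    | add a b ha hb =>
      obtain ⟨n₁, w₁, h₁⟩ := ha
      obtain ⟨n₂, w₂, h₂⟩ := hb
      refine ⟨n₁ + n₂, T ^ n₂ * w₁ + T ^ n₁ * w₂, ?_⟩
      simp only [pow_add, map_add, map_mul, ← h₁, ← h₂]
      ring
  -- the primes
  have hmem : ∀ P : Ideal (B ⊗[R] R'), P.IsPrime → P ≠ ⊥ → P = Ideal.span {T} := by
    intro P hP hP0
    have hTP : T ∈ P := by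
      obtain ⟨z, hz, hz0⟩ := Submodule.exists_mem_ne_zero_of_ne_bot hP0
      obtain ⟨n, w₀, hw⟩ := hclear (j z)⁻¹
      have h1 : z * w₀ = T ^ n := hj (by
        rw [map_mul, ← hw]
        rw [mul_left_comm, mul_inv_cancel₀ ((map_ne_zero_iff _ hj).2 hz0), mul_one])
      exact hP.mem_of_pow_mem n (h1 ▸ P.mul_mem_right _ hz)
    have hϖ : iB (algebraMap R B ϖ) ∈ Ideal.span {T} := by
      rw [hcomm]
      have h1 : algebraMap R R' ϖ ∈ IsLocalRing.maximalIdeal R' := fun h =>
        hirr.not_isUnit (isUnit_of_map_unit (algebraMap R R') ϖ h)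
      rw [ht.maximalIdeal_eq, Ideal.mem_span_singleton] at h1
      exact Ideal.mem_span_singleton.2 (map_dvd iR h1)
    refine le_antisymm (fun z hz => ?_) ((Ideal.span_singleton_le_iff_mem _).2 hTP)
    obtain ⟨b, w, rfl⟩ := hres z
    refine add_mem ?_ (Ideal.mem_span_singleton.2 (dvd_mul_right _ _))
    have hb : b ∈ IsLocalRing.maximalIdeal B := fun hu => by
      refine hP.ne_top (P.eq_top_of_isUnit_mem ?_ (hu.map iB))
      simpa using sub_mem hz (P.mul_mem_right w hTP)
    rw [hm, hirr.maximalIdeal_eq, Ideal.map_span, Set.image_singleton, Ideal.mem_span_singleton] at hb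
    obtain ⟨c, rfl⟩ := hb
    rw [map_mul]
    exact Ideal.mul_mem_right _ _ hϖ
  have hTne : Ideal.span {T} ≠ (⊤ : Ideal (B ⊗[R] R')) := fun h => hTu (Ideal.span_singleton_eq_top.1 h)
  haveI : IsPrincipalIdealRing (B ⊗[R] R') :=
    IsPrincipalIdealRing.of_prime_ne_bot fun P hP hP0 => (hmem P hP hP0) ▸ ⟨⟨T, rfl⟩⟩
  refine (IsDiscreteValuationRing.iff_pid_with_one_nonzero_prime _).2 ⟨inferInstance, ?_⟩
  obtain ⟨P, hP, hle⟩ := Ideal.exists_le_maximal _ hTne
  have hPT : P = Ideal.span {T} :=
    hmem P hP.isPrime fun h => hT0 (by simpa [h] using hle (Ideal.mem_span_singleton_self T))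
  exact ⟨Ideal.span {T}, ⟨by simpa using hT0, hPT ▸ hP.isPrime⟩, fun Q hQ => hmem Q hQ.2 hQ.1⟩

end Groth.Agent.H26.TensorDvr
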