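import Mathlib

/-!
# Tor of perfect rings

Elementwise: a resolution tensored with a perfect algebra stays exact.
-/

set_option autoImplicit false

universe u

open TensorProduct

namespace Groth.Agent.H26.TorPerfect

variable {A : Type u} [CommRing A] (F : ℕ → Type u) [∀ i, AddCommGroup (F i)] [∀ i, Module A (F i)]
  (d : ∀ i, F (i + 1) →ₗ[A] F i)

/-- The tensored complex is exact in positive degrees. -/
def TV (X : Type u) [AddCommGroup X] [Module A X] : Prop :=
  ∀ i, Function.Exact ((d (i + 1)).rTensor X) ((d i).rTensor X)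

variable {F d}

theorem comm {M N X Y : Type u} [AddCommGroup M] [Module A M] [AddCommGroup N] [Module A N]
    [AddCommGroup X] [Module A X] [AddCommGroup Y] [Module A Y] (a : M →ₗ[A] N) (b : X →ₗ[A] Y)
    (z : M ⊗[A] X) : b.lTensor N (a.rTensor X z) = a.rTensor Y (b.lTensor M z) := by
  rw [← LinearMap.comp_apply, LinearMap.lTensor_comp_rTensor, ← LinearMap.rTensor_comp_lTensor,
    LinearMap.comp_apply]

theorem dd (hd : ∀ i, Function.Exact (d (i + 1)) (d i)) (X : Type u) [AddCommGroup X] [Module A X] (i : ℕ)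
    (z : F (i + 2) ⊗[A] X) : (d i).rTensor X ((d (i + 1)).rTensor X z) = 0 := by
  rw [← LinearMap.comp_apply, ← LinearMap.rTensor_comp, (hd i).linearMap_comp_eq_zero]
  simp

variable [∀ i, Module.Flat A (F i)] (hd : ∀ i, Function.Exact (d (i + 1)) (d i))
  {B : Type u} [CommRing B] [Algebra A B] {ε : F 0 →ₗ[A] B} (hε : Function.Exact (d 0) ε)
  (hεs : Function.Surjective ε)

include hd in
theorem tv_of_flat (X : Type u) [AddCommGroup X] [Module A X] [Module.Flat A X] : TV F d X := fun i =>
  Module.Flat.rTensor_exact X (hd i)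

include hd hε hεs in
theorem tv_quotient {X' X X'' : Type u} [AddCommGroup X'] [Module A X'] [AddCommGroup X] [Module A X]
    [AddCommGroup X''] [Module A X''] (f : X' →ₗ[A] X) (g : X →ₗ[A] X'') (hf : Function.Injective f)
    (hfg : Function.Exact f g) (hg : Function.Surjective g) (h' : TV F d X') (h : TV F d X)
    (h0 : Function.Injective (f.lTensor B)) : TV F d X'' := by
  intro i z
  refine ⟨fun hz => ?_, fun ⟨v, hv⟩ => hv ▸ dd hd X'' i v⟩
  obtain ⟨z', rfl⟩ := LinearMap.lTensor_surjective (F (i + 1)) hg z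
  obtain ⟨w, hw⟩ := (lTensor_exact (F i) hfg hg ((d i).rTensor X z')).1 (by rw [comm]; exact hz)
  have hv : ∃ v, (d i).rTensor X' v = w := by
    cases i with
    | zero =>
      refine (rTensor_exact X' hε hεs w).1 (h0 ?_)
      rw [map_zero, comm, hw, ← LinearMap.comp_apply, ← LinearMap.rTensor_comp, hε.linearMap_comp_eq_zero]
      simp
    | succ j =>
      refine (h' j w).1 (Module.Flat.lTensor_preserves_injective_linearMap (M := F j) f hf ?_)
      rw [map_zero, comm, hw, dd hd X j z']
  obtain ⟨v, hv⟩ := hv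
  obtain ⟨y, hy⟩ := (h i (z' - f.lTensor _ v)).1 (by rw [map_sub, ← comm, hv, hw, sub_self])
  refine ⟨g.lTensor _ y, ?_⟩
  rw [← comm, hy, map_sub, ← LinearMap.comp_apply (g.lTensor _) (f.lTensor _), ← LinearMap.lTensor_comp,
    hfg.linearMap_comp_eq_zero]
  simp

variable (p : ℕ) [Fact p.Prime]

omit [∀ i, Module.Flat A (F i)] in
/-- Elements of a tensor product with the ideal of roots of `f` are multiples of some root. -/
theorem exists_root_multiple {Q : Type u} [CommRing Q] [Algebra A Q] (r : ℕ → Q) (hr : ∀ n, r (n + 1) ^ p = r n)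
    (X : Submodule A Q) (hX : ∀ x ∈ X, ∃ n c, x = r n * c) (μ : ℕ → Q →ₗ[A] X) (hμ : ∀ n q, (μ n q : Q) = r n * q)
    (M : Type u) [AddCommGroup M] [Module A M] (w : M ⊗[A] X) : ∃ n z, (μ n).lTensor M z = w := by
  have hup : ∀ {n m}, n ≤ m → ∃ e, r n = r m * e := fun {n m} h => by
    induction m, h using Nat.le_induction with
    | base => exact ⟨1, (mul_one _).symm⟩
    | succ m _ ih =>
      obtain ⟨e, he⟩ := ih
      exact ⟨r (m + 1) ^ (p - 1) * e, by rw [he, ← mul_assoc, ← pow_succ', Nat.sub_add_cancel (Fact.out : p.Prime).one_le, hr]⟩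
  induction w using TensorProduct.induction_on with
  | zero => exact ⟨0, 0, map_zero _⟩
  | tmul m x =>
    obtain ⟨n, c, hc⟩ := hX x x.2
    exact ⟨n, m ⊗ₜ c, congrArg (m ⊗ₜ[A] ·) (Subtype.ext ((hμ n c).trans hc.symm))⟩
  | add a b ha hb =>
    obtain ⟨n, z, rfl⟩ := ha
    obtain ⟨m, y, rfl⟩ := hb
    obtain ⟨e, he⟩ := hup (le_max_left n m)
    obtain ⟨e', he'⟩ := hup (le_max_right n m)
    refine ⟨max n m, (LinearMap.mulLeft A e).lTensor M z + (LinearMap.mulLeft A e').lTensor M y, ?_⟩
    rw [map_add, ← LinearMap.comp_apply, ← LinearMap.comp_apply ((μ _).lTensor M) ((LinearMap.mulLeft A e').lTensor M),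
      ← LinearMap.lTensor_comp, ← LinearMap.lTensor_comp]
    have e1 : μ (max n m) ∘ₗ LinearMap.mulLeft A e = μ n := LinearMap.ext fun q => Subtype.ext (by
      rw [LinearMap.comp_apply, hμ, hμ, LinearMap.mulLeft_apply, he, mul_assoc])
    have e2 : μ (max n m) ∘ₗ LinearMap.mulLeft A e' = μ m := LinearMap.ext fun q => Subtype.ext (by
      rw [LinearMap.comp_apply, hμ, hμ, LinearMap.mulLeft_apply, he', mul_assoc])
    rw [e1, e2]

theorem pow_bijective_tensor [CharP A p] (hA : Function.Bijective fun a : A => a ^ p)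
    {B C : Type u} [CommRing B] [CommRing C] [Algebra A B] [Algebra A C]
    (hB : Function.Bijective fun b : B => b ^ p) (hC : Function.Bijective fun c : C => c ^ p) :
    Function.Bijective fun z : B ⊗[A] C => z ^ p := by
  rcases subsingleton_or_nontrivial (B ⊗[A] C) with h | h
  · exact ⟨fun _ _ _ => Subsingleton.elim _ _, fun z => ⟨z, Subsingleton.elim _ _⟩⟩
  haveI : Nontrivial B := by
    by_contra hB'
    haveI := not_nontrivial_iff_subsingleton.1 hB'
    exact false_of_nontrivial_of_subsingleton (B ⊗[A] C)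
  haveI : Nontrivial C := by
    by_contra hC'
    haveI := not_nontrivial_iff_subsingleton.1 hC'
    exact false_of_nontrivial_of_subsingleton (B ⊗[A] C)
  haveI hp : CharP A p := inferInstance
  have hcast : ∀ (R : Type u) [CommRing R] [Algebra A R] [Nontrivial R], CharP R p := fun R _ _ _ => by
    have h0 : (p : R) = 0 := by rw [← map_natCast (algebraMap A R), CharP.cast_eq_zero, map_zero]
    obtain ⟨q, hq⟩ := CharP.exists R
    rcases (Nat.dvd_prime (Fact.out : p.Prime)).1 ((CharP.cast_eq_zero_iff R q p).1 h0) with rfl | rfl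
    · exact absurd rfl (CharP.char_ne_one R 1)
    · exact hq
  haveI := hcast B
  haveI := hcast C
  haveI := hcast (B ⊗[A] C)
  haveI : PerfectRing A p := ⟨hA⟩
  haveI : PerfectRing B p := ⟨hB⟩
  haveI : PerfectRing C p := ⟨hC⟩
  let φA := frobeniusEquiv A p
  let sB : B →+* B ⊗[A] C := Algebra.TensorProduct.includeLeftRingHom.comp (frobeniusEquiv B p).symm.toRingHom
  let sC : C →+* B ⊗[A] C :=
    (Algebra.TensorProduct.includeRight : C →ₐ[A] B ⊗[A] C).toRingHom.comp (frobeniusEquiv C p).symm.toRingHom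
  have hs : ∀ (R : Type u) [CommRing R] [Algebra A R] [CharP R p] [PerfectRing R p] (a : A),
      (frobeniusEquiv R p).symm (algebraMap A R a) = algebraMap A R (φA.symm a) := fun R _ _ _ _ a => by
    apply (frobeniusEquiv R p).injective
    rw [RingEquiv.apply_symm_apply, frobeniusEquiv_apply, frobenius_def, ← map_pow]
    exact congrArg _ (φA.apply_symm_apply a).symm
  -- the inverse of Frobenius, semilinear over `A`
  letI aT : Algebra A (B ⊗[A] C) := inferInstance
  let ψ : B ⊗[A] C →+ B ⊗[A] C := TensorProduct.liftAddHom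
    (AddMonoidHom.mk' (fun b => AddMonoidHom.mk' (fun c => sB b * sC c) fun c c' => by rw [map_add, mul_add])
      fun b b' => AddMonoidHom.ext fun c => by
        show sB (b + b') * sC c = sB b * sC c + sB b' * sC c
        rw [map_add, add_mul]) fun a b c => by
    show sB (a • b) * sC c = sB b * sC (a • c)
    rw [Algebra.smul_def, Algebra.smul_def, map_mul, map_mul]
    have e1 : sB (algebraMap A B a) = algebraMap A (B ⊗[A] C) (φA.symm a) := by
      show Algebra.TensorProduct.includeLeftRingHom ((frobeniusEquiv B p).symm (algebraMap A B a)) = _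
      rw [hs B a]
      exact (Algebra.TensorProduct.algebraMap_apply _).symm
    have e2 : sC (algebraMap A C a) = algebraMap A (B ⊗[A] C) (φA.symm a) := by
      show (Algebra.TensorProduct.includeRight : C →ₐ[A] B ⊗[A] C) ((frobeniusEquiv C p).symm (algebraMap A C a)) = _
      rw [hs C a, AlgHom.commutes]
    rw [e1, e2]; ring
  have h1 : ∀ z, ψ (z ^ p) = z := fun z => by
    induction z using TensorProduct.induction_on with
    | zero => rw [zero_pow (Fact.out : p.Prime).ne_zero, map_zero]
    | tmul b c =>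
      rw [Algebra.TensorProduct.tmul_pow]
      show sB (b ^ p) * sC (c ^ p) = _
      show Algebra.TensorProduct.includeLeftRingHom ((frobeniusEquiv B p).symm (frobeniusEquiv B p b)) *
        (Algebra.TensorProduct.includeRight : C →ₐ[A] B ⊗[A] C) ((frobeniusEquiv C p).symm (frobeniusEquiv C p c)) = _
      rw [RingEquiv.symm_apply_apply, RingEquiv.symm_apply_apply]
      simp
    | add x y hx hy => rw [add_pow_char, map_add, hx, hy]
  have h2 : ∀ z, ψ z ^ p = z := fun z => by
    induction z using TensorProduct.induction_on with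
    | zero => rw [map_zero, zero_pow (Fact.out : p.Prime).ne_zero]
    | tmul b c =>
      show (sB b * sC c) ^ p = _
      rw [mul_pow, ← map_pow, ← map_pow]
      show Algebra.TensorProduct.includeLeftRingHom ((frobeniusEquiv B p).symm (b ^ p)) *
        (Algebra.TensorProduct.includeRight : C →ₐ[A] B ⊗[A] C) ((frobeniusEquiv C p).symm (c ^ p)) = _
      show Algebra.TensorProduct.includeLeftRingHom ((frobeniusEquiv B p).symm (frobeniusEquiv B p b)) *
        (Algebra.TensorProduct.includeRight : C →ₐ[A] B ⊗[A] C) ((frobeniusEquiv C p).symm (frobeniusEquiv C p c)) = _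
      rw [RingEquiv.symm_apply_apply, RingEquiv.symm_apply_apply]
      simp
    | add x y hx hy => rw [map_add, add_pow_char, hx, hy]
  exact ⟨fun x y h => by rw [← h1 x, ← h1 y]; exact congrArg ψ h, fun z => ⟨ψ z, h2 z⟩⟩

theorem eq_zero_of_pow_eq_zero {R : Type u} [CommRing R] (hR : Function.Injective fun x : R => x ^ p) {x : R}
    (h : x ^ p = 0) : x = 0 :=
  hR (h.trans (zero_pow (Fact.out : p.Prime).ne_zero).symm)

include hd hε hεs in
/-- Killing all roots of one element. -/
theorem tv_step [CharP A p] (hA : Function.Bijective fun a : A => a ^ p) (hB : Function.Bijective fun b : B => b ^ p)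
    {Q Q' : Type u} [CommRing Q] [Algebra A Q] [CommRing Q'] [Algebra A Q'] (hQ : Function.Bijective fun q : Q => q ^ p)
    (π : Q →ₐ[A] Q') (hπ : Function.Surjective π) (f : Q) (hker : RingHom.ker π = (Ideal.span {f}).radical)
    (h : TV F d Q) : TV F d Q' := by
  have hp := (Fact.out : p.Prime)
  let r : ℕ → Q := fun n => ((Equiv.ofBijective _ hQ).symm)^[n] f
  have hr : ∀ n, r (n + 1) ^ p = r n := fun n => by
    simp only [r, Function.iterate_succ_apply']
    exact (Equiv.ofBijective _ hQ).apply_symm_apply _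
  have hrf : ∀ n, r n ^ p ^ n = f := fun n => by
    induction n with
    | zero => rw [pow_zero, pow_one]; rfl
    | succ n ih => rw [pow_succ', pow_mul, hr, ih]
  have hmem : ∀ x, x ∈ (Ideal.span {f}).radical ↔ ∃ n c, x = r n * c := fun x => by
    refine ⟨fun ⟨k, hk⟩ => ?_, fun ⟨n, c, hc⟩ => ⟨p ^ n, ?_⟩⟩
    · obtain ⟨c, hc⟩ := Ideal.mem_span_singleton.1 hk
      have hk' : x ^ p ^ k = f * (c * x ^ (p ^ k - k)) := by
        rw [← mul_assoc, ← hc, ← pow_add, Nat.add_sub_cancel' (Nat.lt_pow_self hp.one_lt).le]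
      have hs : Function.Surjective fun q : Q => q ^ p ^ k := by
        clear hk' hc hk
        induction k with
        | zero => exact fun q => ⟨q, by simp⟩
        | succ k ih =>
          intro q
          obtain ⟨a, rfl⟩ := ih q
          obtain ⟨b, rfl⟩ := hQ.2 a
          exact ⟨b, by simp only [pow_succ', pow_mul]⟩
      have hi : Function.Injective fun q : Q => q ^ p ^ k := by
        clear hk' hc hk hs
        induction k with
        | zero => exact fun a b h => by simpa using h
        | succ k ih => exact fun a b h => hQ.1 (ih (by simpa only [pow_succ', pow_mul] using h))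
      obtain ⟨c', hc'⟩ := hs (c * x ^ (p ^ k - k))
      exact ⟨k, c', hi (show x ^ p ^ k = (r k * c') ^ p ^ k by rw [mul_pow, hrf, hk']; exact congrArg (f * ·) hc'.symm)⟩
    · rw [hc, mul_pow, hrf]
      exact Ideal.mul_mem_right _ _ (Ideal.mem_span_singleton_self f)
  let X : Submodule A Q := LinearMap.ker π.toLinearMap
  have hXmem : ∀ x, x ∈ X ↔ ∃ n c, x = r n * c := fun x => by
    rw [← hmem x, ← hker]; rfl
  let μ : ℕ → Q →ₗ[A] X := fun n => (LinearMap.mulLeft A (r n)).codRestrict X fun q => (hXmem _).2 ⟨n, q, rfl⟩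
  have hμ : ∀ n q, (μ n q : Q) = r n * q := fun _ _ => rfl
  have hsucc : ∀ n, μ (n + 1) ∘ₗ LinearMap.mulLeft A (r (n + 1) ^ (p - 1)) = μ n := fun n =>
    LinearMap.ext fun q => Subtype.ext (by
      show r (n + 1) * (r (n + 1) ^ (p - 1) * q) = r n * q
      rw [← mul_assoc, ← pow_succ', Nat.sub_add_cancel hp.one_le, hr])
  have hX' : TV F d X := by
    intro i w
    refine ⟨fun hw => ?_, fun ⟨v, hv⟩ => hv ▸ dd hd X i v⟩
    obtain ⟨n, z, rfl⟩ := exists_root_multiple p r hr X (fun x hx => (hXmem x).1 hx) μ hμ _ w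
    set g := r (n + 1) ^ (p - 1)
    have h1 : (LinearMap.mulLeft A (r n)).lTensor (F i) ((d i).rTensor Q z) = 0 := by
      rw [show LinearMap.mulLeft A (r n) = X.subtype ∘ₗ μ n from rfl, LinearMap.lTensor_comp, LinearMap.comp_apply,
        comm (d i) (μ n), hw, map_zero]
    obtain ⟨y, hy⟩ := (Module.Flat.lTensor_exact (F i)
      (LinearMap.exact_subtype_ker_map (LinearMap.mulLeft A (r n))) _).1 h1
    have hann : ∀ q : LinearMap.ker (LinearMap.mulLeft A (r n)), g * (q : Q) = 0 := fun q => by
      have h2 : r n * (q : Q) = 0 := q.2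
      have h3 : r (n + 1) * (q : Q) = 0 := eq_zero_of_pow_eq_zero p hQ.1 (by
        rw [mul_pow, hr, ← Nat.sub_add_cancel hp.one_le, pow_succ', ← mul_assoc, h2, zero_mul])
      show r (n + 1) ^ (p - 1) * (q : Q) = 0
      rw [show p - 1 = (p - 2) + 1 by have := hp.two_le; omega, pow_succ, mul_assoc, h3, mul_zero]
    have h4 : (d i).rTensor Q ((LinearMap.mulLeft A g).lTensor _ z) = 0 := by
      rw [← comm, ← hy, ← LinearMap.comp_apply, ← LinearMap.lTensor_comp,
        show LinearMap.mulLeft A g ∘ₗ (LinearMap.ker (LinearMap.mulLeft A (r n))).subtype = 0 from LinearMap.ext hann]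
      simp
    obtain ⟨v, hv⟩ := (h i _).1 h4
    refine ⟨(μ (n + 1)).lTensor _ v, ?_⟩
    rw [← comm, hv, ← LinearMap.comp_apply, ← LinearMap.lTensor_comp, hsucc]
  have hBQ : Function.Injective fun z : B ⊗[A] Q => z ^ p := (pow_bijective_tensor p hA hB hQ).1
  refine tv_quotient hd hε hεs X.subtype π.toLinearMap Subtype.val_injective
    (LinearMap.exact_subtype_ker_map π.toLinearMap) hπ hX' h ?_
  refine (injective_iff_map_eq_zero _).2 fun w hw => ?_
  obtain ⟨n, z, rfl⟩ := exists_root_multiple p r hr X (fun x hx => (hXmem x).1 hx) μ hμ _ w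
  have hmul : ∀ (a : Q) (t : B ⊗[A] Q), (LinearMap.mulLeft A a).lTensor B t = (1 : B) ⊗ₜ a * t := fun a t => by
    induction t using TensorProduct.induction_on with
    | zero => simp
    | tmul b q => simp
    | add x y hx hy => rw [map_add, mul_add, hx, hy]
  rw [← LinearMap.comp_apply, ← LinearMap.lTensor_comp, show X.subtype ∘ₗ μ n = LinearMap.mulLeft A (r n) from rfl,
    hmul] at hw
  have he : ((1 : B) ⊗ₜ[A] r (n + 1) : B ⊗[A] Q) * z = 0 := eq_zero_of_pow_eq_zero p hBQ (by
    rw [mul_pow, Algebra.TensorProduct.tmul_pow, one_pow, hr, ← Nat.sub_add_cancel hp.one_le, pow_succ',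
      ← mul_assoc, hw, zero_mul])
  rw [← hsucc n, LinearMap.lTensor_comp, LinearMap.comp_apply, hmul,
    show p - 1 = (p - 2) + 1 by have := hp.two_le; omega,
    show ((1 : B) ⊗ₜ[A] (r (n + 1) ^ (p - 2 + 1)) : B ⊗[A] Q) = ((1 : B) ⊗ₜ[A] (r (n + 1) ^ (p - 2))) * ((1 : B) ⊗ₜ[A] r (n + 1)) by
      rw [Algebra.TensorProduct.tmul_mul_tmul, one_mul, pow_succ],
    mul_assoc, he, mul_zero, map_zero]

end Groth.Agent.H26.TorPerfect
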