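import Mathlib
import Groth.Agent.H26.TorPerfect
import Groth.Agent.PerfLib.Flat

/-!
# Tor of perfect rings vanishes: induction on generators
-/

set_option autoImplicit false

universe u

open TensorProduct

namespace Groth.Agent.H26.TorPerfect

variable {A : Type u} [CommRing A] {F : ℕ → Type u} [∀ i, AddCommGroup (F i)] [∀ i, Module A (F i)]
  {d : ∀ i, F (i + 1) →ₗ[A] F i} [∀ i, Module.Flat A (F i)] (hd : ∀ i, Function.Exact (d (i + 1)) (d i))
  {B : Type u} [CommRing B] [Algebra A B] {ε : F 0 →ₗ[A] B} (hε : Function.Exact (d 0) ε)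
  (hεs : Function.Surjective ε) (p : ℕ) [Fact p.Prime]

theorem pow_bijective_quotient_radical {P : Type u} [CommRing P] [CharP P p] (hP : Function.Bijective fun x : P => x ^ p)
    (J : Ideal P) : Function.Bijective fun x : P ⧸ J.radical => x ^ p := by
  refine ⟨fun a b h => ?_, fun a => ?_⟩
  · obtain ⟨a, rfl⟩ := Ideal.Quotient.mk_surjective a
    obtain ⟨b, rfl⟩ := Ideal.Quotient.mk_surjective b
    change Ideal.Quotient.mk _ a ^ p = Ideal.Quotient.mk _ b ^ p at h
    rw [← map_pow, ← map_pow, Ideal.Quotient.eq, ← sub_pow_char] at h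
    exact Ideal.Quotient.eq.2 (Ideal.radical_isRadical J ⟨p, h⟩)
  · obtain ⟨a, rfl⟩ := Ideal.Quotient.mk_surjective a
    obtain ⟨b, rfl⟩ := hP.2 a
    exact ⟨Ideal.Quotient.mk _ b, (map_pow _ _ _).symm⟩

theorem isReduced_of_perfect {R : Type u} [CommRing R] (hR : Function.Bijective fun x : R => x ^ p) :
    _root_.IsReduced R := ⟨fun x ⟨k, hk⟩ => by
  have hkey : ∀ j, x ^ p ^ j = 0 → x = 0 := fun j => by
    induction j with
    | zero => intro h; simpa using h
    | succ j ih => intro h; rw [pow_succ, pow_mul] at h; exact ih (eq_zero_of_pow_eq_zero p hR.1 h)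
  exact hkey k (pow_eq_zero_of_le (Nat.lt_pow_self (Fact.out : p.Prime).one_lt).le hk)⟩

theorem exists_finset {P : Type u} [CommRing P] [Algebra A P] (I : Ideal P) (M : Type u) [AddCommGroup M]
    [Module A M] (w : M ⊗[A] (I.restrictScalars A : Submodule A P)) :
    ∃ s : Finset P, (↑s : Set P) ⊆ I ∧ ∀ J : Ideal P, (↑s : Set P) ⊆ J →
      ∀ {Q : Type u} [AddCommGroup Q] [Module A Q] (g : P →ₗ[A] Q), (∀ x ∈ J, g x = 0) →
        (g ∘ₗ (I.restrictScalars A).subtype).lTensor M w = 0 := by
  classical
  induction w using TensorProduct.induction_on with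
  | zero => exact ⟨∅, by simp, fun _ _ _ _ _ _ _ => map_zero _⟩
  | tmul m x =>
    refine ⟨{x.1}, by simpa using x.2, fun J hJ Q _ _ g hg => ?_⟩
    rw [LinearMap.lTensor_tmul, LinearMap.comp_apply, Submodule.subtype_apply, hg _ (hJ (by simp)), tmul_zero]
  | add a b ha hb =>
    obtain ⟨s, hs, hs'⟩ := ha
    obtain ⟨t, ht, ht'⟩ := hb
    refine ⟨s ∪ t, by rw [Finset.coe_union]; exact Set.union_subset hs ht, fun J hJ Q _ _ g hg => ?_⟩
    rw [Finset.coe_union, Set.union_subset_iff] at hJ
    rw [map_add, hs' J hJ.1 g hg, ht' J hJ.2 g hg, add_zero]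

include hd hε hεs in
theorem tv_radical [CharP A p] (hA : Function.Bijective fun a : A => a ^ p)
    (hB : Function.Bijective fun b : B => b ^ p) {P : Type u} [CommRing P] [Algebra A P] [CharP P p]
    (hP : Function.Bijective fun x : P => x ^ p) [Module.Flat A P] (s : Finset P) :
    TV F d (P ⧸ (Ideal.span (↑s : Set P)).radical) := by
  classical
  induction s using Finset.induction with
  | empty =>
    have h0 : (Ideal.span (↑(∅ : Finset P) : Set P)).radical = ⊥ := by
      rw [Finset.coe_empty, Ideal.span_empty, eq_bot_iff]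
      rintro x ⟨k, hk⟩
      rw [Ideal.mem_bot] at hk ⊢
      haveI : _root_.IsReduced P := isReduced_of_perfect p hP
      exact IsReduced.eq_zero _ ⟨k, hk⟩
    haveI : Module.Flat A (P ⧸ (Ideal.span (↑(∅ : Finset P) : Set P)).radical) := Module.Flat.of_linearEquiv
      ((Ideal.quotientEquivAlgOfEq A h0).trans (AlgEquiv.quotientBot A P)).toLinearEquiv
    exact tv_of_flat hd _
  | insert f s _ ih =>
    set J := (Ideal.span (↑s : Set P)).radical
    set J' := (Ideal.span (↑(insert f s) : Set P)).radical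
    have hle : J ≤ J' := Ideal.radical_mono (Ideal.span_mono (by simp))
    refine tv_step hd hε hεs p hA hB (pow_bijective_quotient_radical p hP _) (Ideal.Quotient.factorₐ A hle)
      (Ideal.Quotient.factor_surjective hle) (Ideal.Quotient.mk J f) ?_ ih
    show RingHom.ker (Ideal.Quotient.factor hle) = _
    rw [Ideal.Quotient.factor_ker hle]
    have e : J' = (Ideal.span {f} ⊔ J).radical := by
      show (Ideal.span (↑(insert f s) : Set P)).radical = _
      rw [Finset.coe_insert, Ideal.span_insert]
      show _ = (Ideal.span {f} ⊔ (Ideal.span (↑s : Set P)).radical).radical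
      rw [Ideal.radical_sup (I := Ideal.span {f}) (J := Ideal.span (↑s : Set P)),
        Ideal.radical_sup (I := Ideal.span {f}) (J := (Ideal.span (↑s : Set P)).radical), Ideal.radical_idem]
    rw [e, Ideal.map_radical_of_surjective Ideal.Quotient.mk_surjective (by rw [Ideal.mk_ker]; exact le_sup_right),
      Ideal.map_sup, Ideal.map_quotient_self, sup_bot_eq, Ideal.map_span, Set.image_singleton]

include hd hε hεs in
theorem tv_perfect [CharP A p] (hA : Function.Bijective fun a : A => a ^ p)
    (hB : Function.Bijective fun b : B => b ^ p) (C : Type u) [CommRing C] [Algebra A C]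
    (hC : Function.Bijective fun c : C => c ^ p) : TV F d C := by
  classical
  rcases subsingleton_or_nontrivial C with h | h
  · intro i z
    haveI : Subsingleton (F (i + 1) ⊗[A] C) := ⟨fun x y => by
      have : ∀ w : F (i + 1) ⊗[A] C, w = 0 := fun w => by
        induction w using TensorProduct.induction_on with
        | zero => rfl
        | tmul a b => rw [Subsingleton.elim b 0, tmul_zero]
        | add x y hx hy => rw [hx, hy, add_zero]
      rw [this x, this y]⟩
    exact ⟨fun _ => ⟨0, Subsingleton.elim _ _⟩, fun ⟨v, hv⟩ => hv ▸ dd hd C i v⟩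
  haveI : CharP C p := by
    have h0 : (p : C) = 0 := by rw [← map_natCast (algebraMap A C), CharP.cast_eq_zero, map_zero]
    obtain ⟨q, hq⟩ := CharP.exists C
    rcases (Nat.dvd_prime (Fact.out : p.Prime)).1 ((CharP.cast_eq_zero_iff C q p).1 h0) with rfl | rfl
    · exact absurd rfl (CharP.char_ne_one C 1)
    · exact hq
  haveI : PerfectRing A p := ⟨hA⟩
  haveI : PerfectRing C p := ⟨hC⟩
  let R := MvPolynomial C A
  let P := PerfectClosure R p
  let φ : A →+* R := MvPolynomial.C
  let φ' : A →+* P := (PerfectClosure.of R p).comp φ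
  letI : Algebra A P := φ'.toAlgebra
  haveI : IsPerfectClosure (RingHom.id A) p := IsPRadical.of_id A p
  haveI : Module.Flat A P := PerfLib.flat_perfection p (i := RingHom.id A) (j := PerfectClosure.of R p) (φ := φ)
    (RingHom.flat_algebraMap_iff.2 (inferInstance : Module.Flat A R)) (φ' := φ') rfl
  let e : R →+* C := (MvPolynomial.aeval (fun c : C => c)).toRingHom
  let πr : P →+* C := PerfectRing.lift (PerfectClosure.of R p) e p
  have hπe : ∀ x, πr (PerfectClosure.of R p x) = e x := fun x =>
    RingHom.congr_fun (PerfectRing.lift_comp (PerfectClosure.of R p) e p) x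
  let π : P →ₐ[A] C := { πr with commutes' := fun a => (hπe _).trans (MvPolynomial.aeval_C _ a) }
  have hπ : Function.Surjective π := fun c =>
    ⟨PerfectClosure.of R p (MvPolynomial.X c), (hπe _).trans (MvPolynomial.aeval_X _ c)⟩
  let I : Ideal P := RingHom.ker π
  have hI : I.IsRadical := RingHom.ker_isRadical_iff_reduced_of_surjective hπ |>.2 (isReduced_of_perfect p hC)
  intro i z
  refine ⟨fun hz => ?_, fun ⟨v, hv⟩ => hv ▸ dd hd C i v⟩
  obtain ⟨z', rfl⟩ := LinearMap.lTensor_surjective (F (i + 1)) (g := π.toLinearMap) hπ z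
  obtain ⟨w, hw⟩ := (lTensor_exact (F i) (LinearMap.exact_subtype_ker_map π.toLinearMap) (g := π.toLinearMap) hπ
    ((d i).rTensor P z')).1 (by rw [comm]; exact hz)
  obtain ⟨s, hs, hs'⟩ := exists_finset (A := A) I (F i) w
  set J := (Ideal.span (↑s : Set P)).radical
  have hJI : J ≤ I := hI.radical_le_iff.2 (Ideal.span_le.2 hs)
  have hQ := tv_radical hd hε hεs p hA hB (P := P) (PerfectRing.bijective_frobenius (R := P) (p := p)) s
  let g : P →ₗ[A] P ⧸ J := (Ideal.Quotient.mkₐ A J).toLinearMap
  have h1 : (d i).rTensor (P ⧸ J) (g.lTensor _ z') = 0 := by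
    rw [← comm, ← hw, ← LinearMap.comp_apply, ← LinearMap.lTensor_comp]
    exact hs' J (fun x hx => Ideal.le_radical (Ideal.subset_span hx)) g fun x hx => Ideal.Quotient.eq_zero_iff_mem.2 hx
  obtain ⟨v, hv⟩ := (hQ i _).1 h1
  let q : (P ⧸ J) →ₐ[A] C := Ideal.Quotient.liftₐ J π fun x hx => hJI hx
  refine ⟨q.toLinearMap.lTensor _ v, ?_⟩
  rw [← comm, hv, ← LinearMap.comp_apply, ← LinearMap.lTensor_comp]
  rfl

end Groth.Agent.H26.TorPerfect
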