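import Groth.Agent.H26.TorsTrivGeom
import Groth.Agent.H26.VertDiv

/-!
# A torsion invertible module trivial on the closed fibre is trivial
-/

set_option autoImplicit false
set_option linter.style.haveILetI false
set_option linter.unusedSectionVars false
set_option backward.isDefEq.respectTransparency false
set_option backward.isDefEq.respectTransparency.types false
set_option maxHeartbeats 2000000

universe u

open CategoryTheory CategoryTheory.Limits AlgebraicGeometry TopologicalSpace Opposite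
open Groth.Agent.AModX
open Groth.Agent.PnCoh.Finite (mapLin)

noncomputable section

namespace Groth.Agent.H26.TorsTriv

variable {X : Scheme.{u}} {M : X.Modules}

/-- The tensor power of a section. -/
def tpow {U : X.Opens} (e : Γ(M, U)) : ∀ n, Γ(CohB1.tensorPow M n, U)
  | 0 => (show Γ(Coh.structureModule X, U) from (1 : Γ(X, U)))
  | n + 1 => InvX.tmul (tpow e n) e

theorem isFrame_tpow {U : X.Opens} {e : Γ(M, U)} (he : InvX.IsFrame e) : ∀ n, InvX.IsFrame (tpow e n)
  | 0 => InvX.isFrame_one U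
  | n + 1 => InvX.isFrame_tmul (isFrame_tpow he n) he

theorem res_tpow {U W : X.Opens} (h : W ≤ U) (e : Γ(M, U)) :
    ∀ n, AModX.res (CohB1.tensorPow M n) h (tpow e n) = tpow (AModX.res M h e) n
  | 0 => show resR h (1 : Γ(X, U)) = 1 from map_one _
  | n + 1 => (InvX.res_tmul h _ _).trans (congrArg (InvX.tmul · _) (res_tpow h e n))

theorem tpow_smul {U : X.Opens} (g : Γ(X, U)) (e : Γ(M, U)) : ∀ n, tpow (g • e) n = g ^ n • tpow e n
  | 0 => by rw [pow_zero, one_smul]; rfl
  | n + 1 => by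
    show InvX.tmul (tpow (g • e) n) (g • e) = g ^ (n + 1) • InvX.tmul (tpow e n) e
    rw [tpow_smul g e n, InvX.tmul_smul_left, InvX.tmul_smul_right, ← mul_smul, ← pow_succ]

theorem isUnit_of_isFrame {U : X.Opens} {t : Γ(X, U)}
    (ht : InvX.IsFrame (M := Coh.structureModule X) (U := U) (show Γ(Coh.structureModule X, U) from t)) :
    IsUnit t := by
  obtain ⟨r, hr⟩ := (ht U le_rfl).2 (show Γ(Coh.structureModule X, U) from (1 : Γ(X, U)))
  refine IsUnit.of_mul_eq_one_right r ?_
  have hr' : r * resR (le_refl U) t = 1 := hr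
  rwa [resR_self] at hr'

/-- Frames restricting to one on a closed subscheme. -/
theorem exists_nice_frame (hM : PicF.IsInvertible M) {Z : Scheme.{u}} (i : Z ⟶ X) [IsClosedImmersion i]
    (θ : (Scheme.Modules.pullback i).obj M ≅ Coh.structureModule Z) (z : Z) :
    ∃ (U : X.Opens) (e : Γ(M, U)), IsAffineOpen U ∧ i z ∈ U ∧ InvX.IsFrame e ∧
      (show Γ(Z, i ⁻¹ᵁ U) from θ.hom.app (i ⁻¹ᵁ U) (InvX.pullElt i e)) = 1 := by
  obtain ⟨U₀, hz₀, e₀, he₀⟩ := InvX.exists_frame hM (i z)
  obtain ⟨U₁, hU₁, hz₁, hle₁⟩ := exists_isAffineOpen_mem_and_subset (show i z ∈ U₀ from hz₀)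
  let e₁ := AModX.res M hle₁ e₀
  have he₁ : InvX.IsFrame e₁ := he₀.res _
  let c₀ : Γ(Z, i ⁻¹ᵁ U₁) := θ.hom.app (i ⁻¹ᵁ U₁) (InvX.pullElt i e₁)
  have hc₀ : IsUnit c₀ := isUnit_of_isFrame ((InvX.isFrame_pullElt i he₁).map_iso θ)
  obtain ⟨b₀, hb₀⟩ := hc₀.exists_left_inv
  obtain ⟨b, hb⟩ := i.app_surjective U₁ hU₁ b₀
  have hzb : i z ∈ X.basicOpen b := by
    rw [← mem_basicOpen_app_iff i, hb, Scheme.basicOpen_of_isUnit _ (IsUnit.of_mul_eq_one _ hb₀)]
    exact hz₁
  refine ⟨X.basicOpen b, resR (X.basicOpen_le b) b • AModX.res M (X.basicOpen_le b) e₁,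
    hU₁.basicOpen b, hzb, (he₁.res _).isUnit_smul (X.toRingedSpace.isUnit_res_basicOpen b), ?_⟩
  rw [← AModX.res_smul, ← InvX.res_pullElt, AModX.app_res, InvX.pullElt_smul, Scheme.Modules.Hom.app_smul, hb]
  show resR _ (b₀ * c₀) = 1
  rw [hb₀, map_one]

variable {R : Type u} [CommRing R] [IsDomain R] [IsDiscreteValuationRing R]
  [X.Over (Spec (CommRingCat.of R))] {ϖ : R}

/-- The twisting functions. -/
theorem exists_twist [IsProper (X ↘ Spec (CommRingCat.of R))]
    (hϖ : IsLocalRing.maximalIdeal R = Ideal.span {ϖ}) {h : ℕ} (hh : 0 < h)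
    (hchar : ∀ q : ℕ, q.Prime → CharP (IsLocalRing.ResidueField R) q → ¬ q ∣ h)
    {ι : Type u} [Finite ι] (U : ι → X.Opens) (hU : ∀ a, IsAffineOpen (U a))
    (hU₂ : ∀ a b, IsAffineOpen (U a ⊓ U b)) (hcov : ∀ x, Special R x → ∃ a, x ∈ U a)
    (u : ∀ a, Γ(X, U a)) (hu : ∀ a, IsUnit (u a)) (g : ∀ a b, Γ(X, U a ⊓ U b))
    (hg : ∀ a b, ∀ x ∈ U a ⊓ U b, Special R x → x ∉ X.basicOpen (g a b - 1))
    (hgu : ∀ a b, g a b ^ h * resR inf_le_left (u a) = resR (inf_le_right : U a ⊓ U b ≤ U b) (u b))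
    {k : ℕ} (hk : 1 ≤ k) :
    ∃ w : ∀ a, Γ(X, U a), (∀ a, ∀ x ∈ U a, Special R x → x ∈ X.basicOpen (w a)) ∧
      ∀ a b, Ideal.Quotient.mk (nbId R ϖ k (U a ⊓ U b)) (resR inf_le_left (w a)) =
        Ideal.Quotient.mk _ (g a b * resR inf_le_right (w b)) := by
  classical
  have hgn : ∀ a b, IsNilpotent (Ideal.Quotient.mk (nbId R ϖ k (U a ⊓ U b)) (g a b) - 1) := fun a b => by
    rw [← map_one (Ideal.Quotient.mk (nbId R ϖ k (U a ⊓ U b))), ← map_sub]
    exact isNilpotent_mk hϖ (hU₂ a b) (hg a b) k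
  obtain ⟨q, hq⟩ := CharP.exists (IsLocalRing.ResidueField R)
  rcases CharP.char_is_prime_or_zero (IsLocalRing.ResidueField R) q with hp | rfl
  · have hqm : (q : R) ∈ IsLocalRing.maximalIdeal R :=
      (IsLocalRing.residue_eq_zero_iff _).1 (by rw [map_natCast]; exact CharP.cast_eq_zero _ q)
    rw [hϖ, Ideal.mem_span_singleton] at hqm
    obtain ⟨c, hc⟩ := hqm
    have hqn : ∀ W : X.Opens, IsNilpotent ((q : Γ(X, W) ⧸ nbId R ϖ k W)) := fun W => by
      refine ⟨k, ?_⟩
      rw [← map_natCast (Ideal.Quotient.mk (nbId R ϖ k W)), ← map_pow, Ideal.Quotient.eq_zero_iff_mem,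
        ← map_natCast (FFun.φsec (A := R) W), ← map_pow, hc, mul_pow, map_mul, map_pow]
      exact Ideal.mul_mem_right _ _ (Ideal.mem_span_singleton_self _)
    choose N hN using fun ab : ι × ι => exists_pow_prime_pow_eq_one hp (hqn _) (hgn ab.1 ab.2)
    haveI := Fintype.ofFinite ι
    let N₀ := Finset.univ.sup N + 1
    have hcop : Nat.Coprime h (q ^ N₀) := ((hp.coprime_iff_not_dvd.2 (hchar q hp hq)).symm.pow_right _)
    obtain ⟨β, -, hβ⟩ := Nat.exists_mul_mod_eq_one_of_coprime hcop (Nat.one_lt_pow (by omega) hp.one_lt)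
    choose v hv using fun a => ((hu a).pow β).exists_right_inv
    refine ⟨v, fun a x hx _ => ?_, fun a b => ?_⟩
    · rw [Scheme.basicOpen_of_isUnit _ (IsUnit.of_mul_eq_one_right _ (hv a))]
      exact hx
    let π := Ideal.Quotient.mk (nbId R ϖ k (U a ⊓ U b))
    have h1 : π (g a b) ^ q ^ N₀ = 1 :=
      hN (a, b) N₀ ((Finset.le_sup (f := N) (Finset.mem_univ (a, b))).trans (Nat.le_succ _))
    have h2 : π (g a b) ^ (h * β) = π (g a b) := by
      rw [← Nat.div_add_mod (h * β) (q ^ N₀), hβ, pow_add, pow_mul, h1, one_pow, one_mul, pow_one]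
    have h3 : π (resR inf_le_right (u b)) ^ β = π (g a b) * π (resR inf_le_left (u a)) ^ β := by
      rw [← hgu, map_mul, map_pow, mul_pow, ← pow_mul, h2]
    have va : π (resR inf_le_left (u a)) ^ β * π (resR inf_le_left (v a)) = 1 := by
      rw [← map_pow, ← map_pow, ← map_mul, ← map_mul, hv, map_one, map_one]
    have vb : π (resR inf_le_right (u b)) ^ β * π (resR inf_le_right (v b)) = 1 := by
      rw [← map_pow, ← map_pow, ← map_mul, ← map_mul, hv, map_one, map_one]
    rw [map_mul]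
    calc π (resR inf_le_left (v a)) = π (resR inf_le_left (v a)) *
          (π (resR inf_le_right (u b)) ^ β * π (resR inf_le_right (v b))) := by rw [vb, mul_one]
      _ = π (g a b) * π (resR inf_le_right (v b)) *
          (π (resR inf_le_left (u a)) ^ β * π (resR inf_le_left (v a))) := by rw [h3]; ring
      _ = _ := by rw [va, mul_one]
  · haveI := hq
    haveI : CharZero (IsLocalRing.ResidueField R) := CharP.charP_to_charZero _
    have hhR : IsUnit (h : R) := (IsLocalRing.residue_ne_zero_iff_isUnit _).1 (by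
      rw [map_natCast]; exact_mod_cast hh.ne')
    have hhQ : ∀ W : X.Opens, IsUnit ((h : Γ(X, W) ⧸ nbId R ϖ k W)) := fun W => by
      simpa using hhR.map ((Ideal.Quotient.mk (nbId R ϖ k W)).comp (FFun.φsec (A := R) W))
    have hus : ∀ a b, ∀ x ∈ U a ⊓ U b, Special R x →
        x ∉ X.basicOpen (resR (inf_le_left : U a ⊓ U b ≤ U a) (u a) - resR inf_le_right (u b)) := by
      intro a b x hx hs hmem
      obtain ⟨c, hc⟩ := sub_dvd_pow_sub_pow (g a b) 1 h
      rw [one_pow] at hc
      rw [← hgu, show resR inf_le_left (u a) - g a b ^ h * resR inf_le_left (u a) =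
        (g a b - 1) * (-(c * resR inf_le_left (u a))) by linear_combination (-(resR inf_le_left (u a))) * hc,
        Scheme.basicOpen_mul] at hmem
      exact hg a b x hx hs hmem.1
    obtain ⟨F, hF⟩ := exists_poly hϖ U hcov u hus
    let π := fun a => Ideal.Quotient.mk (nbId R ϖ k (U a))
    let Fq := fun W : X.Opens => F.map ((Ideal.Quotient.mk (nbId R ϖ k W)).comp (FFun.φsec (A := R) W))
    have e1 : ∀ a, (Fq (U a)).eval (π a (u a)) = π a ((F.map (FFun.φsec (A := R) (U a))).eval (u a)) :=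
      fun a => by
        show (F.map ((π a).comp _)).eval _ = _
        rw [← Polynomial.map_map, Polynomial.eval_map, Polynomial.eval₂_hom]
    have e2 : ∀ a, (Fq (U a)).derivative.eval (π a (u a)) =
        π a ((F.map (FFun.φsec (A := R) (U a))).derivative.eval (u a)) := fun a => by
      show (F.map ((π a).comp _)).derivative.eval _ = _
      rw [← Polynomial.map_map, Polynomial.derivative_map, Polynomial.eval_map, Polynomial.eval₂_hom]
    have hd : ∀ a, ∃ r v, IsNilpotent (π a (u a) - r) ∧ (Fq (U a)).eval r = 0 ∧ IsNilpotent (1 - v) ∧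
        r * v ^ h = π a (u a) := fun a => exists_root_data (hhQ _) ((hu a).map _)
      (by rw [e1]; exact isNilpotent_mk hϖ (hU a) (fun x hx hs => (hF a x hx hs).1) k)
      (by rw [e2]; exact isUnit_mk hϖ (hU a) (fun x hx hs => (hF a x hx hs).2) k)
    choose r v hr hr0 hv hrv using hd
    have hvu : ∀ a, IsUnit (v a) := fun a => isUnit_of_isNilpotent_sub isUnit_one (hv a)
    choose vi hvi using fun a => (hvu a).exists_right_inv
    choose w hw using fun a => Ideal.Quotient.mk_surjective (vi a)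
    refine ⟨w, fun a x hx hs => mem_basicOpen_of_isUnit_mk hϖ hk
      (by rw [hw]; exact IsUnit.of_mul_eq_one_right _ (hvi a)) hx hs, fun a b => ?_⟩
    let la := qres R ϖ (inf_le_left : U a ⊓ U b ≤ U a) k
    let lb := qres R ϖ (inf_le_right : U a ⊓ U b ≤ U b) k
    have hFl : ∀ {W W' : X.Opens} (hW : W' ≤ W), (Fq W).map (qres R ϖ hW k) = Fq W' := fun hW => by
      show (F.map _).map _ = F.map _
      rw [Polynomial.map_map]
      congr 1
      exact RingHom.ext fun c => by
        simp only [RingHom.comp_apply, qres_mk, resR_φsec]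
    have he : ∀ {W W' : X.Opens} (hW : W' ≤ W) {z : Γ(X, W) ⧸ nbId R ϖ k W}, (Fq W).eval z = 0 →
        (Fq W').eval (qres R ϖ hW k z) = 0 := fun hW z hz => by
      rw [← hFl hW, Polynomial.eval_map, Polynomial.eval₂_hom, hz, map_zero]
    have key : Ideal.Quotient.mk (nbId R ϖ k (U a ⊓ U b)) (g a b) * la (v a) = lb (v b) := by
      refine root_data_unique (hhQ _) (F := Fq (U a ⊓ U b)) (ua := la (π a (u a))) (ub := lb (π b (u b)))
        (ra := la (r a)) (rb := lb (r b)) (((hu a).map _).map _) ?_ ?_ ?_ ?_ (he _ (hr0 a)) ?_ ?_ ?_ (he _ (hr0 b)) ?_ ?_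
      · simpa using isNilpotent_neg_iff.2 (hgn a b)
      · show Ideal.Quotient.mk _ (resR _ (u b)) = _ * Ideal.Quotient.mk _ (resR _ (u a))
        rw [← map_pow, ← map_mul, hgu]
      · rw [← hFl (inf_le_left : U a ⊓ U b ≤ U a), Polynomial.derivative_map, Polynomial.eval_map,
          Polynomial.eval₂_hom, e2]
        exact (isUnit_mk hϖ (hU a) (fun x hx hs => (hF a x hx hs).2) k).map _
      · rw [← map_sub]; exact (hr a).map _
      · rw [← map_one la, ← map_sub]; exact (hv a).map _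
      · rw [← map_pow, ← map_mul, hrv]
      · rw [← map_sub]; exact (hr b).map _
      · rw [← map_one lb, ← map_sub]; exact (hv b).map _
      · rw [← map_pow, ← map_mul, hrv]
    rw [map_mul]
    show la (π a (w a)) = _ * lb (π b (w b))
    have ha : la (v a) * la (π a (w a)) = 1 := by rw [← map_mul, show π a (w a) = _ from hw a, hvi, map_one]
    have hb : lb (v b) * lb (π b (w b)) = 1 := by rw [← map_mul, show π b (w b) = _ from hw b, hvi, map_one]
    calc la (π a (w a)) = la (π a (w a)) * (lb (v b) * lb (π b (w b))) := by rw [hb, mul_one]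
      _ = Ideal.Quotient.mk _ (g a b) * lb (π b (w b)) * (la (v a) * la (π a (w a))) := by rw [← key]; ring
      _ = _ := by rw [ha, mul_one]

theorem iso_of_torsion_over [IsProper (X ↘ Spec (CommRingCat.of R))] {h : ℕ} (hh : 0 < h)
    (hchar : ∀ q : ℕ, q.Prime → CharP (IsLocalRing.ResidueField R) q → ¬ q ∣ h)
    (hM : PicF.IsInvertible M) (φ : CohB1.tensorPow M h ≅ Coh.structureModule X) {Z : Scheme.{u}}
    (i : Z ⟶ X) [IsClosedImmersion i] (hi : ∀ x, Special R x → ∃ z, i z = x)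
    (θ : (Scheme.Modules.pullback i).obj M ≅ Coh.structureModule Z) :
    Nonempty (M ≅ Coh.structureModule X) := by
  classical
  obtain ⟨ϖ, hϖ'⟩ := IsDiscreteValuationRing.exists_irreducible R
  have hϖ := hϖ'.maximalIdeal_eq
  let p := X ↘ Spec (CommRingCat.of R)
  haveI : CompactSpace X := QuasiCompact.compactSpace_of_compactSpace p
  haveI : IsLocallyNoetherian X := LocallyOfFiniteType.isLocallyNoetherian p
  haveI : IsNoetherian X := { __ := ‹IsLocallyNoetherian X›, __ := ‹CompactSpace X› }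
  haveI : X.IsSeparated := ⟨by rw [← terminal.comp_from p]; infer_instance⟩
  choose Uz ez hUz hzU hez h1 using exists_nice_frame hM i θ
  have htop : (⨆ z, Uz z) = ⊤ := eq_top_of_special fun x hx => by
    obtain ⟨z, rfl⟩ := hi x hx
    exact Opens.mem_iSup.2 ⟨z, hzU z⟩
  obtain ⟨t, ht⟩ := isCompact_univ.elim_finite_subcover (fun z => (Uz z : Set X)) (fun z => (Uz z).2)
    (fun x _ => by
      have : x ∈ ⨆ z, Uz z := htop ▸ trivial
      exact Set.mem_iUnion.2 (Opens.mem_iSup.1 this))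
  let ι := {z // z ∈ t}
  let U : ι → X.Opens := fun a => Uz a.1
  let e : ∀ a : ι, Γ(M, U a) := fun a => ez a.1
  have hcov : ∀ x : X, ∃ a, x ∈ U a := fun x => by
    obtain ⟨z, hzt, hz⟩ := Set.mem_iUnion₂.1 (ht (Set.mem_univ x))
    exact ⟨⟨z, hzt⟩, hz⟩
  choose g hg using fun a b : ι => (hez a.1).exists_coord (inf_le_left : U a ⊓ U b ≤ U a)
    (AModX.res M (inf_le_right : U a ⊓ U b ≤ U b) (e b))
  have hgs : ∀ a b, ∀ x ∈ U a ⊓ U b, Special R x → x ∉ X.basicOpen (g a b - 1) := by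
    intro a b x hx hs hmem
    obtain ⟨z, rfl⟩ := hi x hs
    have key : i.app (U a ⊓ U b) (g a b - 1) = 0 := by
      let P := (Scheme.Modules.pullback i).obj M
      have hgb := congrArg (fun s => θ.hom.app (i ⁻¹ᵁ (U a ⊓ U b)) (InvX.pullElt i s)) (hg a b)
      dsimp only at hgb
      rw [InvX.pullElt_smul, Scheme.Modules.Hom.app_smul, ← InvX.res_pullElt, ← InvX.res_pullElt,
        AModX.app_res, AModX.app_res] at hgb
      have e1 : ∀ (W : X.Opens) (c : ι) (hW : W ≤ U c),
          (show Γ(Z, i ⁻¹ᵁ W) from AModX.res (Coh.structureModule Z) (i.preimage_mono hW)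
            (θ.hom.app (i ⁻¹ᵁ U c) (InvX.pullElt i (e c)))) = 1 := fun W c hW =>
        (congrArg (resR (i.preimage_mono hW)) (h1 c.1)).trans (map_one _)
      have hgb' : (1 : Γ(Z, i ⁻¹ᵁ (U a ⊓ U b))) = i.app _ (g a b) * 1 :=
        (e1 _ b inf_le_right).symm.trans (hgb.trans (congrArg (i.app _ (g a b) * ·) (e1 _ a inf_le_left)))
      rw [map_sub, map_one, sub_eq_zero]
      rw [mul_one] at hgb'
      exact hgb'.symm
    rw [← mem_basicOpen_app_iff i, key, Scheme.basicOpen_zero] at hmem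
    exact hmem
  let u : ∀ a, Γ(X, U a) := fun a => φ.hom.app (U a) (tpow (e a) h)
  have hu : ∀ a, IsUnit (u a) := fun a => isUnit_of_isFrame ((isFrame_tpow (hez a.1) h).map_iso φ)
  have hgu : ∀ a b, g a b ^ h * resR inf_le_left (u a) = resR (inf_le_right : U a ⊓ U b ≤ U b) (u b) := by
    intro a b
    have hb : AModX.res (Coh.structureModule X) (inf_le_right : U a ⊓ U b ≤ U b) (φ.hom.app (U b) (tpow (e b) h)) =
        g a b ^ h • AModX.res (Coh.structureModule X) (inf_le_left : U a ⊓ U b ≤ U a) (φ.hom.app (U a) (tpow (e a) h)) := by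
      rw [← AModX.app_res, ← AModX.app_res, res_tpow, res_tpow, hg, tpow_smul, Scheme.Modules.Hom.app_smul]
    exact hb.symm
  have hMc : Coh.IsCoh M := CurveDeg.isCoh_of_isInvertible hM
  have hG := FFun.good_of_finite (X := X) (Z := Set.univ)
    (fun N hN q => S0002.result R X N hN.1 q) (Ideal.span {ϖ})
  obtain ⟨k, hk, hky⟩ := (hG M (FFun.inCls_univ hMc) 0).2 1
  obtain ⟨w, hw, hwg⟩ := exists_twist hϖ hh hchar U (fun a => hUz a.1) (fun a b => (hUz a.1).inf (hUz b.1))
    (fun x _ => hcov x) u hu g hgs hgu hk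
  let J : Ideal R := Ideal.span {ϖ}
  let π := FFun.modJπ (J ^ k) M
  let m : ∀ a, Γ(FFun.modJ (J ^ k) M, U a) := fun a => π.app (U a) (w a • e a)
  have hm : ∀ a b, AModX.res _ inf_le_left (m a) = AModX.res _ (inf_le_right : U a ⊓ U b ≤ U b) (m b) := by
    intro a b
    rw [← sub_eq_zero, ← AModX.app_res, ← AModX.app_res, ← map_sub]
    refine FFun.π_app_eq_zero M (J ^ k) _ ?_
    rw [AModX.res_smul, AModX.res_smul, hg, ← mul_smul, ← sub_smul]
    refine Submodule.smul_mem_smul ?_ Submodule.mem_top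
    rw [Ideal.map_pow, Ideal.map_span, Set.image_singleton, Ideal.span_singleton_pow,
      mul_comm, ← Ideal.Quotient.eq]
    exact hwg a b
  obtain ⟨y, hy, -⟩ := AModX.existsUnique_glue (V := ⊤) U (fun a => le_top) (fun x _ => hcov x) m hm
  obtain ⟨z, hz⟩ := hky ((Sheaf.H.equiv₀ (Coh.toAb (FFun.modJ (J ^ k) M)) isTerminalTop).symm y)
  let s : Γ(M, ⊤) := Sheaf.H.equiv₀ (Coh.toAb M) isTerminalTop z
  have hs : (FFun.modJπ (J ^ 1) M).app ⊤ s = (FFun.trJ (Ideal.pow_le_pow_right hk) M).app ⊤ y :=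
    (Sheaf.H.equiv₀_naturality isTerminalTop ((QCoh.toAbFunctor X).map (FFun.modJπ (J ^ 1) M)) z).trans
      ((congrArg (Sheaf.H.equiv₀ (Coh.toAb (FFun.modJ (J ^ 1) M)) isTerminalTop) hz).trans
        ((Sheaf.H.equiv₀_naturality isTerminalTop ((QCoh.toAbFunctor X).map
          (FFun.trJ (Ideal.pow_le_pow_right hk) M)) _).symm.trans
          (congrArg _ ((Sheaf.H.equiv₀ (Coh.toAb (FFun.modJ (J ^ k) M)) isTerminalTop).apply_symm_apply y))))
  have hloc : H23.TrivBasic.locus s = ⊤ := eq_top_of_special (R := R) fun x hx => by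
    obtain ⟨a, ha⟩ := hcov x
    have h0 : (FFun.modJπ (J ^ 1) M).app (U a) (AModX.res M (le_top : U a ≤ ⊤) s - w a • e a) = 0 := by
      rw [map_sub, sub_eq_zero, AModX.app_res, hs, ← AModX.app_res, hy a]
      exact congr(($(FFun.π_descJ (A := R) (J := J ^ k) (FFun.modJπ (J ^ 1) M)
        ((Ideal.pow_le_pow_right hk).trans (FFun.le_killIdeal_modJ _ M)))).app (U a) (w a • e a))
    have h1' := FFun.mem_of_π_app_eq_zero hMc.1 _ (hUz a.1) h0
    rw [pow_one, Ideal.map_span, Set.image_singleton, Submodule.ideal_span_singleton_smul] at h1'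
    obtain ⟨t', -, ht'⟩ := (Submodule.mem_smul_pointwise_iff_exists _ _ _).1 h1'
    obtain ⟨d, hd⟩ := (hez a.1).exists_coord le_rfl t'
    rw [AModX.res_self] at hd
    have hsc : AModX.res M (le_top : U a ≤ ⊤) s = (w a + FFun.φsec (A := R) (U a) ϖ * d) • e a := by
      rw [add_smul, mul_smul, ← hd, ht', add_sub_cancel]
    have hmem : x ∈ X.basicOpen (w a + FFun.φsec (A := R) (U a) ϖ * d) :=
      mem_basicOpen_of_isUnit_mk hϖ le_rfl (by
        have hz0 : Ideal.Quotient.mk (nbId R ϖ 1 (U a)) (FFun.φsec (A := R) (U a) ϖ * d) = 0 :=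
          Ideal.Quotient.eq_zero_iff_mem.2 (Ideal.mem_span_singleton.2 ⟨d, by rw [pow_one]⟩)
        rw [map_add, hz0, add_zero]
        exact isUnit_mk hϖ (hUz a.1) (hw a) 1) ha hx
    exact (H23.TrivBasic.locus_eq_basicOpen (hez a.1) hsc).ge hmem |>.1
  have hf := H23.TrivBasic.locus_eq_top_iff.1 hloc
  exact VertDiv.nonempty_iso_of_frame_top hf

/-- A torsion invertible module trivial on a closed subscheme containing the closed fibre is trivial. -/
theorem iso_of_torsion {X : Scheme.{u}} (p : X ⟶ Spec (CommRingCat.of R)) [IsProper p] {h : ℕ} (hh : 0 < h)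
    (hchar : ∀ q : ℕ, q.Prime → CharP (IsLocalRing.ResidueField R) q → ¬ q ∣ h)
    {M : X.Modules} (hM : PicF.IsInvertible M) (htors : Nonempty (CohB1.tensorPow M h ≅ Coh.structureModule X))
    {Z : Scheme.{u}} (i : Z ⟶ X) [IsClosedImmersion i]
    (hi : ∀ x, p x = IsLocalRing.closedPoint R → ∃ z, i z = x)
    (htriv : Nonempty ((Scheme.Modules.pullback i).obj M ≅ Coh.structureModule Z)) :
    Nonempty (M ≅ Coh.structureModule X) := by
  letI : X.Over (Spec (CommRingCat.of R)) := ⟨p⟩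
  haveI : IsProper (X ↘ Spec (CommRingCat.of R)) := ‹IsProper p›
  exact iso_of_torsion_over hh hchar hM htors.some i hi htriv.some

end Groth.Agent.H26.TorsTriv
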