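import Mathlib

/-!
# Roots of unity near one: algebra for torsion invertible modules
-/

set_option autoImplicit false

universe u v

open Polynomial

namespace Groth.Agent.H26.TorsTriv

variable {Q : Type u} [CommRing Q]

theorem exists_pow_prime_pow_eq_one {q : ℕ} (hq : q.Prime) (hqn : IsNilpotent (q : Q)) {g : Q}
    (hg : IsNilpotent (g - 1)) : ∃ N : ℕ, ∀ M, N ≤ M → g ^ q ^ M = 1 := by
  obtain ⟨s, hs⟩ := hg
  obtain ⟨t, ht⟩ := hqn
  refine ⟨s + t, fun M hM => ?_⟩
  obtain ⟨d, rfl⟩ := Nat.exists_eq_add_of_le hM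
  obtain ⟨c, hc⟩ : ∃ c, ((g - 1) + 1) ^ q ^ s =
      (g - 1) ^ q ^ s + 1 ^ q ^ s + (q : Q) * c := by
    obtain ⟨c, hc⟩ := exists_add_pow_prime_pow_eq hq (g - 1) 1 s
    exact ⟨(g - 1) * 1 * c, hc.trans (by ring)⟩
  rw [sub_add_cancel, pow_eq_zero_of_le (Nat.lt_pow_self hq.one_lt).le hs, one_pow, zero_add] at hc
  have h1 : (q : Q) ∣ g ^ q ^ s - 1 := ⟨c, by rw [hc, add_sub_cancel_left]⟩
  obtain ⟨c', hc'⟩ := dvd_sub_pow_of_dvd_sub h1 (t + d)
  rw [one_pow, pow_eq_zero_of_le (by omega : t ≤ t + d + 1) ht, zero_mul, sub_eq_zero,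
    ← pow_mul, ← pow_add] at hc'
  rw [show s + t + d = s + (t + d) by omega]
  exact hc'

theorem isUnit_of_isNilpotent_sub {a b : Q} (ha : IsUnit a) (h : IsNilpotent (a - b)) : IsUnit b := by
  have := IsNilpotent.isUnit_add_left_of_commute (isNilpotent_neg_iff.2 h) ha (Commute.all _ _)
  simpa using this

theorem isNilpotent_eval_of_root {x r : Q} {F : Q[X]} (hx : IsNilpotent (x - r)) (hr : F.eval r = 0) :
    IsNilpotent (F.eval x) := by
  obtain ⟨c, hc⟩ := sub_dvd_eval_sub x r F
  rw [hr, sub_zero] at hc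
  rw [hc]
  exact (Commute.all _ _).isNilpotent_mul_right hx

theorem root_unique {x r r' : Q} {F : Q[X]} (h' : IsUnit (F.derivative.eval x))
    (hr : IsNilpotent (x - r)) (hr0 : F.eval r = 0) (hr' : IsNilpotent (x - r')) (hr0' : F.eval r' = 0) :
    r = r' := by
  refine (Polynomial.existsUnique_nilpotent_sub_and_aeval_eq_zero (P := F) (x := x) ?_ ?_).unique
    ⟨hr, ?_⟩ ⟨hr', ?_⟩
  · rw [coe_aeval_eq_eval]; exact isNilpotent_eval_of_root hr hr0
  · rw [coe_aeval_eq_eval]; exact h'
  all_goals rw [coe_aeval_eq_eval]; assumption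

theorem derivative_eval_isUnit {x y : Q} {F : Q[X]} (h' : IsUnit (F.derivative.eval x))
    (h : IsNilpotent (x - y)) : IsUnit (F.derivative.eval y) := by
  obtain ⟨c, hc⟩ := sub_dvd_eval_sub x y F.derivative
  refine isUnit_of_isNilpotent_sub h' ?_
  rw [hc]
  exact (Commute.all _ _).isNilpotent_mul_right h

/-- Splitting a unit near a simple root as the root times a power of an element near one. -/
theorem exists_root_data {h : ℕ} (hh : IsUnit (h : Q)) {F : Q[X]} {u : Q} (hu : IsUnit u)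
    (hF : IsNilpotent (F.eval u)) (hF' : IsUnit (F.derivative.eval u)) :
    ∃ r v : Q, IsNilpotent (u - r) ∧ F.eval r = 0 ∧ IsNilpotent (1 - v) ∧ r * v ^ h = u := by
  obtain ⟨r, ⟨hr, hr0⟩, -⟩ := Polynomial.existsUnique_nilpotent_sub_and_aeval_eq_zero
    (P := F) (x := u) (by rwa [coe_aeval_eq_eval]) (by rwa [coe_aeval_eq_eval])
  rw [coe_aeval_eq_eval] at hr0
  have hru : IsUnit r := isUnit_of_isNilpotent_sub hu hr
  let P : Q[X] := C r * X ^ h - C u
  have hP : IsNilpotent (P.eval 1) := by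
    simpa [P] using isNilpotent_neg_iff.2 hr
  have hP' : IsUnit (P.derivative.eval 1) := by
    simpa [P, derivative_X_pow] using ⟨hru, hh⟩
  obtain ⟨v, ⟨hv, hv0⟩, -⟩ := Polynomial.existsUnique_nilpotent_sub_and_aeval_eq_zero
    (P := P) (x := (1 : Q)) (by rwa [coe_aeval_eq_eval]) (by rwa [coe_aeval_eq_eval])
  rw [coe_aeval_eq_eval] at hv0
  refine ⟨r, v, hr, hr0, hv, sub_eq_zero.1 ?_⟩
  simpa [P] using hv0

/-- The root data transform along a factor near one. -/
theorem root_data_unique {h : ℕ} (hh : IsUnit (h : Q)) {F : Q[X]} {ua ub g : Q} (hu : IsUnit ua)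
    (hg : IsNilpotent (1 - g)) (hub : ub = g ^ h * ua) (hF' : IsUnit (F.derivative.eval ua))
    {ra va rb vb : Q} (hra : IsNilpotent (ua - ra)) (hra0 : F.eval ra = 0) (hva : IsNilpotent (1 - va))
    (hea : ra * va ^ h = ua) (hrb : IsNilpotent (ub - rb)) (hrb0 : F.eval rb = 0)
    (hvb : IsNilpotent (1 - vb)) (heb : rb * vb ^ h = ub) : g * va = vb := by
  have hgh : IsNilpotent (ua - ub) := by
    obtain ⟨c, hc⟩ := sub_dvd_pow_sub_pow 1 g h
    rw [one_pow] at hc
    rw [show ua - ub = (1 - g ^ h) * ua by rw [hub]; ring, hc]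
    exact (Commute.all _ _).isNilpotent_mul_right ((Commute.all _ _).isNilpotent_mul_right hg)
  have hr : ra = rb := root_unique hF' hra hra0
    (by simpa using (Commute.all _ _).isNilpotent_add hgh hrb) hrb0
  let P : Q[X] := C rb * X ^ h - C ub
  have hru : IsUnit rb := hr ▸ isUnit_of_isNilpotent_sub hu hra
  have hP' : IsUnit (P.derivative.eval 1) := by
    simpa [P, derivative_X_pow] using ⟨hru, hh⟩
  refine root_unique (F := P) hP' ?_ ?_ hvb ?_
  · rw [show 1 - g * va = (1 - g) + g * (1 - va) by ring]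
    exact (Commute.all _ _).isNilpotent_add hg ((Commute.all _ _).isNilpotent_mul_left hva)
  · simp only [P, eval_sub, eval_mul, eval_C, eval_pow, eval_X]
    rw [mul_pow, hub, ← hea, hr]
    ring
  · simp only [P, eval_sub, eval_mul, eval_C, eval_pow, eval_X]
    rw [heb, sub_self]

/-- An integral element of a reduced algebra over a perfect field is a root of a separable polynomial. -/
theorem exists_separable_root {k : Type u} [Field k] [PerfectField k] {B : Type v} [CommRing B]
    [IsReduced B] [Algebra k B] {b : B} (hb : IsIntegral k b) :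
    ∃ F : k[X], aeval b F = 0 ∧ IsUnit (aeval b F.derivative) := by
  refine ⟨minpoly k b, minpoly.aeval k b, ?_⟩
  have hsq : Squarefree (minpoly k b) := by
    intro a ha
    obtain ⟨c, hc⟩ := ha
    have h0 : aeval b (a * c) = 0 := by
      refine IsReduced.eq_zero _ ⟨2, ?_⟩
      rw [← map_pow, show (a * c) ^ 2 = minpoly k b * c by rw [hc]; ring, map_mul, minpoly.aeval, zero_mul]
    have hne : minpoly k b ≠ 0 := minpoly.ne_zero hb
    have hac : a * c ≠ 0 := fun h => hne (by rw [hc, mul_assoc, h, mul_zero])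
    have ha0 : a ≠ 0 := fun h => hac (by rw [h, zero_mul])
    have hle := natDegree_le_of_dvd (minpoly.dvd k b h0) hac
    have e : (minpoly k b).natDegree = a.natDegree + (a * c).natDegree := by
      rw [hc, mul_assoc, natDegree_mul ha0 hac]
    exact isUnit_iff_degree_eq_zero.2 (by rw [degree_eq_natDegree ha0]; exact_mod_cast (by omega : a.natDegree = 0))
  obtain ⟨x, y, hxy⟩ := PerfectField.separable_iff_squarefree.2 hsq
  have := congrArg (aeval b) hxy
  rw [map_add, map_mul, map_mul, minpoly.aeval, mul_zero, zero_add, map_one] at this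
  exact IsUnit.of_mul_eq_one_right _ this

end Groth.Agent.H26.TorsTriv
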