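import Groth.Agent.H26.TorsTrivAlg
import Groth.Agent.S0002
import Groth.Agent.FFun.GoodM
import Groth.Agent.FFun.Sup
import Groth.Agent.InvX.Tensor
import Groth.Agent.H23.TrivBasic
import Groth.Agent.H23.RedSub
import Groth.Agent.H26.FibreIdeal
import Groth.Agent.Lib.CurveDeg

/-!
# Functions modulo powers of the uniformizer on affine opens of a proper scheme over a DVR
-/

set_option autoImplicit false
set_option linter.style.haveILetI false
set_option linter.unusedSectionVars false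
set_option backward.isDefEq.respectTransparency false
set_option backward.isDefEq.respectTransparency.types false
set_option maxHeartbeats 1000000

universe u

open CategoryTheory CategoryTheory.Limits AlgebraicGeometry TopologicalSpace Opposite
open Groth.Agent.AModX

noncomputable section

namespace Groth.Agent.H26.TorsTriv

variable {R : Type u} [CommRing R] {X : Scheme.{u}} [X.Over (Spec (CommRingCat.of R))]

theorem resR_φsec {U W : X.Opens} (h : W ≤ U) (a : R) : resR h (FFun.φsec U a) = FFun.φsec W a :=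
  resR_resR (le_top : U ≤ ⊤) h (show Γ(X, ⊤) from Coh.toGlobal (X ↘ Spec (CommRingCat.of R)) a)

variable (R) in
/-- Over the closed point. -/
def Special [IsLocalRing R] (x : X) : Prop := (X ↘ Spec (CommRingCat.of R)) x = IsLocalRing.closedPoint R

variable [IsDomain R] [IsDiscreteValuationRing R] {ϖ : R}

theorem mem_basicOpen_φsec_iff (hϖ : IsLocalRing.maximalIdeal R = Ideal.span {ϖ}) {U : X.Opens} {x : X}
    (hx : x ∈ U) : x ∈ X.basicOpen (FFun.φsec (A := R) U ϖ) ↔ ¬ Special R x := by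
  let p := X ↘ Spec (CommRingCat.of R)
  have e0 : p x ∈ (Spec (CommRingCat.of R)).basicOpen
      ((Scheme.ΓSpecIso (CommRingCat.of R)).inv ϖ) ↔ ϖ ∉ (p x).asIdeal := by
    rw [basicOpen_eq_of_affine]
    rfl
  have e2 : X.basicOpen (FFun.φsec (A := R) U ϖ) =
      U ⊓ X.basicOpen (show Γ(X, ⊤) from Coh.toGlobal p ϖ) := X.basicOpen_res _ _
  have e3 : x ∈ X.basicOpen (show Γ(X, ⊤) from Coh.toGlobal p ϖ) ↔ p x ∈ (Spec (CommRingCat.of R)).basicOpen
      ((Scheme.ΓSpecIso (CommRingCat.of R)).inv ϖ) := by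
    show x ∈ X.basicOpen (p.appTop ((Scheme.ΓSpecIso (CommRingCat.of R)).inv ϖ)) ↔ _
    rw [← Scheme.preimage_basicOpen_top]
    rfl
  have e4 : Special R x ↔ ϖ ∈ (p x).asIdeal := by
    refine ⟨fun h => ?_, fun h => PrimeSpectrum.ext ?_⟩
    · rw [show p x = _ from h]; exact hϖ.ge (Ideal.mem_span_singleton_self ϖ)
    · refine ((IsLocalRing.maximalIdeal.isMaximal R).eq_of_le (p x).isPrime.ne_top ?_).symm
      rw [hϖ, Ideal.span_singleton_le_iff_mem]; exact h
  rw [e4, e2, ← e0, ← e3]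
  exact ⟨fun h => h.2, fun h => ⟨hx, h⟩⟩

/-- An open containing the closed fibre is everything. -/
theorem eq_top_of_special [IsProper (X ↘ Spec (CommRingCat.of R))] {O : X.Opens}
    (hO : ∀ x, Special R x → x ∈ O) : O = ⊤ := by
  by_contra hne
  obtain ⟨x, hx⟩ : ∃ x, x ∉ O := by
    by_contra h
    push_neg at h
    exact hne (top_le_iff.1 fun x _ => h x)
  have hc : IsClosed ((X ↘ Spec (CommRingCat.of R)) '' (O : Set X)ᶜ) :=
    (X ↘ Spec (CommRingCat.of R)).isClosedMap _ O.2.isClosed_compl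
  obtain ⟨y, hy, hyc⟩ : IsLocalRing.closedPoint R ∈ (X ↘ Spec (CommRingCat.of R)) '' (O : Set X)ᶜ :=
    (IsLocalRing.specializes_closedPoint ((X ↘ Spec (CommRingCat.of R)) x)).mem_closed hc ⟨x, hx, rfl⟩
  exact hy (hO y hyc)

variable (R ϖ) in
/-- The ideal of the `k`th infinitesimal neighbourhood. -/
abbrev nbId (k : ℕ) (W : X.Opens) : Ideal Γ(X, W) := Ideal.span {FFun.φsec (A := R) W ϖ ^ k}

theorem nbId_le_comap {U W : X.Opens} (h : W ≤ U) (k : ℕ) :
    nbId R ϖ k U ≤ (nbId R ϖ k W).comap (resR h) := by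
  rw [Ideal.span_singleton_le_iff_mem, Ideal.mem_comap, map_pow, resR_φsec]
  exact Ideal.mem_span_singleton_self _

variable (R ϖ) in
/-- Restriction modulo `ϖ^k`. -/
def qres {U W : X.Opens} (h : W ≤ U) (k : ℕ) :
    Γ(X, U) ⧸ nbId R ϖ k U →+* Γ(X, W) ⧸ nbId R ϖ k W :=
  Ideal.quotientMap _ (resR h) (nbId_le_comap h k)

theorem qres_mk {U W : X.Opens} (h : W ≤ U) (k : ℕ) (a : Γ(X, U)) :
    qres R ϖ h k (Ideal.Quotient.mk _ a) = Ideal.Quotient.mk _ (resR h a) := rfl

theorem isNilpotent_mk (hϖ : IsLocalRing.maximalIdeal R = Ideal.span {ϖ}) {W : X.Opens}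
    (hW : IsAffineOpen W) {a : Γ(X, W)} (ha : ∀ x ∈ W, Special R x → x ∉ X.basicOpen a) (k : ℕ) :
    IsNilpotent (Ideal.Quotient.mk (nbId R ϖ k W) a) := by
  have hle : PrimeSpectrum.basicOpen a ≤ PrimeSpectrum.basicOpen (FFun.φsec (A := R) W ϖ) := by
    rw [← hW.fromSpec_preimage_basicOpen, ← hW.fromSpec_preimage_basicOpen]
    intro q hq
    have hW' : hW.fromSpec q ∈ W := hW.range_fromSpec.le ⟨q, rfl⟩
    exact (mem_basicOpen_φsec_iff hϖ hW').2 fun h => ha _ hW' h hq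
  obtain ⟨n, hn⟩ := Ideal.mem_radical_iff.1 ((PrimeSpectrum.basicOpen_le_basicOpen_iff _ _).1 hle)
  obtain ⟨c, hc⟩ := Ideal.mem_span_singleton.1 hn
  refine ⟨n * k, ?_⟩
  rw [← map_pow, Ideal.Quotient.eq_zero_iff_mem, pow_mul, hc, mul_pow]
  exact Ideal.mul_mem_right _ _ (Ideal.mem_span_singleton_self _)

theorem isUnit_mk (hϖ : IsLocalRing.maximalIdeal R = Ideal.span {ϖ}) {W : X.Opens}
    (hW : IsAffineOpen W) {a : Γ(X, W)} (ha : ∀ x ∈ W, Special R x → x ∈ X.basicOpen a) (k : ℕ) :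
    IsUnit (Ideal.Quotient.mk (nbId R ϖ k W) a) := by
  by_contra h
  obtain ⟨m, hm, hle⟩ := Ideal.exists_le_maximal (Ideal.span {a} ⊔ nbId R ϖ k W) fun htop => h <| by
    have h1 : (1 : Γ(X, W)) ∈ Ideal.span {a} ⊔ nbId R ϖ k W := htop ▸ Submodule.mem_top
    obtain ⟨b, c, hc, e⟩ := Ideal.mem_span_singleton_sup.1 h1
    have := congrArg (Ideal.Quotient.mk (nbId R ϖ k W)) e
    rw [map_add, map_mul, map_one, Ideal.Quotient.eq_zero_iff_mem.2 hc, add_zero] at this
    exact IsUnit.of_mul_eq_one_right _ this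
  let q : PrimeSpectrum Γ(X, W) := ⟨m, hm.isPrime⟩
  have hW' : hW.fromSpec q ∈ W := hW.range_fromSpec.le ⟨q, rfl⟩
  have hbo : ∀ b : Γ(X, W), hW.fromSpec q ∈ X.basicOpen b ↔ b ∉ m := fun b => by
    show q ∈ hW.fromSpec ⁻¹ᵁ X.basicOpen b ↔ _
    rw [hW.fromSpec_preimage_basicOpen]
    rfl
  have hs : Special R (hW.fromSpec q) := by
    by_contra hns
    exact (hbo _).1 ((mem_basicOpen_φsec_iff hϖ hW').2 hns)
      (hm.isPrime.mem_of_pow_mem k (hle (Ideal.mem_sup_right (Ideal.mem_span_singleton_self _))))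
  exact (hbo a).1 (ha _ hW' hs) (hle (Ideal.mem_sup_left (Ideal.mem_span_singleton_self _)))

theorem mem_basicOpen_of_isUnit_mk (hϖ : IsLocalRing.maximalIdeal R = Ideal.span {ϖ}) {W : X.Opens}
    {a : Γ(X, W)} {k : ℕ} (hk : 1 ≤ k) (ha : IsUnit (Ideal.Quotient.mk (nbId R ϖ k W) a)) {x : X}
    (hxW : x ∈ W) (hx : Special R x) : x ∈ X.basicOpen a := by
  obtain ⟨b, hb⟩ := ha.exists_right_inv
  obtain ⟨b, rfl⟩ := Ideal.Quotient.mk_surjective b
  rw [← map_mul, ← map_one (Ideal.Quotient.mk _), Ideal.Quotient.eq, Ideal.mem_span_singleton] at hb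
  obtain ⟨c, hc⟩ := hb
  rw [Scheme.mem_basicOpen _ _ x hxW]
  have hπ : ¬ IsUnit (X.presheaf.germ W x hxW (FFun.φsec (A := R) W ϖ)) := fun h =>
    (mem_basicOpen_φsec_iff hϖ hxW).1 ((Scheme.mem_basicOpen _ _ x hxW).2 h) hx
  by_contra hna
  let G := (X.presheaf.germ W x hxW).hom
  have hmem : G (a * b) - G 1 ∈ IsLocalRing.maximalIdeal (X.presheaf.stalk x) := by
    rw [← map_sub, hc, map_mul, map_pow]
    exact Ideal.mul_mem_right _ _ (Ideal.pow_mem_of_mem _ hπ k hk)
  have hab : G (a * b) ∈ IsLocalRing.maximalIdeal (X.presheaf.stalk x) := by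
    rw [map_mul]
    exact Ideal.mul_mem_right _ _ hna
  exact (IsLocalRing.maximalIdeal.isMaximal (X.presheaf.stalk x)).ne_top
    ((Ideal.eq_top_iff_one _).2 (by simpa using Ideal.sub_mem _ hab hmem))

theorem mem_basicOpen_app_iff {Z : Scheme.{u}} (j : Z ⟶ X) {U : X.Opens} (a : Γ(X, U)) (z : Z) :
    z ∈ Z.basicOpen (j.app U a) ↔ j z ∈ X.basicOpen a := by
  rw [← Scheme.preimage_basicOpen]
  rfl

/-- In residue characteristic zero, a function on the closed fibre is a root of a separable polynomial. -/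
theorem exists_poly [IsProper (X ↘ Spec (CommRingCat.of R))] [CharZero (IsLocalRing.ResidueField R)]
    (hϖ : IsLocalRing.maximalIdeal R = Ideal.span {ϖ}) {ι : Type u} (U : ι → X.Opens)
    (hcov : ∀ x, Special R x → ∃ a, x ∈ U a) (u : ∀ a, Γ(X, U a))
    (hu : ∀ a b, ∀ x ∈ U a ⊓ U b, Special R x →
      x ∉ X.basicOpen (resR (inf_le_left : U a ⊓ U b ≤ U a) (u a) - resR inf_le_right (u b))) :
    ∃ F : Polynomial R, ∀ a, ∀ x ∈ U a, Special R x →
      x ∉ X.basicOpen ((F.map (FFun.φsec (A := R) (U a))).eval (u a)) ∧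
        x ∈ X.basicOpen ((F.map (FFun.φsec (A := R) (U a))).derivative.eval (u a)) := by
  let p := X ↘ Spec (CommRingCat.of R)
  let S : Closeds X := ⟨{x | Special R x},
    (IsLocalRing.isClosed_singleton_closedPoint R).preimage p.base.hom.continuous⟩
  let I := Scheme.IdealSheafData.vanishingIdeal S
  let j := I.subschemeι
  have hjs : ∀ z, Special R (j z) := fun z => (H23.RedSub.range_vanishingIdeal S).le ⟨z, rfl⟩
  have hjr : ∀ x, Special R x → ∃ z, j z = x := fun x hx => (H23.RedSub.range_vanishingIdeal S).ge hx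
  let V : ι → I.subscheme.Opens := fun a => j ⁻¹ᵁ U a
  have hcomp : TopCat.Presheaf.IsCompatible I.subscheme.sheaf.obj V fun a => j.app (U a) (u a) := by
    intro a b
    have h0 : j.app (U a ⊓ U b) (resR (inf_le_left : U a ⊓ U b ≤ U a) (u a) - resR inf_le_right (u b)) = 0 := by
      rw [← basicOpen_eq_bot_iff, eq_bot_iff]
      intro z hz
      exact hu a b (j z) (I.subscheme.basicOpen_le _ hz) (hjs z) ((mem_basicOpen_app_iff j _ z).1 hz)
    rw [map_sub, sub_eq_zero] at h0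
    exact (ConcreteCategory.congr_hom (j.naturality (homOfLE (inf_le_left : U a ⊓ U b ≤ U a)).op) (u a)).symm.trans
      (h0.trans (ConcreteCategory.congr_hom (j.naturality (homOfLE (inf_le_right : U a ⊓ U b ≤ U b)).op) (u b)))
  obtain ⟨u₀, hu₀⟩ : ∃ u₀ : Γ(I.subscheme, ⊤), ∀ a, resR (le_top : V a ≤ ⊤) u₀ = j.app (U a) (u a) := by
    obtain ⟨t, ht, -⟩ := TopCat.Sheaf.existsUnique_gluing' I.subscheme.sheaf V ⊤ (fun a => homOfLE le_top)
      (fun z _ => Opens.mem_iSup.2 ((hcov (j z) (hjs z)).imp fun _ h => h)) _ hcomp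
    exact ⟨t, ht⟩
  let ψ : R →+* Γ(I.subscheme, ⊤) := j.appTop.hom.comp (Coh.toGlobal p)
  have hint : ∀ b, ψ.IsIntegralElem b := fun b => by
    have h := isIntegral_appTop_of_universallyClosed (j ≫ p) b
    obtain ⟨P, hP, hPe⟩ := h
    refine ⟨P.map (Scheme.ΓSpecIso (CommRingCat.of R)).hom.hom, hP.map _, ?_⟩
    rw [Polynomial.eval₂_map, ← hPe]
    congr 1
    ext c
    show j.appTop (p.appTop ((Scheme.ΓSpecIso (CommRingCat.of R)).inv
      ((Scheme.ΓSpecIso (CommRingCat.of R)).hom c))) = _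
    rw [Iso.hom_inv_id_apply]
    rfl
  have hker : ∀ r ∈ IsLocalRing.maximalIdeal R, ψ r = 0 := fun r hr => by
    rw [hϖ, Ideal.mem_span_singleton] at hr
    obtain ⟨c, rfl⟩ := hr
    rw [map_mul]
    suffices ψ ϖ = 0 by rw [this, zero_mul]
    rw [← basicOpen_eq_bot_iff, eq_bot_iff]
    intro z hz
    have h1 : j z ∈ X.basicOpen (show Γ(X, ⊤) from Coh.toGlobal p ϖ) := (mem_basicOpen_app_iff j _ z).1 hz
    have h2 : FFun.φsec (A := R) (⊤ : X.Opens) ϖ = (show Γ(X, ⊤) from Coh.toGlobal p ϖ) :=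
      resR_self (X := X) (show Γ(X, ⊤) from Coh.toGlobal p ϖ)
    rw [← h2] at h1
    exact (mem_basicOpen_φsec_iff hϖ (U := ⊤) trivial).1 h1 (hjs z)
  let k := IsLocalRing.ResidueField R
  letI : Algebra k Γ(I.subscheme, ⊤) :=
    (Ideal.Quotient.lift (IsLocalRing.maximalIdeal R) ψ hker : k →+* Γ(I.subscheme, ⊤)).toAlgebra
  have hbk : _root_.IsIntegral k u₀ := by
    obtain ⟨P, hP, hPe⟩ := hint u₀
    exact ⟨P.map (IsLocalRing.residue R), hP.map _, by rw [Polynomial.eval₂_map]; exact hPe⟩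
  obtain ⟨F₀, hF₀, hF₀'⟩ := exists_separable_root hbk
  obtain ⟨F, rfl⟩ := Polynomial.map_surjective (IsLocalRing.residue R) IsLocalRing.residue_surjective F₀
  refine ⟨F, fun a x hx hs => ?_⟩
  obtain ⟨z, rfl⟩ := hjr x hs
  have key : ∀ G : Polynomial R, j.app (U a) ((G.map (FFun.φsec (A := R) (U a))).eval (u a)) =
      resR (le_top : V a ≤ ⊤) (Polynomial.aeval u₀ (G.map (IsLocalRing.residue R))) := fun G => by
    have e1 : ((j.app (U a)).hom.comp (FFun.φsec (A := R) (U a))) = (resR (le_top : V a ≤ ⊤)).comp ψ := by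
      ext c
      exact ConcreteCategory.congr_hom (j.naturality (homOfLE (le_top : U a ≤ ⊤)).op)
        (show Γ(X, ⊤) from Coh.toGlobal p c)
    rw [Polynomial.eval_map, Polynomial.hom_eval₂, e1, Polynomial.aeval_def, Polynomial.eval₂_map,
      Polynomial.hom_eval₂, show j.app (U a) (u a) = resR (le_top : V a ≤ ⊤) u₀ from (hu₀ a).symm]
    rfl
  constructor
  · intro h
    rw [← mem_basicOpen_app_iff j, key, hF₀, map_zero, Scheme.basicOpen_zero] at h
    exact h
  · rw [Polynomial.derivative_map, ← mem_basicOpen_app_iff j, key, ← Polynomial.derivative_map,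
      Scheme.basicOpen_of_isUnit _ (hF₀'.map _)]
    exact hx

end Groth.Agent.H26.TorsTriv
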