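import Mathlib.RingTheory.MvPowerSeries.Basic
import Mathlib.RingTheory.DiscreteValuationRing.Basic
import Mathlib.RingTheory.Ideal.Operations
import Mathlib.Tactic

/-!
# Cotangent computations for a Weierstrass equation of type II in characteristic two
-/

set_option autoImplicit false
set_option linter.style.haveILetI false

universe u

open MvPowerSeries

namespace Groth.Agent.H26.TypeII

variable {R : Type u} [CommRing R]

/-- Exponent vectors. -/
noncomputable def ex (b c : ℕ) : Fin 2 →₀ ℕ := Finsupp.single 0 b + Finsupp.single 1 c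

theorem ex_zero (b c : ℕ) : ex b c 0 = b := by simp [ex]

theorem ex_one (b c : ℕ) : ex b c 1 = c := by simp [ex]

theorem ex_le {b c b' c' : ℕ} : ex b c ≤ ex b' c' ↔ b ≤ b' ∧ c ≤ c' := by
  rw [Finsupp.le_def, Fin.forall_fin_two, ex_zero, ex_zero, ex_one, ex_one]

theorem ex_sub (b c b' c' : ℕ) : ex b' c' - ex b c = ex (b' - b) (c' - c) := by
  ext i
  fin_cases i <;> simp [ex]

theorem monomial_eq (b c : ℕ) (r : R) :
    (MvPowerSeries.monomial (ex b c) r : MvPowerSeries (Fin 2) R) =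
      MvPowerSeries.C r * MvPowerSeries.X 0 ^ b * MvPowerSeries.X 1 ^ c := by
  rw [X_pow_eq, X_pow_eq, ← monomial_zero_eq_C_apply, monomial_mul_monomial, monomial_mul_monomial]
  simp [ex]

theorem coeff_mul_mono (g : MvPowerSeries (Fin 2) R) (b c b' c' : ℕ) (r : R) :
    coeff (ex b' c') (g * (MvPowerSeries.C r * MvPowerSeries.X 0 ^ b * MvPowerSeries.X 1 ^ c)) =
      if b ≤ b' ∧ c ≤ c' then coeff (ex (b' - b) (c' - c)) g * r else 0 := by
  classical
  rw [← monomial_eq, coeff_mul_monomial]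
  by_cases h : ex b c ≤ ex b' c'
  · rw [if_pos h, if_pos (ex_le.1 h), ex_sub]
  · rw [if_neg h, if_neg fun h' => h (ex_le.2 h')]

variable (a₆ : R) (v : ℕ)

/-- The functionals. -/
noncomputable def L (i : Fin 2) (f : MvPowerSeries (Fin 2) R) : R :=
  ∑ k ∈ Finset.range (v + 1), a₆ ^ k * coeff (ex i.val (2 * k + i.val)) f

theorem L_add (i : Fin 2) (f g : MvPowerSeries (Fin 2) R) : L a₆ v i (f + g) = L a₆ v i f + L a₆ v i g := by
  simp [L, mul_add, Finset.sum_add_distrib]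

theorem L_sub (i : Fin 2) (f g : MvPowerSeries (Fin 2) R) : L a₆ v i (f - g) = L a₆ v i f - L a₆ v i g := by
  simp [L, mul_sub, Finset.sum_sub_distrib]

theorem L_mul_mono (i : Fin 2) (g : MvPowerSeries (Fin 2) R) (b c : ℕ) (r : R) :
    L a₆ v i (g * (MvPowerSeries.C r * MvPowerSeries.X 0 ^ b * MvPowerSeries.X 1 ^ c)) =
      ∑ k ∈ Finset.range (v + 1),
        if b ≤ i.val ∧ c ≤ 2 * k + i.val then a₆ ^ k * r * coeff (ex (i.val - b) (2 * k + i.val - c)) g else 0 := by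
  refine Finset.sum_congr rfl fun k _ => ?_
  rw [coeff_mul_mono]
  split_ifs with h
  · ring
  · rw [mul_zero]

variable (ϖ : R)

/-- The series killed by both functionals. -/
noncomputable def Kill : Ideal (MvPowerSeries (Fin 2) R) where
  carrier := {f | ∀ (i : Fin 2) (g : MvPowerSeries (Fin 2) R), ϖ ^ (v + 1 - i.val) ∣ L a₆ v i (g * f)}
  add_mem' := fun {f f'} hf hf' i g => by rw [mul_add, L_add]; exact dvd_add (hf i g) (hf' i g)
  zero_mem' := fun i g => by simp [L]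
  smul_mem' := fun h f hf i g => by rw [smul_eq_mul, ← mul_assoc]; exact hf i (g * h)

theorem mem_kill_mono (ha₆ : ϖ ∣ a₆) (hv : 1 ≤ v) (a b c : ℕ) (habc : 2 * v + 1 ≤ a + b + c) :
    (MvPowerSeries.C (ϖ ^ a) * MvPowerSeries.X 0 ^ b * MvPowerSeries.X 1 ^ c : MvPowerSeries (Fin 2) R) ∈
      Kill a₆ v ϖ := by
  intro i g
  rw [L_mul_mono]
  refine Finset.dvd_sum fun k _ => ?_
  split_ifs with h
  · refine Dvd.dvd.mul_right ?_ _
    refine (pow_dvd_pow ϖ ?_).trans (pow_add ϖ k a ▸ mul_dvd_mul (pow_dvd_pow_of_dvd ha₆ k) dvd_rfl)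
    have := i.isLt
    omega
  · exact dvd_zero _

/-- The monomials of weight `n`. -/
noncomputable def gen (n : ℕ) : Ideal (MvPowerSeries (Fin 2) R) :=
  Ideal.span {f | ∃ a b c, a + b + c = n ∧
    f = MvPowerSeries.C (ϖ ^ a) * MvPowerSeries.X 0 ^ b * MvPowerSeries.X 1 ^ c}

theorem span_pow_le (n : ℕ) :
    (Ideal.span {MvPowerSeries.C ϖ, MvPowerSeries.X 0, MvPowerSeries.X 1} :
      Ideal (MvPowerSeries (Fin 2) R)) ^ n ≤ gen ϖ n := by
  induction n with
  | zero => exact le_of_le_of_eq le_top (Eq.symm ((Ideal.eq_top_iff_one _).2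
      (Ideal.subset_span ⟨0, 0, 0, rfl, by simp⟩)))
  | succ n ih =>
    rw [pow_succ]
    refine (Ideal.mul_mono_left ih).trans ?_
    rw [gen, Ideal.span_mul_span', Ideal.span_le]
    rintro _ ⟨_, ⟨a, b, c, h, rfl⟩, s, hs, rfl⟩
    rcases hs with rfl | rfl | rfl
    · exact Ideal.subset_span ⟨a + 1, b, c, by omega, by simp only [map_mul, map_pow]; ring⟩
    · exact Ideal.subset_span ⟨a, b + 1, c, by omega, by simp only [map_mul, map_pow]; ring⟩
    · exact Ideal.subset_span ⟨a, b, c + 1, by omega, by simp only [map_mul, map_pow]; ring⟩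

theorem L_monomial_self (hv : 1 ≤ v) (a b : R) :
    L a₆ v 0 (MvPowerSeries.C a * MvPowerSeries.X 1 ^ (2 * v) +
      MvPowerSeries.C b * (MvPowerSeries.X 0 * MvPowerSeries.X 1 ^ (2 * v - 1))) = a * a₆ ^ v ∧
    L a₆ v 1 (MvPowerSeries.C a * MvPowerSeries.X 1 ^ (2 * v) +
      MvPowerSeries.C b * (MvPowerSeries.X 0 * MvPowerSeries.X 1 ^ (2 * v - 1))) = b * a₆ ^ (v - 1) := by
  classical
  have hA : (MvPowerSeries.C a * MvPowerSeries.X 1 ^ (2 * v) : MvPowerSeries (Fin 2) R) =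
      MvPowerSeries.monomial (ex 0 (2 * v)) a := by rw [monomial_eq, pow_zero, mul_one]
  have hB : (MvPowerSeries.C b * (MvPowerSeries.X 0 * MvPowerSeries.X 1 ^ (2 * v - 1)) : MvPowerSeries (Fin 2) R) =
      MvPowerSeries.monomial (ex 1 (2 * v - 1)) b := by rw [monomial_eq, pow_one, mul_assoc]
  rw [hA, hB]
  have hne : ∀ k, ex 0 (2 * k) ≠ ex 1 (2 * v - 1) := fun k h => by simpa [ex_zero] using DFunLike.congr_fun h 0
  have hne' : ∀ k, ex 1 (2 * k + 1) ≠ ex 0 (2 * v) := fun k h => by simpa [ex_zero] using DFunLike.congr_fun h 0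
  constructor
  · rw [L_add, L, L, Finset.sum_eq_single v, Finset.sum_eq_zero]
    · simp [coeff_monomial, mul_comm]
    · intro k _
      show a₆ ^ k * coeff (ex 0 (2 * k + 0)) _ = 0
      rw [Nat.add_zero, coeff_monomial, if_neg (hne k), mul_zero]
    · intro k _ hk
      show a₆ ^ k * coeff (ex 0 (2 * k + 0)) _ = 0
      rw [Nat.add_zero, coeff_monomial, if_neg (fun h => hk ?_), mul_zero]
      have := DFunLike.congr_fun h 1
      rw [ex_one, ex_one] at this
      omega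
    · intro h; exact absurd (Finset.mem_range.2 (Nat.lt_succ_self v)) h
  · rw [L_add, L, L, Finset.sum_eq_zero, Finset.sum_eq_single (v - 1), zero_add]
    · show a₆ ^ (v - 1) * coeff (ex 1 (2 * (v - 1) + 1)) _ = _
      rw [show 2 * (v - 1) + 1 = 2 * v - 1 by omega, coeff_monomial, if_pos rfl, mul_comm]
    · intro k _ hk
      show a₆ ^ k * coeff (ex 1 (2 * k + 1)) _ = 0
      rw [coeff_monomial, if_neg (fun h => hk ?_), mul_zero]
      have := DFunLike.congr_fun h 1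
      rw [ex_one, ex_one] at this
      omega
    · intro h; exact absurd (Finset.mem_range.2 (by omega)) h
    · intro k _
      show a₆ ^ k * coeff (ex 1 (2 * k + 1)) _ = 0
      rw [coeff_monomial, if_neg (hne' k), mul_zero]

theorem mem_kill_eqns (ha₆ : ϖ ∣ a₆) (hv : 1 ≤ v) (a₁ : R) (ha₁ : ϖ ^ v ∣ a₁) (h2 : ϖ ^ v ∣ (2 : R)) :
    ({(MvPowerSeries.X 1 : MvPowerSeries (Fin 2) R) ^ 2 + MvPowerSeries.C a₁ * (MvPowerSeries.X 0 * MvPowerSeries.X 1) -
        MvPowerSeries.X 0 ^ 3 - MvPowerSeries.C a₆,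
      2 * MvPowerSeries.X 1 + MvPowerSeries.C a₁ * MvPowerSeries.X 0,
      3 * MvPowerSeries.X 0 ^ 2 - MvPowerSeries.C a₁ * MvPowerSeries.X 1} : Set (MvPowerSeries (Fin 2) R)) ⊆
      (Kill a₆ v ϖ : Set (MvPowerSeries (Fin 2) R)) := by
  -- a multiple of `X^b Y^c` by a small coefficient
  have small : ∀ (r : R) (b c : ℕ), ϖ ^ v ∣ r → (b = 0 → 1 ≤ c) →
      (MvPowerSeries.C r * MvPowerSeries.X 0 ^ b * MvPowerSeries.X 1 ^ c : MvPowerSeries (Fin 2) R) ∈ Kill a₆ v ϖ := by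
    intro r b c hr hbc i g
    rw [L_mul_mono]
    refine Finset.dvd_sum fun k _ => ?_
    split_ifs with h
    · refine Dvd.dvd.mul_right ?_ _
      obtain ⟨r, rfl⟩ := hr
      by_cases hi : i.val = 0
      · have hk : 1 ≤ k := by omega
        refine (pow_dvd_pow ϖ (show v + 1 - i.val ≤ k + v by omega)).trans ?_
        rw [pow_add, ← mul_assoc]
        exact (mul_dvd_mul (pow_dvd_pow_of_dvd ha₆ k) dvd_rfl).trans (Dvd.intro _ rfl)
      · refine (pow_dvd_pow ϖ (show v + 1 - i.val ≤ v by omega)).trans ?_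
        rw [← mul_assoc]
        exact (Dvd.intro_left _ rfl).trans (Dvd.intro _ rfl)
    · exact dvd_zero _
  have cube : ∀ (r : R) (b : ℕ), 2 ≤ b →
      (MvPowerSeries.C r * MvPowerSeries.X 0 ^ b * MvPowerSeries.X 1 ^ 0 : MvPowerSeries (Fin 2) R) ∈ Kill a₆ v ϖ := by
    intro r b hb i g
    rw [L_mul_mono]
    refine Finset.dvd_sum fun k _ => ?_
    rw [if_neg (fun h => by have := i.isLt; omega)]
    exact dvd_zero _
  have tele : ((MvPowerSeries.X 1 : MvPowerSeries (Fin 2) R) ^ 2 - MvPowerSeries.C a₆) ∈ Kill a₆ v ϖ := by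
    intro i g
    let c : ℕ → R := fun k => coeff (ex i.val (2 * k + i.val)) g
    have h1 : L a₆ v i (g * MvPowerSeries.X 1 ^ 2) = ∑ k ∈ Finset.range v, a₆ ^ (k + 1) * c k := by
      rw [show (g * MvPowerSeries.X 1 ^ 2 : MvPowerSeries (Fin 2) R) =
        g * (MvPowerSeries.C 1 * MvPowerSeries.X 0 ^ 0 * MvPowerSeries.X 1 ^ 2) by simp, L_mul_mono,
        Finset.sum_range_succ']
      rw [if_neg (fun h => by have := i.isLt; omega), add_zero]
      refine Finset.sum_congr rfl fun k _ => ?_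
      rw [if_pos ⟨Nat.zero_le _, by omega⟩, mul_one]
      simp only [c, Nat.sub_zero]
      rw [show 2 * (k + 1) + i.val - 2 = 2 * k + i.val by omega]
    have h2' : L a₆ v i (g * MvPowerSeries.C a₆) = ∑ k ∈ Finset.range (v + 1), a₆ ^ (k + 1) * c k := by
      rw [show (g * MvPowerSeries.C a₆ : MvPowerSeries (Fin 2) R) =
        g * (MvPowerSeries.C a₆ * MvPowerSeries.X 0 ^ 0 * MvPowerSeries.X 1 ^ 0) by simp, L_mul_mono]
      refine Finset.sum_congr rfl fun k _ => ?_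
      rw [if_pos ⟨Nat.zero_le _, Nat.zero_le _⟩, pow_succ]
      simp only [c, Nat.sub_zero]
    rw [mul_sub, L_sub, h1, h2', Finset.sum_range_succ, sub_add_cancel_left, dvd_neg]
    exact Dvd.dvd.mul_right ((pow_dvd_pow ϖ (Nat.sub_le _ _)).trans (pow_dvd_pow_of_dvd ha₆ _)) _
  rintro f (rfl | rfl | rfl)
  · have := Ideal.sub_mem _ (Ideal.add_mem _ tele (small a₁ 1 1 ha₁ (by omega))) (cube 1 3 (by omega))
    show _ ∈ Kill a₆ v ϖ
    convert this using 1
    simp only [map_one]; ring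
  · have := Ideal.add_mem _ (small 2 0 1 h2 (by omega)) (small a₁ 1 0 ha₁ (by omega))
    show _ ∈ Kill a₆ v ϖ
    convert this using 1
    simp only [map_ofNat]; ring
  · have := Ideal.sub_mem _ (cube 3 2 le_rfl) (small a₁ 0 1 ha₁ (by omega))
    show _ ∈ Kill a₆ v ϖ
    convert this using 1
    simp only [map_ofNat]; ring

/-- In a quotient by the three equations the maximal ideal is generated by `x` and `y`. -/
theorem first_part {Q : Type u} [CommRing Q] (x y p a₁ a₆ u₁ u₆ : Q) (v : ℕ) (hv : 1 ≤ v)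
    (hu₆ : IsUnit u₆) (h3 : IsUnit (3 : Q)) (ha₁ : a₁ = u₁ * p ^ v) (ha₆ : a₆ = u₆ * p)
    (e1 : y ^ 2 + a₁ * (x * y) - x ^ 3 - a₆ = 0) (e2 : 2 * y + a₁ * x = 0) (e3 : 3 * x ^ 2 - a₁ * y = 0)
    (a b c : ℕ) (habc : a + b + c = 2 * v) :
    p ^ a * x ^ b * y ^ c ∈ Ideal.span ({y ^ (2 * v), x * y ^ (2 * v - 1)} : Set Q) := by
  have hp : y ^ 2 ∣ p := by
    have h : (3 : Q) * u₆ * p = -(y ^ 2) := by
      have : 3 * a₆ = -(y ^ 2) := by linear_combination (-3) * e1 - x * e3 + 2 * y * e2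
      rw [ha₆] at this
      rw [mul_assoc]; exact this
    obtain ⟨w, hw⟩ := h3.mul hu₆
    refine ⟨-(↑w⁻¹ : Q), ?_⟩
    calc p = (↑w⁻¹ : Q) * ((w : Q) * p) := by rw [← mul_assoc, Units.inv_mul, one_mul]
      _ = _ := by rw [hw, h]; ring
  have hx : y ^ (2 * v + 1) ∣ x ^ 2 := by
    have h1 : y ^ (2 * v + 1) ∣ 3 * x ^ 2 := by
      rw [sub_eq_zero.1 e3, pow_succ, pow_mul, ha₁]
      exact mul_dvd_mul ((pow_dvd_pow_of_dvd hp v).trans (Dvd.intro_left _ rfl)) dvd_rfl
    exact h3.dvd_mul_left.1 h1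
  rcases Nat.lt_or_ge b 2 with hb | hb
  · obtain ⟨q, rfl⟩ := hp
    have key : (y ^ 2 * q) ^ a * x ^ b * y ^ c = q ^ a * y ^ a * (x ^ b * y ^ (a + c)) := by ring
    rw [key]
    refine Ideal.mul_mem_left _ _ ?_
    interval_cases b
    · rw [pow_zero, one_mul, show a + c = 2 * v by omega]
      exact Ideal.subset_span (Set.mem_insert _ _)
    · rw [pow_one, show a + c = 2 * v - 1 by omega]
      exact Ideal.subset_span (Set.mem_insert_of_mem _ rfl)
  · obtain ⟨q, hq⟩ := hx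
    rw [show x ^ b = x ^ 2 * x ^ (b - 2) by rw [← pow_add]; congr 1; omega, hq, pow_succ]
    rw [show p ^ a * (y ^ (2 * v) * y * q * x ^ (b - 2)) * y ^ c = (p ^ a * (y * q * x ^ (b - 2)) * y ^ c) * y ^ (2 * v) by ring]
    exact Ideal.mul_mem_left _ _ (Ideal.subset_span (Set.mem_insert _ _))

end Groth.Agent.H26.TypeII
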